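/-
helper84: pure group theory around `Cfsg.pResidual` (`O^p`), used for the hyperfocal subgroup theorem.
All declarations live in `Cfsg.Agent.Lib.Helper84`.
-/
import Mathlib
import Cfsg.Prelude.Def_Transfer
import Cfsg.Agent.Lib.Helper1.PGroupMax
import Cfsg.Agent.Lib.Helper34.PResidual
import Cfsg.Agent.Lib.Helper34.SylowConj
import Cfsg.Agent.Lib.Helper87.FusionFrattini

set_option autoImplicit false

namespace Cfsg.Agent.Lib.Helper84

open Cfsg

/-- A homomorphism maps `O^p` into `O^p`. -/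
theorem map_pResidual_le {A B : Type*} [Group A] [Group B] (p : ℕ) (f : A →* B) :
    (pResidual p A).map f ≤ pResidual p B := by
  unfold pResidual
  rw [MonoidHom.map_closure, Subgroup.closure_le]
  rintro _ ⟨x, hx, rfl⟩
  apply Subgroup.subset_closure
  exact Nat.Coprime.coprime_dvd_left (orderOf_map_dvd f x) hx

/-- `O^p(O^p(G)) = O^p(G)`. -/
theorem pResidual_pResidual_eq_top (p : ℕ) (G : Type*) [Group G] :
    pResidual p (pResidual p G) = ⊤ := by
  rw [eq_top_iff]
  rintro ⟨x, hx⟩ -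
  refine Subgroup.closure_induction
    (p := fun x hx => (⟨x, hx⟩ : pResidual p G) ∈ pResidual p (pResidual p G)) ?_ ?_ ?_ ?_ hx
  · intro y hy
    apply Subgroup.subset_closure
    show Nat.Coprime (orderOf (⟨y, _⟩ : pResidual p G)) p
    rw [← Subgroup.orderOf_coe]
    exact hy
  · exact Subgroup.one_mem _
  · intro a b ha hb iha ihb
    exact Subgroup.mul_mem _ iha ihb
  · intro a ha iha
    exact Subgroup.inv_mem _ iha

/-- A homomorphism from a group with `O^p(K) = K` to a commutative group kills all `p`-elements. -/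
theorem apply_eq_one_of_pResidual_eq_top {K A : Type*} [Group K] [CommGroup A] {p : ℕ} [Fact p.Prime]
    (f : K →* A) (hK : pResidual p K = ⊤) {t : K} {k : ℕ} (ht : t ^ p ^ k = 1) : f t = 1 := by
  -- the subgroup of elements of `A` killed by a number prime to `p`
  let D : Subgroup A :=
    { carrier := {a | ∃ m : ℕ, Nat.Coprime m p ∧ a ^ m = 1}
      one_mem' := ⟨1, Nat.coprime_one_left p, by simp⟩
      mul_mem' := by
        rintro a b ⟨m, hm, ha⟩ ⟨n, hn, hb⟩
        refine ⟨m * n, Nat.Coprime.mul_left hm hn, ?_⟩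
        rw [mul_pow, pow_mul, ha, one_pow, mul_comm m n, pow_mul, hb, one_pow, one_mul]
      inv_mem' := by
        rintro a ⟨m, hm, ha⟩
        exact ⟨m, hm, by rw [inv_pow, ha, inv_one]⟩ }
  have hle : pResidual p K ≤ D.comap f := by
    unfold pResidual
    rw [Subgroup.closure_le]
    intro x hx
    show f x ∈ D
    exact ⟨orderOf x, hx, by rw [← map_pow, pow_orderOf_eq_one, map_one]⟩
  have hft : f t ∈ D := hle (hK ▸ Subgroup.mem_top t)
  obtain ⟨m, hm, hftm⟩ := hft
  have h1 : orderOf (f t) ∣ m := orderOf_dvd_of_pow_eq_one hftm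
  have h2 : orderOf (f t) ∣ p ^ k := orderOf_dvd_of_pow_eq_one (by rw [← map_pow, ht, map_one])
  have h3 : orderOf (f t) ∣ Nat.gcd m (p ^ k) := Nat.dvd_gcd h1 h2
  have h4 : Nat.gcd m (p ^ k) = 1 := Nat.Coprime.pow_right k hm
  rw [h4, Nat.dvd_one, orderOf_eq_one_iff] at h3
  exact h3

/-- In a group with `O^p(K) = K`, every `p`-subgroup lies in the commutator subgroup. -/
theorem le_commutator_of_pResidual_eq_top {K : Type*} [Group K] {p : ℕ} [Fact p.Prime]
    (hK : pResidual p K = ⊤) {T : Subgroup K} (hT : IsPGroup p T) : T ≤ commutator K := by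
  intro t ht
  obtain ⟨k, hk⟩ := hT ⟨t, ht⟩
  have hk' : t ^ p ^ k = 1 := by
    have := congrArg Subtype.val hk
    simpa using this
  have h1 := apply_eq_one_of_pResidual_eq_top (Abelianization.of : K →* Abelianization K) hK hk'
  rw [← Abelianization.ker_of K]
  exact h1

/-- **Frattini-type non-generation.** In a finite `p`-group `P`, a subgroup `A` with `A [P,P] = P` is all of `P`. -/
theorem le_of_le_sup_commutator {G : Type*} [Group G] {p : ℕ} [Fact p.Prime] (P : Subgroup G) [Finite P]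
    (hP : IsPGroup p P) (A : Subgroup G) (hAP : A ≤ P) (h : P ≤ A ⊔ ⁅P, P⁆) : P ≤ A := by
  rcases eq_top_or_exists_le_coatom (A.subgroupOf P) with htop | ⟨M, hM, hAM⟩
  · exact Subgroup.subgroupOf_eq_top.mp htop
  · exfalso
    have hMn : M.Normal := Cfsg.Agent.Lib.Helper1.coatom_normal_of_isPGroup hP hM
    have hMi : M.index = p := Cfsg.Agent.Lib.Helper1.coatom_index_of_isPGroup hP hM
    have hcard : Nat.card (P ⧸ M) = p := by rw [← Subgroup.index_eq_card, hMi]
    have hcyc : IsCyclic (P ⧸ M) := isCyclic_of_prime_card hcard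
    have hcomm : IsMulCommutative (P ⧸ M) := ⟨⟨fun a b => hcyc.commGroup.mul_comm a b⟩⟩
    have hcM : commutator P ≤ M := Subgroup.Normal.quotient_commutative_iff_commutator_le.mp hcomm
    apply hM.1
    rw [eq_top_iff]
    rintro ⟨x, hx⟩ -
    have h1 : x ∈ A ⊔ ⁅P, P⁆ := h hx
    have h2 : A ⊔ ⁅P, P⁆ ≤ M.map P.subtype := by
      apply sup_le
      · intro a ha
        exact ⟨⟨a, hAP ha⟩, hAM (Subgroup.mem_subgroupOf.2 ha), rfl⟩
      · rw [← Subgroup.map_subtype_commutator]
        exact Subgroup.map_mono hcM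
    obtain ⟨y, hy, hyx⟩ := h2 h1
    have : y = ⟨x, hx⟩ := Subtype.ext hyx
    rw [← this]
    exact hy

/-- For a normal subgroup `N` of the finite group `G` and a Sylow `p`-subgroup `S` of `G`, `S ∩ N` is a Sylow
`p`-subgroup of `N`. -/
theorem exists_sylow_subgroupOf_normal {G : Type*} [Group G] [Finite G] {p : ℕ} [Fact p.Prime]
    (N : Subgroup G) [N.Normal] (S : Sylow p G) :
    ∃ T : Sylow p N, (T : Subgroup N) = (S : Subgroup G).subgroupOf N := by
  obtain ⟨T₀⟩ : Nonempty (Sylow p N) := inferInstance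
  have hT₀p : IsPGroup p ((T₀ : Subgroup N).map N.subtype) := T₀.isPGroup'.map _
  obtain ⟨n, hnN, hn⟩ := Cfsg.Agent.Lib.Helper87.exists_conj_mem_sylow_of_normal N S hT₀p
    (Subgroup.map_subtype_le _)
  refine ⟨(⟨n, hnN⟩ : N) • T₀, ?_⟩
  have hIp : IsPGroup p ((S : Subgroup G).subgroupOf N) := S.isPGroup'.comap_subtype
  refine (((⟨n, hnN⟩ : N) • T₀).is_maximal' hIp ?_).symm
  intro x hx
  rw [Cfsg.Agent.Lib.Helper34.mem_sylow_smul_iff] at hx
  rw [Subgroup.mem_subgroupOf]
  have h1 := hn _ ⟨_, hx, rfl⟩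
  have h2 : n * N.subtype ((⟨n, hnN⟩ : N)⁻¹ * x * ⟨n, hnN⟩) * n⁻¹ = (x : G) := by
    simp [mul_assoc]
  rw [h2] at h1
  exact h1

/-- Lifting `p'`-elements: if the image of `g` under a homomorphism has order prime to `p`, then it is the image of
an element of `O^p`. -/
theorem exists_mem_pResidual_apply_eq {G M : Type*} [Group G] [Finite G] [Group M] {p : ℕ} [Fact p.Prime]
    (f : G →* M) (g : G) (hg : Nat.Coprime (orderOf (f g)) p) :
    ∃ g' ∈ pResidual p G, f g' = f g := by
  have hcop : Nat.Coprime (p ^ (orderOf g).factorization p) (orderOf (f g)) :=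
    (Nat.Coprime.pow_right _ hg).symm
  obtain ⟨m, hm⟩ := exists_pow_eq_self_of_coprime hcop
  refine ⟨(g ^ p ^ (orderOf g).factorization p) ^ m, ?_, ?_⟩
  · exact Subgroup.pow_mem _ (Cfsg.Agent.Lib.Helper34.pow_ordProj_mem_pResidual p g) m
  · rw [map_pow, map_pow, hm]

end Cfsg.Agent.Lib.Helper84
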