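/-
helper84: lifting a homomorphism through a central extension, via Gaschütz's theorem (statement S0051).
All declarations live in `Cfsg.Agent.Lib.Helper84`.
-/
import Mathlib
import Cfsg.Agent.S0051

set_option autoImplicit false

namespace Cfsg.Agent.Lib.Helper84

/-- Lifting through a central extension.  Let `ρ : E →* Q` have central kernel of order prime to the index of the
subgroup `P` of the finite group `G`, and let `π : G →* Q` be a homomorphism with image inside the image of `ρ`.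
If the restriction of `π` to `P` lifts to `μ : P →* E`, then `π` lifts to a homomorphism `G →* E`. -/
theorem exists_lift_of_central_of_coprime {G E Q : Type*} [Group G] [Finite G] [Group E] [Finite E] [Group Q]
    (P : Subgroup G) (ρ : E →* Q) (π : G →* Q) (μ : P →* E)
    (hμ : ∀ x : P, ρ (μ x) = π x)
    (hsurj : ∀ g : G, ∃ e : E, ρ e = π g)
    (hcent : ρ.ker ≤ Subgroup.center E)
    (hcop : (Nat.card ρ.ker).Coprime P.index) :
    ∃ l : G →* E, ∀ g, ρ (l g) = π g := by
  classical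
  let Γ : Subgroup (G × E) := (π.comp (MonoidHom.fst G E)).eqLocus (ρ.comp (MonoidHom.snd G E))
  let f₁ : Γ →* G := (MonoidHom.fst G E).comp Γ.subtype
  let f₂ : Γ →* E := (MonoidHom.snd G E).comp Γ.subtype
  have hf : ∀ γ : Γ, π (f₁ γ) = ρ (f₂ γ) := fun γ => γ.2
  have hf₁surj : Function.Surjective f₁ := by
    intro g
    obtain ⟨e, he⟩ := hsurj g
    exact ⟨⟨(g, e), he.symm⟩, rfl⟩
  have hinj : ∀ a b : Γ, f₁ a = f₁ b → f₂ a = f₂ b → a = b := by
    intro a b h1 h2
    exact Subtype.ext (Prod.ext h1 h2)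
  let Z : Subgroup Γ := f₁.ker
  have hZker : ∀ z ∈ Z, f₂ z ∈ ρ.ker := by
    intro z hz
    have hz1 : f₁ z = 1 := hz
    rw [MonoidHom.mem_ker, ← hf z, hz1, map_one]
  have hZcent : ∀ z ∈ Z, ∀ γ : Γ, z * γ = γ * z := by
    intro z hz γ
    have hz1 : f₁ z = 1 := hz
    have hc := Subgroup.mem_center_iff.mp (hcent (hZker z hz)) (f₂ γ)
    apply hinj
    · rw [map_mul, map_mul, hz1, one_mul, mul_one]
    · rw [map_mul, map_mul]; exact hc.symm
  have : IsMulCommutative Z := ⟨⟨fun a b => Subtype.ext (hZcent a a.2 b)⟩⟩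
  let U : Subgroup Γ := P.comap f₁
  let ι : P →* Γ := ((P.subtype).prod μ).codRestrict Γ (fun x => (hμ x).symm)
  have hι₁ : ∀ x : P, f₁ (ι x) = x := fun x => rfl
  let A : Subgroup Γ := ι.range
  have hZU : Z ≤ U := by
    intro z hz
    have hz1 : f₁ z = 1 := hz
    show f₁ z ∈ P
    rw [hz1]; exact P.one_mem
  have hcop' : (Nat.card Z).Coprime U.index := by
    have h1 : U.index = P.index := Subgroup.index_comap_of_surjective P hf₁surj
    rw [h1]
    let j : Z →* ρ.ker := (f₂.comp Z.subtype).codRestrict ρ.ker (fun z => hZker z z.2)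
    have hj : Function.Injective j := by
      intro a b hab
      have h2 : f₂ a = f₂ b := congrArg Subtype.val hab
      have ha1 : f₁ (a : Γ) = 1 := a.2
      have hb1 : f₁ (b : Γ) = 1 := b.2
      exact Subtype.ext (hinj _ _ (ha1.trans hb1.symm) h2)
    exact Nat.Coprime.coprime_dvd_left (Subgroup.card_dvd_of_injective j hj) hcop
  have hAU : A ≤ U := by
    rintro _ ⟨x, rfl⟩
    show f₁ (ι x) ∈ P
    rw [hι₁]; exact x.2
  have hAZ : A ⊓ Z = ⊥ := by
    rw [eq_bot_iff]
    rintro a ⟨⟨x, rfl⟩, hz⟩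
    have hz1 : f₁ (ι x) = 1 := hz
    rw [hι₁] at hz1
    have hx : x = 1 := Subtype.ext hz1
    rw [hx, map_one]; exact Subgroup.mem_bot.mpr rfl
  have hZA : Z ⊔ A = U := by
    apply le_antisymm (sup_le hZU hAU)
    intro u hu
    have hu' : f₁ u ∈ P := hu
    have h1 : u * (ι ⟨f₁ u, hu'⟩)⁻¹ ∈ Z := by
      show f₁ (u * (ι ⟨f₁ u, hu'⟩)⁻¹) = 1
      rw [map_mul, map_inv, hι₁]; exact mul_inv_cancel _
    have h2 : ι ⟨f₁ u, hu'⟩ ∈ A := ⟨_, rfl⟩
    have h3 : u = u * (ι ⟨f₁ u, hu'⟩)⁻¹ * ι ⟨f₁ u, hu'⟩ := by group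
    rw [h3]
    exact Subgroup.mul_mem _ (Subgroup.mem_sup_left h1) (Subgroup.mem_sup_right h2)
  obtain ⟨H, hH⟩ := Cfsg.Agent.S0051.result Z U hZU hcop' A hAU hAZ hZA
  have hbij : Function.Bijective (f₁.comp H.subtype) := by
    constructor
    · rw [← MonoidHom.ker_eq_bot_iff, eq_bot_iff]
      intro h hh
      have h1 : (h : Γ) ∈ Z := hh
      have h2 : (h : Γ) ∈ Z ⊓ H := ⟨h1, h.2⟩
      rw [hH.disjoint.eq_bot] at h2
      exact Subtype.ext (Subgroup.mem_bot.mp h2)
    · intro g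
      obtain ⟨γ, hγ⟩ := hf₁surj g
      obtain ⟨⟨z, h⟩, hzh, -⟩ := (Subgroup.isComplement'_def.mp hH).existsUnique γ
      refine ⟨h, ?_⟩
      have hz1 : f₁ (z : Γ) = 1 := z.2
      have : f₁ ((z : Γ) * (h : Γ)) = g := by
        have hzh' : (z : Γ) * (h : Γ) = γ := hzh
        rw [hzh', hγ]
      rw [map_mul, hz1, one_mul] at this
      exact this
  let e : H ≃* G := MulEquiv.ofBijective (f₁.comp H.subtype) hbij
  refine ⟨(f₂.comp H.subtype).comp e.symm.toMonoidHom, fun g => ?_⟩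
  show ρ (f₂ (e.symm g : Γ)) = π g
  rw [← hf]
  have : f₁ (e.symm g : Γ) = e (e.symm g) := rfl
  rw [this, MulEquiv.apply_symm_apply]

end Cfsg.Agent.Lib.Helper84
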