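/-
helper84: Tate's theorem (elementary proof via Gaschütz).  If a subgroup `P` of `p`-power order and index prime
to `p` meets `O^p(G)` inside its Frattini subgroup, then it meets `O^p(G)` trivially.
All declarations live in `Cfsg.Agent.Lib.Helper84`.
-/
import Mathlib
import Cfsg.Prelude.Def_Transfer
import Cfsg.Agent.Lib.Helper34.PResidual
import Cfsg.Agent.Lib.Helper84.PResidualAux
import Cfsg.Agent.Lib.Helper84.CentralLift

set_option autoImplicit false

namespace Cfsg.Agent.Lib.Helper84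

open Cfsg
open scoped commutatorElement

/-- `O^p` of a `p`-group is trivial. -/
theorem pResidual_eq_bot_of_isPGroup {E : Type*} [Group E] {p : ℕ}
    (hE : IsPGroup p E) : pResidual p E = ⊥ := by
  unfold pResidual
  rw [eq_bot_iff, Subgroup.closure_le]
  intro g hg
  have hg' : Nat.Coprime (orderOf g) p := hg
  obtain ⟨k, hk⟩ := hE g
  have h1 : orderOf g ∣ p ^ k := orderOf_dvd_of_pow_eq_one hk
  have h2 : Nat.Coprime (orderOf g) (p ^ k) := Nat.Coprime.pow_right k hg'
  have h3 : orderOf g = 1 := Nat.Coprime.eq_one_of_dvd h2 h1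
  exact Subgroup.mem_bot.mpr (orderOf_eq_one_iff.mp h3)

/-- In a nilpotent group, a nontrivial normal subgroup `R` properly contains `[R, G]`. -/
theorem commutator_top_ne_of_ne_bot {P : Type*} [Group P] [hnil : Group.IsNilpotent P]
    (R : Subgroup P) (hR : R ≠ ⊥) : ⁅R, (⊤ : Subgroup P)⁆ ≠ R := by
  intro heq
  obtain ⟨n, hn⟩ := Subgroup.nilpotent_iff_lowerCentralSeries.mp hnil
  have h : ∀ k, R ≤ (⊤ : Subgroup P).lowerCentralSeries k := by
    intro k
    induction k with
    | zero => rw [Subgroup.lowerCentralSeries_zero]; exact le_top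
    | succ k ih =>
      rw [Subgroup.lowerCentralSeries_succ]
      calc R = ⁅R, (⊤ : Subgroup P)⁆ := heq.symm
        _ ≤ ⁅(⊤ : Subgroup P).lowerCentralSeries k, ⊤⁆ := Subgroup.commutator_mono ih le_rfl
  have := h n
  rw [hn] at this
  exact hR (le_bot_iff.mp this)

/-- **Tate's theorem**, in the form: if `P` is a `p`-subgroup of index prime to `p` in the finite group `G` and
`P ∩ O^p(G) ≤ Φ(P)`, then `P ∩ O^p(G) = 1`. -/
theorem subgroupOf_pResidual_eq_bot_of_le_frattini {G : Type*} [Group G] [Finite G] {p : ℕ} [hp : Fact p.Prime]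
    (P : Subgroup G) (hP : IsPGroup p P) (hidx : ¬ p ∣ P.index)
    (h : (pResidual p G).subgroupOf P ≤ frattini P) :
    (pResidual p G).subgroupOf P = ⊥ := by
  by_contra hne
  have hKn : (pResidual p G).Normal := Cfsg.Agent.Lib.Helper34.pResidual_normal p G
  have hnil : Group.IsNilpotent P := hP.isNilpotent
  have hRn : ((pResidual p G).subgroupOf P).Normal := inferInstance
  have hR₁n : (⁅(pResidual p G).subgroupOf P, (⊤ : Subgroup P)⁆).Normal :=
    Subgroup.commutator_normal _ _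
  have hR₁le : ⁅(pResidual p G).subgroupOf P, (⊤ : Subgroup P)⁆ ≤ (pResidual p G).subgroupOf P :=
    Subgroup.commutator_le_left _ _
  have hR₁ne := commutator_top_ne_of_ne_bot _ hne
  -- the groups and maps
  let π : G →* G ⧸ pResidual p G := QuotientGroup.mk' (pResidual p G)
  have hπ : ∀ g : G, π g = 1 ↔ g ∈ pResidual p G := fun g => QuotientGroup.eq_one_iff g
  let μ : P →* P ⧸ ⁅(pResidual p G).subgroupOf P, (⊤ : Subgroup P)⁆ := QuotientGroup.mk' _
  have hle : ⁅(pResidual p G).subgroupOf P, (⊤ : Subgroup P)⁆ ≤ (π.comp P.subtype).ker := by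
    intro x hx
    have hx' : (x : G) ∈ pResidual p G := hR₁le hx
    rw [MonoidHom.mem_ker]
    show π (x : G) = 1
    exact (hπ _).mpr hx'
  let ρ : P ⧸ ⁅(pResidual p G).subgroupOf P, (⊤ : Subgroup P)⁆ →* G ⧸ pResidual p G :=
    QuotientGroup.lift _ (π.comp P.subtype) hle
  have hρμ : ∀ x : P, ρ (μ x) = π x := fun x => rfl
  have hker : ∀ e, e ∈ ρ.ker ↔ ∃ x : P, x ∈ (pResidual p G).subgroupOf P ∧ μ x = e := by
    intro e
    constructor
    · intro he
      obtain ⟨x, rfl⟩ := QuotientGroup.mk'_surjective _ e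
      refine ⟨x, ?_, rfl⟩
      have h1 : π (x : G) = 1 := he
      exact (hπ _).mp h1
    · rintro ⟨x, hx, rfl⟩
      rw [MonoidHom.mem_ker, hρμ]
      exact (hπ _).mpr hx
  have hsup : pResidual p G ⊔ P = ⊤ := Cfsg.Agent.Lib.Helper34.pResidual_sup_eq_top p P hidx
  have hsurj : ∀ g : G, ∃ e, ρ e = π g := by
    intro g
    have hg : g ∈ pResidual p G ⊔ P := by rw [hsup]; exact Subgroup.mem_top g
    rw [← SetLike.mem_coe, Subgroup.normal_mul] at hg
    obtain ⟨k, hk, x, hx, rfl⟩ := hg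
    refine ⟨μ ⟨x, hx⟩, ?_⟩
    rw [hρμ, map_mul]
    have : π k = 1 := (hπ _).mpr hk
    rw [this, one_mul]
  have hcent : ρ.ker ≤ Subgroup.center _ := by
    intro e he
    obtain ⟨x, hx, rfl⟩ := (hker e).mp he
    rw [Subgroup.mem_center_iff]
    intro e'
    obtain ⟨y, rfl⟩ := QuotientGroup.mk'_surjective _ e'
    rw [← map_mul, ← map_mul]
    show (QuotientGroup.mk (y * x) : P ⧸ _) = QuotientGroup.mk (x * y)
    rw [QuotientGroup.eq]
    have h1 : (y * x)⁻¹ * (x * y) = ⁅x⁻¹, y⁻¹⁆ := by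
      rw [commutatorElement_def]; group
    rw [h1]
    exact Subgroup.commutator_mem_commutator (Subgroup.inv_mem _ hx) (Subgroup.mem_top _)
  have hE : IsPGroup p (P ⧸ ⁅(pResidual p G).subgroupOf P, (⊤ : Subgroup P)⁆) := hP.to_quotient _
  have hcop : (Nat.card ρ.ker).Coprime P.index := by
    obtain ⟨n, hn⟩ := (hE.to_subgroup ρ.ker).exists_card_eq
    rw [hn]
    exact Nat.Coprime.pow_left n ((Nat.Prime.coprime_iff_not_dvd hp.out).mpr hidx)
  obtain ⟨l, hl⟩ := exists_lift_of_central_of_coprime P ρ π μ hρμ hsurj hcent hcop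
  -- the kernel of `ρ` lies in the Frattini subgroup
  have hfr : ρ.ker ≤ frattini _ := by
    intro e he
    obtain ⟨x, hx, rfl⟩ := (hker e).mp he
    exact frattini_le_comap_frattini_of_surjective (QuotientGroup.mk'_surjective _) (h hx)
  -- `l` is surjective
  have hlsurj : l.range = ⊤ := by
    apply frattini_nongenerating
    rw [eq_top_iff]
    intro e _
    obtain ⟨g, hg⟩ := QuotientGroup.mk'_surjective (pResidual p G) (ρ e)
    have h1 : e * (l g)⁻¹ ∈ ρ.ker := by
      rw [MonoidHom.mem_ker, map_mul, map_inv, hl]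
      have : π g = ρ e := hg
      rw [this]; exact mul_inv_cancel _
    have h2 : e = l g * ((l g)⁻¹ * (e * (l g)⁻¹) * l g) := by group
    rw [h2]
    refine Subgroup.mul_mem _ (Subgroup.mem_sup_left ⟨g, rfl⟩) (Subgroup.mem_sup_right ?_)
    have hn : (frattini (P ⧸ ⁅(pResidual p G).subgroupOf P, (⊤ : Subgroup P)⁆)).Normal := inferInstance
    have := hn.conj_mem _ (hfr h1) (l g)⁻¹
    simpa using this
  -- `O^p(G)` lies in the kernel of `l`
  have hlK : ∀ g ∈ pResidual p G, l g = 1 := by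
    intro g hg
    have h1 : l g ∈ (pResidual p G).map l := ⟨g, hg, rfl⟩
    have h2 := map_pResidual_le p l h1
    rw [pResidual_eq_bot_of_isPGroup hE] at h2
    exact Subgroup.mem_bot.mp h2
  -- contradiction
  apply hR₁ne
  apply le_antisymm hR₁le
  intro x hx
  have hx1 : μ x ∈ ρ.ker := (hker _).mpr ⟨x, hx, rfl⟩
  have hx2 : μ x ∈ l.range := by rw [hlsurj]; exact Subgroup.mem_top _
  obtain ⟨g, hg⟩ := hx2
  have hg1 : π g = 1 := by
    rw [← hl, hg]; exact hx1
  have hg2 : g ∈ pResidual p G := (hπ _).mp hg1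
  have hx3 : μ x = 1 := by rw [← hg]; exact hlK g hg2
  exact (QuotientGroup.eq_one_iff _).mp hx3

end Cfsg.Agent.Lib.Helper84
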