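/-
helper84: ASCH-[C5] (hedge).  `geo_of_subfield`: a subgroup of GL_n(F) that is, after a base change and
up to scalars, written over a proper subfield lies in a class-5 (subfield) member.
-/
import Mathlib
import Cfsg.Prelude.Def_GeometricClasses
import Cfsg.Agent.Lib.Helper99.AschDefs
import Cfsg.Agent.Lib.Helper44.SubF1

set_option autoImplicit false
set_option linter.unusedSectionVars false
set_option linter.style.haveILetI false

namespace Cfsg.Agent.Lib.Helper84.AschC5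

open Cfsg Cfsg.Geo

/-- Over a proper subfield `F₀` of a finite field `F` there is a subfield `F₁ ⊇ F₀` with `[F : F₁]` prime. -/
theorem exists_prime_degree_subfield {F : Type*} [Field F] [Fintype F] (F₀ : Subfield F)
    (hF₀ : F₀ ≠ ⊤) :
    ∃ (F₁ : Subfield F) (r : ℕ), r.Prime ∧ F₀ ≤ F₁ ∧ Fintype.card F = Nat.card F₁ ^ r := by
  classical
  -- the Galois group of F over F₀
  have hgal : IsGalois F₀ F := inferInstance
  have hfd : FiniteDimensional F₀ F := inferInstance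
  have hcardG : Nat.card (F ≃ₐ[F₀] F) = Module.finrank F₀ F := IsGalois.card_aut_eq_finrank F₀ F
  have hm : Module.finrank F₀ F ≠ 1 := by
    intro h1
    apply hF₀
    have hbot : (⊥ : Subalgebra F₀ F) = ⊤ := Subalgebra.bot_eq_top_of_finrank_eq_one h1
    rw [eq_top_iff]
    intro x _
    have hx : x ∈ (⊤ : Subalgebra F₀ F) := Algebra.mem_top
    rw [← hbot, Algebra.mem_bot] at hx
    obtain ⟨y, rfl⟩ := hx
    exact y.2
  obtain ⟨r, hr, hrdvd⟩ := Nat.exists_prime_and_dvd hm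
  haveI : Fact r.Prime := ⟨hr⟩
  haveI : Finite (F ≃ₐ[F₀] F) := inferInstance
  haveI : Fintype (F ≃ₐ[F₀] F) := Fintype.ofFinite _
  have hdvd : r ∣ Fintype.card (F ≃ₐ[F₀] F) := by
    rw [← Nat.card_eq_fintype_card, hcardG]; exact hrdvd
  obtain ⟨σ, hσ⟩ := exists_prime_orderOf_dvd_card r hdvd
  let K : IntermediateField F₀ F := IntermediateField.fixedField (Subgroup.zpowers σ)
  have hK : Module.finrank K F = r := by
    rw [IntermediateField.finrank_fixedField_eq_card, Nat.card_zpowers, hσ]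
  refine ⟨K.toSubfield, r, hr, ?_, ?_⟩
  · intro x hx
    have : x = algebraMap F₀ F ⟨x, hx⟩ := rfl
    rw [this]
    exact K.algebraMap_mem _
  · haveI : Fintype K := Fintype.ofFinite _
    have h := Module.card_eq_pow_finrank (K := K) (V := F)
    rw [hK] at h
    rw [h, Nat.card_eq_fintype_card]
    rfl

end Cfsg.Agent.Lib.Helper84.AschC5

namespace Cfsg.Agent.Lib.Helper99.Asch

open Cfsg Cfsg.Geo
open scoped MatrixGroups Matrix Kronecker

variable {n : ℕ} {F : Type*} [Field F] [Fintype F]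

/-- ASCH-[C5] -/
theorem geo_of_subfield (H : Subgroup (GL (Fin n) F)) (F₀ : Subfield F) (hF₀ : F₀ ≠ ⊤)
    (B : GL (Fin n) F)
    (hH : ∀ h ∈ H, ∃ c : Fˣ, ∀ i j,
      ((c : F) • ((B * h * B⁻¹ : GL (Fin n) F) : Matrix (Fin n) (Fin n) F)) i j ∈ F₀) :
    Geo H := by
  obtain ⟨F₁, r, hr, hle, hcard⟩ := Cfsg.Agent.Lib.Helper84.AschC5.exists_prime_degree_subfield F₀ hF₀
  refine ⟨subfieldSubgroup F₁ B⁻¹, ?_, ?_⟩
  · right; right; right; right; right; right; left
    exact ⟨F₁, r, B⁻¹, hr, hcard, rfl⟩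
  · intro h hh
    obtain ⟨c, hc⟩ := hH h hh
    have hmem : B * h * B⁻¹ ∈ Cfsg.Agent.Lib.Helper44.SubF.NGrp F₁ :=
      (Cfsg.Agent.Lib.Helper44.SubF.mem_NGrp_iff _).2 ⟨c, fun i j => hle (hc i j)⟩
    refine ⟨B * h * B⁻¹, hmem, ?_⟩
    show B⁻¹ * (B * h * B⁻¹) * B⁻¹⁻¹ = h
    group

end Cfsg.Agent.Lib.Helper99.Asch
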