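/-
helper84: ASCH-[C5], refined version `geo_of_subfield_R` (conclusion `GeoR H`).
-/
import Mathlib
import Cfsg.Prelude.Def_GeometricClasses
import Cfsg.Agent.Lib.Helper99.AschDefs
import Cfsg.Agent.Lib.Helper99.AschDefsR
import Cfsg.Agent.Lib.Helper44.SubF1
import Cfsg.Agent.Lib.Helper84.AschC5

set_option autoImplicit false
set_option linter.unusedSectionVars false

namespace Cfsg.Agent.Lib.Helper99.Asch

open Cfsg Cfsg.Geo
open scoped MatrixGroups Matrix Kronecker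

variable {n : ℕ} {F : Type*} [Field F] [Fintype F]

/-- ASCH-[C5], refined form. -/
theorem geo_of_subfield_R (H : Subgroup (GL (Fin n) F)) (F₀ : Subfield F) (hF₀ : F₀ ≠ ⊤)
    (B : GL (Fin n) F)
    (hH : ∀ h ∈ H, ∃ c : Fˣ, ∀ i j,
      ((c : F) • ((B * h * B⁻¹ : GL (Fin n) F) : Matrix (Fin n) (Fin n) F)) i j ∈ F₀) :
    GeoR H := by
  obtain ⟨F₁, r, hr, hle, hcard⟩ := Cfsg.Agent.Lib.Helper84.AschC5.exists_prime_degree_subfield F₀ hF₀
  refine ⟨subfieldSubgroup F₁ B⁻¹, ?_, ?_⟩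
  · right; right; right; right; right; right; left
    exact ⟨F₁, r, B⁻¹, hr, hcard, rfl⟩
  · intro h hh
    obtain ⟨c, hc⟩ := hH h hh
    have hmem : B * h * B⁻¹ ∈ Cfsg.Agent.Lib.Helper44.SubF.NGrp F₁ :=
      (Cfsg.Agent.Lib.Helper44.SubF.mem_NGrp_iff _).2 ⟨c, fun i j => hle (hc i j)⟩
    refine ⟨B * h * B⁻¹, hmem, ?_⟩
    show B⁻¹ * (B * h * B⁻¹) * B⁻¹⁻¹ = h
    group

end Cfsg.Agent.Lib.Helper99.Asch
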