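/-
helper84: pure group theory around `Cfsg.IsStronglyPEmbedded` (defined through `Cfsg.kGeneratedCore p 1`).
All declarations live in `Cfsg.Agent.Lib.Helper84`.
-/
import Mathlib
import Cfsg.Prelude.Def_EvenType

set_option autoImplicit false

namespace Cfsg.Agent.Lib.Helper84

open Cfsg

/-- A nontrivial `p`-group has `p`-rank at least one. -/
theorem not_pRankLE_zero {N : Type*} [Group N] {p : ℕ} [hp : Fact p.Prime] (hN : IsPGroup p N)
    (hne : ∃ x : N, x ≠ 1) : ¬ PRankLE p 0 N := by
  intro h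
  obtain ⟨x, hx⟩ := hne
  obtain ⟨k, hk⟩ := (IsPGroup.iff_orderOf.mp hN) x
  have hk0 : k ≠ 0 := by
    rintro rfl
    rw [pow_zero, orderOf_eq_one_iff] at hk
    exact hx hk
  obtain ⟨j, rfl⟩ := Nat.exists_eq_succ_of_ne_zero hk0
  have hy : orderOf (x ^ p ^ j) = p := by
    rw [orderOf_pow_of_dvd (pow_ne_zero _ hp.out.ne_zero) (by rw [hk]; exact pow_dvd_pow p (Nat.le_succ j)), hk,
      pow_succ, Nat.mul_div_cancel_left _ (pow_pos hp.out.pos j)]
  have hyp : (x ^ p ^ j) ^ p = 1 := by
    have := pow_orderOf_eq_one (x ^ p ^ j)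
    rwa [hy] at this
  have hcard := h (Subgroup.zpowers (x ^ p ^ j)) inferInstance (by
    intro a ha
    obtain ⟨i, rfl⟩ := Subgroup.mem_zpowers_iff.mp ha
    rw [← zpow_natCast, ← zpow_mul, mul_comm, zpow_mul, zpow_natCast, hyp, one_zpow])
  rw [Nat.card_zpowers, hy, pow_zero] at hcard
  exact absurd hcard (not_le.mpr hp.out.one_lt)

/-- A nontrivial `p`-subgroup has `p`-rank at least one. -/
theorem not_pRankLE_zero_of_ne_bot {X : Type*} [Group X] {p : ℕ} [Fact p.Prime] {Q : Subgroup X}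
    (hQ : IsPGroup p Q) (hne : Q ≠ ⊥) : ¬ PRankLE p 0 Q := by
  apply not_pRankLE_zero hQ
  by_contra hall
  push Not at hall
  apply hne
  rw [Subgroup.eq_bot_iff_forall]
  intro x hx
  exact congrArg Subtype.val (hall ⟨x, hx⟩)

/-- The trivial subgroup has `p`-rank zero. -/
theorem ne_bot_of_not_pRankLE_zero {X : Type*} [Group X] {p : ℕ} {Q : Subgroup X}
    (h : ¬ PRankLE p 0 Q) : Q ≠ ⊥ := by
  rintro rfl
  apply h
  intro A _ _
  rw [pow_zero]
  have : Subsingleton (⊥ : Subgroup X) := inferInstance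
  have : Subsingleton A := inferInstance
  exact le_of_eq Nat.card_unique

/-- The normalizer of a nontrivial subgroup of the Sylow subgroup `T` lies in `Γ_{T,1}`. -/
theorem normalizer_le_kGeneratedCore {X : Type*} [Group X] {p : ℕ} [Fact p.Prime] (T : Sylow p X)
    {Q : Subgroup X} (hQT : Q ≤ T) (hne : Q ≠ ⊥) :
    Subgroup.normalizer (Q : Set X) ≤ kGeneratedCore p 1 (T : Subgroup X) := by
  unfold kGeneratedCore
  exact le_iSup (fun Q : {Q : Subgroup X // Q ≤ (T : Subgroup X) ∧ ¬ PRankLE p (1 - 1) Q} =>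
    Subgroup.normalizer ((Q : Subgroup X) : Set X))
    ⟨Q, hQT, (show ¬ PRankLE p (1 - 1) Q from not_pRankLE_zero_of_ne_bot (T.isPGroup'.to_le hQT) hne)⟩

/-- A group with a strongly `p`-embedded subgroup has no nontrivial normal `p`-subgroup. -/
theorem normal_pgroup_eq_bot {X : Type*} [Group X] {p : ℕ} [Fact p.Prime] {Y : Subgroup X}
    (hY : IsStronglyPEmbedded p Y) (N : Subgroup X) [hNn : N.Normal] (hN : IsPGroup p N) : N = ⊥ := by
  by_contra hne
  obtain ⟨_, hYtop, P', hP'⟩ := hY
  have hNP : N ≤ (P' : Subgroup X) := by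
    have h : IsPGroup p (N ⊔ (P' : Subgroup X) : Subgroup X) := IsPGroup.to_sup_of_normal_left hN P'.isPGroup'
    have h2 := P'.is_maximal' h le_sup_right
    calc N ≤ N ⊔ (P' : Subgroup X) := le_sup_left
      _ = P' := h2
  apply hYtop
  rw [eq_top_iff]
  refine le_trans ?_ hP'
  have hnorm : Subgroup.normalizer (N : Set X) = ⊤ := Subgroup.normalizer_eq_top_iff.mpr hNn
  rw [← hnorm]
  exact normalizer_le_kGeneratedCore P' hNP hne

/-- **Generation by normalizers when there is no strongly `p`-embedded subgroup.** Let `I` be a normal subgroup of the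
finite group `A` contained in, but different from, a Sylow `p`-subgroup `T` of `A`, such that `A ⧸ I` has no
strongly `p`-embedded subgroup. Then a subgroup `B` containing the normalizers of all `Q` with `I < Q ≤ T` is all of `A`. -/
theorem eq_top_of_no_stronglyPEmbedded {A : Type*} [Group A] [Finite A] {p : ℕ} [Fact p.Prime]
    (I : Subgroup A) [I.Normal] (T : Sylow p A) (hIT : I ≤ T) (hne : ¬ (T : Subgroup A) ≤ I)
    (hno : ∀ Y : Subgroup (A ⧸ I), ¬ IsStronglyPEmbedded p Y)
    (B : Subgroup A)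
    (hB : ∀ Q : Subgroup A, I ≤ Q → ¬ Q ≤ I → Q ≤ T → Subgroup.normalizer (Q : Set A) ≤ B) : B = ⊤ := by
  have hπ : Function.Surjective (QuotientGroup.mk' I) := QuotientGroup.mk'_surjective I
  have hker : (QuotientGroup.mk' I).ker = I := QuotientGroup.ker_mk' I
  set Tbar : Sylow p (A ⧸ I) := T.mapSurjective hπ with hTbar
  have hTbar_coe : (Tbar : Subgroup (A ⧸ I)) = (T : Subgroup A).map (QuotientGroup.mk' I) :=
    Sylow.coe_mapSurjective hπ T
  have hTbar_ne : (Tbar : Subgroup (A ⧸ I)) ≠ ⊥ := by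
    rw [hTbar_coe]
    intro h
    rw [Subgroup.map_eq_bot_iff, hker] at h
    exact hne h
  have hdvd : p ∣ Nat.card (A ⧸ I) := by
    have h1 : p ∣ Nat.card (Tbar : Subgroup (A ⧸ I)) := by
      rcases Tbar.isPGroup'.card_eq_or_dvd with h | h
      · exfalso
        apply hTbar_ne
        exact (Subgroup.card_eq_one).mp h
      · exact h
    exact h1.trans (Subgroup.card_subgroup_dvd_card _)
  have hY : kGeneratedCore p 1 (Tbar : Subgroup (A ⧸ I)) = ⊤ := by
    by_contra h
    exact hno _ ⟨hdvd, h, Tbar, le_rfl⟩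
  have hmap : B.map (QuotientGroup.mk' I) = ⊤ := by
    rw [eq_top_iff, ← hY]
    unfold kGeneratedCore
    apply iSup_le
    rintro ⟨Qb, hQbT, hrank⟩
    have hQb_ne : Qb ≠ ⊥ := ne_bot_of_not_pRankLE_zero hrank
    have hIQ : I ≤ Qb.comap (QuotientGroup.mk' I) := by
      have := (QuotientGroup.mk' I).ker_le_comap Qb
      rwa [hker] at this
    have hQI : ¬ Qb.comap (QuotientGroup.mk' I) ≤ I := by
      intro h
      apply hQb_ne
      have h1 := Subgroup.map_mono (f := QuotientGroup.mk' I) h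
      rw [Subgroup.map_comap_eq_self_of_surjective hπ] at h1
      have h2 : I.map (QuotientGroup.mk' I) = ⊥ := by
        rw [Subgroup.map_eq_bot_iff, hker]
      rw [h2] at h1
      exact le_bot_iff.mp h1
    have hQT : Qb.comap (QuotientGroup.mk' I) ≤ T := by
      have h1 := Subgroup.comap_mono (f := QuotientGroup.mk' I) hQbT
      rw [hTbar_coe, Subgroup.comap_map_eq, hker, sup_eq_left.mpr hIT] at h1
      exact h1
    have h3 := hB _ hIQ hQI hQT
    rw [← Subgroup.comap_normalizer_eq_of_surjective _ hπ] at h3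
    have h4 := Subgroup.map_mono (f := QuotientGroup.mk' I) h3
    rw [Subgroup.map_comap_eq_self_of_surjective hπ] at h4
    exact h4
  have hIB : I ≤ B := by
    have h1 : (T : Subgroup A) ≤ Subgroup.normalizer ((T : Subgroup A) : Set A) := Subgroup.le_normalizer
    exact hIT.trans (h1.trans (hB T hIT hne le_rfl))
  have h5 : (B.map (QuotientGroup.mk' I)).comap (QuotientGroup.mk' I) = ⊤ := by
    rw [hmap, Subgroup.comap_top]
  rw [Subgroup.comap_map_eq, hker, sup_eq_left.mpr hIB] at h5
  exact h5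

end Cfsg.Agent.Lib.Helper84
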