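/-
helper84: the Alperin-Goldschmidt fusion theorem for `Cfsg.FusionSystem` (essential subgroups version), built on
helper87's saturation layer (`alperin_weak`, `exists_extension`) and helper85's basic API (`mem_extender_iff`).
All declarations live in `Cfsg.Agent.Lib.Helper84`.
-/
import Cfsg.Agent.Lib.Helper84.StrongEmb
import Cfsg.Agent.Lib.Helper87.FusionSat
import Cfsg.Agent.Lib.Helper85.FusionBasic
import Cfsg.Agent.S5079

set_option autoImplicit false

namespace Cfsg.Agent.Lib.Helper84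

open Cfsg Cfsg.FusionSystem
open Cfsg.Agent.Lib.Helper87

variable {Ω : Type*} [Group Ω] {S : Subgroup Ω}

/-- An element inducing an automorphism of `Q` by conjugation normalizes `Q`. -/
theorem mem_normalizer_of_induces {Q : Subgroup Ω} {α : MulAut Q} {g : Ω}
    (h : ∀ x : Q, ((α x : Q) : Ω) = g * (x : Ω) * g⁻¹) : g ∈ Subgroup.normalizer (Q : Set Ω) := by
  rw [Subgroup.mem_normalizer_iff]
  intro x
  constructor
  · intro hx
    rw [← h ⟨x, hx⟩]
    exact (α ⟨x, hx⟩).2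
  · intro hx
    have := h (α⁻¹ ⟨_, hx⟩)
    rw [MulAut.apply_inv_self] at this
    have e : x = ((α⁻¹ ⟨_, hx⟩ : Q) : Ω) := by
      have h2 : g * x * g⁻¹ = g * ((α⁻¹ ⟨_, hx⟩ : Q) : Ω) * g⁻¹ := this
      exact mul_left_cancel (mul_right_cancel h2)
    rw [e]
    exact (α⁻¹ ⟨_, hx⟩).2

/-- A fully automized receptive subgroup is fully normalized (in any fusion system over a finite `p`-group). -/
theorem isFullyNormalized_of_fullyAutomized_receptive (F : FusionSystem S) [Finite S] {p : ℕ} [Fact p.Prime]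
    (hS : IsPGroup p S) {R : Subgroup Ω} (hRa : F.IsFullyAutomized p R) (hRr : F.IsReceptive R) :
    F.IsFullyNormalized R := by
  refine ⟨hRa.1, ?_⟩
  intro Q hRQ
  have hQR : F.IsConj Q R := IsConj_symm hRQ
  obtain ⟨φ, hφ, hφN, -⟩ := Cfsg.Agent.S5079.result p hS F R Q hRa hRr hQR
  have : Finite (normalizerIn S R) := finite_of_le (normalizerIn_le S R)
  refine Nat.card_le_card_of_injective (fun x => (⟨φ x, hφN x⟩ : normalizerIn S R)) ?_
  intro x y hxy
  exact F.injective_of_mem hφ (congrArg Subtype.val hxy)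

/-- A receptive subgroup that is not centric has a centralizing element outside it. -/
theorem exists_mem_centralizerIn_not_mem (F : FusionSystem S) {R : Subgroup Ω} (hRr : F.IsReceptive R)
    (hnc : ¬ F.IsCentric R) : ∃ c ∈ centralizerIn S R, c ∉ R := by
  have hRS : R ≤ S := hRr.1
  unfold FusionSystem.IsCentric at hnc
  push Not at hnc
  obtain ⟨Q, hRQ, hnot⟩ := hnc hRS
  obtain ⟨c, hcC, hcQ⟩ := SetLike.not_le_iff_exists.mp hnot
  obtain ⟨e, he⟩ := (isConj_iff F).1 (IsConj_symm hRQ)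
  have hQS : Q ≤ S := he.le_left
  set φ : Q →* Ω := R.subtype.comp e.toMonoidHom with hφdef
  have hφ : φ ∈ F.Hom Q := he
  have hφr : φ.range = R := range_subtype_comp e
  obtain ⟨ψ, hψ, hψφ⟩ := hRr.2 Q φ hφ hφr
  have hcN : c ∈ extender S Q φ := by
    rw [Cfsg.Agent.Lib.Helper85.mem_extender_iff]
    refine ⟨hcC.1, Subgroup.centralizer_le_normalizer _ hcC.2, 1, S.one_mem, fun x hx => ?_⟩
    have hc : (x : Ω) * c = c * (x : Ω) := (Subgroup.mem_centralizer_iff.mp hcC.2) (x : Ω) x.2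
    have : (⟨c * (x : Ω) * c⁻¹, hx⟩ : Q) = x := by
      apply Subtype.ext
      show c * (x : Ω) * c⁻¹ = (x : Ω)
      rw [← hc]; group
    rw [this]; simp
  have hQN : Q ≤ extender S Q φ := by
    intro g hg
    rw [Cfsg.Agent.Lib.Helper85.mem_extender_iff]
    refine ⟨hQS hg, Subgroup.le_normalizer hg, φ ⟨g, hg⟩, hom_map_mem F hφ _, fun x hx => ?_⟩
    have : (⟨g * (x : Ω) * g⁻¹, hx⟩ : Q) = ⟨g, hg⟩ * x * ⟨g, hg⟩⁻¹ := Subtype.ext rfl
    rw [this, map_mul, map_mul, map_inv]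
  refine ⟨ψ ⟨c, hcN⟩, ⟨hom_map_mem F hψ _, ?_⟩, ?_⟩
  · show ψ ⟨c, hcN⟩ ∈ Subgroup.centralizer (R : Set Ω)
    rw [Subgroup.mem_centralizer_iff]
    intro y hy
    set q : Q := e.symm ⟨y, hy⟩ with hq
    have hyq : y = ψ ⟨(q : Ω), hQN q.2⟩ := by
      rw [hψφ (q : Ω) q.2 (hQN q.2)]
      simp [hφdef, hq]
    have hc : (q : Ω) * c = c * (q : Ω) := (Subgroup.mem_centralizer_iff.mp hcC.2) (q : Ω) q.2
    have h2 : (⟨(q : Ω), hQN q.2⟩ : extender S Q φ) * ⟨c, hcN⟩ = ⟨c, hcN⟩ * ⟨(q : Ω), hQN q.2⟩ :=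
      Subtype.ext hc
    have h3 := congrArg ψ h2
    rw [map_mul, map_mul, ← hyq] at h3
    exact h3
  · intro hcR
    apply hcQ
    set q : Q := e.symm ⟨ψ ⟨c, hcN⟩, hcR⟩ with hq
    have h1 : ψ ⟨(q : Ω), hQN q.2⟩ = ψ ⟨c, hcN⟩ := by
      rw [hψφ (q : Ω) q.2 (hQN q.2)]
      simp [hφdef, hq]
    have h2 := F.injective_of_mem hψ h1
    have h3 : (q : Ω) = c := congrArg Subtype.val h2
    rw [← h3]
    exact q.2

/-- **Extension criterion.** If `R` is receptive, `α ∈ Aut_F(R)` and the extender `N_α` contains an element outside `R`,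
then `α` extends to a map of the system defined on a strictly larger subgroup. -/
theorem exists_extension_of_mem_extender (F : FusionSystem S) {R : Subgroup Ω} (hRr : F.IsReceptive R)
    {α : MulAut R} (hα : α ∈ F.autGroup R) {g : Ω}
    (hg : g ∈ extender S R (R.subtype.comp α.toMonoidHom)) (hgR : g ∉ R) :
    ∃ (N : Subgroup Ω) (hRN : R < N) (φ : N →* Ω), φ ∈ F.Hom N ∧
      ∀ x : R, φ (Subgroup.inclusion hRN.le x) = α x := by
  have hRS : R ≤ S := hRr.1
  set φ₀ : R →* Ω := R.subtype.comp α.toMonoidHom with hφ₀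
  have hφ₀F : φ₀ ∈ F.Hom R := (mem_autGroup_iff F hRS).1 hα
  have hφ₀r : φ₀.range = R := range_subtype_comp (α : R ≃* R)
  obtain ⟨ψ, hψ, hψφ⟩ := hRr.2 R φ₀ hφ₀F hφ₀r
  have hRN : R ≤ extender S R φ₀ := by
    intro x hx
    rw [Cfsg.Agent.Lib.Helper85.mem_extender_iff]
    refine ⟨hRS hx, Subgroup.le_normalizer hx, φ₀ ⟨x, hx⟩, hom_map_mem F hφ₀F _, fun y hy => ?_⟩
    have : (⟨x * (y : Ω) * x⁻¹, hy⟩ : R) = ⟨x, hx⟩ * y * ⟨x, hx⟩⁻¹ := Subtype.ext rfl
    rw [this, map_mul, map_mul, map_inv]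
  have hlt : R < extender S R φ₀ := by
    refine lt_of_le_of_ne hRN ?_
    intro h
    apply hgR
    rw [h]
    exact hg
  refine ⟨extender S R φ₀, hlt, ψ, hψ, fun x => ?_⟩
  exact hψφ (x : Ω) x.2 (hRN x.2)

/-- A non-centric receptive subgroup: every element of `Aut_F(R)` extends to a strictly larger subgroup. -/
theorem exists_extension_of_not_centric (F : FusionSystem S) {R : Subgroup Ω} (hRr : F.IsReceptive R)
    (hnc : ¬ F.IsCentric R) {α : MulAut R} (hα : α ∈ F.autGroup R) :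
    ∃ (N : Subgroup Ω) (hRN : R < N) (φ : N →* Ω), φ ∈ F.Hom N ∧
      ∀ x : R, φ (Subgroup.inclusion hRN.le x) = α x := by
  obtain ⟨c, hcC, hcR⟩ := exists_mem_centralizerIn_not_mem F hRr hnc
  refine exists_extension_of_mem_extender F hRr hα ?_ hcR
  rw [Cfsg.Agent.Lib.Helper85.mem_extender_iff]
  refine ⟨hcC.1, Subgroup.centralizer_le_normalizer _ hcC.2, 1, S.one_mem, fun x hx => ?_⟩
  have hc : (x : Ω) * c = c * (x : Ω) := (Subgroup.mem_centralizer_iff.mp hcC.2) (x : Ω) x.2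
  have : (⟨c * (x : Ω) * c⁻¹, hx⟩ : R) = x := by
    apply Subtype.ext
    show c * (x : Ω) * c⁻¹ = (x : Ω)
    rw [← hc]; group
  rw [this]; simp

/-- If `α ∈ Aut_F(R)` normalizes a subgroup `Q` of `Aut_S(R)` not contained in `Inn(R)`, then `α` extends to a map of the
system defined on a strictly larger subgroup (`R` receptive). -/
theorem exists_extension_of_normalizes (F : FusionSystem S) {R : Subgroup Ω} (hRr : F.IsReceptive R)
    (α : F.autGroup R) (Q : Subgroup (F.autGroup R))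
    (hQT : Q ≤ (autInducedBy S R).subgroupOf (F.autGroup R))
    (hQI : ¬ Q ≤ (Inn R).subgroupOf (F.autGroup R))
    (hαQ : α ∈ Subgroup.normalizer (Q : Set (F.autGroup R))) :
    ∃ (N : Subgroup Ω) (hRN : R < N) (φ : N →* Ω), φ ∈ F.Hom N ∧
      ∀ x : R, φ (Subgroup.inclusion hRN.le x) = (α : MulAut R) x := by
  obtain ⟨β, hβQ, hβI⟩ := SetLike.not_le_iff_exists.mp hQI
  obtain ⟨g, hgS, hgβ⟩ := mem_autInducedBy_iff.1 (Subgroup.mem_subgroupOf.1 (hQT hβQ))
  have hconj : α * β * α⁻¹ ∈ Q := (Subgroup.mem_normalizer_iff.mp hαQ β).mp hβQ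
  obtain ⟨h, hhS, hhβ⟩ := mem_autInducedBy_iff.1 (Subgroup.mem_subgroupOf.1 (hQT hconj))
  have hgN : g ∈ Subgroup.normalizer (R : Set Ω) := mem_normalizer_of_induces hgβ
  refine exists_extension_of_mem_extender F hRr α.2 (g := g) ?_ ?_
  · rw [Cfsg.Agent.Lib.Helper85.mem_extender_iff]
    refine ⟨hgS, hgN, h, hhS, fun x hx => ?_⟩
    have h1 : (⟨g * (x : Ω) * g⁻¹, hx⟩ : R) = (β : MulAut R) x := Subtype.ext (hgβ x).symm
    rw [h1]
    have h2 := hhβ ((α : MulAut R) x)
    have h3 : ((α * β * α⁻¹ : F.autGroup R) : MulAut R) ((α : MulAut R) x) = (α : MulAut R) ((β : MulAut R) x) := by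
      simp
    rw [h3] at h2
    exact h2
  · intro hgR
    apply hβI
    rw [Subgroup.mem_subgroupOf]
    refine ⟨⟨g, hgR⟩, ?_⟩
    ext x
    rw [hgβ x]
    rfl

/-- For a centric proper subgroup `R` of the finite `p`-group `S`, `Aut_S(R)` is not contained in `Inn(R)`. -/
theorem autInducedBy_not_le_inn (F : FusionSystem S) [Finite S] {p : ℕ} [Fact p.Prime] (hS : IsPGroup p S)
    {R : Subgroup Ω} (hcen : F.IsCentric R) (hne : R ≠ S) :
    ¬ (autInducedBy S R).subgroupOf (F.autGroup R) ≤ (Inn R).subgroupOf (F.autGroup R) := by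
  have hRS : R ≤ S := hcen.1
  obtain ⟨x, hxN, hxR⟩ := exists_mem_normalizerIn_not_mem hS hRS hne
  intro hle
  have hβS : conjAut R x hxN.2 ∈ autInducedBy S R := mem_autInducedBy_iff.2 ⟨x, hxN.1, fun _ => rfl⟩
  have hβF : conjAut R x hxN.2 ∈ F.autGroup R := autInducedBy_le_autGroup F hRS hβS
  have h1 : (⟨conjAut R x hxN.2, hβF⟩ : F.autGroup R) ∈ (Inn R).subgroupOf (F.autGroup R) :=
    hle (Subgroup.mem_subgroupOf.2 hβS)
  obtain ⟨y, hy⟩ := Subgroup.mem_subgroupOf.1 h1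
  apply hxR
  -- y⁻¹ * x centralizes R
  have hcent : (y : Ω)⁻¹ * x ∈ centralizerIn S R := by
    refine ⟨S.mul_mem (S.inv_mem (hRS y.2)) hxN.1, ?_⟩
    show (y : Ω)⁻¹ * x ∈ Subgroup.centralizer (R : Set Ω)
    rw [Subgroup.mem_centralizer_iff]
    intro z hz
    have h2 : ((MulAut.conj y) ⟨z, hz⟩ : R) = conjAut R x hxN.2 ⟨z, hz⟩ := by
      have := congrArg (fun f : MulAut R => f ⟨z, hz⟩) hy
      exact this
    have h3 : (y : Ω) * z * (y : Ω)⁻¹ = x * z * x⁻¹ := by
      have := congrArg Subtype.val h2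
      simpa [MulAut.conj_apply, conjAut_apply] using this
    calc z * ((y : Ω)⁻¹ * x) = (y : Ω)⁻¹ * ((y : Ω) * z * (y : Ω)⁻¹) * x := by group
      _ = (y : Ω)⁻¹ * (x * z * x⁻¹) * x := by rw [h3]
      _ = (y : Ω)⁻¹ * x * z := by group
  have h4 : (y : Ω)⁻¹ * x ∈ R := hcen.2 R (isConj_refl F hRS) hcent
  have : x = (y : Ω) * ((y : Ω)⁻¹ * x) := by group
  rw [this]
  exact R.mul_mem y.2 h4

/-- `Inn(R) ≤ Aut_S(R)` inside `Aut_F(R)`. -/
theorem inn_subgroupOf_le (F : FusionSystem S) {R : Subgroup Ω} (hRS : R ≤ S) :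
    (Inn R).subgroupOf (F.autGroup R) ≤ (autInducedBy S R).subgroupOf (F.autGroup R) := by
  intro β hβ
  rw [Subgroup.mem_subgroupOf] at hβ ⊢
  obtain ⟨y, hy⟩ := hβ
  rw [mem_autInducedBy_iff]
  refine ⟨(y : Ω), hRS y.2, fun x => ?_⟩
  rw [← hy]
  rfl

/-- **Alperin-Goldschmidt fusion theorem.** A saturated fusion system `F` over a finite `p`-group `S` is generated by
`Aut_F(S)` and the `Aut_F(P)`, `P` essential: any fusion system `E` over `S` whose automorphism groups at these subgroups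
contain those of `F` contains every map of `F`. -/
theorem alperin_goldschmidt (F E : FusionSystem S) [Finite S] {p : ℕ} [Fact p.Prime] (hS : IsPGroup p S)
    (hF : F.IsSaturated p)
    (hE : ∀ P : Subgroup Ω, (P = S ∨ F.IsEssential p P) → F.autGroup P ≤ E.autGroup P) :
    ∀ P : Subgroup Ω, F.Hom P ⊆ E.Hom P := by
  apply alperin_weak F E hS hF
  intro R hRa hRr IH α hα
  have hRS : R ≤ S := hRa.1
  by_cases hRS' : R = S
  · exact (mem_autGroup_iff E hRS).1 (hE R (Or.inl hRS') hα)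
  by_cases hess : F.IsEssential p R
  · exact (mem_autGroup_iff E hRS).1 (hE R (Or.inr hess) hα)
  have : Finite R := finite_of_le hRS
  -- an automorphism extending to a strictly larger subgroup is a map of `E`
  have key : ∀ β : MulAut R, (∃ (N : Subgroup Ω) (hRN : R < N) (φ : N →* Ω), φ ∈ F.Hom N ∧
      ∀ x : R, φ (Subgroup.inclusion hRN.le x) = β x) → IsIso E (β : R ≃* R) := by
    rintro β ⟨N, hRN, φ, hφ, hφβ⟩
    have hNS : N ≤ S := hom_le F hφ
    have : Finite N := finite_of_le hNS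
    have hcard : Nat.card R < Nat.card N := by
      by_contra hle
      push Not at hle
      exact absurd (Subgroup.eq_of_le_of_card_ge hRN.le hle) hRN.ne
    have hφE := IH N hcard hφ
    exact isIso_of_restrict E hφE hRN.le β (fun x hx hx' => hφβ ⟨x, hx⟩)
  by_cases hcen : F.IsCentric R
  · have hfn := isFullyNormalized_of_fullyAutomized_receptive F hS hRa hRr
    have hInnNormal : ((Inn R).subgroupOf (F.autGroup R)).Normal := inferInstance
    have hno : ∀ Y : Subgroup (F.autGroup R ⧸ (Inn R).subgroupOf (F.autGroup R)), ¬ IsStronglyPEmbedded p Y :=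
      fun Y hY => hess ⟨hcen, hfn, hInnNormal, Y, hY⟩
    obtain ⟨-, T, hT⟩ := hRa
    have htop := eq_top_of_no_stronglyPEmbedded ((Inn R).subgroupOf (F.autGroup R)) T
      (by rw [hT]; exact inn_subgroupOf_le F hRS)
      (by rw [hT]; exact autInducedBy_not_le_inn F hS hcen hRS')
      hno ((E.autGroup R).subgroupOf (F.autGroup R)) (by
        intro Q _ hQI hQT β hβ
        rw [Subgroup.mem_subgroupOf, mem_autGroup_iff E hRS]
        rw [hT] at hQT
        exact key β (exists_extension_of_normalizes F hRr β Q hQT hQI hβ))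
    have h1 : (⟨α, hα⟩ : F.autGroup R) ∈ (E.autGroup R).subgroupOf (F.autGroup R) := by
      rw [htop]; trivial
    exact (mem_autGroup_iff E hRS).1 (Subgroup.mem_subgroupOf.1 h1)
  · exact key α (exists_extension_of_not_centric F hRr hcen hα)

end Cfsg.Agent.Lib.Helper84
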