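/-
helper84: consequences of the Alperin-Goldschmidt fusion theorem: a version with target system over an arbitrary subgroup,
subgroups normal in the system versus centric radical / essential subgroups.
All declarations live in `Cfsg.Agent.Lib.Helper84`.
-/
import Cfsg.Agent.Lib.Helper84.Alperin
import Cfsg.Agent.Lib.Helper87.FusionNormal
import Cfsg.Agent.S5080

set_option autoImplicit false

namespace Cfsg.Agent.Lib.Helper84

open Cfsg Cfsg.FusionSystem
open Cfsg.Agent.Lib.Helper87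

variable {Ω : Type*} [Group Ω] {S : Subgroup Ω}

/-- **Alperin-Goldschmidt fusion theorem**, with the target system `E` over an arbitrary subgroup `T`, and the hypothesis
stated through `IsIso E`. -/
theorem alperin_goldschmidt' (F : FusionSystem S) {T : Subgroup Ω} (E : FusionSystem T) [Finite S] {p : ℕ}
    [Fact p.Prime] (hS : IsPGroup p S) (hF : F.IsSaturated p)
    (hE : ∀ P : Subgroup Ω, (P = S ∨ F.IsEssential p P) → ∀ α : MulAut P, α ∈ F.autGroup P → IsIso E (α : P ≃* P)) :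
    ∀ P : Subgroup Ω, F.Hom P ⊆ E.Hom P := by
  have hST : S ≤ T := (hE S (Or.inl rfl) 1 (Subgroup.one_mem _)).le_left
  apply alperin_weak' F E hS hF
  intro R hRa hRr IH α hα
  have hRS : R ≤ S := hRa.1
  by_cases hRS' : R = S
  · exact hE R (Or.inl hRS') α hα
  by_cases hess : F.IsEssential p R
  · exact hE R (Or.inr hess) α hα
  have : Finite R := finite_of_le hRS
  have key : ∀ β : MulAut R, (∃ (N : Subgroup Ω) (hRN : R < N) (φ : N →* Ω), φ ∈ F.Hom N ∧
      ∀ x : R, φ (Subgroup.inclusion hRN.le x) = β x) → IsIso E (β : R ≃* R) := by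
    rintro β ⟨N, hRN, φ, hφ, hφβ⟩
    have hNS : N ≤ S := hom_le F hφ
    have : Finite N := finite_of_le hNS
    have hcard : Nat.card R < Nat.card N := by
      by_contra hle
      push Not at hle
      exact absurd (Subgroup.eq_of_le_of_card_ge hRN.le hle) hRN.ne
    have hφE := IH N hcard hφ
    exact isIso_of_restrict E hφE hRN.le β (fun x hx hx' => hφβ ⟨x, hx⟩)
  by_cases hcen : F.IsCentric R
  · have hfn := isFullyNormalized_of_fullyAutomized_receptive F hS hRa hRr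
    have hInnNormal : ((Inn R).subgroupOf (F.autGroup R)).Normal := inferInstance
    have hno : ∀ Y : Subgroup (F.autGroup R ⧸ (Inn R).subgroupOf (F.autGroup R)), ¬ IsStronglyPEmbedded p Y :=
      fun Y hY => hess ⟨hcen, hfn, hInnNormal, Y, hY⟩
    obtain ⟨-, T', hT'⟩ := hRa
    have htop := eq_top_of_no_stronglyPEmbedded ((Inn R).subgroupOf (F.autGroup R)) T'
      (by rw [hT']; exact inn_subgroupOf_le F hRS)
      (by rw [hT']; exact autInducedBy_not_le_inn F hS hcen hRS')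
      hno ((autSub E R (hRS.trans hST)).subgroupOf (F.autGroup R)) (by
        intro Q _ hQI hQT β hβ
        rw [Subgroup.mem_subgroupOf]
        rw [hT'] at hQT
        exact key β (exists_extension_of_normalizes F hRr β Q hQT hQI hβ))
    have h1 : (⟨α, hα⟩ : F.autGroup R) ∈ (autSub E R (hRS.trans hST)).subgroupOf (F.autGroup R) := by
      rw [htop]; trivial
    exact Subgroup.mem_subgroupOf.1 h1
  · exact key α (exists_extension_of_not_centric F hRr hcen hα)

/-- A subgroup normal in the system is strongly closed. -/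
theorem stronglyClosed_of_isNormal (F : FusionSystem S) {Q : Subgroup Ω} (hQ : F.IsNormal Q) :
    F.StronglyClosed Q := by
  refine ⟨hQ.1, ?_⟩
  intro R hRQ φ hφ x
  obtain ⟨ψ, -, hψ1, hψ2⟩ := hQ.2 R φ hφ
  have : ψ (Subgroup.inclusion le_sup_left x) ∈ (Q.subgroupOf (R ⊔ Q)).map ψ :=
    ⟨Subgroup.inclusion le_sup_left x, hRQ x.2, rfl⟩
  rw [hψ2, hψ1 x] at this
  exact this

/-- An automorphism in `Aut_F(P)` maps a subgroup `Q ≤ P` normal in the system onto itself. -/
theorem aut_map_eq_of_isNormal (F : FusionSystem S) {Q P : Subgroup Ω} (hQ : F.IsNormal Q) (hQP : Q ≤ P)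
    (hPS : P ≤ S) {α : MulAut P} (hα : α ∈ F.autGroup P) :
    (Q.subgroupOf P).map α.toMonoidHom = Q.subgroupOf P := by
  have hφ : P.subtype.comp α.toMonoidHom ∈ F.Hom P := (mem_autGroup_iff F hPS).1 hα
  obtain ⟨ψ, -, hψ1, hψ2⟩ := hQ.2 P _ hφ
  rw [map_subgroupOf_eq_iff] at hψ2
  ext y
  constructor
  · rintro ⟨x, hx, rfl⟩
    have hxQ : (x : Ω) ∈ Q := hx
    have h1 := hψ2.1 (Subgroup.inclusion le_sup_left x) hxQ
    rw [hψ1 x] at h1
    exact h1
  · intro hy
    have hyQ : (y : Ω) ∈ Q := hy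
    obtain ⟨x, hxQ, hxy⟩ := hψ2.2 (y : Ω) hyQ
    refine ⟨⟨(x : Ω), hQP hxQ⟩, hxQ, ?_⟩
    apply Subtype.ext
    have h2 := hψ1 ⟨(x : Ω), hQP hxQ⟩
    have h3 : Subgroup.inclusion (le_sup_left : P ≤ P ⊔ Q) ⟨(x : Ω), hQP hxQ⟩ = x := Subtype.ext rfl
    rw [h3, hxy] at h2
    exact h2.symm

/-- A subgroup normal in the system is contained in every centric radical subgroup. -/
theorem le_of_isNormal_of_centric_radical (F : FusionSystem S) [Finite S] {p : ℕ} [Fact p.Prime]
    (hS : IsPGroup p S) {Q P : Subgroup Ω} (hQ : F.IsNormal Q) (hcen : F.IsCentric P) (hrad : F.IsRadical p P) :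
    Q ≤ P := by
  have hPS : P ≤ S := hcen.1
  have hQS : Q ≤ S := hQ.1
  have hPQS : P ⊔ Q ≤ S := sup_le hPS hQS
  have hfin : Finite ↥(P ⊔ Q) := finite_of_le hPQS
  have hpPQ : IsPGroup p ↥(P ⊔ Q) := hS.to_le hPQS
  -- the subgroup `K` of automorphisms of `P` induced by `P ⊔ Q`
  set K : Subgroup (MulAut P) := autInducedBy (P ⊔ Q) P with hK
  have hKA : K ≤ F.autGroup P := by
    intro β hβ
    obtain ⟨g, hg, hgβ⟩ := mem_autInducedBy_iff.1 hβ
    exact autInducedBy_le_autGroup F hPS (mem_autInducedBy_iff.2 ⟨g, hPQS hg, hgβ⟩)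
  have hKp : IsPGroup p K := autInducedBy_isPGroup hpPQ P
  have hKn : ∀ α ∈ F.autGroup P, ∀ β ∈ K, α * β * α⁻¹ ∈ K := by
    intro α hα β hβ
    obtain ⟨g, hg, hgβ⟩ := mem_autInducedBy_iff.1 hβ
    have hφ : P.subtype.comp α.toMonoidHom ∈ F.Hom P := (mem_autGroup_iff F hPS).1 hα
    obtain ⟨ψ, hψ, hψ1, hψ2⟩ := hQ.2 P _ hφ
    rw [map_subgroupOf_eq_iff] at hψ2
    have hψmem : ∀ x : ↥(P ⊔ Q), ψ x ∈ P ⊔ Q := by
      apply map_sup_mem
      · intro x
        rw [hψ1 x]
        exact (le_sup_left : P ≤ P ⊔ Q) (α x).2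
      · intro x
        exact (le_sup_right : Q ≤ P ⊔ Q) (hψ2.1 _ x.2)
    rw [mem_autInducedBy_iff]
    refine ⟨ψ ⟨g, hg⟩, hψmem _, fun y => ?_⟩
    -- (α β α⁻¹) y = α (g (α⁻¹ y) g⁻¹) = ψ (g (α⁻¹ y) g⁻¹) = ψ g * y * (ψ g)⁻¹
    have h1 : ((α * β * α⁻¹) y : P) = α (β (α⁻¹ y)) := rfl
    rw [h1]
    have h2 : ((α (β (α⁻¹ y)) : P) : Ω) = ψ (Subgroup.inclusion le_sup_left (β (α⁻¹ y))) := (hψ1 _).symm
    rw [h2]
    have h3 : (Subgroup.inclusion (le_sup_left : P ≤ P ⊔ Q) (β (α⁻¹ y)) : ↥(P ⊔ Q)) =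
        ⟨g, hg⟩ * Subgroup.inclusion le_sup_left (α⁻¹ y) * ⟨g, hg⟩⁻¹ := by
      apply Subtype.ext
      exact hgβ (α⁻¹ y)
    rw [h3, map_mul, map_mul, map_inv, hψ1 (α⁻¹ y)]
    simp
  -- `K ≤ Inn P` because `P` is radical
  have hKInn : K ≤ Inn P := by
    have hnorm : (K.subgroupOf (F.autGroup P)).Normal := by
      refine ⟨fun β hβ α => ?_⟩
      rw [Subgroup.mem_subgroupOf] at hβ ⊢
      exact hKn α α.2 β hβ
    have hp' : IsPGroup p (K.subgroupOf (F.autGroup P)) := hKp.comap_subtype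
    have hle : K.subgroupOf (F.autGroup P) ≤ pCore p (F.autGroup P) := le_sSup ⟨hnorm, hp'⟩
    have h1 := Subgroup.map_mono (f := (F.autGroup P).subtype) hle
    rw [hrad.2, Subgroup.map_subgroupOf_eq_of_le hKA] at h1
    exact h1
  -- elements of `P ⊔ Q` normalizing `P` lie in `P`
  have hNP : ∀ g ∈ normalizerIn (P ⊔ Q) P, g ∈ P := by
    intro g hg
    have hβK : conjAut P g hg.2 ∈ K := mem_autInducedBy_iff.2 ⟨g, hg.1, fun _ => rfl⟩
    obtain ⟨y, hy⟩ := hKInn hβK
    have hcent : (y : Ω)⁻¹ * g ∈ centralizerIn S P := by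
      refine ⟨S.mul_mem (S.inv_mem (hPS y.2)) (hPQS hg.1), ?_⟩
      show (y : Ω)⁻¹ * g ∈ Subgroup.centralizer (P : Set Ω)
      rw [Subgroup.mem_centralizer_iff]
      intro z hz
      have h2 : ((MulAut.conj y) ⟨z, hz⟩ : P) = conjAut P g hg.2 ⟨z, hz⟩ :=
        congrArg (fun f : MulAut P => f ⟨z, hz⟩) hy
      have h3 : (y : Ω) * z * (y : Ω)⁻¹ = g * z * g⁻¹ := by
        have := congrArg Subtype.val h2
        simpa [MulAut.conj_apply, conjAut_apply] using this
      calc z * ((y : Ω)⁻¹ * g) = (y : Ω)⁻¹ * ((y : Ω) * z * (y : Ω)⁻¹) * g := by group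
        _ = (y : Ω)⁻¹ * (g * z * g⁻¹) * g := by rw [h3]
        _ = (y : Ω)⁻¹ * g * z := by group
    have h4 : (y : Ω)⁻¹ * g ∈ P := hcen.2 P (isConj_refl F hPS) hcent
    have : g = (y : Ω) * ((y : Ω)⁻¹ * g) := by group
    rw [this]
    exact P.mul_mem y.2 h4
  -- hence `P = P ⊔ Q`
  by_contra hQP
  have hne : P ≠ P ⊔ Q := by
    intro h
    apply hQP
    rw [h]
    exact le_sup_right
  obtain ⟨x, hxN, hxP⟩ := exists_mem_normalizerIn_not_mem (S := P ⊔ Q) hpPQ le_sup_left hne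
  exact hxP (hNP x hxN)

/-- **Normality criterion via essential subgroups** (one direction): if `Q` is contained in `S` and every essential
subgroup and is invariant under `Aut_F(P)` for `P = S` and `P` essential, then `Q` is normal in the saturated system. -/
theorem isNormal_of_forall_essential (F : FusionSystem S) [Finite S] {p : ℕ} [Fact p.Prime] (hS : IsPGroup p S)
    (hF : F.IsSaturated p) (Q : Subgroup Ω)
    (h : ∀ P : Subgroup Ω, (P = S ∨ F.IsEssential p P) →
      (Q ≤ P ∧ ∀ α ∈ F.autGroup P, (Q.subgroupOf P).map α.toMonoidHom = Q.subgroupOf P)) :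
    F.IsNormal Q := by
  have hQS : Q ≤ S := (h S (Or.inl rfl)).1
  -- `S` normalizes `Q`
  have hSN : S ≤ normalizerIn S Q := by
    intro g hg
    refine ⟨hg, ?_⟩
    show g ∈ Subgroup.normalizer (Q : Set Ω)
    have hinv : ∀ k ∈ S, ∀ x ∈ Q, k * x * k⁻¹ ∈ Q := by
      intro k hk x hx
      have hk' : conjAut S k (Subgroup.le_normalizer hk) ∈ F.autGroup S :=
        autInducedBy_le_autGroup F le_rfl (mem_autInducedBy_iff.2 ⟨k, hk, fun _ => rfl⟩)
      have h1 := (h S (Or.inl rfl)).2 _ hk'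
      have h2 : (conjAut S k (Subgroup.le_normalizer hk)) ⟨x, hQS hx⟩ ∈ Q.subgroupOf S := by
        rw [← h1]
        exact ⟨⟨x, hQS hx⟩, hx, rfl⟩
      exact h2
    rw [Subgroup.mem_normalizer_iff]
    intro x
    constructor
    · exact hinv g hg x
    · intro hx
      have := hinv g⁻¹ (S.inv_mem hg) _ hx
      have e : g⁻¹ * (g * x * g⁻¹) * g⁻¹⁻¹ = x := by group
      rwa [e] at this
  have key := alperin_goldschmidt' F (normalizerSystem F Q hQS) hS hF (by
    intro P hP α hα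
    obtain ⟨hQP, hinv⟩ := h P hP
    have hPS : P ≤ S := by
      rcases hP with rfl | hess
      · exact le_rfl
      · exact hess.1.1
    have hφ : P.subtype.comp α.toMonoidHom ∈ F.Hom P := (mem_autGroup_iff F hPS).1 hα
    show P.subtype.comp (α : P ≃* P).toMonoidHom ∈ F.normalizerHom Q P
    have hsup : P = P ⊔ Q := (sup_eq_left.mpr hQP).symm
    refine ⟨hφ, hPS.trans hSN, fun x => hSN (hPS (α x).2),
      (P.subtype.comp α.toMonoidHom).comp (MulEquiv.subgroupCongr hsup.symm).toMonoidHom, ?_, ?_, ?_⟩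
    · exact hom_of_eq_on F hsup hφ (fun x hx hx' => rfl)
    · intro x
      rfl
    · rw [map_subgroupOf_eq_iff]
      have hα' := hinv α hα
      constructor
      · intro x hx
        have hxP : (x : Ω) ∈ P := hQP hx
        have h2 : α ⟨(x : Ω), hxP⟩ ∈ Q.subgroupOf P := by
          rw [← hα']
          exact ⟨⟨(x : Ω), hxP⟩, hx, rfl⟩
        exact h2
      · intro q hq
        have h2 : (⟨q, hQP hq⟩ : P) ∈ (Q.subgroupOf P).map α.toMonoidHom := by
          rw [hα']
          exact hq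
        obtain ⟨x, hx, hxq⟩ := h2
        refine ⟨⟨(x : Ω), (le_sup_left : P ≤ P ⊔ Q) x.2⟩, hx, ?_⟩
        exact congrArg Subtype.val hxq)
  refine ⟨hQS, fun P φ hφ => ?_⟩
  obtain ⟨-, -, -, ψ, hψ, hψ1, hψ2⟩ := key P hφ
  exact ⟨ψ, hψ, hψ1, hψ2⟩

end Cfsg.Agent.Lib.Helper84
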