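/-
helper84: the group-theoretic core of the model theorem for constrained fusion systems.

Let `𝕊` be a finite group, `X` a finite `(𝕊 × 𝕊)`-set ("biset": `(a, b) • ξ = a ξ b⁻¹`) with a map `π : X → Γ` to a
group `Γ`, equivariant for a homomorphism `c : 𝕊 →* Γ`, whose fibres are the orbits of `Z = ker c` acting on the
left (freely).  We form the group `NG` of permutations of `X` commuting with the right action and covering left
translations of `Γ`, the homomorphism `β : NG →* Γ`, its kernel (a product of copies of `Z`), the product map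
`ν : ker β →* Z`, and the quotient `NG ⧸ ker ν`.  All declarations live in `Cfsg.Agent.Lib.Helper84.Model`.
-/
import Mathlib

set_option autoImplicit false

namespace Cfsg.Agent.Lib.Helper84.Model

open MulAction

universe u v w

/-- The data of a "biset over a group". -/
structure BisetData (𝕊 : Type u) (Γ : Type v) (X : Type w) [Group 𝕊] [Group Γ]
    [MulAction (𝕊 × 𝕊) X] where
  c : 𝕊 →* Γ
  π : X → Γ
  Qs : Subgroup 𝕊
  act : Γ →* MulAut Qs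
  π_smul : ∀ (a b : 𝕊) (ξ : X), π ((a, b) • ξ) = c a * π ξ * (c b)⁻¹
  π_surj : Function.Surjective π
  fiber : ∀ ξ η : X, π ξ = π η → ∃ z : 𝕊, c z = 1 ∧ η = (z, (1 : 𝕊)) • ξ
  left_free : ∀ (a : 𝕊) (ξ : X), (a, (1 : 𝕊)) • ξ = ξ → a = 1
  ker_le : ∀ z : 𝕊, c z = 1 → z ∈ Qs
  ker_comm : ∀ z z' : 𝕊, c z = 1 → c z' = 1 → z * z' = z' * z
  left_right : ∀ (y : Qs) (ξ : X),
    ((y : 𝕊), (1 : 𝕊)) • ξ = ((1 : 𝕊), (((act (π ξ)⁻¹ y : Qs) : 𝕊))⁻¹) • ξ
  c_act : ∀ (γ : Γ) (y : Qs), c ((act γ y : Qs) : 𝕊) = γ * c y * γ⁻¹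
  faithful : ∀ γ : Γ, (∀ y : Qs, act γ y = y) → γ = 1

namespace BisetData

variable {𝕊 : Type u} {Γ : Type v} {X : Type w} [Group 𝕊] [Group Γ] [MulAction (𝕊 × 𝕊) X]
variable (D : BisetData 𝕊 Γ X)

/-- The kernel of `c` is commutative. -/
instance kerCommGroup : CommGroup D.c.ker :=
  { (inferInstance : Group D.c.ker) with
    mul_comm := fun a b => Subtype.ext (D.ker_comm a b a.2 b.2) }

omit D in
theorem smul_left_right (a b : 𝕊) (ξ : X) :
    ((a, (1 : 𝕊)) : 𝕊 × 𝕊) • ((1 : 𝕊), b) • ξ = ((1 : 𝕊), b) • ((a, (1 : 𝕊)) : 𝕊 × 𝕊) • ξ := by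
  rw [smul_smul, smul_smul, Prod.mk_mul_mk, Prod.mk_mul_mk, one_mul, mul_one, one_mul, mul_one]

variable (𝕊 X) in
/-- the orbit relation of the right action -/
def rSetoid : Setoid X where
  r ξ η := ∃ b : 𝕊, ((1 : 𝕊), b) • ξ = η
  iseqv := by
    refine ⟨fun ξ => ⟨1, one_smul _ ξ⟩, ?_, ?_⟩
    · rintro ξ η ⟨b, rfl⟩
      refine ⟨b⁻¹, ?_⟩
      rw [smul_smul, Prod.mk_mul_mk, one_mul, inv_mul_cancel]
      exact one_smul _ ξ
    · rintro ξ η θ ⟨b, rfl⟩ ⟨b', rfl⟩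
      refine ⟨b' * b, ?_⟩
      rw [smul_smul, Prod.mk_mul_mk, one_mul]

variable (𝕊 X) in
/-- the set of right orbits -/
abbrev Orb : Type w := Quotient (rSetoid 𝕊 X)

/-- permutations of `X` commuting with the right action and covering a left translation of `Γ` -/
def NG : Subgroup (Equiv.Perm X) where
  carrier := {e | (∀ (b : 𝕊) (ξ : X), e (((1 : 𝕊), b) • ξ) = ((1 : 𝕊), b) • e ξ) ∧
    ∃ β : Γ, ∀ ξ : X, D.π (e ξ) = β * D.π ξ}
  mul_mem' := by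
    rintro e e' ⟨h1, β, h2⟩ ⟨h1', β', h2'⟩
    refine ⟨fun b ξ => ?_, β * β', fun ξ => ?_⟩
    · rw [Equiv.Perm.mul_apply, Equiv.Perm.mul_apply, h1', h1]
    · rw [Equiv.Perm.mul_apply, h2, h2', mul_assoc]
  one_mem' := ⟨fun _ _ => rfl, 1, fun ξ => by rw [one_mul]; rfl⟩
  inv_mem' := by
    rintro e ⟨h1, β, h2⟩
    refine ⟨fun b ξ => ?_, β⁻¹, fun ξ => ?_⟩
    · apply e.injective
      rw [h1, Equiv.Perm.inv_def, Equiv.apply_symm_apply, Equiv.apply_symm_apply]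
    · have := h2 (e⁻¹ ξ)
      rw [Equiv.Perm.inv_def, Equiv.apply_symm_apply] at this
      rw [Equiv.Perm.inv_def, this, inv_mul_cancel_left]

theorem NG_right (e : D.NG) (b : 𝕊) (ξ : X) :
    (e : Equiv.Perm X) (((1 : 𝕊), b) • ξ) = ((1 : 𝕊), b) • (e : Equiv.Perm X) ξ := e.2.1 b ξ

/-- the element of `Γ` covered by `e` -/
noncomputable def betaFun (e : D.NG) : Γ := Classical.choose e.2.2

theorem betaFun_spec (e : D.NG) (ξ : X) : D.π ((e : Equiv.Perm X) ξ) = D.betaFun e * D.π ξ :=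
  Classical.choose_spec e.2.2 ξ

theorem betaFun_eq (e : D.NG) (β : Γ) (ξ : X) (h : D.π ((e : Equiv.Perm X) ξ) = β * D.π ξ) :
    D.betaFun e = β := by
  have := D.betaFun_spec e ξ
  rw [h] at this
  exact (mul_right_cancel this).symm

/-- the homomorphism `NG →* Γ` -/
noncomputable def beta : D.NG →* Γ :=
  MonoidHom.mk' D.betaFun (fun e e' => by
    obtain ⟨ξ, -⟩ := D.π_surj 1
    apply D.betaFun_eq _ _ ξ
    change D.π ((e : Equiv.Perm X) ((e' : Equiv.Perm X) ξ)) = _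
    rw [D.betaFun_spec, D.betaFun_spec, mul_assoc])

theorem beta_spec (e : D.NG) (ξ : X) : D.π ((e : Equiv.Perm X) ξ) = D.beta e * D.π ξ :=
  D.betaFun_spec e ξ

theorem beta_eq (e : D.NG) (β : Γ) (ξ : X) (h : D.π ((e : Equiv.Perm X) ξ) = β * D.π ξ) :
    D.beta e = β := D.betaFun_eq e β ξ h

/-- left multiplication -/
def iota₀ : 𝕊 →* D.NG :=
  MonoidHom.codRestrict ((MulAction.toPermHom (𝕊 × 𝕊) X).comp (MonoidHom.inl 𝕊 𝕊)) D.NG (by
    intro s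
    refine ⟨fun b ξ => ?_, D.c s, fun ξ => ?_⟩
    · exact smul_left_right s b ξ
    · change D.π (((s, (1 : 𝕊)) : 𝕊 × 𝕊) • ξ) = _
      rw [D.π_smul, map_one, inv_one, mul_one])

theorem iota₀_apply (s : 𝕊) (ξ : X) :
    ((D.iota₀ s : D.NG) : Equiv.Perm X) ξ = ((s, (1 : 𝕊)) : 𝕊 × 𝕊) • ξ := rfl

theorem beta_iota₀ (s : 𝕊) : D.beta (D.iota₀ s) = D.c s := by
  obtain ⟨ξ, -⟩ := D.π_surj 1
  apply D.beta_eq _ _ ξ
  rw [iota₀_apply, D.π_smul, map_one, inv_one, mul_one]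


/-! ### The kernel of `β` -/

theorem exists_zeta (e : D.beta.ker) (ξ : X) :
    ∃ z : D.c.ker, ((e : D.NG) : Equiv.Perm X) ξ = (((z : 𝕊), (1 : 𝕊)) : 𝕊 × 𝕊) • ξ := by
  have h : D.π ξ = D.π (((e : D.NG) : Equiv.Perm X) ξ) := by
    rw [D.beta_spec, (MonoidHom.mem_ker).1 e.2, one_mul]
  obtain ⟨z, hz, h2⟩ := D.fiber _ _ h
  exact ⟨⟨z, hz⟩, h2⟩

/-- the element of `Z` by which `e` translates the point `ξ` -/
noncomputable def zeta (e : D.beta.ker) (ξ : X) : D.c.ker := Classical.choose (D.exists_zeta e ξ)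

theorem zeta_spec (e : D.beta.ker) (ξ : X) :
    ((e : D.NG) : Equiv.Perm X) ξ = (((D.zeta e ξ : 𝕊), (1 : 𝕊)) : 𝕊 × 𝕊) • ξ :=
  Classical.choose_spec (D.exists_zeta e ξ)

include D in
theorem eq_of_smul_eq {a a' : 𝕊} {ξ : X}
    (h : ((a, (1 : 𝕊)) : 𝕊 × 𝕊) • ξ = ((a', (1 : 𝕊)) : 𝕊 × 𝕊) • ξ) : a = a' := by
  have h1 : ((a'⁻¹ * a, (1 : 𝕊)) : 𝕊 × 𝕊) • ξ = ξ := by
    have e : ((a'⁻¹ * a, (1 : 𝕊)) : 𝕊 × 𝕊) = (a'⁻¹, (1 : 𝕊)) * (a, (1 : 𝕊)) := by
      rw [Prod.mk_mul_mk, one_mul]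
    rw [e, mul_smul, h, smul_smul, Prod.mk_mul_mk, one_mul, inv_mul_cancel]
    exact one_smul _ ξ
  have := D.left_free _ _ h1
  exact (inv_mul_eq_one.1 this).symm

theorem zeta_eq (e : D.beta.ker) (ξ : X) (z : D.c.ker)
    (h : ((e : D.NG) : Equiv.Perm X) ξ = (((z : 𝕊), (1 : 𝕊)) : 𝕊 × 𝕊) • ξ) : D.zeta e ξ = z := by
  apply Subtype.ext
  apply D.eq_of_smul_eq (ξ := ξ)
  rw [← D.zeta_spec, h]

theorem zeta_smul_right (e : D.beta.ker) (b : 𝕊) (ξ : X) :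
    D.zeta e (((1 : 𝕊), b) • ξ) = D.zeta e ξ := by
  apply D.zeta_eq
  rw [D.NG_right, D.zeta_spec e ξ, smul_left_right]

/-- left translation by an element of `Z` as a right translation -/
theorem ker_left_right (z : D.c.ker) (ξ : X) :
    (((z : 𝕊), (1 : 𝕊)) : 𝕊 × 𝕊) • ξ =
      ((1 : 𝕊), (((D.act (D.π ξ)⁻¹ ⟨(z : 𝕊), D.ker_le _ z.2⟩ : D.Qs) : 𝕊))⁻¹) • ξ :=
  D.left_right ⟨(z : 𝕊), D.ker_le _ z.2⟩ ξ

theorem zeta_mul (e e' : D.beta.ker) (ξ : X) : D.zeta (e * e') ξ = D.zeta e ξ * D.zeta e' ξ := by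
  apply D.zeta_eq
  change ((e : D.NG) : Equiv.Perm X) (((e' : D.NG) : Equiv.Perm X) ξ) = _
  rw [D.zeta_spec e' ξ, D.ker_left_right, D.NG_right, D.zeta_spec e ξ, ← smul_left_right,
    ← D.ker_left_right, smul_smul, Prod.mk_mul_mk, mul_one]
  rfl

/-- `ζ` on right orbits -/
noncomputable def zetaQ (e : D.beta.ker) : Orb 𝕊 X → D.c.ker :=
  Quotient.lift (D.zeta e) (by
    rintro ξ η ⟨b, rfl⟩
    exact (D.zeta_smul_right e b ξ).symm)

theorem zetaQ_mk (e : D.beta.ker) (ξ : X) :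
    D.zetaQ e (Quotient.mk (rSetoid 𝕊 X) ξ) = D.zeta e ξ := rfl

theorem zetaQ_mul (e e' : D.beta.ker) (o : Orb 𝕊 X) :
    D.zetaQ (e * e') o = D.zetaQ e o * D.zetaQ e' o := by
  induction o using Quotient.inductionOn with
  | h ξ => exact D.zeta_mul e e' ξ

set_option linter.unusedSectionVars false

variable [Finite X]

noncomputable instance : Fintype (Orb 𝕊 X) := Fintype.ofFinite _

/-- the product map `ker β →* Z` -/
noncomputable def nu : D.beta.ker →* D.c.ker :=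
  MonoidHom.mk' (fun e => ∏ o : Orb 𝕊 X, D.zetaQ e o) (fun e e' => by
    rw [← Finset.prod_mul_distrib]
    exact Finset.prod_congr rfl (fun o _ => D.zetaQ_mul e e' o))

theorem nu_apply (e : D.beta.ker) : D.nu e = ∏ o : Orb 𝕊 X, D.zetaQ e o := rfl


/-! ### The action of `Γ` on `Z` and conjugation in `NG` -/

/-- the action of `Γ` on `Z = ker c` -/
def actK (γ : Γ) : D.c.ker →* D.c.ker where
  toFun z := ⟨((D.act γ ⟨(z : 𝕊), D.ker_le _ z.2⟩ : D.Qs) : 𝕊), by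
    rw [MonoidHom.mem_ker, D.c_act]
    have : D.c ((⟨(z : 𝕊), D.ker_le _ z.2⟩ : D.Qs) : 𝕊) = 1 := z.2
    rw [this, mul_one, mul_inv_cancel]⟩
  map_one' := by
    apply Subtype.ext
    have : (⟨((1 : D.c.ker) : 𝕊), D.ker_le _ (1 : D.c.ker).2⟩ : D.Qs) = 1 := rfl
    change ((D.act γ ⟨((1 : D.c.ker) : 𝕊), _⟩ : D.Qs) : 𝕊) = 1
    rw [this, map_one]; rfl
  map_mul' := by
    intro a b
    apply Subtype.ext
    have : (⟨((a * b : D.c.ker) : 𝕊), D.ker_le _ (a * b).2⟩ : D.Qs) =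
        ⟨(a : 𝕊), D.ker_le _ a.2⟩ * ⟨(b : 𝕊), D.ker_le _ b.2⟩ := rfl
    change ((D.act γ ⟨((a * b : D.c.ker) : 𝕊), _⟩ : D.Qs) : 𝕊) = _
    rw [this, map_mul]; rfl

theorem coe_actK (γ : Γ) (z : D.c.ker) :
    ((D.actK γ z : D.c.ker) : 𝕊) = ((D.act γ ⟨(z : 𝕊), D.ker_le _ z.2⟩ : D.Qs) : 𝕊) := rfl

theorem actK_sub (γ : Γ) (z : D.c.ker) :
    (⟨((D.actK γ z : D.c.ker) : 𝕊), D.ker_le _ (D.actK γ z).2⟩ : D.Qs) =
      D.act γ ⟨(z : 𝕊), D.ker_le _ z.2⟩ := rfl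

theorem act_inv_act (γ : Γ) (y : D.Qs) : D.act γ⁻¹ (D.act γ y) = y := by
  rw [← MulAut.mul_apply, ← map_mul, inv_mul_cancel, map_one]; rfl

theorem act_mul_inv_act (γ δ : Γ) (y : D.Qs) : D.act (γ * δ)⁻¹ (D.act γ y) = D.act δ⁻¹ y := by
  rw [mul_inv_rev, map_mul, MulAut.mul_apply, act_inv_act]

omit D in
theorem one_one_smul (ξ : X) : (((1 : 𝕊), (1 : 𝕊)) : 𝕊 × 𝕊) • ξ = ξ := one_smul _ ξ

/-- conjugation of `ι₀(Q)` inside `NG` -/
theorem conj_iota₀ (g : D.NG) (y : D.Qs) :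
    g * D.iota₀ (y : 𝕊) * g⁻¹ = D.iota₀ ((D.act (D.beta g) y : D.Qs) : 𝕊) := by
  apply Subtype.ext
  apply Equiv.ext
  intro η
  obtain ⟨ξ, rfl⟩ := (g : Equiv.Perm X).surjective η
  change (g : Equiv.Perm X) (((D.iota₀ (y : 𝕊) : D.NG) : Equiv.Perm X)
    ((g : Equiv.Perm X)⁻¹ ((g : Equiv.Perm X) ξ))) = _
  rw [Equiv.Perm.inv_def, Equiv.symm_apply_apply, iota₀_apply, iota₀_apply, D.left_right, D.NG_right,
    D.left_right, D.beta_spec, D.act_mul_inv_act]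

theorem conj_mem_ker (g : D.NG) (e : D.beta.ker) : g * (e : D.NG) * g⁻¹ ∈ D.beta.ker := by
  rw [MonoidHom.mem_ker, map_mul, map_mul, (MonoidHom.mem_ker).1 e.2, mul_one, map_inv, mul_inv_cancel]

theorem zeta_conj (g : D.NG) (e : D.beta.ker) (ξ : X) :
    D.zeta ⟨g * (e : D.NG) * g⁻¹, D.conj_mem_ker g e⟩ ((g : Equiv.Perm X) ξ) =
      D.actK (D.beta g) (D.zeta e ξ) := by
  apply D.zeta_eq
  change (g : Equiv.Perm X) (((e : D.NG) : Equiv.Perm X)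
    ((g : Equiv.Perm X)⁻¹ ((g : Equiv.Perm X) ξ))) = _
  rw [Equiv.Perm.inv_def, Equiv.symm_apply_apply, D.zeta_spec e ξ, D.ker_left_right, D.NG_right,
    D.ker_left_right, D.beta_spec, D.actK_sub, D.act_mul_inv_act]

/-- the permutation of right orbits induced by an element of `NG` -/
noncomputable def orbEquiv (g : D.NG) : Orb 𝕊 X ≃ Orb 𝕊 X where
  toFun := Quotient.map (g : Equiv.Perm X) (by
    rintro ξ η ⟨b, rfl⟩
    exact ⟨b, (D.NG_right g b ξ).symm⟩)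
  invFun := Quotient.map ((g⁻¹ : D.NG) : Equiv.Perm X) (by
    rintro ξ η ⟨b, rfl⟩
    exact ⟨b, (D.NG_right g⁻¹ b ξ).symm⟩)
  left_inv := by
    intro o
    induction o using Quotient.inductionOn with
    | h ξ =>
      apply Quotient.sound
      refine ⟨1, ?_⟩
      rw [one_one_smul]
      change (g : Equiv.Perm X)⁻¹ ((g : Equiv.Perm X) ξ) = ξ
      rw [Equiv.Perm.inv_def, Equiv.symm_apply_apply]
  right_inv := by
    intro o
    induction o using Quotient.inductionOn with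
    | h ξ =>
      apply Quotient.sound
      refine ⟨1, ?_⟩
      rw [one_one_smul]
      change (g : Equiv.Perm X) ((g : Equiv.Perm X)⁻¹ ξ) = ξ
      rw [Equiv.Perm.inv_def, Equiv.apply_symm_apply]

theorem nu_conj (g : D.NG) (e : D.beta.ker) :
    D.nu ⟨g * (e : D.NG) * g⁻¹, D.conj_mem_ker g e⟩ = D.actK (D.beta g) (D.nu e) := by
  rw [nu_apply, nu_apply, map_prod, ← Equiv.prod_comp (D.orbEquiv g)]
  refine Finset.prod_congr rfl (fun o _ => ?_)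
  induction o using Quotient.inductionOn with
  | h ξ => exact D.zeta_conj g e ξ

/-- the kernel of `ν`, as a subgroup of `NG` -/
noncomputable def K : Subgroup D.NG := D.nu.ker.map D.beta.ker.subtype

theorem mem_K_iff (g : D.NG) : g ∈ D.K ↔ ∃ h : g ∈ D.beta.ker, D.nu ⟨g, h⟩ = 1 := by
  constructor
  · rintro ⟨e, he, rfl⟩
    exact ⟨e.2, he⟩
  · rintro ⟨h, h1⟩
    exact ⟨⟨g, h⟩, h1, rfl⟩

instance K_normal : D.K.Normal := by
  constructor
  intro k hk g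
  obtain ⟨h, h1⟩ := (D.mem_K_iff k).1 hk
  rw [mem_K_iff]
  refine ⟨D.conj_mem_ker g ⟨k, h⟩, ?_⟩
  rw [D.nu_conj g ⟨k, h⟩, h1, map_one]

/-- the model group -/
abbrev G : Type w := D.NG ⧸ D.K

/-- the embedding of `𝕊` -/
noncomputable def iota : 𝕊 →* D.G := (QuotientGroup.mk' D.K).comp D.iota₀

theorem iota₀_mem_ker (z : D.c.ker) : D.iota₀ (z : 𝕊) ∈ D.beta.ker := by
  rw [MonoidHom.mem_ker, beta_iota₀]
  exact z.2

theorem zeta_iota₀ (z : D.c.ker) (ξ : X) : D.zeta ⟨D.iota₀ (z : 𝕊), D.iota₀_mem_ker z⟩ ξ = z := by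
  apply D.zeta_eq
  rfl

theorem nu_iota₀ (z : D.c.ker) :
    D.nu ⟨D.iota₀ (z : 𝕊), D.iota₀_mem_ker z⟩ = z ^ Nat.card (Orb 𝕊 X) := by
  rw [nu_apply, Nat.card_eq_fintype_card, ← Finset.card_univ, ← Finset.prod_const]
  refine Finset.prod_congr rfl (fun o _ => ?_)
  induction o using Quotient.inductionOn with
  | h ξ => exact D.zeta_iota₀ z ξ


/-! ### The main properties of the quotient -/

theorem iota_injective (hcop : (Nat.card D.c.ker).Coprime (Nat.card (Orb 𝕊 X))) :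
    Function.Injective D.iota := by
  rw [injective_iff_map_eq_one]
  intro s hs
  have h1 : D.iota₀ s ∈ D.K := (QuotientGroup.eq_one_iff _).1 hs
  obtain ⟨h2, h3⟩ := (D.mem_K_iff _).1 h1
  have hz : s ∈ D.c.ker := by
    rw [MonoidHom.mem_ker, ← beta_iota₀]; exact h2
  have h4 := D.nu_iota₀ ⟨s, hz⟩
  have h5 : (⟨s, hz⟩ : D.c.ker) ^ Nat.card (Orb 𝕊 X) = 1 := by
    rw [← h4]; exact h3
  have h6 : (powCoprime hcop) ⟨s, hz⟩ = (powCoprime hcop) 1 := by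
    rw [powCoprime_apply, powCoprime_apply, h5, one_pow]
  exact congrArg Subtype.val ((powCoprime hcop).injective h6)

/-- modulo `K`, the kernel of `β` is the image of `Z` -/
theorem mk_eq_iota_of_mem_ker (hcop : (Nat.card D.c.ker).Coprime (Nat.card (Orb 𝕊 X)))
    (e : D.NG) (he : e ∈ D.beta.ker) : ∃ z : D.c.ker, (QuotientGroup.mk' D.K e : D.G) = D.iota z := by
  let z : D.c.ker := (powCoprime hcop).symm (D.nu ⟨e, he⟩)
  have hz : z ^ Nat.card (Orb 𝕊 X) = D.nu ⟨e, he⟩ := by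
    have := (powCoprime hcop).apply_symm_apply (D.nu ⟨e, he⟩)
    rwa [powCoprime_apply] at this
  refine ⟨z, ?_⟩
  change _ = QuotientGroup.mk' D.K (D.iota₀ (z : 𝕊))
  rw [eq_comm, QuotientGroup.mk'_eq_mk']
  refine ⟨(D.iota₀ (z : 𝕊))⁻¹ * e, ?_, by rw [mul_inv_cancel_left]⟩
  rw [mem_K_iff]
  refine ⟨D.beta.ker.mul_mem (D.beta.ker.inv_mem (D.iota₀_mem_ker z)) he, ?_⟩
  have e1 : (⟨(D.iota₀ (z : 𝕊))⁻¹ * e, D.beta.ker.mul_mem (D.beta.ker.inv_mem (D.iota₀_mem_ker z)) he⟩ :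
      D.beta.ker) = (⟨D.iota₀ (z : 𝕊), D.iota₀_mem_ker z⟩ : D.beta.ker)⁻¹ * ⟨e, he⟩ := rfl
  rw [e1, map_mul, map_inv, D.nu_iota₀, hz, inv_mul_cancel]

theorem mk_eq_iota_mul (hcop : (Nat.card D.c.ker).Coprime (Nat.card (Orb 𝕊 X)))
    (e Θ : D.NG) (h : D.beta e = D.beta Θ) :
    ∃ z : D.c.ker, (QuotientGroup.mk' D.K e : D.G) = D.iota z * QuotientGroup.mk' D.K Θ := by
  have he : e * Θ⁻¹ ∈ D.beta.ker := by
    rw [MonoidHom.mem_ker, map_mul, map_inv, h, mul_inv_cancel]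
  obtain ⟨z, hz⟩ := D.mk_eq_iota_of_mem_ker hcop _ he
  refine ⟨z, ?_⟩
  rw [← hz, ← map_mul, inv_mul_cancel_right]

theorem conj_iota (e : D.NG) (y : D.Qs) :
    (QuotientGroup.mk' D.K e : D.G) * D.iota (y : 𝕊) * (QuotientGroup.mk' D.K e : D.G)⁻¹ =
      D.iota ((D.act (D.beta e) y : D.Qs) : 𝕊) := by
  change _ = QuotientGroup.mk' D.K (D.iota₀ _)
  rw [← D.conj_iota₀, map_mul, map_mul, map_inv]
  rfl

/-- the centralizer of the image of `Q` is the image of `Z` -/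
theorem exists_eq_iota_of_commute (hcop : (Nat.card D.c.ker).Coprime (Nat.card (Orb 𝕊 X)))
    (g : D.G) (h : ∀ y : D.Qs, g * D.iota (y : 𝕊) = D.iota (y : 𝕊) * g) :
    ∃ z : D.c.ker, g = D.iota z := by
  obtain ⟨e, rfl⟩ := QuotientGroup.mk'_surjective D.K g
  have h1 : ∀ y : D.Qs, D.act (D.beta e) y = y := by
    intro y
    apply Subtype.ext
    apply D.iota_injective hcop
    rw [← D.conj_iota, h y, mul_inv_cancel_right]
  have h2 : D.beta e = 1 := D.faithful _ h1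
  exact D.mk_eq_iota_of_mem_ker hcop e h2

theorem comap_range_iota (hcop : (Nat.card D.c.ker).Coprime (Nat.card (Orb 𝕊 X))) :
    D.iota.range.comap (QuotientGroup.mk' D.K) = D.c.range.comap D.beta := by
  ext g
  rw [Subgroup.mem_comap, Subgroup.mem_comap]
  constructor
  · rintro ⟨s, hs⟩
    have h1 : (D.iota₀ s)⁻¹ * g ∈ D.K := by
      have h2 : QuotientGroup.mk' D.K (D.iota₀ s) = QuotientGroup.mk' D.K g := hs
      rw [QuotientGroup.mk'_eq_mk'] at h2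
      obtain ⟨k, hk, rfl⟩ := h2
      rwa [inv_mul_cancel_left]
    obtain ⟨h3, -⟩ := (D.mem_K_iff _).1 h1
    rw [MonoidHom.mem_ker, map_mul, map_inv, beta_iota₀, inv_mul_eq_one] at h3
    exact ⟨s, h3⟩
  · rintro ⟨s, hs⟩
    have h1 : D.beta g = D.beta (D.iota₀ s) := by rw [beta_iota₀, hs]
    obtain ⟨z, hz⟩ := D.mk_eq_iota_mul hcop g (D.iota₀ s) h1
    refine ⟨(z : 𝕊) * s, ?_⟩
    rw [map_mul, hz]
    rfl

theorem index_range_iota (hcop : (Nat.card D.c.ker).Coprime (Nat.card (Orb 𝕊 X)))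
    (hsurj : Function.Surjective D.beta) : D.iota.range.index = D.c.range.index := by
  rw [← Subgroup.index_comap_of_surjective D.iota.range (QuotientGroup.mk'_surjective D.K),
    D.comap_range_iota hcop, Subgroup.index_comap_of_surjective _ hsurj]


/-- the right orbits correspond to the cosets of the image of `c` -/
theorem card_orb : Nat.card (Orb 𝕊 X) = D.c.range.index := by
  let f : Orb 𝕊 X → Γ ⧸ D.c.range :=
    Quotient.lift (fun ξ => (QuotientGroup.mk (D.π ξ) : Γ ⧸ D.c.range)) (by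
      rintro ξ η ⟨b, rfl⟩
      change (QuotientGroup.mk (D.π ξ) : Γ ⧸ D.c.range) = QuotientGroup.mk (D.π (((1 : 𝕊), b) • ξ))
      rw [QuotientGroup.eq, D.π_smul, map_one, one_mul, inv_mul_cancel_left]
      exact D.c.range.inv_mem ⟨b, rfl⟩)
  have hinj : Function.Injective f := by
    intro o o' h
    induction o using Quotient.inductionOn with
    | h ξ =>
    induction o' using Quotient.inductionOn with
    | h η =>
      have h1 : (QuotientGroup.mk (D.π ξ) : Γ ⧸ D.c.range) = QuotientGroup.mk (D.π η) := h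
      rw [QuotientGroup.eq] at h1
      obtain ⟨s, hs⟩ := h1
      have h2 : D.π (((1 : 𝕊), s⁻¹) • ξ) = D.π η := by
        rw [D.π_smul, map_one, one_mul, map_inv, inv_inv, hs, mul_inv_cancel_left]
      obtain ⟨z, hz, h3⟩ := D.fiber _ _ h2
      apply Quotient.sound
      have h4 := D.ker_left_right ⟨z, hz⟩ (((1 : 𝕊), s⁻¹) • ξ)
      change ((z, (1 : 𝕊)) : 𝕊 × 𝕊) • ((1 : 𝕊), s⁻¹) • ξ = _ at h4
      rw [h4, smul_smul, Prod.mk_mul_mk, one_mul] at h3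
      exact ⟨_, h3.symm⟩
  have hsurj : Function.Surjective f := by
    intro q
    obtain ⟨γ, rfl⟩ := QuotientGroup.mk_surjective q
    obtain ⟨ξ, rfl⟩ := D.π_surj γ
    exact ⟨Quotient.mk _ ξ, rfl⟩
  exact Nat.card_congr (Equiv.ofBijective f ⟨hinj, hsurj⟩)

end BisetData

end Cfsg.Agent.Lib.Helper84.Model
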