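/-
helper84: a lemma on "twisted" equivariant bijections of a finite set with two actions of a group `H`, used for the
model theorem.  All declarations live in `Cfsg.Agent.Lib.Helper84.Model`.
-/
import Mathlib

set_option autoImplicit false

namespace Cfsg.Agent.Lib.Helper84.Model

/-- Let `H` act on the finite set `X` in two ways `ρ`, `ρ'`, with maps `π, π' : X → B` compatible with the two actions.
If `π`-fibres lie in single `ρ`-orbits and every point `ξ` has a partner `ξ'` with `π' ξ' = π ξ` and the same stabilizer, then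
there is a permutation `Θ` of `X` intertwining the two actions and the two maps. -/
theorem exists_twisted_equiv {H : Type*} [Group H] {X : Type*} [Finite X] {B : Type*}
    (ρ ρ' : H →* Equiv.Perm X) (π π' : X → B)
    (hπ : ∀ (h : H) (ξ η : X), π ξ = π' η → π (ρ h ξ) = π' (ρ' h η))
    (hfib : ∀ ξ η : X, π ξ = π η → ∃ h : H, ρ h ξ = η)
    (hpt : ∀ ξ : X, ∃ ξ' : X, π' ξ' = π ξ ∧ ∀ h : H, ρ h ξ = ξ ↔ ρ' h ξ' = ξ') :
    ∃ Θ : Equiv.Perm X, (∀ (h : H) (ξ : X), Θ (ρ h ξ) = ρ' h (Θ ξ)) ∧ ∀ ξ : X, π' (Θ ξ) = π ξ := by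
  classical
  -- the orbit relation of `ρ`
  let s : Setoid X :=
    { r := fun ξ η => ∃ h : H, ρ h ξ = η
      iseqv := by
        refine ⟨fun ξ => ⟨1, by rw [map_one]; rfl⟩, ?_, ?_⟩
        · rintro ξ η ⟨h, rfl⟩
          refine ⟨h⁻¹, ?_⟩
          rw [map_inv, Equiv.Perm.inv_def, Equiv.symm_apply_apply]
        · rintro ξ η θ ⟨h, rfl⟩ ⟨h', rfl⟩
          exact ⟨h' * h, by rw [map_mul]; rfl⟩ }
  let r : X → X := fun ξ => (Quotient.mk s ξ).out
  have hr : ∀ ξ, ∃ h : H, ρ h (r ξ) = ξ := fun ξ => Quotient.exact (Quotient.out_eq (Quotient.mk s ξ))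
  have hr_eq : ∀ ξ η, (∃ h : H, ρ h ξ = η) → r ξ = r η := by
    intro ξ η h
    have : Quotient.mk s ξ = Quotient.mk s η := Quotient.sound h
    change (Quotient.mk s ξ).out = (Quotient.mk s η).out
    rw [this]
  choose hh hhs using hr
  choose p hp1 hp2 using hpt
  -- the key independence statement
  have hstab : ∀ (ξ : X) (h h' : H), ρ h ξ = ρ h' ξ ↔ ρ' h (p ξ) = ρ' h' (p ξ) := by
    intro ξ h h'
    have e1 : ρ h ξ = ρ h' ξ ↔ ρ (h'⁻¹ * h) ξ = ξ := by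
      rw [map_mul, map_inv, Equiv.Perm.mul_apply, Equiv.Perm.inv_def, Equiv.symm_apply_eq]
    have e2 : ρ' h (p ξ) = ρ' h' (p ξ) ↔ ρ' (h'⁻¹ * h) (p ξ) = p ξ := by
      rw [map_mul, map_inv, Equiv.Perm.mul_apply, Equiv.Perm.inv_def, Equiv.symm_apply_eq]
    rw [e1, e2]
    exact hp2 ξ _
  let Θ : X → X := fun ξ => ρ' (hh ξ) (p (r ξ))
  have hΘ : ∀ (h : H) (ξ : X), Θ (ρ h ξ) = ρ' h (Θ ξ) := by
    intro h ξ
    have e1 : r (ρ h ξ) = r ξ := (hr_eq ξ (ρ h ξ) ⟨h, rfl⟩).symm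
    change ρ' (hh (ρ h ξ)) (p (r (ρ h ξ))) = ρ' h (ρ' (hh ξ) (p (r ξ)))
    rw [e1, ← Equiv.Perm.mul_apply, ← map_mul]
    apply (hstab (r ξ) _ _).1
    have e2 := hhs (ρ h ξ)
    rw [e1] at e2
    rw [e2, map_mul, Equiv.Perm.mul_apply, hhs ξ]
  have hΘπ : ∀ ξ : X, π' (Θ ξ) = π ξ := by
    intro ξ
    have e1 := hπ (hh ξ) (r ξ) (p (r ξ)) (hp1 (r ξ)).symm
    rw [hhs ξ] at e1
    exact e1.symm
  have hinj : Function.Injective Θ := by
    intro ξ η h
    have e1 : π ξ = π η := by rw [← hΘπ ξ, ← hΘπ η, h]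
    have e2 : r ξ = r η := hr_eq ξ η (hfib ξ η e1)
    change ρ' (hh ξ) (p (r ξ)) = ρ' (hh η) (p (r η)) at h
    rw [← e2] at h
    have e3 := (hstab (r ξ) _ _).2 h
    rw [hhs ξ, e2, hhs η] at e3
    exact e3
  refine ⟨Equiv.ofBijective Θ (Finite.injective_iff_bijective.1 hinj), hΘ, hΘπ⟩

end Cfsg.Agent.Lib.Helper84.Model
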