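/-
helper84: construction of the model of a constrained fusion system from "graph data" (abstract form).
All declarations live in `Cfsg.Agent.Lib.Helper84.Model`.
-/
import Mathlib
import Cfsg.Agent.Lib.Helper84.ModelCore
import Cfsg.Agent.Lib.Helper84.ModelTwist

set_option autoImplicit false

namespace Cfsg.Agent.Lib.Helper84.Model

open MulAction

universe u

/-- Abstract data extracted from a saturated fusion system with a normal centric subgroup `Q`: the group `Γ = Aut_F(Q)`, the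
conjugation map `c : 𝕊 → Γ`, and for each `γ ∈ Γ` the set `Adm γ` of graphs `{(γ̃ x, x)}` of extensions of `γ` to `N_γ`. -/
structure GraphData (𝕊 : Type u) (Γ : Type u) [Group 𝕊] [Group Γ] where
  c : 𝕊 →* Γ
  Qs : Subgroup 𝕊
  act : Γ →* MulAut Qs
  Adm : Γ → Set (Subgroup (𝕊 × 𝕊))
  ker_le : ∀ z : 𝕊, c z = 1 → z ∈ Qs
  ker_comm : ∀ z z' : 𝕊, c z = 1 → c z' = 1 → z * z' = z' * z
  c_act : ∀ (γ : Γ) (y : Qs), c ((act γ y : Qs) : 𝕊) = γ * c y * γ⁻¹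
  act_c : ∀ (s : 𝕊) (y : Qs), ((act (c s) y : Qs) : 𝕊) = s * y * s⁻¹
  faithful : ∀ γ : Γ, (∀ y : Qs, act γ y = y) → γ = 1
  adm_rel : ∀ γ K, K ∈ Adm γ → ∀ a b : 𝕊, (a, b) ∈ K → c a * γ = γ * c b
  adm_dom : ∀ γ K, K ∈ Adm γ → ∀ b : 𝕊, γ * c b * γ⁻¹ ∈ c.range → ∃ a : 𝕊, (a, b) ∈ K
  adm_inj : ∀ γ K, K ∈ Adm γ → ∀ b : 𝕊, ((1 : 𝕊), b) ∈ K → b = 1
  adm_fun : ∀ γ K, K ∈ Adm γ → ∀ a : 𝕊, (a, (1 : 𝕊)) ∈ K → a = 1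
  adm_ext : ∀ γ K, K ∈ Adm γ → ∀ y : Qs, (((act γ y : Qs) : 𝕊), (y : 𝕊)) ∈ K
  adm_nonempty : ∀ γ, ∃ K, K ∈ Adm γ
  adm_conj : ∀ γ K, K ∈ Adm γ → ∀ a b : 𝕊,
    K.map (MulAut.conj ((a, b) : 𝕊 × 𝕊)).toMonoidHom ∈ Adm (c a * γ * (c b)⁻¹)
  adm_comp : ∀ γ δ K L M, K ∈ Adm γ → L ∈ Adm δ → M ∈ Adm (γ * δ) →
    ∃ z : 𝕊, c z = 1 ∧ ∀ a x b : 𝕊, (a, x) ∈ K → (x, b) ∈ L → (z * a * z⁻¹, b) ∈ M

namespace GraphData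

variable {𝕊 : Type u} {Γ : Type u} [Group 𝕊] [Group Γ] (𝒢 : GraphData 𝕊 Γ)

/-- the double coset relation on `Γ` -/
def dSetoid : Setoid Γ where
  r γ γ' := ∃ a b : 𝕊, γ' = 𝒢.c a * γ * (𝒢.c b)⁻¹
  iseqv := by
    refine ⟨fun γ => ⟨1, 1, by simp⟩, ?_, ?_⟩
    · rintro γ γ' ⟨a, b, rfl⟩
      refine ⟨a⁻¹, b⁻¹, ?_⟩
      simp [mul_assoc]
    · rintro γ γ' γ'' ⟨a, b, rfl⟩ ⟨a', b', rfl⟩
      refine ⟨a' * a, b' * b, ?_⟩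
      simp [mul_assoc]

/-- the index set: double cosets -/
abbrev T : Type u := Quotient 𝒢.dSetoid

/-- the chosen representative of a double coset -/
noncomputable def rep (t : 𝒢.T) : Γ := t.out

/-- the chosen graph over the representative -/
noncomputable def Δ (t : 𝒢.T) : Subgroup (𝕊 × 𝕊) := Classical.choose (𝒢.adm_nonempty (𝒢.rep t))

theorem Δ_mem (t : 𝒢.T) : 𝒢.Δ t ∈ 𝒢.Adm (𝒢.rep t) := Classical.choose_spec (𝒢.adm_nonempty (𝒢.rep t))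

/-- the biset -/
abbrev X : Type u := Σ t : 𝒢.T, (𝕊 × 𝕊) ⧸ 𝒢.Δ t

/-- the map to `Γ` on one summand -/
noncomputable def piAux (t : 𝒢.T) : (𝕊 × 𝕊) ⧸ 𝒢.Δ t → Γ :=
  fun q => Quotient.liftOn' q (fun ab => 𝒢.c ab.1 * 𝒢.rep t * (𝒢.c ab.2)⁻¹) (by
    intro ab ab' h
    rw [QuotientGroup.leftRel_apply] at h
    have h1 := 𝒢.adm_rel _ _ (𝒢.Δ_mem t) _ _ h
    change 𝒢.c (ab⁻¹ * ab').1 * _ = _ * 𝒢.c (ab⁻¹ * ab').2 at h1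
    rw [Prod.fst_mul, Prod.snd_mul, Prod.fst_inv, Prod.snd_inv, map_mul, map_mul, map_inv, map_inv] at h1
    change 𝒢.c ab.1 * 𝒢.rep t * (𝒢.c ab.2)⁻¹ = 𝒢.c ab'.1 * 𝒢.rep t * (𝒢.c ab'.2)⁻¹
    have h2 : 𝒢.c ab'.1 * 𝒢.rep t = 𝒢.c ab.1 * 𝒢.rep t * ((𝒢.c ab.2)⁻¹ * 𝒢.c ab'.2) := by
      rw [mul_assoc (𝒢.c ab.1), ← h1]; group
    rw [h2]; group)

theorem piAux_mk (t : 𝒢.T) (a b : 𝕊) :
    𝒢.piAux t (QuotientGroup.mk ((a, b) : 𝕊 × 𝕊)) = 𝒢.c a * 𝒢.rep t * (𝒢.c b)⁻¹ := rfl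

/-- the map to `Γ` -/
noncomputable def pi : 𝒢.X → Γ := fun ξ => 𝒢.piAux ξ.1 ξ.2

theorem pi_mk (t : 𝒢.T) (a b : 𝕊) :
    𝒢.pi ⟨t, QuotientGroup.mk ((a, b) : 𝕊 × 𝕊)⟩ = 𝒢.c a * 𝒢.rep t * (𝒢.c b)⁻¹ := rfl

theorem smul_mk' (t : 𝒢.T) (a b a' b' : 𝕊) :
    ((a', b') : 𝕊 × 𝕊) • (⟨t, QuotientGroup.mk ((a, b) : 𝕊 × 𝕊)⟩ : 𝒢.X) =
      ⟨t, QuotientGroup.mk ((a' * a, b' * b) : 𝕊 × 𝕊)⟩ := rfl

theorem exists_rep (ξ : 𝒢.X) : ∃ (t : 𝒢.T) (a b : 𝕊), ξ = ⟨t, QuotientGroup.mk ((a, b) : 𝕊 × 𝕊)⟩ := by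
  obtain ⟨t, q⟩ := ξ
  obtain ⟨⟨a, b⟩, rfl⟩ := QuotientGroup.mk_surjective q
  exact ⟨t, a, b, rfl⟩

theorem mk_eq_mk_iff (t : 𝒢.T) (a b a' b' : 𝕊) :
    (⟨t, QuotientGroup.mk ((a, b) : 𝕊 × 𝕊)⟩ : 𝒢.X) = ⟨t, QuotientGroup.mk ((a', b') : 𝕊 × 𝕊)⟩ ↔
      (a⁻¹ * a', b⁻¹ * b') ∈ 𝒢.Δ t := by
  constructor
  · intro h
    have h1 := eq_of_heq (Sigma.mk.inj h).2
    rw [QuotientGroup.eq] at h1
    exact h1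
  · intro h
    congr 1
    rw [QuotientGroup.eq]
    exact h

theorem pi_smul (a b : 𝕊) (ξ : 𝒢.X) : 𝒢.pi (((a, b) : 𝕊 × 𝕊) • ξ) = 𝒢.c a * 𝒢.pi ξ * (𝒢.c b)⁻¹ := by
  obtain ⟨t, a₀, b₀, rfl⟩ := 𝒢.exists_rep ξ
  rw [smul_mk', pi_mk, pi_mk, map_mul, map_mul, mul_inv_rev]
  group

theorem ker_normal (z s : 𝕊) (hz : 𝒢.c z = 1) : 𝒢.c (s * z * s⁻¹) = 1 := by
  rw [map_mul, map_mul, hz, mul_one, map_inv, mul_inv_cancel]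


theorem pi_surj : Function.Surjective 𝒢.pi := by
  intro γ
  have h : 𝒢.dSetoid.r (𝒢.rep (Quotient.mk 𝒢.dSetoid γ)) γ := Quotient.mk_out (s := 𝒢.dSetoid) γ
  obtain ⟨a, b, hab⟩ := h
  exact ⟨⟨Quotient.mk 𝒢.dSetoid γ, QuotientGroup.mk ((a, b) : 𝕊 × 𝕊)⟩, hab.symm⟩

theorem fiber (ξ η : 𝒢.X) (h : 𝒢.pi ξ = 𝒢.pi η) :
    ∃ z : 𝕊, 𝒢.c z = 1 ∧ η = ((z, (1 : 𝕊)) : 𝕊 × 𝕊) • ξ := by
  obtain ⟨t, a, b, rfl⟩ := 𝒢.exists_rep ξ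
  obtain ⟨t', a', b', rfl⟩ := 𝒢.exists_rep η
  rw [pi_mk, pi_mk] at h
  have ht : t = t' := by
    have h1 : 𝒢.dSetoid.r (𝒢.rep t) (𝒢.rep t') := by
      refine ⟨a'⁻¹ * a, b'⁻¹ * b, ?_⟩
      rw [map_mul, map_mul, map_inv, map_inv]
      have : 𝒢.rep t' = (𝒢.c a')⁻¹ * (𝒢.c a' * 𝒢.rep t' * (𝒢.c b')⁻¹) * 𝒢.c b' := by group
      rw [this, ← h]; group
    have h2 : Quotient.mk 𝒢.dSetoid (𝒢.rep t) = Quotient.mk 𝒢.dSetoid (𝒢.rep t') := Quotient.sound h1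
    rwa [rep, rep, Quotient.out_eq, Quotient.out_eq] at h2
  subst ht
  set r := 𝒢.rep t with hr
  have h1 : r * 𝒢.c (b⁻¹ * b') * r⁻¹ = 𝒢.c (a⁻¹ * a') := by
    rw [map_mul, map_mul, map_inv, map_inv]
    calc r * ((𝒢.c b)⁻¹ * 𝒢.c b') * r⁻¹
        = (𝒢.c a)⁻¹ * (𝒢.c a * r * (𝒢.c b)⁻¹) * 𝒢.c b' * r⁻¹ := by group
      _ = (𝒢.c a)⁻¹ * (𝒢.c a' * r * (𝒢.c b')⁻¹) * 𝒢.c b' * r⁻¹ := by rw [h]
      _ = (𝒢.c a)⁻¹ * 𝒢.c a' := by group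
  obtain ⟨v, hv⟩ := 𝒢.adm_dom _ _ (𝒢.Δ_mem t) (b⁻¹ * b') (by rw [← hr, h1]; exact ⟨_, rfl⟩)
  have h2 := 𝒢.adm_rel _ _ (𝒢.Δ_mem t) _ _ hv
  rw [← hr] at h2
  have h3 : 𝒢.c v = 𝒢.c (a⁻¹ * a') := by
    rw [← h1, ← h2]; group
  refine ⟨a' * v⁻¹ * a⁻¹, ?_, ?_⟩
  · rw [map_mul, map_mul, map_inv, map_inv, h3, map_mul, map_inv]; group
  · rw [smul_mk', eq_comm, mk_eq_mk_iff]
    have e1 : (a' * v⁻¹ * a⁻¹ * a)⁻¹ * a' = v := by group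
    rw [e1, one_mul]
    exact hv

theorem left_free (a₀ : 𝕊) (ξ : 𝒢.X) (h : ((a₀, (1 : 𝕊)) : 𝕊 × 𝕊) • ξ = ξ) : a₀ = 1 := by
  obtain ⟨t, a, b, rfl⟩ := 𝒢.exists_rep ξ
  rw [smul_mk', mk_eq_mk_iff, one_mul, inv_mul_cancel] at h
  have h1 := 𝒢.adm_fun _ _ (𝒢.Δ_mem t) _ h
  have h2 : a₀ = a * ((a₀ * a)⁻¹ * a)⁻¹ * a⁻¹ := by group
  rw [h2, h1, inv_one, mul_one, mul_inv_cancel]

theorem act_inv_act (γ : Γ) (y : 𝒢.Qs) : 𝒢.act γ⁻¹ (𝒢.act γ y) = y := by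
  rw [← MulAut.mul_apply, ← map_mul, inv_mul_cancel, map_one]; rfl

theorem left_right (y : 𝒢.Qs) (ξ : 𝒢.X) :
    (((y : 𝕊), (1 : 𝕊)) : 𝕊 × 𝕊) • ξ =
      ((1 : 𝕊), (((𝒢.act (𝒢.pi ξ)⁻¹ y : 𝒢.Qs) : 𝕊))⁻¹) • ξ := by
  obtain ⟨t, a, b, rfl⟩ := 𝒢.exists_rep ξ
  rw [smul_mk', smul_mk', mk_eq_mk_iff, pi_mk]
  simp only [one_mul]
  set r := 𝒢.rep t with hr
  -- the element of `Q` whose pair lies in the graph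
  let y' : 𝒢.Qs := 𝒢.act (r⁻¹ * (𝒢.c a)⁻¹) y⁻¹
  have h1 := 𝒢.adm_ext _ _ (𝒢.Δ_mem t) y'
  rw [← hr] at h1
  have e1 : ((𝒢.act r y' : 𝒢.Qs) : 𝕊) = (↑y * a)⁻¹ * a := by
    have : 𝒢.act r y' = 𝒢.act (𝒢.c a⁻¹) y⁻¹ := by
      change 𝒢.act r (𝒢.act (r⁻¹ * (𝒢.c a)⁻¹) y⁻¹) = _
      rw [← MulAut.mul_apply, ← map_mul, mul_inv_cancel_left, map_inv 𝒢.c]
    rw [this, 𝒢.act_c, Subgroup.coe_inv]; group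
  have e2 : (y' : 𝕊) = b⁻¹ * ((((𝒢.act (𝒢.c a * r * (𝒢.c b)⁻¹)⁻¹ y : 𝒢.Qs) : 𝕊))⁻¹ * b) := by
    have : y' = 𝒢.act (𝒢.c b⁻¹) (𝒢.act (𝒢.c a * r * (𝒢.c b)⁻¹)⁻¹ y⁻¹) := by
      change 𝒢.act (r⁻¹ * (𝒢.c a)⁻¹) y⁻¹ = _
      rw [← MulAut.mul_apply, ← map_mul, map_inv 𝒢.c]
      congr 2
      group
    rw [this, 𝒢.act_c, map_inv, Subgroup.coe_inv, inv_inv, mul_assoc]
  rw [e1, e2] at h1
  exact h1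


/-- the biset data attached to graph data -/
noncomputable def bisetData : BisetData 𝕊 Γ 𝒢.X where
  c := 𝒢.c
  π := 𝒢.pi
  Qs := 𝒢.Qs
  act := 𝒢.act
  π_smul := 𝒢.pi_smul
  π_surj := 𝒢.pi_surj
  fiber := 𝒢.fiber
  left_free := 𝒢.left_free
  ker_le := 𝒢.ker_le
  ker_comm := 𝒢.ker_comm
  left_right := 𝒢.left_right
  c_act := 𝒢.c_act
  faithful := 𝒢.faithful

/-- point stabilizers are admissible graphs -/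
theorem exists_adm_stab (ξ : 𝒢.X) :
    ∃ L ∈ 𝒢.Adm (𝒢.pi ξ), ∀ a b : 𝕊, ((a, b) : 𝕊 × 𝕊) • ξ = ξ ↔ (a, b) ∈ L := by
  obtain ⟨t, a₀, b₀, rfl⟩ := 𝒢.exists_rep ξ
  refine ⟨_, 𝒢.adm_conj _ _ (𝒢.Δ_mem t) a₀ b₀, fun a b => ?_⟩
  rw [smul_mk', mk_eq_mk_iff, Subgroup.mem_map]
  constructor
  · intro h
    refine ⟨((a * a₀)⁻¹ * a₀, (b * b₀)⁻¹ * b₀)⁻¹, (𝒢.Δ t).inv_mem h, ?_⟩
    change ((a₀, b₀) : 𝕊 × 𝕊) * ((a * a₀)⁻¹ * a₀, (b * b₀)⁻¹ * b₀)⁻¹ * ((a₀, b₀) : 𝕊 × 𝕊)⁻¹ = (a, b)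
    rw [Prod.inv_mk, Prod.inv_mk, Prod.mk_mul_mk, Prod.mk_mul_mk]
    congr 1 <;> group
  · rintro ⟨⟨k₁, k₂⟩, hk, hk2⟩
    have hk3 : ((a₀, b₀) : 𝕊 × 𝕊) * (k₁, k₂) * ((a₀, b₀) : 𝕊 × 𝕊)⁻¹ = (a, b) := hk2
    rw [Prod.inv_mk, Prod.mk_mul_mk, Prod.mk_mul_mk, Prod.mk.injEq] at hk3
    obtain ⟨rfl, rfl⟩ := hk3
    have := (𝒢.Δ t).inv_mem hk
    rw [Prod.inv_mk] at this
    convert this using 2 <;> group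

variable [Finite 𝕊] [Finite Γ]

/-- **Twisted automorphisms of the biset**: every admissible graph is realized by an element of `NG`. -/
theorem exists_theta (γ : Γ) (K : Subgroup (𝕊 × 𝕊)) (hK : K ∈ 𝒢.Adm γ) :
    ∃ Θ : 𝒢.bisetData.NG, 𝒢.bisetData.beta Θ = γ ∧
      ∀ a x : 𝕊, (a, x) ∈ K → Θ * 𝒢.bisetData.iota₀ x = 𝒢.bisetData.iota₀ a * Θ := by
  classical
  let ρ : ↥K × 𝕊 →* Equiv.Perm 𝒢.X :=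
    (MulAction.toPermHom (𝕊 × 𝕊) 𝒢.X).comp
      (((MonoidHom.snd 𝕊 𝕊).comp K.subtype).prodMap (MonoidHom.id 𝕊))
  let ρ' : ↥K × 𝕊 →* Equiv.Perm 𝒢.X :=
    (MulAction.toPermHom (𝕊 × 𝕊) 𝒢.X).comp
      (((MonoidHom.fst 𝕊 𝕊).comp K.subtype).prodMap (MonoidHom.id 𝕊))
  have hρ : ∀ (k : ↥K) (b : 𝕊) (ξ : 𝒢.X), ρ (k, b) ξ = (((k : 𝕊 × 𝕊).2, b) : 𝕊 × 𝕊) • ξ :=
    fun _ _ _ => rfl
  have hρ' : ∀ (k : ↥K) (b : 𝕊) (ξ : 𝒢.X), ρ' (k, b) ξ = (((k : 𝕊 × 𝕊).1, b) : 𝕊 × 𝕊) • ξ :=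
    fun _ _ _ => rfl
  have hrel : ∀ k : ↥K, 𝒢.c (k : 𝕊 × 𝕊).1 * γ = γ * 𝒢.c (k : 𝕊 × 𝕊).2 :=
    fun k => 𝒢.adm_rel γ K hK _ _ k.2
  have hA : ∀ (h : ↥K × 𝕊) (ξ η : 𝒢.X), 𝒢.pi ξ = γ⁻¹ * 𝒢.pi η →
      𝒢.pi (ρ h ξ) = γ⁻¹ * 𝒢.pi (ρ' h η) := by
    rintro ⟨k, b⟩ ξ η h
    rw [hρ, hρ', 𝒢.pi_smul, 𝒢.pi_smul, h]
    have := hrel k
    have e : γ⁻¹ * 𝒢.c (k : 𝕊 × 𝕊).1 = 𝒢.c (k : 𝕊 × 𝕊).2 * γ⁻¹ := by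
      rw [inv_mul_eq_iff_eq_mul, ← mul_assoc, ← this, mul_inv_cancel_right]
    calc 𝒢.c (k : 𝕊 × 𝕊).2 * (γ⁻¹ * 𝒢.pi η) * (𝒢.c b)⁻¹
        = (𝒢.c (k : 𝕊 × 𝕊).2 * γ⁻¹) * 𝒢.pi η * (𝒢.c b)⁻¹ := by group
      _ = (γ⁻¹ * 𝒢.c (k : 𝕊 × 𝕊).1) * 𝒢.pi η * (𝒢.c b)⁻¹ := by rw [e]
      _ = γ⁻¹ * (𝒢.c (k : 𝕊 × 𝕊).1 * 𝒢.pi η * (𝒢.c b)⁻¹) := by group
  have hB : ∀ ξ η : 𝒢.X, 𝒢.pi ξ = 𝒢.pi η → ∃ h : ↥K × 𝕊, ρ h ξ = η := by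
    intro ξ η h
    obtain ⟨z, hz, rfl⟩ := 𝒢.fiber ξ η h
    have hzQ : z ∈ 𝒢.Qs := 𝒢.ker_le z hz
    refine ⟨(⟨(((𝒢.act γ ⟨z, hzQ⟩ : 𝒢.Qs) : 𝕊), z), 𝒢.adm_ext γ K hK ⟨z, hzQ⟩⟩, (1 : 𝕊)), ?_⟩
    rw [hρ]
  have hC : ∀ ξ : 𝒢.X, ∃ ξ' : 𝒢.X, γ⁻¹ * 𝒢.pi ξ' = 𝒢.pi ξ ∧
      ∀ h : ↥K × 𝕊, ρ h ξ = ξ ↔ ρ' h ξ' = ξ' := by
    intro ξ
    obtain ⟨L, hL, hLstab⟩ := 𝒢.exists_adm_stab ξ
    obtain ⟨ξ₀, hξ₀⟩ := 𝒢.pi_surj (γ * 𝒢.pi ξ)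
    obtain ⟨M₀, hM₀, hM₀stab⟩ := 𝒢.exists_adm_stab ξ₀
    rw [hξ₀] at hM₀
    obtain ⟨z, hz, hcomp⟩ := 𝒢.adm_comp γ (𝒢.pi ξ) K L M₀ hK hL hM₀
    -- the partner
    refine ⟨((z⁻¹, (1 : 𝕊)) : 𝕊 × 𝕊) • ξ₀, ?_, ?_⟩
    · rw [𝒢.pi_smul, hξ₀, map_inv, hz, inv_one, one_mul, map_one, inv_one, mul_one, inv_mul_cancel_left]
    -- stabilizer of the partner
    have hM : ∀ a b : 𝕊, ((a, b) : 𝕊 × 𝕊) • ((z⁻¹, (1 : 𝕊)) : 𝕊 × 𝕊) • ξ₀ = ((z⁻¹, (1 : 𝕊)) : 𝕊 × 𝕊) • ξ₀ ↔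
        (z * a * z⁻¹, b) ∈ M₀ := by
      intro a b
      rw [← hM₀stab, smul_smul, Prod.mk_mul_mk, mul_one]
      constructor
      · intro h
        have := congrArg (fun ζ => ((z, (1 : 𝕊)) : 𝕊 × 𝕊) • ζ) h
        simp only [smul_smul, Prod.mk_mul_mk, one_mul, mul_inv_cancel] at this
        rw [← mul_assoc] at this
        rw [this]
        exact one_smul _ ξ₀
      · intro h
        have := congrArg (fun ζ => ((z⁻¹, (1 : 𝕊)) : 𝕊 × 𝕊) • ζ) h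
        simp only [smul_smul, Prod.mk_mul_mk, one_mul] at this
        rw [← this]
        congr 2
        group
    rintro ⟨⟨⟨a, x⟩, hax⟩, b⟩
    rw [hρ, hρ', hLstab, hM]
    change (x, b) ∈ L ↔ (z * a * z⁻¹, b) ∈ M₀
    constructor
    · exact fun h => hcomp a x b hax h
    · intro h
      -- relations in `Γ`
      have r1 := 𝒢.adm_rel _ _ hM₀ _ _ h
      have r2 := 𝒢.adm_rel _ _ hK _ _ hax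
      rw [map_mul, map_mul, hz, one_mul, map_inv, hz, inv_one, mul_one] at r1
      have r3 : 𝒢.pi ξ * 𝒢.c b * (𝒢.pi ξ)⁻¹ = 𝒢.c x := by
        have : γ * 𝒢.c x * 𝒢.pi ξ = γ * 𝒢.pi ξ * 𝒢.c b := by
          rw [← r2, ← r1]; group
        have h2 : 𝒢.c x * 𝒢.pi ξ = 𝒢.pi ξ * 𝒢.c b := by
          have := congrArg (fun w => γ⁻¹ * w) this
          simpa [mul_assoc] using this
        rw [← h2]; group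
      obtain ⟨x', hx'⟩ := 𝒢.adm_dom _ _ hL b (by rw [r3]; exact ⟨x, rfl⟩)
      have r4 := 𝒢.adm_rel _ _ hL _ _ hx'
      have r5 : 𝒢.c x' = 𝒢.c x := by
        rw [← r3, ← r4]; group
      obtain ⟨a', ha'⟩ := 𝒢.adm_dom _ _ hK x' (by
        rw [r5]
        refine ⟨a, ?_⟩
        rw [← r2]; group)
      have h3 := hcomp a' x' b ha' hx'
      -- `a' = a`
      have h4 : (z * a' * z⁻¹ * (z * a * z⁻¹)⁻¹, (1 : 𝕊)) ∈ M₀ := by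
        have := M₀.mul_mem h3 (M₀.inv_mem h)
        rwa [Prod.inv_mk, Prod.mk_mul_mk, mul_inv_cancel] at this
      have h5 := 𝒢.adm_fun _ _ hM₀ _ h4
      have h6 : a' = a := by
        have : z * a' * z⁻¹ = z * a * z⁻¹ := mul_inv_eq_one.1 h5
        exact mul_left_cancel (mul_right_cancel this)
      subst h6
      -- `x' = x`
      have h7 : ((1 : 𝕊), x' * x⁻¹) ∈ K := by
        have := K.mul_mem ha' (K.inv_mem hax)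
        rwa [Prod.inv_mk, Prod.mk_mul_mk, mul_inv_cancel] at this
      have h8 := 𝒢.adm_inj _ _ hK _ h7
      have h9 : x' = x := mul_inv_eq_one.1 h8
      rw [← h9]
      exact hx'
  obtain ⟨Θ, hΘ1, hΘ2⟩ := exists_twisted_equiv ρ ρ' 𝒢.pi (fun η => γ⁻¹ * 𝒢.pi η) hA hB hC
  have hΘr : ∀ (b : 𝕊) (ξ : 𝒢.X), Θ (((1 : 𝕊), b) • ξ) = ((1 : 𝕊), b) • Θ ξ := by
    intro b ξ
    have := hΘ1 ((1 : ↥K), b) ξ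
    rwa [hρ, hρ'] at this
  have hΘπ : ∀ ξ : 𝒢.X, 𝒢.pi (Θ ξ) = γ * 𝒢.pi ξ := by
    intro ξ
    rw [← hΘ2 ξ, mul_inv_cancel_left]
  refine ⟨⟨Θ, hΘr, γ, hΘπ⟩, ?_, ?_⟩
  · obtain ⟨ξ, -⟩ := 𝒢.pi_surj 1
    exact 𝒢.bisetData.beta_eq _ γ ξ (hΘπ ξ)
  · intro a x hax
    apply Subtype.ext
    apply Equiv.ext
    intro ξ
    have := hΘ1 ((⟨(a, x), hax⟩ : ↥K), (1 : 𝕊)) ξ
    rw [hρ, hρ'] at this
    exact this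


theorem beta_surjective : Function.Surjective 𝒢.bisetData.beta := by
  intro γ
  obtain ⟨K, hK⟩ := 𝒢.adm_nonempty γ
  obtain ⟨Θ, hΘ, -⟩ := 𝒢.exists_theta γ K hK
  exact ⟨Θ, hΘ⟩

/-- **The model of graph data.** -/
theorem exists_model (hcop : (Nat.card 𝒢.c.ker).Coprime 𝒢.c.range.index) :
    ∃ (G : Type u) (_ : Group G) (_ : Finite G) (ι : 𝕊 →* G),
      Function.Injective ι ∧ ι.range.index = 𝒢.c.range.index ∧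
      (∀ g : G, (∀ y : 𝒢.Qs, g * ι (y : 𝕊) = ι (y : 𝕊) * g) → ∃ z : 𝕊, 𝒢.c z = 1 ∧ g = ι z) ∧
      (∀ (g : G) (y : 𝒢.Qs), ∃ y' : 𝒢.Qs, g * ι (y : 𝕊) * g⁻¹ = ι (y' : 𝕊)) ∧
      (∀ γ K, K ∈ 𝒢.Adm γ → ∃ g : G, ∀ a x : 𝕊, (a, x) ∈ K → ι a = g * ι x * g⁻¹) ∧
      (∀ g : G, ∃ γ K, K ∈ 𝒢.Adm γ ∧ (∀ a x : 𝕊, (a, x) ∈ K → ι a = g * ι x * g⁻¹) ∧
        ∀ a x : 𝕊, ι a = g * ι x * g⁻¹ → (a, x) ∈ K) := by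
  classical
  set D := 𝒢.bisetData with hD
  have hcop' : (Nat.card D.c.ker).Coprime (Nat.card (BisetData.Orb 𝕊 𝒢.X)) := by
    rw [D.card_orb]; exact hcop
  have hinj := D.iota_injective hcop'
  -- realization of admissible graphs
  have hreal : ∀ γ K, K ∈ 𝒢.Adm γ → ∃ Θ : D.NG, D.beta Θ = γ ∧ ∀ a x : 𝕊, (a, x) ∈ K →
      D.iota a = QuotientGroup.mk' D.K Θ * D.iota x * (QuotientGroup.mk' D.K Θ)⁻¹ := by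
    intro γ K hK
    obtain ⟨Θ, hΘ, h⟩ := 𝒢.exists_theta γ K hK
    refine ⟨Θ, hΘ, fun a x hax => ?_⟩
    have h1 := h a x hax
    change QuotientGroup.mk' D.K (D.iota₀ a) = _ * QuotientGroup.mk' D.K (D.iota₀ x) * _
    rw [eq_mul_inv_iff_mul_eq, ← map_mul, ← map_mul, h1]
  refine ⟨D.G, inferInstance, inferInstance, D.iota, hinj, ?_, ?_, ?_, ?_, ?_⟩
  · exact D.index_range_iota hcop' 𝒢.beta_surjective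
  · intro g hg
    obtain ⟨z, hz⟩ := D.exists_eq_iota_of_commute hcop' g hg
    exact ⟨z, z.2, hz⟩
  · intro g y
    obtain ⟨e, rfl⟩ := QuotientGroup.mk'_surjective D.K g
    exact ⟨_, D.conj_iota e y⟩
  · intro γ K hK
    obtain ⟨Θ, -, h⟩ := hreal γ K hK
    exact ⟨_, h⟩
  · intro g
    obtain ⟨e, rfl⟩ := QuotientGroup.mk'_surjective D.K g
    set γ := D.beta e with hγ
    obtain ⟨K₀, hK₀⟩ := 𝒢.adm_nonempty γ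
    obtain ⟨Θ, hΘ, hΘr⟩ := hreal γ K₀ hK₀
    obtain ⟨z, hz⟩ := D.mk_eq_iota_mul hcop' e Θ (by rw [hΘ])
    have hzc : 𝒢.c (z : 𝕊) = 1 := z.2
    -- the conjugated graph
    have hK := 𝒢.adm_conj γ K₀ hK₀ (z : 𝕊) 1
    rw [hzc, map_one, inv_one, one_mul, mul_one] at hK
    have hKreal : ∀ a x : 𝕊, (a, x) ∈ K₀.map (MulAut.conj (((z : 𝕊), (1 : 𝕊)) : 𝕊 × 𝕊)).toMonoidHom →
        D.iota a = QuotientGroup.mk' D.K e * D.iota x * (QuotientGroup.mk' D.K e)⁻¹ := by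
      rintro a x ⟨⟨a₀, x₀⟩, h0, h1⟩
      have h2 : (((z : 𝕊), (1 : 𝕊)) : 𝕊 × 𝕊) * (a₀, x₀) * (((z : 𝕊), (1 : 𝕊)) : 𝕊 × 𝕊)⁻¹ = (a, x) := h1
      rw [Prod.inv_mk, Prod.mk_mul_mk, Prod.mk_mul_mk, Prod.mk.injEq, one_mul, inv_one, mul_one] at h2
      obtain ⟨rfl, rfl⟩ := h2
      rw [hz, map_mul, map_mul, map_inv, hΘr a₀ x₀ h0]
      group
    refine ⟨γ, _, hK, hKreal, ?_⟩
    intro a x hax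
    -- `γ c(x) γ⁻¹ = c(a)`
    have h1 : ∀ y : 𝒢.Qs, 𝒢.act (γ * 𝒢.c x * γ⁻¹) y = 𝒢.act (𝒢.c a) y := by
      intro y
      apply Subtype.ext
      apply hinj
      set g : D.G := QuotientGroup.mk' D.K e with hg
      let y₃ : 𝒢.Qs := 𝒢.act γ⁻¹ y
      let y₂ : 𝒢.Qs := 𝒢.act (𝒢.c x) y₃
      have e1 : g * D.iota (y₂ : 𝕊) * g⁻¹ = D.iota ((𝒢.act γ y₂ : 𝒢.Qs) : 𝕊) := D.conj_iota e y₂
      have e2 : 𝒢.act γ y₂ = 𝒢.act (γ * 𝒢.c x * γ⁻¹) y := by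
        change 𝒢.act γ (𝒢.act (𝒢.c x) (𝒢.act γ⁻¹ y)) = _
        rw [← MulAut.mul_apply, ← MulAut.mul_apply, ← map_mul, ← map_mul]
      have e3 : (y₂ : 𝕊) = x * (y₃ : 𝕊) * x⁻¹ := 𝒢.act_c x y₃
      have e4 : g⁻¹ * D.iota (y : 𝕊) * g = D.iota (y₃ : 𝕊) := by
        have := D.conj_iota e⁻¹ y
        rw [map_inv, inv_inv, map_inv] at this
        exact this
      rw [𝒢.act_c a y]
      calc D.iota ((𝒢.act (γ * 𝒢.c x * γ⁻¹) y : 𝒢.Qs) : 𝕊)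
          = g * D.iota (y₂ : 𝕊) * g⁻¹ := by rw [← e2, ← e1]
        _ = g * (D.iota x * (g⁻¹ * D.iota (y : 𝕊) * g) * (D.iota x)⁻¹) * g⁻¹ := by
            rw [e3, map_mul, map_mul, map_inv, e4]
        _ = (g * D.iota x * g⁻¹) * D.iota (y : 𝕊) * (g * D.iota x * g⁻¹)⁻¹ := by group
        _ = D.iota a * D.iota (y : 𝕊) * (D.iota a)⁻¹ := by rw [← hax]
        _ = D.iota (a * (y : 𝕊) * a⁻¹) := by rw [map_mul, map_mul, map_inv]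
    have h2 : γ * 𝒢.c x * γ⁻¹ = 𝒢.c a := by
      have h3 : ∀ y : 𝒢.Qs, 𝒢.act ((𝒢.c a)⁻¹ * (γ * 𝒢.c x * γ⁻¹)) y = y := by
        intro y
        rw [map_mul, MulAut.mul_apply, h1 y, ← MulAut.mul_apply, ← map_mul, inv_mul_cancel, map_one]
        rfl
      have := 𝒢.faithful _ h3
      exact (inv_mul_eq_one.1 this).symm
    obtain ⟨a', ha'⟩ := 𝒢.adm_dom _ _ hK x (by rw [h2]; exact ⟨a, rfl⟩)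
    have h4 := hKreal a' x ha'
    rw [← hax] at h4
    rw [← hinj h4]
    exact ha'

end GraphData

end Cfsg.Agent.Lib.Helper84.Model
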