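/-
helper84: the model theorem for constrained fusion systems: from a saturated fusion system with a normal centric subgroup
to the abstract graph data of `ModelBiset`.  All declarations live in `Cfsg.Agent.Lib.Helper84.Model`.
-/
import Mathlib
import Cfsg.Prelude.Def_FusionSystem
import Cfsg.Agent.Lib.Helper84.ModelBiset
import Cfsg.Agent.Lib.Helper87.FusionCore
import Cfsg.Agent.Lib.Helper88.FusionAut
import Cfsg.Agent.Lib.Helper88.FusionCentricExt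
import Cfsg.Agent.S5328
import Cfsg.Agent.Lib.Helper1.PCore

set_option autoImplicit false

namespace Cfsg.Agent.Lib.Helper84.Model

open Cfsg Cfsg.FusionSystem Cfsg.Agent.Lib.Helper87 Cfsg.Agent.Lib.Helper88 Cfsg.Agent.S5328

universe u

variable {Ω : Type u} [Group Ω] {S : Subgroup Ω}

/-- the graph `{(φ x, x)}` of a homomorphism, as a subgroup of `S × S` -/
def graphSub {P : Subgroup Ω} (φ : P →* Ω) : Subgroup (S × S) where
  carrier := {z | ∃ x : P, (z.1 : Ω) = φ x ∧ (z.2 : Ω) = x}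
  one_mem' := ⟨1, by simp, by simp⟩
  mul_mem' := by
    rintro z w ⟨x, h1, h2⟩ ⟨y, h3, h4⟩
    exact ⟨x * y, by simp [h1, h3], by simp [h2, h4]⟩
  inv_mem' := by
    rintro z ⟨x, h1, h2⟩
    exact ⟨x⁻¹, by simp [h1], by simp [h2]⟩

theorem mem_graphSub_iff {P : Subgroup Ω} (φ : P →* Ω) (z : S × S) :
    z ∈ graphSub (S := S) φ ↔ ∃ x : P, (z.1 : Ω) = φ x ∧ (z.2 : Ω) = x := Iff.rfl

theorem isGraph_graphSub (F : FusionSystem S) {P : Subgroup Ω} {φ : P →* Ω} (hφ : φ ∈ F.Hom P) :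
    IsGraph F (graphSub (S := S) φ) := ⟨P, φ, hφ, fun _ => Iff.rfl⟩

/-- The hypotheses: a saturated fusion system with a normal centric subgroup. -/
structure Ctx (F : FusionSystem S) (Q : Subgroup Ω) (p : ℕ) : Prop where
  hS : IsPGroup p S
  hF : F.IsSaturated p
  hQn : F.IsNormal Q
  hQc : F.IsCentric Q

namespace Ctx

variable {F : FusionSystem S} {Q : Subgroup Ω} {p : ℕ} (C : Ctx F Q p)

include C

theorem hQS : Q ≤ S := C.hQn.1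

theorem hSN : S ≤ Subgroup.normalizer (Q : Set Ω) := by
  intro g hg
  obtain ⟨α, -, hα⟩ := exists_autInducedBy_of_isNormal F C.hQn hg
  rw [Subgroup.mem_normalizer_iff]
  intro h
  constructor
  · intro hh
    rw [← hα ⟨h, hh⟩]
    exact (α ⟨h, hh⟩).2
  · intro hh
    have h1 := hα (α.symm ⟨g * h * g⁻¹, hh⟩)
    rw [MulEquiv.apply_symm_apply] at h1
    have h2 : h = ((α.symm ⟨g * h * g⁻¹, hh⟩ : Q) : Ω) := by
      have : g * h * g⁻¹ = g * ((α.symm ⟨g * h * g⁻¹, hh⟩ : Q) : Ω) * g⁻¹ := h1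
      exact mul_left_cancel (mul_right_cancel this)
    rw [h2]
    exact (α.symm ⟨g * h * g⁻¹, hh⟩).2

theorem hcen : centralizerIn S Q ≤ Q := C.hQc.2 Q (isConj_refl F C.hQS)

theorem Qs_normal : (Q.subgroupOf S).Normal :=
  (Subgroup.normal_subgroupOf_iff_le_normalizer C.hQS).2 C.hSN

end Ctx

section Setup

variable (F : FusionSystem S) {Q : Subgroup Ω} (hQS : Q ≤ S)

/-- the identification of `Q` as a subgroup of `S` with `Q` -/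
abbrev e₀ : ↥(Q.subgroupOf S) ≃* ↥Q := Subgroup.subgroupOfEquivOfLe hQS

/-- `Aut_F(Q)`, as a group of automorphisms of `Q ≤ S` -/
def Γsub : Subgroup (MulAut ↥(Q.subgroupOf S)) :=
  (F.autGroup Q).map (MulAut.congr (e₀ hQS).symm).toMonoidHom

theorem mem_Γsub_iff (γ : MulAut ↥(Q.subgroupOf S)) :
    γ ∈ Γsub F hQS ↔ ∃ α ∈ F.autGroup Q, ∀ y : ↥(Q.subgroupOf S),
      (((γ y : ↥(Q.subgroupOf S)) : S) : Ω) = ((α (e₀ hQS y) : Q) : Ω) := by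
  constructor
  · rintro ⟨α, hα, rfl⟩
    exact ⟨α, hα, fun y => rfl⟩
  · rintro ⟨α, hα, h⟩
    refine ⟨α, hα, ?_⟩
    ext y
    exact (h y).symm

variable [hN : (Q.subgroupOf S).Normal]

theorem conjNormal_mem_Γsub (s : S) : (MulAut.conjNormal s : MulAut ↥(Q.subgroupOf S)) ∈ Γsub F hQS := by
  rw [mem_Γsub_iff]
  refine ⟨MulAut.congr (e₀ hQS) (MulAut.conjNormal s), ?_, fun y => rfl⟩
  apply Helper87.autInducedBy_le_autGroup F hQS
  rw [mem_autInducedBy_iff]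
  exact ⟨(s : Ω), s.2, fun x => rfl⟩

/-- the conjugation map `S → Aut_F(Q)` -/
def cHom : S →* ↥(Γsub F hQS) :=
  (MulAut.conjNormal (H := Q.subgroupOf S)).codRestrict (Γsub F hQS) (conjNormal_mem_Γsub F hQS)

theorem cHom_apply (s : S) (y : ↥(Q.subgroupOf S)) :
    (((cHom F hQS s : ↥(Γsub F hQS)) : MulAut ↥(Q.subgroupOf S)) y : S) = s * y * s⁻¹ := rfl

/-- admissible graphs over `γ`: graphs of maps of the system, defined on `N_γ`, extending `γ` -/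
def Adm (γ : ↥(Γsub F hQS)) : Set (Subgroup (S × S)) :=
  {K | IsGraph F K ∧ (∀ a b : S, (a, b) ∈ K → cHom F hQS a * γ = γ * cHom F hQS b) ∧
    (∀ b : S, γ * cHom F hQS b * γ⁻¹ ∈ (cHom F hQS).range → ∃ a : S, (a, b) ∈ K) ∧
    ∀ y : ↥(Q.subgroupOf S),
      ((((γ : MulAut ↥(Q.subgroupOf S)) y : ↥(Q.subgroupOf S)) : S), (y : S)) ∈ K}

theorem cHom_eq_one_iff (z : S) : cHom F hQS z = 1 ↔ ∀ y : ↥(Q.subgroupOf S), z * (y : S) * z⁻¹ = y := by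
  constructor
  · intro h y
    have := congrArg (fun γ : ↥(Γsub F hQS) => (((γ : MulAut ↥(Q.subgroupOf S)) y : ↥(Q.subgroupOf S)) : S)) h
    exact this
  · intro h
    apply Subtype.ext
    ext y
    exact congrArg Subtype.val (h y)

theorem ker_le (hcen : centralizerIn S Q ≤ Q) (z : S) (hz : cHom F hQS z = 1) : z ∈ Q.subgroupOf S := by
  rw [cHom_eq_one_iff] at hz
  rw [Subgroup.mem_subgroupOf]
  apply hcen
  refine ⟨z.2, ?_⟩
  show (z : Ω) ∈ Subgroup.centralizer (Q : Set Ω)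
  rw [Subgroup.mem_centralizer_iff]
  intro y hy
  have h1 := hz ⟨⟨y, hQS hy⟩, hy⟩
  have h2 : (z : Ω) * y * (z : Ω)⁻¹ = y := congrArg Subtype.val h1
  calc y * (z : Ω) = ((z : Ω) * y * (z : Ω)⁻¹) * z := by rw [h2]
    _ = z * y := by group

theorem ker_comm (hcen : centralizerIn S Q ≤ Q) (z z' : S) (hz : cHom F hQS z = 1)
    (hz' : cHom F hQS z' = 1) : z * z' = z' * z := by
  have h1 := ker_le F hQS hcen z' hz'
  rw [cHom_eq_one_iff] at hz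
  have h2 := hz ⟨z', h1⟩
  have h3 : z * z' * z⁻¹ = z' := h2
  calc z * z' = (z * z' * z⁻¹) * z := by group
    _ = z' * z := by rw [h3]

theorem c_act (γ : ↥(Γsub F hQS)) (y : ↥(Q.subgroupOf S)) :
    cHom F hQS ((((γ : MulAut ↥(Q.subgroupOf S)) y : ↥(Q.subgroupOf S)) : S)) =
      γ * cHom F hQS (y : S) * γ⁻¹ := by
  apply Subtype.ext
  refine MulEquiv.ext (fun w => ?_)
  apply Subtype.ext
  change ((γ : MulAut ↥(Q.subgroupOf S)) y : S) * w * ((γ : MulAut ↥(Q.subgroupOf S)) y : S)⁻¹ =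
    (((γ : MulAut ↥(Q.subgroupOf S))
      (MulAut.conjNormal (y : S) ((γ : MulAut ↥(Q.subgroupOf S))⁻¹ w)) : ↥(Q.subgroupOf S)) : S)
  have e : (MulAut.conjNormal (y : S) ((γ : MulAut ↥(Q.subgroupOf S))⁻¹ w) : ↥(Q.subgroupOf S)) =
      y * ((γ : MulAut ↥(Q.subgroupOf S))⁻¹ w) * y⁻¹ := Subtype.ext rfl
  rw [e, map_mul, map_mul, map_inv, MulAut.apply_inv_self]
  rfl

omit hN in
theorem faithful (γ : ↥(Γsub F hQS))
    (h : ∀ y : ↥(Q.subgroupOf S), (γ : MulAut ↥(Q.subgroupOf S)) y = y) : γ = 1 := by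
  apply Subtype.ext
  exact MulEquiv.ext h

omit hN in
theorem isGraph_inj {K : Subgroup (S × S)} (hK : IsGraph F K) (b : S) (h : ((1 : S), b) ∈ K) : b = 1 := by
  obtain ⟨P, φ, hφ, hKm⟩ := hK
  obtain ⟨x, h1, h2⟩ := (hKm _).1 h
  have h3 : φ x = φ 1 := by rw [map_one]; exact h1.symm
  have h4 := F.injective_of_mem hφ h3
  apply Subtype.ext
  rw [h2, h4]; rfl

omit hN in
theorem isGraph_fun {K : Subgroup (S × S)} (hK : IsGraph F K) (a : S) (h : (a, (1 : S)) ∈ K) : a = 1 := by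
  obtain ⟨P, φ, hφ, hKm⟩ := hK
  obtain ⟨x, h1, h2⟩ := (hKm _).1 h
  have h3 : x = 1 := Subtype.ext h2.symm
  apply Subtype.ext
  rw [h1, h3, map_one]; rfl

omit hN in
theorem mem_map_conj_iff (K : Subgroup (S × S)) (a b a' b' : S) :
    (a', b') ∈ K.map (MulAut.conj ((a, b) : S × S)).toMonoidHom ↔ (a⁻¹ * a' * a, b⁻¹ * b' * b) ∈ K := by
  rw [Subgroup.mem_map_equiv]
  rfl

omit hN in
theorem Γ_apply_mul (γ δ : ↥(Γsub F hQS)) (y : ↥(Q.subgroupOf S)) :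
    ((γ * δ : ↥(Γsub F hQS)) : MulAut ↥(Q.subgroupOf S)) y =
      (γ : MulAut ↥(Q.subgroupOf S)) ((δ : MulAut ↥(Q.subgroupOf S)) y) := rfl

theorem adm_conj (γ : ↥(Γsub F hQS)) (K : Subgroup (S × S)) (hK : K ∈ Adm F hQS γ) (a b : S) :
    K.map (MulAut.conj ((a, b) : S × S)).toMonoidHom ∈
      Adm F hQS (cHom F hQS a * γ * (cHom F hQS b)⁻¹) := by
  obtain ⟨hG, hrel, hdom, hext⟩ := hK
  refine ⟨isGraph_map_conj F hG (a, b), ?_, ?_, ?_⟩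
  · intro a' b' h
    rw [mem_map_conj_iff] at h
    have h1 := hrel _ _ h
    rw [map_mul, map_mul, map_mul, map_mul, map_inv, map_inv] at h1
    have h2 : cHom F hQS a' * cHom F hQS a * γ =
        cHom F hQS a * γ * ((cHom F hQS b)⁻¹ * cHom F hQS b' * cHom F hQS b) := by
      rw [mul_assoc (cHom F hQS a) γ, ← h1]; group
    calc cHom F hQS a' * (cHom F hQS a * γ * (cHom F hQS b)⁻¹)
        = (cHom F hQS a' * cHom F hQS a * γ) * (cHom F hQS b)⁻¹ := by group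
      _ = cHom F hQS a * γ * (cHom F hQS b)⁻¹ * cHom F hQS b' := by rw [h2]; group
  · rintro b' ⟨s, hs⟩
    have h1 : γ * cHom F hQS (b⁻¹ * b' * b) * γ⁻¹ ∈ (cHom F hQS).range := by
      refine ⟨a⁻¹ * s * a, ?_⟩
      rw [map_mul, map_mul, map_mul, map_mul, map_inv, map_inv, hs]
      group
    obtain ⟨a₀, ha₀⟩ := hdom _ h1
    refine ⟨a * a₀ * a⁻¹, ?_⟩
    rw [mem_map_conj_iff]
    have : a⁻¹ * (a * a₀ * a⁻¹) * a = a₀ := by group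
    rw [this]
    exact ha₀
  · intro y
    rw [mem_map_conj_iff]
    let y₀ : ↥(Q.subgroupOf S) := ((cHom F hQS b⁻¹ : ↥(Γsub F hQS)) : MulAut ↥(Q.subgroupOf S)) y
    have hy₀ : (y₀ : S) = b⁻¹ * y * b := by
      have := cHom_apply F hQS b⁻¹ y
      rw [inv_inv] at this
      exact this
    have h1 := hext y₀
    have h2 : ((((cHom F hQS a * γ * (cHom F hQS b)⁻¹ : ↥(Γsub F hQS)) : MulAut ↥(Q.subgroupOf S)) y :
        ↥(Q.subgroupOf S)) : S) = a * (((γ : MulAut ↥(Q.subgroupOf S)) y₀ : ↥(Q.subgroupOf S)) : S) * a⁻¹ := by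
      rw [← map_inv, Γ_apply_mul, Γ_apply_mul, cHom_apply]
    rw [h2, ← hy₀]
    have : a⁻¹ * (a * (((γ : MulAut ↥(Q.subgroupOf S)) y₀ : ↥(Q.subgroupOf S)) : S) * a⁻¹) * a =
        (((γ : MulAut ↥(Q.subgroupOf S)) y₀ : ↥(Q.subgroupOf S)) : S) := by group
    rw [this]
    exact h1

omit hN in
theorem le_extender_of_aut (hle : Q ≤ S) (α : MulAut Q) :
    Q ≤ extender S Q (Q.subtype.comp α.toMonoidHom) := by
  intro g hg
  apply Subgroup.subset_closure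
  refine ⟨hle hg, Subgroup.le_normalizer hg, ((α ⟨g, hg⟩ : Q) : Ω), hle (α ⟨g, hg⟩).2, ?_⟩
  intro x hx
  show ((α ⟨g * x * g⁻¹, hx⟩ : Q) : Ω) = ((α ⟨g, hg⟩ : Q) : Ω) * ((α x : Q) : Ω) * ((α ⟨g, hg⟩ : Q) : Ω)⁻¹
  have : (⟨g * x * g⁻¹, hx⟩ : Q) = ⟨g, hg⟩ * x * ⟨g, hg⟩⁻¹ := Subtype.ext rfl
  rw [this, map_mul, map_mul, map_inv]
  rfl

theorem adm_nonempty {p : ℕ} (hF : F.IsSaturated p) (hQn : F.IsNormal Q) (γ : ↥(Γsub F hQS)) :
    ∃ K, K ∈ Adm F hQS γ := by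
  obtain ⟨α, hα, hγ⟩ := (mem_Γsub_iff F hQS _).1 γ.2
  set φ₀ : Q →* Ω := Q.subtype.comp α.toMonoidHom with hφ₀
  have hφ₀m : φ₀ ∈ F.Hom Q := (mem_autGroup_iff F hQS).1 hα
  have hr : φ₀.range = Q := isNormal_range_eq F hQn hφ₀m
  obtain ⟨-, hrec⟩ :=
    (fullyAutomized_receptive_of_weaklyClosed F p hF (weaklyClosed_of_isNormal F hQn)).2
  obtain ⟨ψ, hψ, hψφ⟩ := hrec Q φ₀ hφ₀m hr
  have hQN : Q ≤ extender S Q φ₀ := le_extender_of_aut hQS α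
  have hSN : S ≤ Subgroup.normalizer (Q : Set Ω) :=
    (Subgroup.normal_subgroupOf_iff_le_normalizer hQS).1 hN
  have hyQ : ∀ y : ↥(Q.subgroupOf S), ((y : S) : Ω) ∈ Q := fun y => Subgroup.mem_subgroupOf.1 y.2
  have hψQ : ∀ y : ↥(Q.subgroupOf S), ψ ⟨((y : S) : Ω), hQN (hyQ y)⟩ =
      ((((γ : MulAut ↥(Q.subgroupOf S)) y : ↥(Q.subgroupOf S)) : S) : Ω) := by
    intro y
    rw [hψφ _ (hyQ y) _, hγ y]
    rfl
  refine ⟨graphSub ψ, isGraph_graphSub F hψ, ?_, ?_, ?_⟩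
  · rintro a b ⟨x, h1, h2⟩
    apply Subtype.ext
    refine MulEquiv.ext (fun y => ?_)
    apply Subtype.ext
    apply Subtype.ext
    have e1 := hψQ y
    have e2 := hψQ (((cHom F hQS b : ↥(Γsub F hQS)) : MulAut ↥(Q.subgroupOf S)) y)
    have e3 : (⟨(((((cHom F hQS b : ↥(Γsub F hQS)) : MulAut ↥(Q.subgroupOf S)) y :
        ↥(Q.subgroupOf S)) : S) : Ω), hQN (hyQ (((cHom F hQS b : ↥(Γsub F hQS)) :
          MulAut ↥(Q.subgroupOf S)) y))⟩ : ↥(extender S Q φ₀)) =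
        x * ⟨((y : S) : Ω), hQN (hyQ y)⟩ * x⁻¹ := by
      apply Subtype.ext
      show (b : Ω) * ((y : S) : Ω) * (b : Ω)⁻¹ = (x : Ω) * ((y : S) : Ω) * (x : Ω)⁻¹
      rw [h2]
    show (a : Ω) * ((((γ : MulAut ↥(Q.subgroupOf S)) y : ↥(Q.subgroupOf S)) : S) : Ω) * (a : Ω)⁻¹ =
      ((((γ : MulAut ↥(Q.subgroupOf S)) (((cHom F hQS b : ↥(Γsub F hQS)) :
        MulAut ↥(Q.subgroupOf S)) y) : ↥(Q.subgroupOf S)) : S) : Ω)
    rw [← e2, e3, map_mul, map_mul, map_inv, e1, h1]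
  · rintro b ⟨a, ha⟩
    have h1 : cHom F hQS a * γ = γ * cHom F hQS b := by rw [ha]; group
    have hb : (b : Ω) ∈ extender S Q φ₀ := by
      apply Subgroup.subset_closure
      refine ⟨b.2, hSN b.2, (a : Ω), a.2, ?_⟩
      intro x hx
      let y : ↥(Q.subgroupOf S) := (e₀ hQS).symm x
      have h2 := congrArg (fun δ : ↥(Γsub F hQS) =>
        ((((δ : MulAut ↥(Q.subgroupOf S)) y : ↥(Q.subgroupOf S)) : S) : Ω)) h1
      have h3 : (a : Ω) * ((((γ : MulAut ↥(Q.subgroupOf S)) y : ↥(Q.subgroupOf S)) : S) : Ω) * (a : Ω)⁻¹ =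
        ((((γ : MulAut ↥(Q.subgroupOf S)) (((cHom F hQS b : ↥(Γsub F hQS)) :
          MulAut ↥(Q.subgroupOf S)) y) : ↥(Q.subgroupOf S)) : S) : Ω) := h2
      rw [hγ, hγ] at h3
      have e1 : (e₀ hQS) y = x := MulEquiv.apply_symm_apply _ _
      have e2 : (e₀ hQS) (((cHom F hQS b : ↥(Γsub F hQS)) : MulAut ↥(Q.subgroupOf S)) y) =
          ⟨(b : Ω) * x * (b : Ω)⁻¹, hx⟩ := Subtype.ext rfl
      rw [e1, e2] at h3
      exact h3.symm
    exact ⟨⟨ψ ⟨b, hb⟩, hom_map_mem F hψ _⟩, ⟨⟨b, hb⟩, rfl, rfl⟩⟩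
  · intro y
    exact ⟨⟨((y : S) : Ω), hQN (hyQ y)⟩, (hψQ y).symm, rfl⟩

omit hN in
theorem graph_mem {K : Subgroup (S × S)} {P : Subgroup Ω} {φ : P →* Ω} (hφ : φ ∈ F.Hom P)
    (hKm : ∀ z : S × S, z ∈ K ↔ ∃ x : P, (z.1 : Ω) = φ x ∧ (z.2 : Ω) = x) (x : P) :
    ((⟨φ x, hom_map_mem F hφ x⟩ : S), (⟨x, hom_le F hφ x.2⟩ : S)) ∈ K :=
  (hKm _).2 ⟨x, rfl, rfl⟩

omit hN in
theorem graph_of_mem {K : Subgroup (S × S)} {P : Subgroup Ω} {φ : P →* Ω}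
    (hKm : ∀ z : S × S, z ∈ K ↔ ∃ x : P, (z.1 : Ω) = φ x ∧ (z.2 : Ω) = x) {a b : S} (h : (a, b) ∈ K) :
    ∃ hb : (b : Ω) ∈ P, φ ⟨b, hb⟩ = (a : Ω) := by
  obtain ⟨x, h1, h2⟩ := (hKm _).1 h
  have h2' : (b : Ω) = x := h2
  refine ⟨by rw [h2']; exact x.2, ?_⟩
  have h1' : (a : Ω) = φ x := h1
  rw [h1']
  congr 1
  exact Subtype.ext h2'

theorem adm_comp [Finite S] {p : ℕ} [Fact p.Prime] (hS : IsPGroup p S) (hF : F.IsSaturated p)
    (hQc : F.IsCentric Q) (γ δ : ↥(Γsub F hQS)) (K L M : Subgroup (S × S))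
    (hK : K ∈ Adm F hQS γ) (hL : L ∈ Adm F hQS δ) (hM : M ∈ Adm F hQS (γ * δ)) :
    ∃ z : S, cHom F hQS z = 1 ∧
      ∀ a x b : S, (a, x) ∈ K → (x, b) ∈ L → (z * a * z⁻¹, b) ∈ M := by
  obtain ⟨⟨PK, κ, hκ, hKm⟩, hKrel, hKdom, hKext⟩ := hK
  obtain ⟨⟨PL, lam, hlam, hLm⟩, hLrel, hLdom, hLext⟩ := hL
  obtain ⟨⟨PM, μ, hμ, hMm⟩, hMrel, hMdom, hMext⟩ := hM
  have hSN : S ≤ Subgroup.normalizer (Q : Set Ω) :=
    (Subgroup.normal_subgroupOf_iff_le_normalizer hQS).1 hN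
  have hPLS : PL ≤ S := hom_le F hlam
  set D : Subgroup Ω := (PK.comap lam).map PL.subtype with hD
  have hDL : D ≤ PL := by rintro _ ⟨x, -, rfl⟩; exact x.2
  have hDK : ∀ b : D, lam ⟨b, hDL b.2⟩ ∈ PK := by
    rintro ⟨_, x, hx, rfl⟩; exact hx
  have hDS : D ≤ S := hDL.trans hPLS
  have hmemD : ∀ (b : Ω) (hb : b ∈ PL), lam ⟨b, hb⟩ ∈ PK → b ∈ D := fun b hb h => ⟨⟨b, hb⟩, h, rfl⟩
  have hlamD : lam.comp (Subgroup.inclusion hDL) ∈ F.Hom D := restrict_mem F hlam hDL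
  have hσ₁ := F.comp_mem hlamD hκ hDK
  -- `D ≤ PM`
  have hDM : D ≤ PM := by
    intro b hb
    have hbL : b ∈ PL := hDL hb
    have hbK : lam ⟨b, hbL⟩ ∈ PK := hDK ⟨b, hb⟩
    have r1 := hLrel _ _ (graph_mem F hlam hLm ⟨b, hbL⟩)
    have r2 := hKrel _ _ (graph_mem F hκ hKm ⟨lam ⟨b, hbL⟩, hbK⟩)
    have r3 : γ * δ * cHom F hQS ⟨b, hDS hb⟩ * (γ * δ)⁻¹ ∈ (cHom F hQS).range := by
      refine ⟨⟨κ ⟨lam ⟨b, hbL⟩, hbK⟩, hom_map_mem F hκ _⟩, ?_⟩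
      rw [eq_mul_inv_iff_mul_eq, ← mul_assoc, r2, mul_assoc, mul_assoc]
      congr 1
    obtain ⟨a', ha'⟩ := hMdom _ r3
    obtain ⟨h, -⟩ := graph_of_mem hMm ha'
    exact h
  have hσ₂ : μ.comp (Subgroup.inclusion hDM) ∈ F.Hom D := restrict_mem F hμ hDM
  -- the values on `Q`
  have hLQ : ∀ y : ↥(Q.subgroupOf S), ∃ h : ((y : S) : Ω) ∈ PL, lam ⟨_, h⟩ =
      ((((δ : MulAut ↥(Q.subgroupOf S)) y : ↥(Q.subgroupOf S)) : S) : Ω) :=
    fun y => graph_of_mem hLm (hLext y)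
  have hKQ : ∀ y : ↥(Q.subgroupOf S), ∃ h : ((y : S) : Ω) ∈ PK, κ ⟨_, h⟩ =
      ((((γ : MulAut ↥(Q.subgroupOf S)) y : ↥(Q.subgroupOf S)) : S) : Ω) :=
    fun y => graph_of_mem hKm (hKext y)
  have hMQ : ∀ y : ↥(Q.subgroupOf S), ∃ h : ((y : S) : Ω) ∈ PM, μ ⟨_, h⟩ =
      ((((γ : MulAut ↥(Q.subgroupOf S)) ((δ : MulAut ↥(Q.subgroupOf S)) y) : ↥(Q.subgroupOf S)) : S) : Ω) :=
    fun y => graph_of_mem hMm (hMext y)
  have hQD' : ∀ y : ↥(Q.subgroupOf S), ((y : S) : Ω) ∈ D := by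
    intro y
    obtain ⟨h1, h2⟩ := hLQ y
    obtain ⟨h3, -⟩ := hKQ ((δ : MulAut ↥(Q.subgroupOf S)) y)
    refine hmemD _ h1 ?_
    rw [h2]
    exact h3
  have hQD : Q ≤ D := fun y hy => hQD' ⟨⟨y, hQS hy⟩, hy⟩
  have hDN : D ≤ Subgroup.normalizer (Q : Set Ω) := hDS.trans hSN
  have heq : ∀ x : D, (x : Ω) ∈ Q →
      (κ.comp ((lam.comp (Subgroup.inclusion hDL)).codRestrict PK hDK)) x =
        (μ.comp (Subgroup.inclusion hDM)) x := by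
    intro x hx
    let y : ↥(Q.subgroupOf S) := ⟨⟨x, hDS x.2⟩, hx⟩
    obtain ⟨h1, h2⟩ := hLQ y
    obtain ⟨h3, h4⟩ := hKQ ((δ : MulAut ↥(Q.subgroupOf S)) y)
    obtain ⟨h5, h6⟩ := hMQ y
    show κ ⟨lam ⟨x, hDL x.2⟩, hDK x⟩ = μ ⟨x, hDM x.2⟩
    have e1 : (⟨lam ⟨x, hDL x.2⟩, hDK x⟩ : PK) =
        ⟨((((δ : MulAut ↥(Q.subgroupOf S)) y : ↥(Q.subgroupOf S)) : S) : Ω), h3⟩ := Subtype.ext h2
    rw [e1, h4]
    exact h6.symm
  obtain ⟨z, hzQ, hz⟩ := eq_comp_conj_of_eqOn_centric F hS hF hQD hDN hQc hσ₁ hσ₂ heq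
  -- `z` centralizes `Q`
  have hzc : ∀ y : Ω, y ∈ Q → (z : Ω) * y * (z : Ω)⁻¹ = y := by
    intro y hy
    have h1 := hz ⟨y, hQD hy⟩
    rw [heq ⟨y, hQD hy⟩ hy] at h1
    have h2 := F.injective_of_mem hσ₂ h1
    exact (congrArg Subtype.val h2).symm
  let zS : S := ⟨z, hDS z.2⟩
  let zQ : ↥(Q.subgroupOf S) := ⟨zS, hzQ⟩
  have hczS : cHom F hQS zS = 1 := by
    rw [cHom_eq_one_iff]
    intro y
    apply Subtype.ext
    exact hzc _ (Subgroup.mem_subgroupOf.1 y.2)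
  obtain ⟨h5, h6⟩ := hMQ zQ
  let z'S : S := (((γ : MulAut ↥(Q.subgroupOf S)) ((δ : MulAut ↥(Q.subgroupOf S)) zQ) : ↥(Q.subgroupOf S)) : S)
  have hcz' : cHom F hQS z'S = 1 := by
    have h7 := c_act F hQS (γ * δ) zQ
    have h8 : cHom F hQS ((zQ : ↥(Q.subgroupOf S)) : S) = 1 := hczS
    rw [h8, mul_one, mul_inv_cancel] at h7
    exact h7
  refine ⟨z'S⁻¹, by rw [map_inv, hcz', inv_one], ?_⟩
  intro a x b hax hxb
  obtain ⟨hbL, hb1⟩ := graph_of_mem hLm hxb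
  obtain ⟨hxK, hx1⟩ := graph_of_mem hKm hax
  have hbK : lam ⟨b, hbL⟩ ∈ PK := by rw [hb1]; exact hxK
  have hbD : (b : Ω) ∈ D := hmemD _ hbL hbK
  have h1 := hz ⟨b, hbD⟩
  have h2 : (κ.comp ((lam.comp (Subgroup.inclusion hDL)).codRestrict PK hDK)) ⟨b, hbD⟩ = (a : Ω) := by
    show κ ⟨lam ⟨b, hbL⟩, hbK⟩ = (a : Ω)
    have e1 : (⟨lam ⟨b, hbL⟩, hbK⟩ : PK) = ⟨x, hxK⟩ := Subtype.ext hb1
    rw [e1, hx1]
  have h3 : (μ.comp (Subgroup.inclusion hDM)) (z * ⟨b, hbD⟩ * z⁻¹) =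
      (z'S : Ω) * μ ⟨b, hDM hbD⟩ * (z'S : Ω)⁻¹ := by
    have e2 : Subgroup.inclusion hDM (z * ⟨b, hbD⟩ * z⁻¹) =
        (⟨(zQ : S), h5⟩ : PM) * ⟨b, hDM hbD⟩ * (⟨(zQ : S), h5⟩ : PM)⁻¹ := Subtype.ext rfl
    show μ (Subgroup.inclusion hDM (z * ⟨b, hbD⟩ * z⁻¹)) = _
    rw [e2, map_mul, map_mul, map_inv, h6]
  rw [h2, h3] at h1
  rw [hMm]
  refine ⟨⟨b, hDM hbD⟩, ?_, rfl⟩
  show (z'S : Ω)⁻¹ * (a : Ω) * ((z'S : Ω)⁻¹)⁻¹ = μ ⟨b, hDM hbD⟩
  rw [h1]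
  group

/-- the identification of `Aut_F(Q)` with `Γsub` -/
noncomputable def θ : ↥(F.autGroup Q) ≃* ↥(Γsub F hQS) :=
  (MulAut.congr (e₀ hQS).symm).subgroupMap (F.autGroup Q)

omit hN in
theorem θ_apply (α : ↥(F.autGroup Q)) (y : ↥(Q.subgroupOf S)) :
    ((((θ F hQS α : ↥(Γsub F hQS)) : MulAut ↥(Q.subgroupOf S)) y : ↥(Q.subgroupOf S)) : S) =
      (⟨(((α : MulAut Q) (e₀ hQS y) : Q) : Ω), hQS ((α : MulAut Q) (e₀ hQS y)).2⟩ : S) := rfl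

theorem range_cHom_eq : (cHom F hQS).range =
    ((autInducedBy S Q).subgroupOf (F.autGroup Q)).map (θ F hQS : ↥(F.autGroup Q) →* ↥(Γsub F hQS)) := by
  ext δ
  constructor
  · rintro ⟨s, rfl⟩
    have h1 : MulAut.congr (e₀ hQS) (MulAut.conjNormal s) ∈ autInducedBy S Q := by
      rw [mem_autInducedBy_iff]
      exact ⟨(s : Ω), s.2, fun x => rfl⟩
    refine ⟨⟨_, Helper87.autInducedBy_le_autGroup F hQS h1⟩, ?_, ?_⟩
    · show _ ∈ (autInducedBy S Q).subgroupOf (F.autGroup Q)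
      rw [Subgroup.mem_subgroupOf]
      exact h1
    · apply Subtype.ext
      refine MulEquiv.ext (fun y => ?_)
      apply Subtype.ext
      apply Subtype.ext
      rfl
  · rintro ⟨α, hα, rfl⟩
    have hα' : (α : MulAut Q) ∈ autInducedBy S Q := Subgroup.mem_subgroupOf.1 hα
    rw [mem_autInducedBy_iff] at hα'
    obtain ⟨g, hg, hgα⟩ := hα'
    refine ⟨⟨g, hg⟩, ?_⟩
    apply Subtype.ext
    refine MulEquiv.ext (fun y => ?_)
    apply Subtype.ext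
    apply Subtype.ext
    exact (hgα (e₀ hQS y)).symm

theorem not_dvd_index_range_cHom [Finite S] {p : ℕ} [Fact p.Prime] (hfa : F.IsFullyAutomized p Q) :
    ¬ p ∣ (cHom F hQS).range.index := by
  have : Finite Q := Finite.of_injective (Subgroup.inclusion hQS) (Subgroup.inclusion_injective hQS)
  obtain ⟨-, R, hR⟩ := hfa
  have h1 : (cHom F hQS).range.index = (R : Subgroup ↥(F.autGroup Q)).index := by
    rw [range_cHom_eq, hR]
    exact Subgroup.index_map_equiv _ (θ F hQS)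
  rw [h1]
  exact R.not_dvd_index

theorem coprime_cHom [Finite S] {p : ℕ} [Fact p.Prime] (hS : IsPGroup p S) (hfa : F.IsFullyAutomized p Q) :
    (Nat.card (cHom F hQS).ker).Coprime (cHom F hQS).range.index := by
  have h2 := not_dvd_index_range_cHom F hQS hfa
  obtain ⟨k, hk⟩ := IsPGroup.iff_card.1 (hS.to_subgroup (cHom F hQS).ker)
  rw [hk]
  exact Nat.Coprime.pow_left _ ((Nat.Prime.coprime_iff_not_dvd Fact.out).2 h2)

end Setup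

section Final

variable [Finite S] {p : ℕ} [Fact p.Prime] {F : FusionSystem S} {Q : Subgroup Ω}

/-- the graph data of a saturated fusion system with a normal centric subgroup -/
noncomputable def Ctx.graphData (C : Ctx F Q p) : GraphData ↥S ↥(Γsub F C.hQS) :=
  haveI : (Q.subgroupOf S).Normal := C.Qs_normal
  { c := cHom F C.hQS
    Qs := Q.subgroupOf S
    act := (Γsub F C.hQS).subtype
    Adm := Adm F C.hQS
    ker_le := ker_le F C.hQS C.hcen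
    ker_comm := ker_comm F C.hQS C.hcen
    c_act := c_act F C.hQS
    act_c := fun s y => cHom_apply F C.hQS s y
    faithful := faithful F C.hQS
    adm_rel := fun _ _ hK => hK.2.1
    adm_dom := fun _ _ hK => hK.2.2.1
    adm_inj := fun _ _ hK => isGraph_inj F hK.1
    adm_fun := fun _ _ hK => isGraph_fun F hK.1
    adm_ext := fun _ _ hK => hK.2.2.2
    adm_nonempty := adm_nonempty F C.hQS C.hF C.hQn
    adm_conj := adm_conj F C.hQS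
    adm_comp := fun γ δ K L M => adm_comp F C.hQS C.hS C.hF C.hQc γ δ K L M }

/-- **Model theorem, existence.** -/
theorem Ctx.exists_isModel (C : Ctx F Q p) :
    ∃ (G : Type u) (_ : Group G) (ι : S →* G), F.IsModel p G ι := by
  have : (Q.subgroupOf S).Normal := C.Qs_normal
  have hfa := (fullyAutomized_receptive_of_weaklyClosed F p C.hF (weaklyClosed_of_isNormal F C.hQn)).1
  have hcop := coprime_cHom F C.hQS C.hS hfa
  obtain ⟨G, hG, hfin, ι, hinj, hidx, hcent, hconj, hreal, hall⟩ := C.graphData.exists_model hcop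
  refine ⟨G, hG, ι, hfin, ⟨hinj, ?_⟩, ?_, ?_⟩
  · -- realization
    intro P hP φ hφS
    constructor
    · intro hφ
      obtain ⟨ψ, hψ, hψ1, α, hα, hαψ⟩ := exists_extension_aut_of_isNormal F C.hQn hφ
      set γ : ↥(Γsub F C.hQS) := θ F C.hQS ⟨α, hα⟩ with hγ
      obtain ⟨K₀, hK₀⟩ := adm_nonempty F C.hQS C.hF C.hQn γ
      obtain ⟨g₀, hg₀⟩ := hreal γ K₀ hK₀
      obtain ⟨⟨P₀, κ, hκ, hKm⟩, hrel, hdom, hext⟩ := hK₀
      have hPQS : P ⊔ Q ≤ S := hom_le F hψ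
      have hQle : Q ≤ P ⊔ Q := le_sup_right
      have hyQ : ∀ y : ↥(Q.subgroupOf S), ((y : S) : Ω) ∈ Q := fun y => Subgroup.mem_subgroupOf.1 y.2
      have hγψ : ∀ y : ↥(Q.subgroupOf S),
          ((((γ : MulAut ↥(Q.subgroupOf S)) y : ↥(Q.subgroupOf S)) : S) : Ω) =
            ψ ⟨((y : S) : Ω), hQle (hyQ y)⟩ := by
        intro y
        exact hαψ (e₀ C.hQS y)
      have hle : P ⊔ Q ≤ P₀ := by
        intro b hb
        have h1 : γ * cHom F C.hQS ⟨b, hPQS hb⟩ * γ⁻¹ ∈ (cHom F C.hQS).range := by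
          refine ⟨⟨ψ ⟨b, hb⟩, hom_map_mem F hψ _⟩, ?_⟩
          rw [eq_mul_inv_iff_mul_eq]
          apply Subtype.ext
          refine MulEquiv.ext (fun y => ?_)
          apply Subtype.ext
          apply Subtype.ext
          show ψ ⟨b, hb⟩ * ((((γ : MulAut ↥(Q.subgroupOf S)) y : ↥(Q.subgroupOf S)) : S) : Ω) *
            (ψ ⟨b, hb⟩)⁻¹ = ((((γ : MulAut ↥(Q.subgroupOf S))
              (((cHom F C.hQS ⟨b, hPQS hb⟩ : ↥(Γsub F C.hQS)) : MulAut ↥(Q.subgroupOf S)) y) :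
                ↥(Q.subgroupOf S)) : S) : Ω)
          rw [hγψ, hγψ]
          have e : (⟨(((((cHom F C.hQS ⟨b, hPQS hb⟩ : ↥(Γsub F C.hQS)) : MulAut ↥(Q.subgroupOf S)) y :
              ↥(Q.subgroupOf S)) : S) : Ω), hQle (hyQ _)⟩ : ↥(P ⊔ Q)) =
              ⟨b, hb⟩ * ⟨((y : S) : Ω), hQle (hyQ y)⟩ * ⟨b, hb⟩⁻¹ := Subtype.ext rfl
          rw [e, map_mul, map_mul, map_inv]
        obtain ⟨a, ha⟩ := hdom _ h1
        exact (graph_of_mem hKm ha).1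
      have hσ₂ : κ.comp (Subgroup.inclusion hle) ∈ F.Hom (P ⊔ Q) := restrict_mem F hκ hle
      have heq : ∀ x : ↥(P ⊔ Q), (x : Ω) ∈ Q → ψ x = (κ.comp (Subgroup.inclusion hle)) x := by
        intro x hx
        let y : ↥(Q.subgroupOf S) := ⟨⟨x, hPQS x.2⟩, hx⟩
        obtain ⟨h1, h2⟩ := graph_of_mem hKm (hext y)
        show ψ x = κ ⟨x, hle x.2⟩
        have h3 : κ ⟨x, hle x.2⟩ = ((((γ : MulAut ↥(Q.subgroupOf S)) y : ↥(Q.subgroupOf S)) : S) : Ω) := h2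
        rw [h3, hγψ y]
      obtain ⟨z, hzQ, hz⟩ := eq_comp_conj_of_eqOn_centric F C.hS C.hF hQle (hPQS.trans C.hSN) C.hQc
        hψ hσ₂ heq
      refine ⟨g₀ * ι ⟨z, hPQS z.2⟩, fun x => ?_⟩
      have hxz : (z : Ω) * x * (z : Ω)⁻¹ ∈ P ⊔ Q :=
        (P ⊔ Q).mul_mem ((P ⊔ Q).mul_mem z.2 (le_sup_left (a := P) x.2)) ((P ⊔ Q).inv_mem z.2)
      have h1 : φ x = κ ⟨(z : Ω) * x * (z : Ω)⁻¹, hle hxz⟩ := by
        rw [← hψ1 x]
        exact hz _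
      have h2 := hg₀ _ _ (graph_mem F hκ hKm ⟨(z : Ω) * x * (z : Ω)⁻¹, hle hxz⟩)
      have e1 : (⟨φ x, hφS x⟩ : S) = ⟨κ ⟨(z : Ω) * x * (z : Ω)⁻¹, hle hxz⟩, hom_map_mem F hκ _⟩ :=
        Subtype.ext h1
      have e2 : (⟨(z : Ω) * x * (z : Ω)⁻¹, hom_le F hκ (hle hxz)⟩ : S) =
          ⟨z, hPQS z.2⟩ * ⟨x, hP x.2⟩ * ⟨z, hPQS z.2⟩⁻¹ := Subtype.ext rfl
      rw [e1, h2]
      show g₀ * ι ⟨(z : Ω) * x * (z : Ω)⁻¹, hom_le F hκ (hle hxz)⟩ * g₀⁻¹ = _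
      rw [e2, map_mul, map_mul, map_inv]
      group
    · rintro ⟨g, hg⟩
      obtain ⟨γ, K, hK, -, hK2⟩ := hall g
      obtain ⟨P₀, κ, hκ, hKm⟩ := hK.1
      have h1 : ∀ x : P, ∃ hb : (x : Ω) ∈ P₀, κ ⟨x, hb⟩ = φ x := fun x =>
        graph_of_mem hKm (hK2 ⟨φ x, hφS x⟩ ⟨x, hP x.2⟩ (hg x))
      have hle : P ≤ P₀ := fun x hx => (h1 ⟨x, hx⟩).1
      exact restrict_mem' F hκ hle (fun x => (h1 x).2.symm)
  · -- Sylow
    have hp : IsPGroup p ι.range := C.hS.of_surjective ι.rangeRestrict ι.rangeRestrict_surjective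
    have hnd : ¬ p ∣ ι.range.index := by
      rw [hidx]
      exact not_dvd_index_range_cHom F C.hQS hfa
    exact ⟨hp.toSylow hnd, IsPGroup.toSylow_coe _ _⟩
  · -- `C_G(O_p(G)) ≤ O_p(G)`
    have hNn : ((Q.subgroupOf S).map ι).Normal := by
      refine ⟨fun n hn g => ?_⟩
      obtain ⟨y, hy, rfl⟩ := hn
      obtain ⟨y', hy'⟩ := hconj g ⟨y, hy⟩
      rw [hy']
      exact ⟨y', y'.2, rfl⟩
    have hNp : IsPGroup p ((Q.subgroupOf S).map ι) := (C.hS.to_subgroup _).map ι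
    have hNle := Helper1.le_pCore hNn hNp
    intro g hg
    have hg' := Subgroup.centralizer_le hNle hg
    rw [Subgroup.mem_centralizer_iff] at hg'
    obtain ⟨z, hz, rfl⟩ := hcent g (fun y => (hg' _ ⟨y, y.2, rfl⟩).symm)
    exact hNle ⟨z, ker_le F C.hQS C.hcen z hz, rfl⟩

end Final

end Cfsg.Agent.Lib.Helper84.Model
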