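/-
helper84: uniqueness of models of constrained fusion systems: abstract part.
All declarations live in `Cfsg.Agent.Lib.Helper84.Model`.
-/
import Mathlib
import Cfsg.Agent.Lib.Helper84.ModelCore

set_option autoImplicit false

namespace Cfsg.Agent.Lib.Helper84.Model

open MulAction

universe u v w

namespace BisetData

variable {𝕊 : Type u} {Γ : Type v} {X : Type w} [Group 𝕊] [Group Γ] [MulAction (𝕊 × 𝕊) X] [Finite X]
variable (D : BisetData 𝕊 Γ X)

/-- A group mapping to `NG` compatibly with `𝕊`, with the right kernel and image, is isomorphic to the model. -/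
theorem bijective_of_hom {G₁ : Type*} [Group G₁]
    (hcop : (Nat.card D.c.ker).Coprime (Nat.card (Orb 𝕊 X)))
    (ι₁ : 𝕊 →* G₁) (ψ : G₁ →* D.NG)
    (hψι : ∀ s, ψ (ι₁ s) = D.iota₀ s)
    (hker : ∀ g : G₁, D.beta (ψ g) = 1 → ∃ z : 𝕊, D.c z = 1 ∧ g = ι₁ z)
    (hsurj : ∀ γ : Γ, ∃ g : G₁, D.beta (ψ g) = γ) :
    Function.Bijective ((QuotientGroup.mk' D.K).comp ψ) := by
  constructor
  · rw [injective_iff_map_eq_one]
    intro g hg
    have h1 : ψ g ∈ D.K := (QuotientGroup.eq_one_iff _).1 hg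
    obtain ⟨h2, -⟩ := (D.mem_K_iff _).1 h1
    obtain ⟨z, hz, rfl⟩ := hker g h2
    have h3 : D.iota z = 1 := by
      change QuotientGroup.mk' D.K (D.iota₀ z) = 1
      rw [← hψι]
      exact hg
    rw [(D.iota_injective hcop) (h3.trans (map_one _).symm), map_one]
  · intro q
    obtain ⟨e, rfl⟩ := QuotientGroup.mk'_surjective D.K q
    obtain ⟨g, hg⟩ := hsurj (D.beta e)
    obtain ⟨z, hz⟩ := D.mk_eq_iota_mul hcop e (ψ g) hg.symm
    refine ⟨ι₁ z * g, ?_⟩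
    rw [MonoidHom.comp_apply, map_mul, map_mul, hψι, hz]
    rfl

end BisetData

/-- Two `H`-sets over `B` whose fibres lie in single orbits and whose points have partners with the same image and
the same stabilizer are isomorphic over `B`. -/
theorem exists_equivariant_equiv {H : Type*} [Group H] {X : Type*} {Y : Type*} {B : Type*}
    [MulAction H X] [MulAction H Y] (π : X → B) (π' : Y → B)
    (hπ : ∀ (h : H) (ξ : X) (η : Y), π ξ = π' η → π (h • ξ) = π' (h • η))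
    (hfib : ∀ ξ η : X, π ξ = π η → ∃ h : H, h • ξ = η)
    (hfib' : ∀ ξ η : Y, π' ξ = π' η → ∃ h : H, h • ξ = η)
    (hpt : ∀ ξ : X, ∃ η : Y, π' η = π ξ ∧ ∀ h : H, h • ξ = ξ ↔ h • η = η)
    (hpt' : ∀ η : Y, ∃ ξ : X, π ξ = π' η) :
    ∃ Θ : X ≃ Y, (∀ (h : H) (ξ : X), Θ (h • ξ) = h • Θ ξ) ∧ ∀ ξ : X, π' (Θ ξ) = π ξ := by
  classical
  let s : Setoid X := MulAction.orbitRel H X
  let r : X → X := fun ξ => (Quotient.mk s ξ).out
  have hr : ∀ ξ, ∃ h : H, h • (r ξ) = ξ := by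
    intro ξ
    have h1 : s.r (r ξ) ξ := Quotient.exact (Quotient.out_eq (Quotient.mk s ξ))
    have h2 : r ξ ∈ MulAction.orbit H ξ := h1
    obtain ⟨h, hh⟩ := h2
    exact ⟨h⁻¹, by rw [← hh, inv_smul_smul]⟩
  have hr_eq : ∀ ξ η, (∃ h : H, h • ξ = η) → r ξ = r η := by
    rintro ξ η ⟨h, rfl⟩
    have : Quotient.mk s ξ = Quotient.mk s (h • ξ) := by
      apply Quotient.sound
      show ξ ∈ MulAction.orbit H (h • ξ)
      exact ⟨h⁻¹, inv_smul_smul h ξ⟩
    change (Quotient.mk s ξ).out = (Quotient.mk s (h • ξ)).out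
    rw [this]
  choose hh hhs using hr
  choose q hq1 hq2 using hpt
  have hstab : ∀ (ξ : X) (h h' : H), h • ξ = h' • ξ ↔ h • (q ξ) = h' • (q ξ) := by
    intro ξ h h'
    have e1 : h • ξ = h' • ξ ↔ (h'⁻¹ * h) • ξ = ξ := by
      rw [mul_smul, inv_smul_eq_iff]
    have e2 : h • (q ξ) = h' • (q ξ) ↔ (h'⁻¹ * h) • (q ξ) = q ξ := by
      rw [mul_smul, inv_smul_eq_iff]
    rw [e1, e2]
    exact hq2 ξ _
  let Θ : X → Y := fun ξ => hh ξ • q (r ξ)
  have hΘ : ∀ (h : H) (ξ : X), Θ (h • ξ) = h • Θ ξ := by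
    intro h ξ
    have e1 : r (h • ξ) = r ξ := (hr_eq ξ (h • ξ) ⟨h, rfl⟩).symm
    change hh (h • ξ) • q (r (h • ξ)) = h • (hh ξ • q (r ξ))
    rw [e1, ← mul_smul]
    apply (hstab (r ξ) _ _).1
    have e2 := hhs (h • ξ)
    rw [e1] at e2
    rw [e2, mul_smul, hhs ξ]
  have hΘπ : ∀ ξ : X, π' (Θ ξ) = π ξ := by
    intro ξ
    have e1 := hπ (hh ξ) (r ξ) (q (r ξ)) (hq1 (r ξ)).symm
    rw [hhs ξ] at e1
    exact e1.symm
  have hinj : Function.Injective Θ := by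
    intro ξ η h
    have e1 : π ξ = π η := by rw [← hΘπ ξ, ← hΘπ η, h]
    have e2 : r ξ = r η := hr_eq ξ η (hfib ξ η e1)
    change hh ξ • q (r ξ) = hh η • q (r η) at h
    rw [← e2] at h
    have e3 := (hstab (r ξ) _ _).2 h
    rw [hhs ξ, e2, hhs η] at e3
    exact e3
  have hsurj : Function.Surjective Θ := by
    intro η
    obtain ⟨ξ, hξ⟩ := hpt' η
    obtain ⟨h, hh'⟩ := hfib' (Θ ξ) η (by rw [hΘπ, hξ])
    exact ⟨h • ξ, by rw [hΘ, hh']⟩
  exact ⟨Equiv.ofBijective Θ ⟨hinj, hsurj⟩, hΘ, hΘπ⟩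

end Cfsg.Agent.Lib.Helper84.Model
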