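/-
helper84: uniqueness of models of constrained fusion systems.
All declarations live in `Cfsg.Agent.Lib.Helper84.Model`.
-/
import Mathlib
import Cfsg.Prelude.Def_FusionSystem
import Cfsg.Agent.Lib.Helper84.ModelFusion
import Cfsg.Agent.Lib.Helper84.ModelUnique

set_option autoImplicit false

namespace Cfsg.Agent.Lib.Helper84.Model

open Cfsg Cfsg.FusionSystem Cfsg.Agent.Lib.Helper87 Cfsg.Agent.Lib.Helper88 Cfsg.Agent.S5328

universe u v w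

variable {Ω : Type u} [Group Ω] {S : Subgroup Ω}

/-- conjugation in a realizing group gives maps of the system -/
theorem exists_hom_of_conj {F : FusionSystem S} {G : Type v} [Group G] {ι : S →* G}
    (hr : F.IsRealizedBy ι) {P : Subgroup Ω} (hP : P ≤ S) (g : G)
    (h : ∀ x : P, g * ι ⟨x, hP x.2⟩ * g⁻¹ ∈ ι.range) :
    ∃ (φ : P →* Ω) (hφS : ∀ x : P, φ x ∈ S), φ ∈ F.Hom P ∧
      ∀ x : P, ι ⟨φ x, hφS x⟩ = g * ι ⟨x, hP x.2⟩ * g⁻¹ := by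
  let e : S ≃* ι.range := MonoidHom.ofInjective hr.1
  let f : P →* ι.range :=
    ((MulAut.conj g).toMonoidHom.comp (ι.comp (Subgroup.inclusion hP))).codRestrict ι.range h
  let φ : P →* Ω := S.subtype.comp (e.symm.toMonoidHom.comp f)
  have hφS : ∀ x : P, φ x ∈ S := fun x => (e.symm (f x)).2
  have hφι : ∀ x : P, ι ⟨φ x, hφS x⟩ = g * ι ⟨x, hP x.2⟩ * g⁻¹ := by
    intro x
    have h1 : ι (e.symm (f x)) = (f x : G) := by
      have h2 := e.apply_symm_apply (f x)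
      exact congrArg Subtype.val h2
    exact h1
  exact ⟨φ, hφS, (hr.2 P hP φ hφS).2 ⟨g, hφι⟩, hφι⟩

/-- a model of a saturated fusion system with a given normal centric subgroup -/
structure MCtx (F : FusionSystem S) (Q : Subgroup Ω) (p : ℕ) (G : Type v) [Group G] (ι : S →* G) :
    Prop where
  C : Ctx F Q p
  hM : F.IsModel p G ι

/-- the preimage of `O_p(G)` in `S` -/
def preCore {G : Type v} [Group G] (p : ℕ) (ι : S →* G) : Subgroup Ω :=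
  ((pCore p G).comap ι).map S.subtype

theorem preCore_le {G : Type v} [Group G] (p : ℕ) (ι : S →* G) : preCore p ι ≤ S := by
  rintro _ ⟨s, -, rfl⟩
  exact s.2

theorem preCore_mem {G : Type v} [Group G] (p : ℕ) (ι : S →* G) (x : preCore p ι) :
    ι ⟨x, preCore_le p ι x.2⟩ ∈ pCore p G := by
  obtain ⟨_, s, hs, rfl⟩ := x
  exact hs

theorem conj_preCore {G : Type v} [Group G] (p : ℕ) (ι : S →* G) (g : G) (x : preCore p ι) :
    g * ι ⟨x, preCore_le p ι x.2⟩ * g⁻¹ ∈ pCore p G :=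
  (Helper1.pCore_normal p).conj_mem _ (preCore_mem p ι x) g

namespace MCtx

section basic

variable {p : ℕ} {F : FusionSystem S} {Q : Subgroup Ω}
  {G : Type v} [Group G] {ι : S →* G} (M : MCtx F Q p G ι)

include M

theorem finite : Finite G := M.hM.1

theorem hr : F.IsRealizedBy ι := M.hM.2.1

theorem hinj : Function.Injective ι := M.hM.2.1.1

theorem pCore_le_range : pCore p G ≤ ι.range := by
  obtain ⟨T, hT⟩ := M.hM.2.2.1
  rw [← hT]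
  exact Helper1.pCore_le_sylow p T

theorem cent_pCore : Subgroup.centralizer ((pCore p G : Subgroup G) : Set G) ≤ pCore p G := M.hM.2.2.2

theorem exists_R (k : G) (hk : k ∈ pCore p G) :
    ∃ x : preCore p ι, ι ⟨x, preCore_le p ι x.2⟩ = k := by
  obtain ⟨s, rfl⟩ := M.pCore_le_range hk
  exact ⟨⟨s, s, hk, rfl⟩, rfl⟩

end basic

variable [Finite S] {p : ℕ} [Fact p.Prime] {F : FusionSystem S} {Q : Subgroup Ω}
  {G : Type v} [Group G] {ι : S →* G} (M : MCtx F Q p G ι)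

include M

omit [Finite S] [Fact p.Prime] in
/-- `ι(Q)` is normal in `G` -/
theorem conj_Q (g : G) (y : ↥(Q.subgroupOf S)) :
    ∃ y' : ↥(Q.subgroupOf S), g * ι (y : S) * g⁻¹ = ι (y' : S) := by
  obtain ⟨φ, hφS, hφ, hφι⟩ := exists_hom_of_conj M.hr (preCore_le p ι) g
    (fun x => M.pCore_le_range (conj_preCore p ι g x))
  obtain ⟨ψ, hψ, hψ1, hψ2⟩ := M.C.hQn.2 (preCore p ι) φ hφ
  have hPQS : preCore p ι ⊔ Q ≤ S := hom_le F hψ
  have hψS : ∀ x : ↥(preCore p ι ⊔ Q), ψ x ∈ S := hom_map_mem F hψ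
  obtain ⟨h, hh⟩ := (M.hr.2 (preCore p ι ⊔ Q) hPQS ψ hψS).1 hψ
  have hc : h⁻¹ * g ∈ Subgroup.centralizer ((pCore p G : Subgroup G) : Set G) := by
    rw [Subgroup.mem_centralizer_iff]
    intro k hk
    obtain ⟨x, rfl⟩ := M.exists_R k hk
    have e1 := hφι x
    have e2 := hh (Subgroup.inclusion le_sup_left x)
    have e3 : (⟨ψ (Subgroup.inclusion le_sup_left x), hψS _⟩ : S) = ⟨φ x, hφS x⟩ :=
      Subtype.ext (hψ1 x)
    rw [e3, e1] at e2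
    have e4 : (⟨((Subgroup.inclusion (le_sup_left : preCore p ι ≤ preCore p ι ⊔ Q) x : ↥(preCore p ι ⊔ Q)) : Ω),
        hPQS (Subgroup.inclusion le_sup_left x).2⟩ : S) = ⟨x, preCore_le p ι x.2⟩ := rfl
    rw [e4] at e2
    calc ι ⟨x, preCore_le p ι x.2⟩ * (h⁻¹ * g)
        = h⁻¹ * (h * ι ⟨x, preCore_le p ι x.2⟩ * h⁻¹) * g := by group
      _ = h⁻¹ * (g * ι ⟨x, preCore_le p ι x.2⟩ * g⁻¹) * g := by rw [e2]
      _ = h⁻¹ * g * ι ⟨x, preCore_le p ι x.2⟩ := by group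
  obtain ⟨r, hr'⟩ := M.pCore_le_range (M.cent_pCore hc)
  have hg : g = h * ι r := by rw [hr']; group
  have hQn : (Q.subgroupOf S).Normal := M.C.Qs_normal
  have hyr : ((r * (y : S) * r⁻¹ : S) : Ω) ∈ Q := Subgroup.mem_subgroupOf.1 (hQn.conj_mem _ y.2 r)
  have hyr' : ((r * (y : S) * r⁻¹ : S) : Ω) ∈ preCore p ι ⊔ Q := le_sup_right (a := preCore p ι) hyr
  have h1 := hh ⟨_, hyr'⟩
  have h2 : ψ ⟨_, hyr'⟩ ∈ Q := by
    have h3 : ψ ⟨_, hyr'⟩ ∈ (Q.subgroupOf (preCore p ι ⊔ Q)).map ψ :=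
      ⟨⟨_, hyr'⟩, Subgroup.mem_subgroupOf.2 hyr, rfl⟩
    rw [hψ2] at h3
    exact h3
  refine ⟨⟨⟨ψ ⟨_, hyr'⟩, hψS _⟩, Subgroup.mem_subgroupOf.2 h2⟩, ?_⟩
  rw [h1, hg]
  have e5 : (⟨((⟨_, hyr'⟩ : ↥(preCore p ι ⊔ Q)) : Ω), hPQS hyr'⟩ : S) = r * (y : S) * r⁻¹ := rfl
  rw [e5, map_mul, map_mul, map_inv]
  group

omit [Finite S] [Fact p.Prime] in
theorem Q_le_preCore : Q ≤ preCore p ι := by
  intro y hy
  have hNn : ((Q.subgroupOf S).map ι).Normal := by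
    refine ⟨fun n hn g => ?_⟩
    obtain ⟨y, hy, rfl⟩ := hn
    obtain ⟨y', hy'⟩ := M.conj_Q g ⟨y, hy⟩
    rw [hy']
    exact ⟨y', y'.2, rfl⟩
  have hNp : IsPGroup p ((Q.subgroupOf S).map ι) := (M.C.hS.to_subgroup _).map ι
  have hNle := Helper1.le_pCore hNn hNp
  refine ⟨⟨y, M.C.hQS hy⟩, ?_, rfl⟩
  exact hNle ⟨⟨y, M.C.hQS hy⟩, Subgroup.mem_subgroupOf.2 hy, rfl⟩

/-- the centralizer of `ι(Q)` is `ι(Z(Q))` -/
theorem cent_Q (g : G) (hg : ∀ y : ↥(Q.subgroupOf S), g * ι (y : S) = ι (y : S) * g) :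
    ∃ z : S, (haveI := M.C.Qs_normal; cHom F M.C.hQS z = 1) ∧ g = ι z := by
  have hQn : (Q.subgroupOf S).Normal := M.C.Qs_normal
  obtain ⟨φ, hφS, hφ, hφι⟩ := exists_hom_of_conj M.hr (preCore_le p ι) g
    (fun x => M.pCore_le_range (conj_preCore p ι g x))
  have hQP : Q ≤ preCore p ι := M.Q_le_preCore
  have hPS : preCore p ι ≤ S := preCore_le p ι
  have heq : ∀ x : preCore p ι, (x : Ω) ∈ Q → φ x = (preCore p ι).subtype x := by
    intro x hx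
    have h1 := hφι x
    have h2 := hg ⟨⟨x, hPS x.2⟩, Subgroup.mem_subgroupOf.2 hx⟩
    have h3 : ι ⟨φ x, hφS x⟩ = ι ⟨x, hPS x.2⟩ := by
      rw [h1]
      calc g * ι ⟨x, hPS x.2⟩ * g⁻¹ = (ι ⟨x, hPS x.2⟩ * g) * g⁻¹ := by rw [← h2]
        _ = ι ⟨x, hPS x.2⟩ := by group
    exact congrArg Subtype.val (M.hinj h3)
  obtain ⟨z, hzQ, hz⟩ := eq_comp_conj_of_eqOn_centric F M.C.hS M.C.hF hQP (hPS.trans M.C.hSN) M.C.hQc
    hφ (subtype_mem F hPS) heq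
  have hc : (ι ⟨z, hPS z.2⟩)⁻¹ * g ∈ Subgroup.centralizer ((pCore p G : Subgroup G) : Set G) := by
    rw [Subgroup.mem_centralizer_iff]
    intro k hk
    obtain ⟨x, rfl⟩ := M.exists_R k hk
    have e1 := hφι x
    have e2 : (⟨φ x, hφS x⟩ : S) = ⟨z, hPS z.2⟩ * ⟨x, hPS x.2⟩ * ⟨z, hPS z.2⟩⁻¹ :=
      Subtype.ext (hz x)
    rw [e2, map_mul, map_mul, map_inv] at e1
    calc ι ⟨x, hPS x.2⟩ * ((ι ⟨z, hPS z.2⟩)⁻¹ * g)
        = (ι ⟨z, hPS z.2⟩)⁻¹ * (ι ⟨z, hPS z.2⟩ * ι ⟨x, hPS x.2⟩ * (ι ⟨z, hPS z.2⟩)⁻¹) * g := by group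
      _ = (ι ⟨z, hPS z.2⟩)⁻¹ * (g * ι ⟨x, hPS x.2⟩ * g⁻¹) * g := by rw [e1]
      _ = (ι ⟨z, hPS z.2⟩)⁻¹ * g * ι ⟨x, hPS x.2⟩ := by group
  obtain ⟨r, hr'⟩ := M.pCore_le_range (M.cent_pCore hc)
  have hgs : g = ι (⟨z, hPS z.2⟩ * r) := by rw [map_mul, hr']; group
  refine ⟨⟨z, hPS z.2⟩ * r, ?_, hgs⟩
  rw [cHom_eq_one_iff]
  intro y
  apply M.hinj
  rw [map_mul, map_mul, map_inv, ← hgs, hg y]
  group

/-! ### The map to `Aut_F(Q)` -/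

omit [Finite S] [Fact p.Prime] in
/-- conjugation by `g` on `Q` -/
noncomputable def piFun (g : G) (y : ↥(Q.subgroupOf S)) : ↥(Q.subgroupOf S) :=
  Classical.choose (M.conj_Q g y)

omit [Finite S] [Fact p.Prime] in
theorem piFun_spec (g : G) (y : ↥(Q.subgroupOf S)) :
    ι ((M.piFun g y : ↥(Q.subgroupOf S)) : S) = g * ι (y : S) * g⁻¹ :=
  (Classical.choose_spec (M.conj_Q g y)).symm

omit [Finite S] [Fact p.Prime] in
/-- conjugation by `g` on `Q`, as an automorphism -/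
noncomputable def piAut (g : G) : MulAut ↥(Q.subgroupOf S) where
  toFun := M.piFun g
  invFun := M.piFun g⁻¹
  left_inv y := by
    apply Subtype.ext
    apply M.hinj
    rw [M.piFun_spec, M.piFun_spec]
    group
  right_inv y := by
    apply Subtype.ext
    apply M.hinj
    rw [M.piFun_spec, M.piFun_spec]
    group
  map_mul' y y' := by
    apply Subtype.ext
    apply M.hinj
    rw [M.piFun_spec]
    show _ = ι (((M.piFun g y : ↥(Q.subgroupOf S)) : S) * ((M.piFun g y' : ↥(Q.subgroupOf S)) : S))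
    rw [map_mul, M.piFun_spec, M.piFun_spec]
    show g * ι ((y : S) * (y' : S)) * g⁻¹ = _
    rw [map_mul]
    group

omit [Finite S] [Fact p.Prime] in
theorem piAut_spec (g : G) (y : ↥(Q.subgroupOf S)) :
    ι ((M.piAut g y : ↥(Q.subgroupOf S)) : S) = g * ι (y : S) * g⁻¹ := M.piFun_spec g y

omit [Finite S] [Fact p.Prime] in
/-- conjugation on `Q`, as a homomorphism -/
noncomputable def piHom : G →* MulAut ↥(Q.subgroupOf S) :=
  MonoidHom.mk' M.piAut (fun g h => by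
    refine MulEquiv.ext (fun y => ?_)
    apply Subtype.ext
    apply M.hinj
    show ι ((M.piAut (g * h) y : ↥(Q.subgroupOf S)) : S) =
      ι ((M.piAut g (M.piAut h y) : ↥(Q.subgroupOf S)) : S)
    rw [M.piAut_spec, M.piAut_spec, M.piAut_spec]
    group)

omit [Finite S] [Fact p.Prime] in
theorem piHom_spec (g : G) (y : ↥(Q.subgroupOf S)) :
    ι ((M.piHom g y : ↥(Q.subgroupOf S)) : S) = g * ι (y : S) * g⁻¹ := M.piFun_spec g y

omit [Finite S] [Fact p.Prime] in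
theorem piHom_mem (g : G) : M.piHom g ∈ Γsub F M.C.hQS := by
  rw [mem_Γsub_iff]
  have hQS := M.C.hQS
  obtain ⟨φ, hφS, hφ, hφι⟩ := exists_hom_of_conj M.hr hQS g (fun x => by
    obtain ⟨y', hy'⟩ := M.conj_Q g ⟨⟨x, hQS x.2⟩, Subgroup.mem_subgroupOf.2 x.2⟩
    exact ⟨y', hy'.symm⟩)
  obtain ⟨α, hα, hαφ⟩ := exists_aut_of_range_eq F hφ (isNormal_range_eq F M.C.hQn hφ)
  refine ⟨α, hα, fun y => ?_⟩
  rw [hαφ]
  have h1 := hφι (e₀ hQS y)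
  have h2 := M.piHom_spec g y
  have h3 : (⟨((e₀ hQS y : Q) : Ω), hQS (e₀ hQS y).2⟩ : S) = (y : S) := rfl
  rw [h3, ← h2] at h1
  exact (congrArg Subtype.val (M.hinj h1)).symm

omit [Finite S] [Fact p.Prime] in
/-- the map `G → Aut_F(Q)` -/
noncomputable def πΓ : G →* ↥(Γsub F M.C.hQS) := M.piHom.codRestrict _ M.piHom_mem

omit [Finite S] [Fact p.Prime] in
theorem πΓ_spec (g : G) (y : ↥(Q.subgroupOf S)) :
    ι ((((M.πΓ g : ↥(Γsub F M.C.hQS)) : MulAut ↥(Q.subgroupOf S)) y : ↥(Q.subgroupOf S)) : S) =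
      g * ι (y : S) * g⁻¹ := M.piFun_spec g y

omit [Finite S] [Fact p.Prime] in
theorem πΓ_ext (g : G) (γ : ↥(Γsub F M.C.hQS))
    (h : ∀ y : ↥(Q.subgroupOf S),
      ι ((((γ : MulAut ↥(Q.subgroupOf S)) y : ↥(Q.subgroupOf S)) : S)) = g * ι (y : S) * g⁻¹) :
    M.πΓ g = γ := by
  apply Subtype.ext
  refine MulEquiv.ext (fun y => ?_)
  apply Subtype.ext
  apply M.hinj
  rw [h y]
  exact M.πΓ_spec g y

omit [Finite S] [Fact p.Prime] in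
theorem πΓ_iota (s : S) : M.πΓ (ι s) = (haveI := M.C.Qs_normal; cHom F M.C.hQS s) := by
  apply M.πΓ_ext
  intro y
  have hQn : (Q.subgroupOf S).Normal := M.C.Qs_normal
  rw [cHom_apply, map_mul, map_mul, map_inv]

omit [Finite S] [Fact p.Prime] in
theorem πΓ_eq_one_iff (g : G) :
    M.πΓ g = 1 ↔ ∀ y : ↥(Q.subgroupOf S), g * ι (y : S) = ι (y : S) * g := by
  constructor
  · intro h y
    have h1 := M.πΓ_spec g y
    rw [h] at h1
    have h2 : ι (y : S) = g * ι (y : S) * g⁻¹ := h1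
    calc g * ι (y : S) = (g * ι (y : S) * g⁻¹) * g := by group
      _ = ι (y : S) * g := by rw [← h2]
  · intro h
    apply M.πΓ_ext
    intro y
    show ι (y : S) = _
    rw [h y]
    group

omit [Finite S] [Fact p.Prime] in
theorem πΓ_surj : Function.Surjective M.πΓ := by
  intro γ
  have hQS := M.C.hQS
  obtain ⟨α, hα, hγ⟩ := (mem_Γsub_iff F hQS _).1 γ.2
  have hφ₀m : Q.subtype.comp α.toMonoidHom ∈ F.Hom Q := (mem_autGroup_iff F hQS).1 hα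
  have hφS : ∀ x : Q, (Q.subtype.comp α.toMonoidHom) x ∈ S := hom_map_mem F hφ₀m
  obtain ⟨g, hg⟩ := (M.hr.2 Q hQS _ hφS).1 hφ₀m
  refine ⟨g, M.πΓ_ext g γ (fun y => ?_)⟩
  have h1 := hg (e₀ hQS y)
  have h3 : (⟨((e₀ hQS y : Q) : Ω), hQS (e₀ hQS y).2⟩ : S) = (y : S) := rfl
  rw [h3] at h1
  rw [← h1]
  congr 1
  apply Subtype.ext
  exact hγ y

end MCtx

/-! ### The biset of a model -/

/-- the biset structure on a group receiving `S` -/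
@[instance_reducible]
def bisetAction {G : Type v} [Group G] (ι : S →* G) : MulAction (S × S) G where
  smul ab g := ι ab.1 * g * (ι ab.2)⁻¹
  one_smul g := by
    show ι 1 * g * (ι 1)⁻¹ = g
    rw [map_one, inv_one, mul_one, one_mul]
  mul_smul ab cd g := by
    show ι (ab.1 * cd.1) * g * (ι (ab.2 * cd.2))⁻¹ =
      ι ab.1 * (ι cd.1 * g * (ι cd.2)⁻¹) * (ι ab.2)⁻¹
    rw [map_mul, map_mul]
    group

/-- a group receiving `S`, as an `(S, S)`-biset -/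
def MSet {G : Type v} [Group G] (_ι : S →* G) : Type v := G

instance MSet.instMulAction {G : Type v} [Group G] (ι : S →* G) : MulAction (S × S) (MSet ι) :=
  (bisetAction ι : MulAction (S × S) G)

instance MSet.instFinite {G : Type v} [Group G] [Finite G] (ι : S →* G) : Finite (MSet ι) :=
  (inferInstance : Finite G)

theorem MSet.smul_def {G : Type v} [Group G] (ι : S →* G) (a b : S) (g : G) :
    (((a, b) : S × S) • (show MSet ι from g) : MSet ι) = (ι a * g * (ι b)⁻¹ : G) := rfl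

namespace MCtx

variable [Finite S] {p : ℕ} [Fact p.Prime] {F : FusionSystem S} {Q : Subgroup Ω}
  {G : Type v} [Group G] {ι : S →* G} (M : MCtx F Q p G ι)

/-- the biset data of a model -/
noncomputable def bisetData : BisetData ↥S ↥(Γsub F M.C.hQS) (MSet ι) :=
  haveI : (Q.subgroupOf S).Normal := M.C.Qs_normal
  { c := cHom F M.C.hQS
    π := fun g => M.πΓ g
    Qs := Q.subgroupOf S
    act := (Γsub F M.C.hQS).subtype
    π_smul := fun a b (ξ : G) => by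
      show M.πΓ (ι a * ξ * (ι b)⁻¹) = _
      rw [map_mul, map_mul, map_inv, M.πΓ_iota, M.πΓ_iota]
    π_surj := M.πΓ_surj
    fiber := fun (ξ η : G) h => by
      have h0 : M.πΓ ξ = M.πΓ η := h
      have h1 : M.πΓ (η * ξ⁻¹) = 1 := by
        rw [map_mul, map_inv, ← h0, mul_inv_cancel]
      obtain ⟨z, hz, hzg⟩ := M.cent_Q _ ((M.πΓ_eq_one_iff _).1 h1)
      refine ⟨z, hz, ?_⟩
      show η = ι z * ξ * (ι 1)⁻¹
      rw [← hzg, map_one, inv_one, mul_one, inv_mul_cancel_right]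
    left_free := fun a (ξ : G) h => by
      have h1 : ι a * ξ * (ι 1)⁻¹ = ξ := h
      rw [map_one, inv_one, mul_one, mul_eq_right] at h1
      exact M.hinj (h1.trans (map_one ι).symm)
    ker_le := ker_le F M.C.hQS M.C.hcen
    ker_comm := ker_comm F M.C.hQS M.C.hcen
    left_right := fun y (ξ : G) => by
      have hw := M.πΓ_spec ξ⁻¹ y
      rw [map_inv, inv_inv] at hw
      show ι (y : S) * ξ * (ι 1)⁻¹ =
        ι 1 * ξ * (ι ((((((M.πΓ ξ)⁻¹ : ↥(Γsub F M.C.hQS)) :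
          MulAut ↥(Q.subgroupOf S)) y : ↥(Q.subgroupOf S)) : S))⁻¹)⁻¹
      rw [map_inv, inv_inv, hw, map_one]
      group
    c_act := c_act F M.C.hQS
    faithful := faithful F M.C.hQS }

theorem bisetData_c :
    M.bisetData.c = (haveI : (Q.subgroupOf S).Normal := M.C.Qs_normal; cHom F M.C.hQS) := rfl

theorem bisetData_π (g : G) : M.bisetData.π (show MSet ι from g) = M.πΓ g := rfl

theorem hcop : (Nat.card M.bisetData.c.ker).Coprime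
    (Nat.card (BisetData.Orb ↥S (MSet ι))) := by
  have : (Q.subgroupOf S).Normal := M.C.Qs_normal
  have : Finite (MSet ι) := M.finite
  rw [M.bisetData.card_orb]
  have hfa := (fullyAutomized_receptive_of_weaklyClosed F p M.C.hF
    (weaklyClosed_of_isNormal F M.C.hQn)).1
  exact coprime_cHom F M.C.hQS M.C.hS hfa

end MCtx

/-! ### Comparing two models -/

section Compare

variable [Finite S] {p : ℕ} [Fact p.Prime] {F : FusionSystem S} {Q : Subgroup Ω}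
  {G₁ : Type v} [Group G₁] {ι₁ : S →* G₁} (M₁ : MCtx F Q p G₁ ι₁)
  {G₂ : Type w} [Group G₂] {ι₂ : S →* G₂} (M₂ : MCtx F Q p G₂ ι₂)

include M₁ M₂

/-- every point of `G₁` has a partner in `G₂` with the same image in `Aut_F(Q)` and the same stabilizer -/
theorem stab_partner (g : G₁) : ∃ h : G₂, M₂.πΓ h = M₁.πΓ g ∧
    ∀ a b : S, ι₁ a * g * (ι₁ b)⁻¹ = g ↔ ι₂ a * h * (ι₂ b)⁻¹ = h := by
  have hQn : (Q.subgroupOf S).Normal := M₁.C.Qs_normal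
  have hQS := M₁.C.hQS
  set P : Subgroup Ω := (ι₁.range.comap ((MulAut.conj g).toMonoidHom.comp ι₁)).map S.subtype with hPdef
  have hP : P ≤ S := by
    rintro _ ⟨s, -, rfl⟩
    exact s.2
  have hPmem : ∀ x : P, g * ι₁ ⟨x, hP x.2⟩ * g⁻¹ ∈ ι₁.range := by
    rintro ⟨_, s, hs, rfl⟩
    exact hs
  have hmemP : ∀ b : S, g * ι₁ b * g⁻¹ ∈ ι₁.range → (b : Ω) ∈ P := fun b hb => ⟨b, hb, rfl⟩
  obtain ⟨φ, hφS, hφ, hφι⟩ := exists_hom_of_conj M₁.hr hP g hPmem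
  obtain ⟨h, hh⟩ := (M₂.hr.2 P hP φ hφS).1 hφ
  have hQP : ∀ y : ↥(Q.subgroupOf S), ((y : S) : Ω) ∈ P := by
    intro y
    apply hmemP
    obtain ⟨y', hy'⟩ := M₁.conj_Q g y
    exact ⟨y', hy'.symm⟩
  have hπ : M₂.πΓ h = M₁.πΓ g := by
    apply M₂.πΓ_ext
    intro y
    have h1 := hφι ⟨_, hQP y⟩
    have h2 := M₁.πΓ_spec g y
    have h3 : (⟨((⟨_, hQP y⟩ : P) : Ω), hP (hQP y)⟩ : S) = (y : S) := rfl
    rw [h3, ← h2] at h1
    have h4 := hh ⟨_, hQP y⟩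
    rw [h3] at h4
    rw [← h4, M₁.hinj h1]
  refine ⟨h, hπ, fun a b => ?_⟩
  constructor
  · intro hab
    have h1 : g * ι₁ b * g⁻¹ = ι₁ a := by
      calc g * ι₁ b * g⁻¹ = (ι₁ a * g * (ι₁ b)⁻¹) * ι₁ b * g⁻¹ := by rw [hab]
        _ = ι₁ a := by group
    have hbP : (b : Ω) ∈ P := hmemP b ⟨a, h1.symm⟩
    have h2 := hφι ⟨b, hbP⟩
    have h3 : (⟨((⟨b, hbP⟩ : P) : Ω), hP hbP⟩ : S) = b := rfl
    rw [h3, h1] at h2
    have h4 := hh ⟨b, hbP⟩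
    rw [h3, M₁.hinj h2] at h4
    rw [h4]
    group
  · intro hab
    have h1 : ι₂ a = h * ι₂ b * h⁻¹ := by
      calc ι₂ a = (ι₂ a * h * (ι₂ b)⁻¹) * ι₂ b * h⁻¹ := by group
        _ = h * ι₂ b * h⁻¹ := by rw [hab]
    have h2 := congrArg M₂.πΓ h1
    rw [map_mul, map_mul, map_inv, M₂.πΓ_iota, M₂.πΓ_iota, hπ, ← M₁.πΓ_iota, ← M₁.πΓ_iota,
      ← map_inv, ← map_mul, ← map_mul] at h2
    have h3 : M₁.πΓ ((ι₁ a)⁻¹ * (g * ι₁ b * g⁻¹)) = 1 := by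
      rw [map_mul, map_inv, ← h2, inv_mul_cancel]
    obtain ⟨z, -, hz⟩ := M₁.cent_Q _ ((M₁.πΓ_eq_one_iff _).1 h3)
    have hbP : (b : Ω) ∈ P := by
      apply hmemP
      refine ⟨a * z, ?_⟩
      rw [map_mul, ← hz, mul_inv_cancel_left]
    have h4 := hh ⟨b, hbP⟩
    have h5 : (⟨((⟨b, hbP⟩ : P) : Ω), hP hbP⟩ : S) = b := rfl
    rw [h5, ← h1] at h4
    have h6 := hφι ⟨b, hbP⟩
    rw [h5, M₂.hinj h4] at h6
    rw [h6]
    group

/-- the two models are isomorphic as bisets over `Aut_F(Q)` -/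
theorem exists_biset_equiv : ∃ Θ : G₁ ≃ G₂,
    (∀ (a b : S) (ξ : G₁), Θ (ι₁ a * ξ * (ι₁ b)⁻¹) = ι₂ a * Θ ξ * (ι₂ b)⁻¹) ∧
      ∀ ξ : G₁, M₂.πΓ (Θ ξ) = M₁.πΓ ξ := by
  have hQn : (Q.subgroupOf S).Normal := M₁.C.Qs_normal
  obtain ⟨Θ, hΘ1, hΘ2⟩ := exists_equivariant_equiv (H := S × S) (X := MSet ι₁) (Y := MSet ι₂)
    (fun ξ => M₁.πΓ ξ) (fun η => M₂.πΓ η)
    (by
      rintro ⟨a, b⟩ (ξ : G₁) (η : G₂) h
      show M₁.πΓ (ι₁ a * ξ * (ι₁ b)⁻¹) = M₂.πΓ (ι₂ a * η * (ι₂ b)⁻¹)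
      have h' : M₁.πΓ ξ = M₂.πΓ η := h
      rw [map_mul, map_mul, map_inv, map_mul, map_mul, map_inv, M₁.πΓ_iota, M₁.πΓ_iota,
        M₂.πΓ_iota, M₂.πΓ_iota, h'])
    (by
      intro ξ η h
      obtain ⟨z, -, hz⟩ := M₁.bisetData.fiber ξ η h
      exact ⟨(z, 1), hz.symm⟩)
    (by
      intro ξ η h
      obtain ⟨z, -, hz⟩ := M₂.bisetData.fiber ξ η h
      exact ⟨(z, 1), hz.symm⟩)
    (by
      intro (ξ : G₁)
      obtain ⟨h, h1, h2⟩ := stab_partner M₁ M₂ ξ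
      refine ⟨h, h1, ?_⟩
      rintro ⟨a, b⟩
      exact h2 a b)
    (by
      intro (η : G₂)
      obtain ⟨ξ, hξ⟩ := M₁.πΓ_surj (M₂.πΓ η)
      exact ⟨ξ, hξ⟩)
  exact ⟨Θ, fun a b ξ => hΘ1 (a, b) ξ, hΘ2⟩

end Compare

section Twist

variable [Finite S] {p : ℕ} [Fact p.Prime] {F : FusionSystem S} {Q : Subgroup Ω}
  {G₁ : Type v} [Group G₁] {ι₁ : S →* G₁} (M₁ : MCtx F Q p G₁ ι₁)
  {G₂ : Type w} [Group G₂] {ι₂ : S →* G₂} (M₂ : MCtx F Q p G₂ ι₂)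
  (Θ : G₁ ≃ G₂)
  (hΘ1 : ∀ (a b : S) (ξ : G₁), Θ (ι₁ a * ξ * (ι₁ b)⁻¹) = ι₂ a * Θ ξ * (ι₂ b)⁻¹)
  (hΘ2 : ∀ ξ : G₁, M₂.πΓ (Θ ξ) = M₁.πΓ ξ)

/-- left multiplication by `g`, transported to `G₂` -/
def twistPerm (ι₂ : S →* G₂) (Θ : G₁ ≃ G₂) (g : G₁) : Equiv.Perm (MSet ι₂) where
  toFun := fun (ξ : G₂) => (Θ (g * Θ.symm ξ) : G₂)
  invFun := fun (ξ : G₂) => (Θ (g⁻¹ * Θ.symm ξ) : G₂)
  left_inv := fun (ξ : G₂) => by
    show Θ (g⁻¹ * Θ.symm (Θ (g * Θ.symm ξ))) = ξ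
    rw [Equiv.symm_apply_apply, inv_mul_cancel_left, Equiv.apply_symm_apply]
  right_inv := fun (ξ : G₂) => by
    show Θ (g * Θ.symm (Θ (g⁻¹ * Θ.symm ξ))) = ξ
    rw [Equiv.symm_apply_apply, mul_inv_cancel_left, Equiv.apply_symm_apply]

include hΘ1 hΘ2 in
theorem twistPerm_mem (g : G₁) : twistPerm ι₂ Θ g ∈ M₂.bisetData.NG := by
  refine ⟨fun b (ξ : G₂) => ?_, M₁.πΓ g, fun (ξ : G₂) => ?_⟩
  · show Θ (g * Θ.symm (ι₂ 1 * ξ * (ι₂ b)⁻¹)) = ι₂ 1 * Θ (g * Θ.symm ξ) * (ι₂ b)⁻¹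
    have h1 := hΘ1 1 b (Θ.symm ξ)
    rw [Equiv.apply_symm_apply] at h1
    rw [← h1, Equiv.symm_apply_apply]
    have h2 := hΘ1 1 b (g * Θ.symm ξ)
    rw [← h2, map_one, one_mul, one_mul, mul_assoc]
  · show M₂.πΓ (Θ (g * Θ.symm ξ)) = M₁.πΓ g * M₂.πΓ ξ
    rw [hΘ2, map_mul, ← hΘ2 (Θ.symm ξ), Equiv.apply_symm_apply]

/-- the homomorphism `G₁ → NG(G₂)` -/
noncomputable def twistHom : G₁ →* M₂.bisetData.NG :=
  MonoidHom.mk' (fun g => ⟨twistPerm ι₂ Θ g, twistPerm_mem M₁ M₂ Θ hΘ1 hΘ2 g⟩) (by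
    intro g h
    apply Subtype.ext
    refine Equiv.ext (fun (ξ : G₂) => ?_)
    show Θ (g * h * Θ.symm ξ) = Θ (g * Θ.symm (Θ (h * Θ.symm ξ)))
    rw [Equiv.symm_apply_apply, mul_assoc])

theorem twistHom_iota (s : S) :
    twistHom M₁ M₂ Θ hΘ1 hΘ2 (ι₁ s) = M₂.bisetData.iota₀ s := by
  apply Subtype.ext
  refine Equiv.ext (fun (ξ : G₂) => ?_)
  show Θ (ι₁ s * Θ.symm ξ) = ι₂ s * ξ * (ι₂ 1)⁻¹
  have h1 := hΘ1 s 1 (Θ.symm ξ)
  rw [Equiv.apply_symm_apply, map_one, inv_one, mul_one] at h1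
  exact h1

theorem beta_twistHom (g : G₁) :
    M₂.bisetData.beta (twistHom M₁ M₂ Θ hΘ1 hΘ2 g) = M₁.πΓ g := by
  apply M₂.bisetData.beta_eq _ _ (show MSet ι₂ from (1 : G₂))
  show M₂.πΓ (Θ (g * Θ.symm 1)) = M₁.πΓ g * M₂.πΓ 1
  rw [hΘ2, map_mul, ← hΘ2 (Θ.symm 1), Equiv.apply_symm_apply]

theorem twist_bijective [Finite G₂] :
    Function.Bijective ((QuotientGroup.mk' M₂.bisetData.K).comp (twistHom M₁ M₂ Θ hΘ1 hΘ2)) := by
  apply M₂.bisetData.bijective_of_hom M₂.hcop ι₁ _ (twistHom_iota M₁ M₂ Θ hΘ1 hΘ2)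
  · intro g hg
    rw [beta_twistHom] at hg
    obtain ⟨z, hz, hzg⟩ := M₁.cent_Q g ((M₁.πΓ_eq_one_iff g).1 hg)
    exact ⟨z, hz, hzg⟩
  · intro γ
    obtain ⟨g, hg⟩ := M₁.πΓ_surj γ
    exact ⟨g, by rw [beta_twistHom]; exact hg⟩

end Twist

/-- **Model theorem, uniqueness.** -/
theorem exists_mulEquiv_of_models [Finite S] {p : ℕ} [Fact p.Prime] {F : FusionSystem S} {Q : Subgroup Ω}
    {G₁ : Type v} [Group G₁] {ι₁ : S →* G₁} (M₁ : MCtx F Q p G₁ ι₁)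
    {G₂ : Type w} [Group G₂] {ι₂ : S →* G₂} (M₂ : MCtx F Q p G₂ ι₂) :
    ∃ φ : G₁ ≃* G₂, ∀ x : S, φ (ι₁ x) = ι₂ x := by
  obtain ⟨Θ, hΘ1, hΘ2⟩ := exists_biset_equiv M₁ M₂
  have : Finite G₂ := M₂.finite
  have hr1 : ∀ (a b : S) (ξ : G₂),
      (Equiv.refl G₂) (ι₂ a * ξ * (ι₂ b)⁻¹) = ι₂ a * (Equiv.refl G₂) ξ * (ι₂ b)⁻¹ := fun a b ξ => rfl
  have hr2 : ∀ ξ : G₂, M₂.πΓ ((Equiv.refl G₂) ξ) = M₂.πΓ ξ := fun ξ => rfl
  have hb₁ := twist_bijective M₁ M₂ Θ hΘ1 hΘ2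
  have hb₂ := twist_bijective M₂ M₂ (Equiv.refl G₂) hr1 hr2
  let Ψ₁ := MulEquiv.ofBijective _ hb₁
  let Ψ₂ := MulEquiv.ofBijective _ hb₂
  refine ⟨Ψ₁.trans Ψ₂.symm, fun x => ?_⟩
  show Ψ₂.symm (Ψ₁ (ι₁ x)) = ι₂ x
  rw [MulEquiv.symm_apply_eq]
  show QuotientGroup.mk' M₂.bisetData.K (twistHom M₁ M₂ Θ hΘ1 hΘ2 (ι₁ x)) =
    QuotientGroup.mk' M₂.bisetData.K
      (twistHom M₂ M₂ (Equiv.refl G₂) hr1 hr2 (ι₂ x))
  rw [twistHom_iota, twistHom_iota]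

end Cfsg.Agent.Lib.Helper84.Model
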