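/-
helper84: a criterion for a group to be a model of a constrained fusion system: it realizes the system, the image of the
normal centric subgroup `Q` is normal, and the centralizer of that image lies in the image of `S`.
All declarations live in `Cfsg.Agent.Lib.Helper84.Model`.
-/
import Mathlib
import Cfsg.Prelude.Def_FusionSystem
import Cfsg.Agent.Lib.Helper84.ModelUniqueFusion

set_option autoImplicit false

namespace Cfsg.Agent.Lib.Helper84.Model

open Cfsg Cfsg.FusionSystem Cfsg.Agent.Lib.Helper87 Cfsg.Agent.Lib.Helper88 Cfsg.Agent.S5328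

universe u v w

variable {Ω : Type u} [Group Ω] {S : Subgroup Ω}

/-- a "pre-model": a finite group realizing the system in which the image of `Q` is normal and the centralizer of the image of
`Q` lies in the image of `S` -/
structure PreM (F : FusionSystem S) (Q : Subgroup Ω) (p : ℕ) (G : Type v) [Group G] (ι : S →* G) :
    Prop where
  C : Ctx F Q p
  hfin : Finite G
  hr : F.IsRealizedBy ι
  conj_Q : ∀ (g : G) (y : ↥(Q.subgroupOf S)), ∃ y' : ↥(Q.subgroupOf S), g * ι (y : S) * g⁻¹ = ι (y' : S)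
  cent_Q : ∀ g : G, (∀ y : ↥(Q.subgroupOf S), g * ι (y : S) = ι (y : S) * g) → ∃ z : S, g = ι z

/-- a model is a pre-model -/
theorem MCtx.preM [Finite S] {p : ℕ} [Fact p.Prime] {F : FusionSystem S} {Q : Subgroup Ω}
    {G : Type v} [Group G] {ι : S →* G} (M : MCtx F Q p G ι) : PreM F Q p G ι where
  C := M.C
  hfin := M.finite
  hr := M.hr
  conj_Q := M.conj_Q
  cent_Q := fun g hg => by
    obtain ⟨z, -, hz⟩ := M.cent_Q g hg
    exact ⟨z, hz⟩

namespace PreM

variable {p : ℕ} {F : FusionSystem S} {Q : Subgroup Ω}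
  {G : Type v} [Group G] {ι : S →* G} (M : PreM F Q p G ι)

include M

theorem hinj : Function.Injective ι := M.hr.1

/-- conjugation by `g` on `Q` -/
noncomputable def piFun (g : G) (y : ↥(Q.subgroupOf S)) : ↥(Q.subgroupOf S) :=
  Classical.choose (M.conj_Q g y)

theorem piFun_spec (g : G) (y : ↥(Q.subgroupOf S)) :
    ι ((M.piFun g y : ↥(Q.subgroupOf S)) : S) = g * ι (y : S) * g⁻¹ :=
  (Classical.choose_spec (M.conj_Q g y)).symm

/-- conjugation by `g` on `Q`, as an automorphism -/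
noncomputable def piAut (g : G) : MulAut ↥(Q.subgroupOf S) where
  toFun := M.piFun g
  invFun := M.piFun g⁻¹
  left_inv y := by
    apply Subtype.ext
    apply M.hinj
    rw [M.piFun_spec, M.piFun_spec]
    group
  right_inv y := by
    apply Subtype.ext
    apply M.hinj
    rw [M.piFun_spec, M.piFun_spec]
    group
  map_mul' y y' := by
    apply Subtype.ext
    apply M.hinj
    rw [M.piFun_spec]
    show _ = ι (((M.piFun g y : ↥(Q.subgroupOf S)) : S) * ((M.piFun g y' : ↥(Q.subgroupOf S)) : S))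
    rw [map_mul, M.piFun_spec, M.piFun_spec]
    show g * ι ((y : S) * (y' : S)) * g⁻¹ = _
    rw [map_mul]
    group

theorem piAut_spec (g : G) (y : ↥(Q.subgroupOf S)) :
    ι ((M.piAut g y : ↥(Q.subgroupOf S)) : S) = g * ι (y : S) * g⁻¹ := M.piFun_spec g y

/-- conjugation on `Q`, as a homomorphism -/
noncomputable def piHom : G →* MulAut ↥(Q.subgroupOf S) :=
  MonoidHom.mk' M.piAut (fun g h => by
    refine MulEquiv.ext (fun y => ?_)
    apply Subtype.ext
    apply M.hinj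
    show ι ((M.piAut (g * h) y : ↥(Q.subgroupOf S)) : S) =
      ι ((M.piAut g (M.piAut h y) : ↥(Q.subgroupOf S)) : S)
    rw [M.piAut_spec, M.piAut_spec, M.piAut_spec]
    group)

theorem piHom_spec (g : G) (y : ↥(Q.subgroupOf S)) :
    ι ((M.piHom g y : ↥(Q.subgroupOf S)) : S) = g * ι (y : S) * g⁻¹ := M.piFun_spec g y

theorem piHom_mem (g : G) : M.piHom g ∈ Γsub F M.C.hQS := by
  rw [mem_Γsub_iff]
  have hQS := M.C.hQS
  obtain ⟨φ, hφS, hφ, hφι⟩ := exists_hom_of_conj M.hr hQS g (fun x => by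
    obtain ⟨y', hy'⟩ := M.conj_Q g ⟨⟨x, hQS x.2⟩, Subgroup.mem_subgroupOf.2 x.2⟩
    exact ⟨y', hy'.symm⟩)
  obtain ⟨α, hα, hαφ⟩ := exists_aut_of_range_eq F hφ (isNormal_range_eq F M.C.hQn hφ)
  refine ⟨α, hα, fun y => ?_⟩
  rw [hαφ]
  have h1 := hφι (e₀ hQS y)
  have h2 := M.piHom_spec g y
  have h3 : (⟨((e₀ hQS y : Q) : Ω), hQS (e₀ hQS y).2⟩ : S) = (y : S) := rfl
  rw [h3, ← h2] at h1
  exact (congrArg Subtype.val (M.hinj h1)).symm

/-- the map `G → Aut_F(Q)` -/
noncomputable def πΓ : G →* ↥(Γsub F M.C.hQS) := M.piHom.codRestrict _ M.piHom_mem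

theorem πΓ_spec (g : G) (y : ↥(Q.subgroupOf S)) :
    ι ((((M.πΓ g : ↥(Γsub F M.C.hQS)) : MulAut ↥(Q.subgroupOf S)) y : ↥(Q.subgroupOf S)) : S) =
      g * ι (y : S) * g⁻¹ := M.piFun_spec g y

theorem πΓ_ext (g : G) (γ : ↥(Γsub F M.C.hQS))
    (h : ∀ y : ↥(Q.subgroupOf S),
      ι ((((γ : MulAut ↥(Q.subgroupOf S)) y : ↥(Q.subgroupOf S)) : S)) = g * ι (y : S) * g⁻¹) :
    M.πΓ g = γ := by
  apply Subtype.ext
  refine MulEquiv.ext (fun y => ?_)
  apply Subtype.ext
  apply M.hinj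
  rw [h y]
  exact M.πΓ_spec g y

theorem πΓ_iota (s : S) : M.πΓ (ι s) = (haveI := M.C.Qs_normal; cHom F M.C.hQS s) := by
  apply M.πΓ_ext
  intro y
  have hQn : (Q.subgroupOf S).Normal := M.C.Qs_normal
  rw [cHom_apply, map_mul, map_mul, map_inv]

theorem πΓ_eq_one_iff (g : G) :
    M.πΓ g = 1 ↔ ∀ y : ↥(Q.subgroupOf S), g * ι (y : S) = ι (y : S) * g := by
  constructor
  · intro h y
    have h1 := M.πΓ_spec g y
    rw [h] at h1
    have h2 : ι (y : S) = g * ι (y : S) * g⁻¹ := h1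
    calc g * ι (y : S) = (g * ι (y : S) * g⁻¹) * g := by group
      _ = ι (y : S) * g := by rw [← h2]
  · intro h
    apply M.πΓ_ext
    intro y
    show ι (y : S) = _
    rw [h y]
    group

theorem πΓ_surj : Function.Surjective M.πΓ := by
  intro γ
  have hQS := M.C.hQS
  obtain ⟨α, hα, hγ⟩ := (mem_Γsub_iff F hQS _).1 γ.2
  have hφ₀m : Q.subtype.comp α.toMonoidHom ∈ F.Hom Q := (mem_autGroup_iff F hQS).1 hα
  have hφS : ∀ x : Q, (Q.subtype.comp α.toMonoidHom) x ∈ S := hom_map_mem F hφ₀m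
  obtain ⟨g, hg⟩ := (M.hr.2 Q hQS _ hφS).1 hφ₀m
  refine ⟨g, M.πΓ_ext g γ (fun y => ?_)⟩
  have h1 := hg (e₀ hQS y)
  have h3 : (⟨((e₀ hQS y : Q) : Ω), hQS (e₀ hQS y).2⟩ : S) = (y : S) := rfl
  rw [h3] at h1
  rw [← h1]
  congr 1
  apply Subtype.ext
  exact hγ y

/-- the image of `S` is the preimage of `Aut_S(Q)` -/
theorem range_eq_comap :
    ι.range = (haveI := M.C.Qs_normal; (cHom F M.C.hQS).range).comap M.πΓ := by
  have hQn : (Q.subgroupOf S).Normal := M.C.Qs_normal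
  ext g
  rw [Subgroup.mem_comap]
  constructor
  · rintro ⟨s, rfl⟩
    exact ⟨s, (M.πΓ_iota s).symm⟩
  · rintro ⟨s, hs⟩
    have h1 : M.πΓ (g * (ι s)⁻¹) = 1 := by
      rw [map_mul, map_inv, M.πΓ_iota, ← hs, mul_inv_cancel]
    obtain ⟨z, hz⟩ := M.cent_Q _ ((M.πΓ_eq_one_iff _).1 h1)
    refine ⟨z * s, ?_⟩
    rw [map_mul, ← hz]
    group

/-- **A pre-model is a model.** -/
theorem isModel [Finite S] [Fact p.Prime] : F.IsModel p G ι := by
  have hQn : (Q.subgroupOf S).Normal := M.C.Qs_normal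
  have hfin := M.hfin
  have hfa := (fullyAutomized_receptive_of_weaklyClosed F p M.C.hF
    (weaklyClosed_of_isNormal F M.C.hQn)).1
  refine ⟨M.hfin, M.hr, ?_, ?_⟩
  · have hp : IsPGroup p ι.range := M.C.hS.of_surjective ι.rangeRestrict ι.rangeRestrict_surjective
    have hnd : ¬ p ∣ ι.range.index := by
      rw [M.range_eq_comap, Subgroup.index_comap_of_surjective _ M.πΓ_surj]
      exact not_dvd_index_range_cHom F M.C.hQS hfa
    exact ⟨hp.toSylow hnd, IsPGroup.toSylow_coe _ _⟩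
  · have hNn : ((Q.subgroupOf S).map ι).Normal := by
      refine ⟨fun n hn g => ?_⟩
      obtain ⟨y, hy, rfl⟩ := hn
      obtain ⟨y', hy'⟩ := M.conj_Q g ⟨y, hy⟩
      rw [hy']
      exact ⟨y', y'.2, rfl⟩
    have hNp : IsPGroup p ((Q.subgroupOf S).map ι) := (M.C.hS.to_subgroup _).map ι
    have hNle := Helper1.le_pCore hNn hNp
    intro g hg
    have hg' := Subgroup.centralizer_le hNle hg
    rw [Subgroup.mem_centralizer_iff] at hg'
    have hcomm : ∀ y : ↥(Q.subgroupOf S), g * ι (y : S) = ι (y : S) * g :=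
      fun y => (hg' _ ⟨y, y.2, rfl⟩).symm
    obtain ⟨z, rfl⟩ := M.cent_Q g hcomm
    apply hNle
    refine ⟨z, ?_, rfl⟩
    apply ker_le F M.C.hQS M.C.hcen z
    rw [cHom_eq_one_iff]
    intro y
    apply M.hinj
    rw [map_mul, map_mul, map_inv, hcomm y]
    group

end PreM

end Cfsg.Agent.Lib.Helper84.Model
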