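/-
helper84: models of normalizer systems of centric subgroups embed in models at centric radical subgroups.
All declarations live in `Cfsg.Agent.Lib.Helper84.Model`.
-/
import Mathlib
import Cfsg.Prelude.Def_FusionSystem
import Cfsg.Agent.Lib.Helper84.ModelCriterion
import Cfsg.Agent.S5126

set_option autoImplicit false

namespace Cfsg.Agent.Lib.Helper84.Model

open Cfsg Cfsg.FusionSystem Cfsg.Agent.Lib.Helper87 Cfsg.Agent.Lib.Helper88 Cfsg.Agent.S5328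

universe u v w

variable {Ω : Type u} [Group Ω] {S : Subgroup Ω}

/-- a subgroup normal in the system is normalized by `S` -/
theorem le_normalizer_of_isNormal (F : FusionSystem S) {Q : Subgroup Ω} (hQn : F.IsNormal Q) :
    S ≤ Subgroup.normalizer (Q : Set Ω) := by
  intro g hg
  obtain ⟨α, -, hα⟩ := exists_autInducedBy_of_isNormal F hQn hg
  rw [Subgroup.mem_normalizer_iff]
  intro h
  constructor
  · intro hh
    rw [← hα ⟨h, hh⟩]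
    exact (α ⟨h, hh⟩).2
  · intro hh
    have h1 := hα (α.symm ⟨g * h * g⁻¹, hh⟩)
    rw [MulEquiv.apply_symm_apply] at h1
    have h2 : h = ((α.symm ⟨g * h * g⁻¹, hh⟩ : Q) : Ω) := by
      have : g * h * g⁻¹ = g * ((α.symm ⟨g * h * g⁻¹, hh⟩ : Q) : Ω) * g⁻¹ := h1
      exact mul_left_cancel (mul_right_cancel this)
    rw [h2]
    exact (α.symm ⟨g * h * g⁻¹, hh⟩).2

/-- the automorphism group of `Q` in its normalizer system is `Aut_F(Q)` -/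
theorem autGroup_eq_of_isNormalizerSystem (F : FusionSystem S) {Q : Subgroup Ω} [Finite Q] (hQS : Q ≤ S)
    {N : FusionSystem (normalizerIn S Q)} (hN : F.IsNormalizerSystem Q N) :
    N.autGroup Q = F.autGroup Q := by
  ext α
  rw [mem_autGroup_iff N (le_normalizerIn hQS), mem_autGroup_iff F hQS]
  show Q.subtype.comp (α : Q ≃* Q).toMonoidHom ∈ N.Hom Q ↔ Q.subtype.comp (α : Q ≃* Q).toMonoidHom ∈ F.Hom Q
  rw [hN Q]
  constructor
  · intro h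
    exact h.1
  · intro h
    apply Cfsg.Agent.S5126.mem_normalizerHom_of_map_eq F le_rfl (le_normalizerIn hQS) h
    rw [map_subgroupOf_eq_iff]
    constructor
    · intro x _
      exact (α x).2
    · intro q hq
      refine ⟨α.symm ⟨q, hq⟩, (α.symm ⟨q, hq⟩).2, ?_⟩
      show ((α (α.symm ⟨q, hq⟩) : Q) : Ω) = q
      rw [MulEquiv.apply_symm_apply]

section radical

variable [Finite S] {p : ℕ} [Fact p.Prime] {F : FusionSystem S} {Q : Subgroup Ω}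
  {G : Type v} [Group G] {ι : S →* G} (M : MCtx F Q p G ι)

include M

/-- if `O_p(G)` is the image of `Q` in a model `G`, then `O_p(Aut_F(Q)) = Inn(Q)` -/
theorem MCtx.radical_of_pCore_le (h : pCore p G ≤ (Q.subgroupOf S).map ι) :
    (pCore p (F.autGroup Q)).map (F.autGroup Q).subtype = Inn Q := by
  have hQS := M.C.hQS
  have hQn : (Q.subgroupOf S).Normal := M.C.Qs_normal
  have : Finite Q := finite_of_le hQS
  have hQp : IsPGroup p Q := isPGroup_of_le M.C.hS hQS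
  -- inner automorphisms
  have hInnF : Inn Q ≤ F.autGroup Q := by
    rintro _ ⟨y, rfl⟩
    rw [mem_autGroup_iff F hQS]
    have : Q.subtype.comp (MulAut.conj y : Q ≃* Q).toMonoidHom = conjHom Q (y : Ω) := by
      ext x
      rfl
    show Q.subtype.comp (MulAut.conj y : Q ≃* Q).toMonoidHom ∈ F.Hom Q
    rw [this]
    exact F.conj_mem hQS (hQS y.2)
  apply le_antisymm
  · -- `O_p(Aut_F(Q)) ≤ Inn(Q)`
    rintro _ ⟨α, hα, rfl⟩
    let f : G →* ↥(F.autGroup Q) := (θ F hQS).symm.toMonoidHom.comp M.πΓ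
    have hfsurj : Function.Surjective f := fun a => by
      obtain ⟨g, hg⟩ := M.πΓ_surj (θ F hQS a)
      exact ⟨g, by show (θ F hQS).symm (M.πΓ g) = a; rw [hg, MulEquiv.symm_apply_apply]⟩
    have hker : IsPGroup p f.ker := by
      have hle : f.ker ≤ ι.range := by
        intro g hg
        have h1 : M.πΓ g = 1 := by
          have h2 : (θ F hQS).symm (M.πΓ g) = 1 := hg
          rw [MulEquiv.map_eq_one_iff] at h2
          exact h2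
        obtain ⟨z, -, hz⟩ := M.cent_Q g ((M.πΓ_eq_one_iff g).1 h1)
        exact ⟨z, hz.symm⟩
      exact (M.C.hS.of_surjective ι.rangeRestrict ι.rangeRestrict_surjective).to_le hle
    have hKp : IsPGroup p ((pCore p (F.autGroup Q)).comap f) :=
      (Helper1.pCore_isPGroup p).comap_of_ker_isPGroup f hker
    have hKn : ((pCore p (F.autGroup Q)).comap f).Normal :=
      (Helper1.pCore_normal p).comap f
    have hKle := Helper1.le_pCore hKn hKp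
    obtain ⟨g, hg⟩ := hfsurj α
    have hgK : g ∈ (pCore p (F.autGroup Q)).comap f := by
      rw [Subgroup.mem_comap, hg]
      exact hα
    obtain ⟨y, hy, rfl⟩ := h (hKle hgK)
    refine ⟨e₀ hQS ⟨y, hy⟩, ?_⟩
    -- `α = conj y`
    have h1 : θ F hQS α = M.πΓ (ι y) := by
      rw [← hg]
      exact MulEquiv.apply_symm_apply _ _
    rw [M.πΓ_iota] at h1
    refine MulEquiv.ext (fun x => ?_)
    apply Subtype.ext
    have h2 := θ_apply F hQS α ((e₀ hQS).symm x)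
    rw [h1, MulEquiv.apply_symm_apply] at h2
    have h3 := congrArg (fun s : S => (s : Ω)) h2
    rw [cHom_apply] at h3
    exact h3
  · -- `Inn(Q) ≤ O_p(Aut_F(Q))`
    have hIn : ((Inn Q).subgroupOf (F.autGroup Q)).Normal := Subgroup.Normal.subgroupOf inferInstance _
    have hIp : IsPGroup p ((Inn Q).subgroupOf (F.autGroup Q)) := by
      have h1 : IsPGroup p (Inn Q) :=
        hQp.of_surjective (MulAut.conj (G := Q)).rangeRestrict (MonoidHom.rangeRestrict_surjective _)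
      exact h1.comap_subtype
    have hle := Helper1.le_pCore hIn hIp
    intro α hα
    exact ⟨⟨α, hInnF hα⟩, hle (Subgroup.mem_subgroupOf.2 hα), rfl⟩

end radical

/-- if a homomorphism on `P ⊔ Q` maps `P` and `Q` into `K`, it maps `P ⊔ Q` into `K` -/
theorem hom_sup_mem {P Q : Subgroup Ω} {L : Type v} [Group L] (f : ↥(P ⊔ Q) →* L) (K : Subgroup L)
    (hP : ∀ x : P, f (Subgroup.inclusion le_sup_left x) ∈ K)
    (hQ : ∀ x : Q, f (Subgroup.inclusion le_sup_right x) ∈ K) (x : ↥(P ⊔ Q)) : f x ∈ K := by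
  let B : Subgroup Ω := (K.comap f).map (P ⊔ Q).subtype
  have h1 : P ≤ B := fun y hy => ⟨Subgroup.inclusion le_sup_left ⟨y, hy⟩, hP ⟨y, hy⟩, rfl⟩
  have h2 : Q ≤ B := fun y hy => ⟨Subgroup.inclusion le_sup_right ⟨y, hy⟩, hQ ⟨y, hy⟩, rfl⟩
  obtain ⟨y, hy, hyx⟩ := (sup_le h1 h2) x.2
  have : y = x := Subtype.ext hyx
  rw [← this]
  exact hy

/-- the context of the normalizer system of a fully normalized centric subgroup -/
theorem ctx_of_isNormalizerSystem [Finite S] {p : ℕ} [Fact p.Prime] (hS : IsPGroup p S) (F : FusionSystem S)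
    (hF : F.IsSaturated p) {Q : Subgroup Ω} (hQn : F.IsFullyNormalized Q) (hQc : F.IsCentric Q)
    {N : FusionSystem (normalizerIn S Q)} (hN : F.IsNormalizerSystem Q N) : Ctx N Q p := by
  have hQS := hQn.1
  have : Finite Q := finite_of_le hQS
  refine ⟨isPGroup_of_le hS (normalizerIn_le S Q), isSaturated_of_isNormalizerSystem F hS hF hQn hN,
    Cfsg.Agent.S5126.isNormal_of_isNormalizerSystem F hQS hN, le_normalizerIn hQS, ?_⟩
  rintro Q' ⟨φ, hφ, rfl⟩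
  rw [hN Q] at hφ
  rw [Cfsg.Agent.S5126.range_eq_of_mem_normalizerHom F hφ]
  intro x hx
  exact hQc.2 Q (isConj_refl F hQS) ⟨(normalizerIn_le S Q) hx.1, hx.2⟩

section Sub

variable {Q R : Subgroup Ω} {φ : normalizerIn S Q →* Ω} (hφT : ∀ a, φ a ∈ normalizerIn S R)
  {L : Type v} [Group L] (ιR : normalizerIn S R →* L)

/-- the twisted embedding of `N_S(Q)` -/
def subι₀ : normalizerIn S Q →* L := ιR.comp (φ.codRestrict _ hφT)

theorem subι₀_apply (a : normalizerIn S Q) : subι₀ hφT ιR a = ιR ⟨φ a, hφT a⟩ := rfl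

/-- the image of `Q` -/
def subQbar : Subgroup L := (Q.subgroupOf (normalizerIn S Q)).map (subι₀ hφT ιR)

/-- the normalizer of the image of `Q` -/
def subM : Subgroup L := Subgroup.normalizer ((subQbar hφT ιR : Subgroup L) : Set L)

theorem mem_subQbar_iff (k : L) : k ∈ subQbar hφT ιR ↔
    ∃ a : normalizerIn S Q, (a : Ω) ∈ Q ∧ subι₀ hφT ιR a = k := by
  constructor
  · rintro ⟨a, ha, rfl⟩
    exact ⟨a, Subgroup.mem_subgroupOf.1 ha, rfl⟩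
  · rintro ⟨a, ha, rfl⟩
    exact ⟨a, Subgroup.mem_subgroupOf.2 ha, rfl⟩

theorem subι₀_mem_subM [Finite L] (a : normalizerIn S Q) : subι₀ hφT ιR a ∈ subM hφT ιR := by
  apply Cfsg.Agent.Lib.Helper85.mem_normalizer_of_conj_le_of_finite
  intro k hk
  obtain ⟨q, hq, rfl⟩ := (mem_subQbar_iff hφT ιR k).1 hk
  rw [mem_subQbar_iff]
  refine ⟨a * q * a⁻¹, ?_, by rw [map_mul, map_mul, map_inv]⟩
  exact (Subgroup.mem_normalizer_iff.1 a.2.2 q).1 hq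

/-- the twisted embedding, into the normalizer -/
def subιM [Finite L] : normalizerIn S Q →* subM hφT ιR :=
  (subι₀ hφT ιR).codRestrict _ (subι₀_mem_subM hφT ιR)

theorem coe_subιM [Finite L] (a : normalizerIn S Q) :
    ((subιM hφT ιR a : subM hφT ιR) : L) = ιR ⟨φ a, hφT a⟩ := rfl

end Sub

/-- transport of a map of the system along a map of the system -/
theorem exists_transport_hom (F : FusionSystem S) {A D : Subgroup Ω} {φ : A →* Ω} (hφ : φ ∈ F.Hom A)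
    (hDA : D ≤ A) {χ₁ : D →* Ω} (hχ₁ : χ₁ ∈ F.Hom D) (hχ₁A : ∀ x, χ₁ x ∈ A) :
    ∃ (D' : Subgroup Ω) (χ' : D' →* Ω) (hm : ∀ x : D, φ ⟨x, hDA x.2⟩ ∈ D'), χ' ∈ F.Hom D' ∧
      (∀ y ∈ D', ∃ x : D, φ ⟨x, hDA x.2⟩ = y) ∧
      ∀ x : D, χ' ⟨φ ⟨x, hDA x.2⟩, hm x⟩ = φ ⟨χ₁ x, hχ₁A x⟩ := by
  have hφD : φ.comp (Subgroup.inclusion hDA) ∈ F.Hom D := restrict_mem F hφ hDA
  obtain ⟨ρ, hρ, hρφ⟩ := F.inv_mem hφD
  have hρD : ∀ y : (φ.comp (Subgroup.inclusion hDA)).range, ρ y ∈ D := by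
    rintro ⟨_, x, rfl⟩
    rw [hρφ x]
    exact x.2
  have h1 := F.comp_mem hρ hχ₁ hρD
  have h1A : ∀ y : (φ.comp (Subgroup.inclusion hDA)).range,
      (χ₁.comp (ρ.codRestrict D hρD)) y ∈ A := fun y => hχ₁A _
  have hχ' := F.comp_mem h1 hφ h1A
  refine ⟨(φ.comp (Subgroup.inclusion hDA)).range, _, fun x => ⟨x, rfl⟩, hχ', ?_, fun x => ?_⟩
  · rintro _ ⟨x, rfl⟩
    exact ⟨x, rfl⟩
  · show φ ⟨χ₁ ⟨ρ ⟨φ ⟨x, hDA x.2⟩, ⟨x, rfl⟩⟩, _⟩, _⟩ = φ ⟨χ₁ x, hχ₁A x⟩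
    have h2 : (⟨ρ ⟨φ ⟨x, hDA x.2⟩, ⟨x, rfl⟩⟩, hρD _⟩ : D) = x := Subtype.ext (hρφ x)
    congr 2
    rw [h2]

/-- pull-back of a map of the system along a map of the system -/
theorem exists_pullback_hom (F : FusionSystem S) {A D D' : Subgroup Ω} {φ : A →* Ω} (hφ : φ ∈ F.Hom A)
    (hDA : D ≤ A) (hm : ∀ x : D, φ ⟨x, hDA x.2⟩ ∈ D') {χ' : D' →* Ω} (hχ' : χ' ∈ F.Hom D')
    (hval : ∀ x : D, ∃ a : A, φ a = χ' ⟨φ ⟨x, hDA x.2⟩, hm x⟩) :
    ∃ χt : D →* Ω, χt ∈ F.Hom D ∧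
      ∀ x : D, ∃ h : χt x ∈ A, φ ⟨χt x, h⟩ = χ' ⟨φ ⟨x, hDA x.2⟩, hm x⟩ := by
  have hφD : φ.comp (Subgroup.inclusion hDA) ∈ F.Hom D := restrict_mem F hφ hDA
  have hm' : ∀ x : D, (φ.comp (Subgroup.inclusion hDA)) x ∈ D' := hm
  have h1 := F.comp_mem hφD hχ' hm'
  obtain ⟨ρ, hρ, hρφ⟩ := F.inv_mem hφ
  have h1r : ∀ x : D, (χ'.comp ((φ.comp (Subgroup.inclusion hDA)).codRestrict D' hm')) x ∈ φ.range := by
    intro x
    obtain ⟨a, ha⟩ := hval x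
    exact ⟨a, ha⟩
  have h2 := F.comp_mem h1 hρ h1r
  refine ⟨_, h2, fun x => ?_⟩
  obtain ⟨a, ha⟩ := hval x
  have h3 : (ρ.comp ((χ'.comp ((φ.comp (Subgroup.inclusion hDA)).codRestrict D' hm')).codRestrict
      φ.range h1r)) x = (a : Ω) := by
    rw [← hρφ a]
    show ρ _ = ρ _
    congr 1
    apply Subtype.ext
    exact ha.symm
  refine ⟨by rw [h3]; exact a.2, ?_⟩
  rw [← ha]
  congr 1
  apply Subtype.ext
  exact h3

section SubRealized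

variable [Finite S] {p : ℕ} [Fact p.Prime] (F : FusionSystem S)
  {Q R₀ R : Subgroup Ω} (hQS : Q ≤ S) (hRS : R ≤ S)
  {N : FusionSystem (normalizerIn S Q)} (hN : F.IsNormalizerSystem Q N)
  (hQR₀ : Q ≤ R₀) (hR₀N : N.IsNormal R₀)
  {φ : normalizerIn S Q →* Ω} (hφ : φ ∈ F.Hom (normalizerIn S Q)) (hφT : ∀ a, φ a ∈ normalizerIn S R)
  (hφR : ∀ x : normalizerIn S Q, (x : Ω) ∈ R₀ → φ x ∈ R)
  (hRφ : ∀ r ∈ R, ∃ x : normalizerIn S Q, (x : Ω) ∈ R₀ ∧ φ x = r)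
  {E : FusionSystem (normalizerIn S R)} (hE : F.IsNormalizerSystem R E)
  {L : Type v} [Group L] [Finite L] {ιR : normalizerIn S R →* L} (hr : E.IsRealizedBy ιR)

include hRS hN hQR₀ hR₀N hφ hφR hRφ hE hr in
theorem sub_realized_forward {P : Subgroup Ω} (hP : P ≤ normalizerIn S Q) {χ : P →* Ω}
    (hχ : ∀ x : P, χ x ∈ normalizerIn S Q) (hχN : χ ∈ N.Hom P) :
    ∃ g : subM hφT ιR, ∀ x : P,
      subιM hφT ιR ⟨χ x, hχ x⟩ = g * subιM hφT ιR ⟨x, hP x.2⟩ * g⁻¹ := by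
  have : Finite R := finite_of_le hRS
  have hR₀A : R₀ ≤ normalizerIn S Q := hR₀N.1
  obtain ⟨χ₁, hχ₁, hχ₁P, hχ₁R⟩ := hR₀N.2 P χ hχN
  have hDA : P ⊔ R₀ ≤ normalizerIn S Q := sup_le hP hR₀A
  have hχ₁A : ∀ x : ↥(P ⊔ R₀), χ₁ x ∈ normalizerIn S Q := hom_map_mem N hχ₁
  have hχ₁' := hχ₁
  rw [hN (P ⊔ R₀)] at hχ₁'
  obtain ⟨hχ₁F, -, -, χ₂, hχ₂, hχ₂e, hχ₂Q⟩ := hχ₁'
  rw [map_subgroupOf_eq_iff] at hχ₁R hχ₂Q
  have hQD : Q ≤ P ⊔ R₀ := hQR₀.trans le_sup_right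
  -- `χ₁` preserves `Q`
  have hχ₁Q1 : ∀ x : ↥(P ⊔ R₀), (x : Ω) ∈ Q → χ₁ x ∈ Q := by
    intro x hx
    rw [← hχ₂e x]
    exact hχ₂Q.1 _ hx
  have hχ₁Q2 : ∀ q ∈ Q, ∃ x : ↥(P ⊔ R₀), (x : Ω) ∈ Q ∧ χ₁ x = q := by
    intro q hq
    obtain ⟨x, hx, hxq⟩ := hχ₂Q.2 q hq
    refine ⟨⟨x, hQD hx⟩, hx, ?_⟩
    rw [← hχ₂e, ← hxq]
    congr 1
  -- transport to `φ(P ⊔ R₀)`
  obtain ⟨D', χ', hmemD', hχ', hD'surj, hkey⟩ := exists_transport_hom F hφ hDA hχ₁F hχ₁A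
  have hD'T : D' ≤ normalizerIn S R := by
    intro y hy
    obtain ⟨x, rfl⟩ := hD'surj y hy
    exact hφT _
  have hRD' : R ≤ D' := by
    intro r hr'
    obtain ⟨x, hx, rfl⟩ := hRφ r hr'
    exact hmemD' ⟨x, le_sup_right (a := P) hx⟩
  have hχ'R : (R.subgroupOf D').map χ' = R := by
    rw [map_subgroupOf_eq_iff]
    constructor
    · rintro ⟨y, hy⟩ hyR
      obtain ⟨x, rfl⟩ := hD'surj y hy
      have hx₀ : (x : Ω) ∈ R₀ := by
        obtain ⟨x', hx', hxx'⟩ := hRφ _ hyR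
        have h2 : (⟨x, hDA x.2⟩ : normalizerIn S Q) = x' := (F.injective_of_mem hφ hxx').symm
        have h3 : (x : Ω) = x' := congrArg (fun z : normalizerIn S Q => (z : Ω)) h2
        rw [h3]
        exact hx'
      rw [hkey x]
      exact hφR _ (hχ₁R.1 x hx₀)
    · intro r hr'
      obtain ⟨x, hx, rfl⟩ := hRφ r hr'
      obtain ⟨x₁, hx₁, hx₁x⟩ := hχ₁R.2 x hx
      refine ⟨⟨φ ⟨x₁, hDA x₁.2⟩, hmemD' x₁⟩, hφR _ hx₁, ?_⟩
      rw [hkey x₁]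
      congr 1
      exact Subtype.ext hx₁x
  have hχ'E : χ' ∈ E.Hom D' := by
    rw [hE D']
    exact Cfsg.Agent.S5126.mem_normalizerHom_of_map_eq F hRD' hD'T hχ' hχ'R
  have hχ'T : ∀ y : D', χ' y ∈ normalizerIn S R := hom_map_mem E hχ'E
  obtain ⟨g, hg⟩ := (hr.2 D' hD'T χ' hχ'T).1 hχ'E
  -- the formula for `g`
  have hgx : ∀ x : ↥(P ⊔ R₀), subι₀ hφT ιR ⟨χ₁ x, hχ₁A x⟩ = g * subι₀ hφT ιR ⟨x, hDA x.2⟩ * g⁻¹ := by
    intro x
    have h2 := hg ⟨φ ⟨x, hDA x.2⟩, hmemD' x⟩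
    rw [subι₀_apply, subι₀_apply, ← h2]
    congr 1
    apply Subtype.ext
    exact (hkey x).symm
  have hgM : g ∈ subM hφT ιR := by
    apply Cfsg.Agent.Lib.Helper85.mem_normalizer_of_conj_le_of_finite
    intro k hk
    obtain ⟨q, hq, rfl⟩ := (mem_subQbar_iff hφT ιR k).1 hk
    rw [mem_subQbar_iff]
    have h2 := hgx ⟨q, hQD hq⟩
    exact ⟨⟨χ₁ ⟨q, hQD hq⟩, hχ₁A _⟩, hχ₁Q1 ⟨q, hQD hq⟩ hq, h2⟩
  refine ⟨⟨g, hgM⟩, fun x => ?_⟩
  apply Subtype.ext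
  have h2 := hgx (Subgroup.inclusion le_sup_left x)
  show subι₀ hφT ιR ⟨χ x, hχ x⟩ = g * subι₀ hφT ιR ⟨x, hP x.2⟩ * g⁻¹
  have h3 : (⟨χ x, hχ x⟩ : normalizerIn S Q) =
      ⟨χ₁ (Subgroup.inclusion le_sup_left x), hχ₁A _⟩ := Subtype.ext (hχ₁P x).symm
  rw [h3]
  exact h2

omit [Finite S] in
include hQS hN hφ hE hr in
theorem sub_realized_backward {P : Subgroup Ω} (hP : P ≤ normalizerIn S Q) {χ : P →* Ω}
    (hχ : ∀ x : P, χ x ∈ normalizerIn S Q) (g : subM hφT ιR)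
    (hg : ∀ x : P, subιM hφT ιR ⟨χ x, hχ x⟩ = g * subιM hφT ιR ⟨x, hP x.2⟩ * g⁻¹) :
    χ ∈ N.Hom P := by
  have hQA : Q ≤ normalizerIn S Q := le_normalizerIn hQS
  have hDA : P ⊔ Q ≤ normalizerIn S Q := sup_le hP hQA
  have hinj : Function.Injective (subι₀ hφT ιR) := by
    intro a b hab
    have h1 : (⟨φ a, hφT a⟩ : normalizerIn S R) = ⟨φ b, hφT b⟩ := hr.1 hab
    exact F.injective_of_mem hφ (congrArg Subtype.val h1)
  have hg₀ : ∀ x : P, subι₀ hφT ιR ⟨χ x, hχ x⟩ = (g : L) * subι₀ hφT ιR ⟨x, hP x.2⟩ * (g : L)⁻¹ :=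
    fun x => congrArg Subtype.val (hg x)
  have hgN := g.2
  have hgQ1 : ∀ k ∈ subQbar hφT ιR, (g : L) * k * (g : L)⁻¹ ∈ subQbar hφT ιR :=
    fun k hk => (Subgroup.mem_normalizer_iff.1 hgN k).1 hk
  have hgQ2 : ∀ k ∈ subQbar hφT ιR, (g : L)⁻¹ * k * (g : L) ∈ subQbar hφT ιR := by
    intro k hk
    apply (Subgroup.mem_normalizer_iff.1 hgN _).2
    have : (g : L) * ((g : L)⁻¹ * k * (g : L)) * (g : L)⁻¹ = k := by group
    rw [this]
    exact hk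
  -- conjugation by `g` maps the image of `P ⊔ Q` into the image of `N_S(Q)`
  have hclaim : ∀ x : ↥(P ⊔ Q), ∃ a : normalizerIn S Q,
      subι₀ hφT ιR a = (g : L) * subι₀ hφT ιR ⟨x, hDA x.2⟩ * (g : L)⁻¹ := by
    intro x
    have := hom_sup_mem ((MulAut.conj (g : L)).toMonoidHom.comp
      ((subι₀ hφT ιR).comp (Subgroup.inclusion hDA))) (subι₀ hφT ιR).range
      (fun y => ⟨⟨χ y, hχ y⟩, hg₀ y⟩)
      (fun y => by
        have h1 := hgQ1 _ ((mem_subQbar_iff hφT ιR _).2 ⟨⟨y, hQA y.2⟩, y.2, rfl⟩)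
        obtain ⟨a, -, ha⟩ := (mem_subQbar_iff hφT ιR _).1 h1
        exact ⟨a, ha⟩) x
    exact this
  -- the map of `N_F(R)` induced by `g`
  obtain ⟨D', χ₀, hmemD', -, hD'surj, -⟩ := exists_transport_hom F hφ hDA
    (subtype_mem F (hDA.trans (normalizerIn_le S Q))) (fun x => hDA x.2)
  have hD'T : D' ≤ normalizerIn S R := by
    intro y hy
    obtain ⟨x, rfl⟩ := hD'surj y hy
    exact hφT _
  obtain ⟨χ', hχ'T, hχ'E, hχ'g⟩ := exists_hom_of_conj hr hD'T (g : L) (by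
    rintro ⟨y, hy⟩
    obtain ⟨x, rfl⟩ := hD'surj y hy
    obtain ⟨a, ha⟩ := hclaim x
    exact ⟨⟨φ a, hφT a⟩, ha⟩)
  have hχ'F : χ' ∈ F.Hom D' := by
    rw [hE D'] at hχ'E
    exact hχ'E.1
  have hval : ∀ x : ↥(P ⊔ Q), ∃ a : normalizerIn S Q, φ a = χ' ⟨φ ⟨x, hDA x.2⟩, hmemD' x⟩ := by
    intro x
    obtain ⟨a, ha⟩ := hclaim x
    refine ⟨a, ?_⟩
    have h1 := hχ'g ⟨φ ⟨x, hDA x.2⟩, hmemD' x⟩
    have h2 : ιR ⟨φ a, hφT a⟩ = ιR ⟨χ' ⟨φ ⟨x, hDA x.2⟩, hmemD' x⟩, hχ'T _⟩ := by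
      rw [h1]
      exact ha
    exact congrArg Subtype.val (hr.1 h2)
  obtain ⟨χt, hχt, hχtφ⟩ := exists_pullback_hom F hφ hDA hmemD' hχ'F hval
  -- the key property of `χt`
  have hχtg : ∀ x : ↥(P ⊔ Q), ∃ h : χt x ∈ normalizerIn S Q,
      subι₀ hφT ιR ⟨χt x, h⟩ = (g : L) * subι₀ hφT ιR ⟨x, hDA x.2⟩ * (g : L)⁻¹ := by
    intro x
    obtain ⟨h, h1⟩ := hχtφ x
    refine ⟨h, ?_⟩
    have h2 := hχ'g ⟨φ ⟨x, hDA x.2⟩, hmemD' x⟩
    rw [subι₀_apply, subι₀_apply]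
    refine Eq.trans ?_ h2
    congr 1
    exact Subtype.ext h1
  rw [hN P]
  refine ⟨?_, hP, hχ, χt, hχt, ?_, ?_⟩
  · refine restrict_mem' F hχt le_sup_left (fun x => ?_)
    obtain ⟨h, h1⟩ := hχtg ⟨x, le_sup_left (b := Q) x.2⟩
    have h2 : subι₀ hφT ιR ⟨χt ⟨x, le_sup_left (b := Q) x.2⟩, h⟩ = subι₀ hφT ιR ⟨χ x, hχ x⟩ := by
      rw [h1, hg₀ x]
    exact (congrArg Subtype.val (hinj h2)).symm
  · intro x
    obtain ⟨h, h1⟩ := hχtg (Subgroup.inclusion le_sup_left x)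
    have h2 : subι₀ hφT ιR ⟨χt (Subgroup.inclusion le_sup_left x), h⟩ = subι₀ hφT ιR ⟨χ x, hχ x⟩ := by
      rw [h1, hg₀ x]
      rfl
    exact congrArg Subtype.val (hinj h2)
  · rw [map_subgroupOf_eq_iff]
    constructor
    · intro x hx
      obtain ⟨h, h1⟩ := hχtg x
      have h2 := hgQ1 _ ((mem_subQbar_iff hφT ιR _).2 ⟨⟨x, hDA x.2⟩, hx, rfl⟩)
      rw [← h1] at h2
      obtain ⟨a, ha, haa⟩ := (mem_subQbar_iff hφT ιR _).1 h2
      have h3 := congrArg Subtype.val (hinj haa)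
      rw [← show (a : Ω) = χt x from h3]
      exact ha
    · intro q hq
      have h2 := hgQ2 _ ((mem_subQbar_iff hφT ιR _).2 ⟨⟨q, hQA hq⟩, hq, rfl⟩)
      obtain ⟨a, ha, haa⟩ := (mem_subQbar_iff hφT ιR _).1 h2
      refine ⟨⟨a, le_sup_right (a := P) ha⟩, ha, ?_⟩
      obtain ⟨h, h1⟩ := hχtg ⟨a, le_sup_right (a := P) ha⟩
      have h3 : subι₀ hφT ιR ⟨χt ⟨a, le_sup_right (a := P) ha⟩, h⟩ = subι₀ hφT ιR ⟨q, hQA hq⟩ := by
        rw [h1]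
        have h4 : (⟨((⟨(a : Ω), le_sup_right (a := P) ha⟩ : ↥(P ⊔ Q)) : Ω), hDA (le_sup_right (a := P) ha)⟩ :
            normalizerIn S Q) = a := rfl
        rw [h4, haa]
        group
      exact congrArg Subtype.val (hinj h3)

end SubRealized

section SubCent

variable [Finite S] {p : ℕ} [Fact p.Prime] (hS : IsPGroup p S) (F : FusionSystem S) (hF : F.IsSaturated p)
  {Q R₀ R : Subgroup Ω} (hQS : Q ≤ S) (hQc : F.IsCentric Q)
  (hQR₀ : Q ≤ R₀) (hR₀A : R₀ ≤ normalizerIn S Q)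
  {φ : normalizerIn S Q →* Ω} (hφ : φ ∈ F.Hom (normalizerIn S Q)) (hφT : ∀ a, φ a ∈ normalizerIn S R)
  (hφR : ∀ x : normalizerIn S Q, (x : Ω) ∈ R₀ → φ x ∈ R)
  (hRφ : ∀ r ∈ R, ∃ x : normalizerIn S Q, (x : Ω) ∈ R₀ ∧ φ x = r)
  {E : FusionSystem (normalizerIn S R)} (hE : F.IsNormalizerSystem R E)
  {L : Type v} [Group L] {ιR : normalizerIn S R →* L} (MR : MCtx E R p L ιR)

include hS hF hQS hQc hQR₀ hφ hφR hRφ hE MR in
/-- the centralizer of the image of `Q` is contained in the image of `Q` -/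
theorem sub_cent (g : L) (hg : ∀ k ∈ subQbar hφT ιR, g * k = k * g) :
    ∃ a : normalizerIn S Q, (a : Ω) ∈ Q ∧ g = subι₀ hφT ιR a := by
  have hRS : R ≤ S := MR.C.hQS.trans (normalizerIn_le S R)
  have hRT : R ≤ normalizerIn S R := MR.C.hQS
  have hQA : Q ≤ normalizerIn S Q := le_normalizerIn hQS
  have hιinj := MR.hinj
  obtain ⟨χ, hχT, hχE, hχg⟩ := exists_hom_of_conj MR.hr hRT g (by
    intro x
    obtain ⟨y', hy'⟩ := MR.conj_Q g ⟨⟨x, hRT x.2⟩, Subgroup.mem_subgroupOf.2 x.2⟩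
    exact ⟨y', hy'.symm⟩)
  have hχF : χ ∈ F.Hom R := by
    rw [hE R] at hχE
    exact hχE.1
  have hφQ : φ.comp (Subgroup.inclusion hQA) ∈ F.Hom Q := restrict_mem F hφ hQA
  have hQ'c : F.IsCentric (φ.comp (Subgroup.inclusion hQA)).range :=
    isCentric_of_isConj F hQc ⟨_, hφQ, rfl⟩
  have hQ'S : (φ.comp (Subgroup.inclusion hQA)).range ≤ S := hQ'c.1
  have : Finite (φ.comp (Subgroup.inclusion hQA)).range := finite_of_le hQ'S
  have hQ'R : (φ.comp (Subgroup.inclusion hQA)).range ≤ R := by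
    rintro _ ⟨q, rfl⟩
    exact hφR _ (hQR₀ q.2)
  have hRNQ' : R ≤ Subgroup.normalizer (((φ.comp (Subgroup.inclusion hQA)).range : Subgroup Ω) : Set Ω) := by
    intro r hr
    obtain ⟨x, hx, rfl⟩ := hRφ r hr
    apply Cfsg.Agent.Lib.Helper85.mem_normalizer_of_conj_le_of_finite
    rintro _ ⟨q, rfl⟩
    have h1 : (x : Ω) * q * (x : Ω)⁻¹ ∈ Q := (Subgroup.mem_normalizer_iff.1 x.2.2 q).1 q.2
    refine ⟨⟨_, h1⟩, ?_⟩
    show φ ⟨(x : Ω) * q * (x : Ω)⁻¹, hQA h1⟩ = φ x * φ ⟨q, hQA q.2⟩ * (φ x)⁻¹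
    rw [← map_inv, ← map_mul, ← map_mul]
    rfl
  -- the image of `Q'` under `ιR` is `subQbar`
  have hbar : ∀ q : Q, ιR ⟨φ ⟨q, hQA q.2⟩, hφT _⟩ ∈ subQbar hφT ιR := fun q =>
    (mem_subQbar_iff hφT ιR _).2 ⟨⟨q, hQA q.2⟩, q.2, rfl⟩
  have hconj : ∀ k ∈ subQbar hφT ιR, g * k * g⁻¹ = k := by
    intro k hk
    rw [hg k hk, mul_inv_cancel_right]
  have heq : ∀ x : R, (x : Ω) ∈ (φ.comp (Subgroup.inclusion hQA)).range → χ x = R.subtype x := by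
    rintro x ⟨q, hq⟩
    have hq' : φ ⟨q, hQA q.2⟩ = (x : Ω) := hq
    have h1 := hχg x
    have h2 : (⟨(x : Ω), hRT x.2⟩ : normalizerIn S R) = ⟨φ ⟨q, hQA q.2⟩, hφT _⟩ := Subtype.ext hq'.symm
    rw [h2, hconj _ (hbar q), ← h2] at h1
    exact congrArg Subtype.val (hιinj h1)
  obtain ⟨z, hzQ', hz⟩ := eq_comp_conj_of_eqOn_centric F hS hF hQ'R hRNQ' hQ'c hχF (subtype_mem F hRS) heq
  -- `(ιR z)⁻¹ g` centralizes the image of `R`
  have hcomm : ∀ y : ↥(R.subgroupOf (normalizerIn S R)),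
      ((ιR ⟨z, hRT z.2⟩)⁻¹ * g) * ιR (y : normalizerIn S R) =
        ιR (y : normalizerIn S R) * ((ιR ⟨z, hRT z.2⟩)⁻¹ * g) := by
    intro y
    have hyR : ((y : normalizerIn S R) : Ω) ∈ R := Subgroup.mem_subgroupOf.1 y.2
    have h1 := hχg ⟨_, hyR⟩
    have h2 : (⟨χ ⟨_, hyR⟩, hχT _⟩ : normalizerIn S R) =
        ⟨z, hRT z.2⟩ * (y : normalizerIn S R) * ⟨z, hRT z.2⟩⁻¹ := Subtype.ext (hz ⟨_, hyR⟩)
    rw [h2, map_mul, map_mul, map_inv] at h1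
    have h3 : (⟨((⟨_, hyR⟩ : R) : Ω), hRT hyR⟩ : normalizerIn S R) = (y : normalizerIn S R) := rfl
    rw [h3] at h1
    calc ((ιR ⟨z, hRT z.2⟩)⁻¹ * g) * ιR (y : normalizerIn S R)
        = (ιR ⟨z, hRT z.2⟩)⁻¹ * (g * ιR (y : normalizerIn S R) * g⁻¹) * g := by group
      _ = (ιR ⟨z, hRT z.2⟩)⁻¹ * (ιR ⟨z, hRT z.2⟩ * ιR (y : normalizerIn S R) * (ιR ⟨z, hRT z.2⟩)⁻¹) * g := by
          rw [h1]
      _ = ιR (y : normalizerIn S R) * ((ιR ⟨z, hRT z.2⟩)⁻¹ * g) := by group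
  have : Finite (normalizerIn S R) := finite_of_le (normalizerIn_le S R)
  obtain ⟨s, -, hs⟩ := MR.cent_Q _ hcomm
  have hgt : g = ιR (⟨z, hRT z.2⟩ * s) := by
    rw [map_mul, ← hs]
    group
  -- `t = z s` centralizes `Q'`
  have htc : ((⟨z, hRT z.2⟩ * s : normalizerIn S R) : Ω) ∈
      centralizerIn S (φ.comp (Subgroup.inclusion hQA)).range := by
    refine ⟨normalizerIn_le S R (⟨z, hRT z.2⟩ * s : normalizerIn S R).2, ?_⟩
    show _ ∈ Subgroup.centralizer _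
    rw [Subgroup.mem_centralizer_iff]
    rintro _ ⟨q, rfl⟩
    have h1 := hconj _ (hbar q)
    rw [hgt, ← map_inv, ← map_mul, ← map_mul] at h1
    have h2 := congrArg (fun t : normalizerIn S R => (t : Ω)) (hιinj h1)
    have h3 : ((⟨z, hRT z.2⟩ * s : normalizerIn S R) : Ω) * φ ⟨q, hQA q.2⟩ *
        ((⟨z, hRT z.2⟩ * s : normalizerIn S R) : Ω)⁻¹ = φ ⟨q, hQA q.2⟩ := h2
    show φ ⟨q, hQA q.2⟩ * _ = _ * φ ⟨q, hQA q.2⟩
    calc φ ⟨q, hQA q.2⟩ * ((⟨z, hRT z.2⟩ * s : normalizerIn S R) : Ω)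
        = (((⟨z, hRT z.2⟩ * s : normalizerIn S R) : Ω) * φ ⟨q, hQA q.2⟩ *
          ((⟨z, hRT z.2⟩ * s : normalizerIn S R) : Ω)⁻¹) * ((⟨z, hRT z.2⟩ * s : normalizerIn S R) : Ω) := by
          rw [h3]
      _ = ((⟨z, hRT z.2⟩ * s : normalizerIn S R) : Ω) * φ ⟨q, hQA q.2⟩ := by group
  obtain ⟨q₀, hq₀⟩ := hQ'c.2 _ (isConj_refl F hQ'S) htc
  refine ⟨⟨q₀, hQA q₀.2⟩, q₀.2, ?_⟩
  rw [hgt, subι₀_apply]
  congr 1
  apply Subtype.ext
  exact hq₀.symm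

end SubCent

section SubPreM

variable [Finite S] {p : ℕ} [Fact p.Prime] (hS : IsPGroup p S) (F : FusionSystem S) (hF : F.IsSaturated p)
  {Q R₀ R : Subgroup Ω} (hQn : F.IsFullyNormalized Q) (hQc : F.IsCentric Q)
  {N : FusionSystem (normalizerIn S Q)} (hN : F.IsNormalizerSystem Q N)
  (hQR₀ : Q ≤ R₀) (hR₀N : N.IsNormal R₀)
  {φ : normalizerIn S Q →* Ω} (hφ : φ ∈ F.Hom (normalizerIn S Q)) (hφT : ∀ a, φ a ∈ normalizerIn S R)
  (hφR : ∀ x : normalizerIn S Q, (x : Ω) ∈ R₀ → φ x ∈ R)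
  (hRφ : ∀ r ∈ R, ∃ x : normalizerIn S Q, (x : Ω) ∈ R₀ ∧ φ x = r)
  {E : FusionSystem (normalizerIn S R)} (hE : F.IsNormalizerSystem R E)
  {L : Type v} [Group L] [Finite L] {ιR : normalizerIn S R →* L} (MR : MCtx E R p L ιR)

include hS hF hQn hQc hN hQR₀ hR₀N hφ hφR hRφ hE MR in
/-- the normalizer of the (twisted) image of `Q` in a model of `N_F(R)` is a pre-model of `N_F(Q)` -/
theorem sub_preM : PreM N Q p ↥(subM hφT ιR) (subιM hφT ιR) := by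
  have hQS : Q ≤ S := hQn.1
  have hRS : R ≤ S := MR.C.hQS.trans (normalizerIn_le S R)
  have hQA : Q ≤ normalizerIn S Q := le_normalizerIn hQS
  have hinj : Function.Injective (subιM hφT ιR) := by
    intro a b hab
    have h0 : ιR ⟨φ a, hφT a⟩ = ιR ⟨φ b, hφT b⟩ := congrArg Subtype.val hab
    have h1 : (⟨φ a, hφT a⟩ : normalizerIn S R) = ⟨φ b, hφT b⟩ := MR.hinj h0
    exact F.injective_of_mem hφ (congrArg Subtype.val h1)
  refine ⟨ctx_of_isNormalizerSystem hS F hF hQn hQc hN, inferInstance, ⟨hinj, ?_⟩, ?_, ?_⟩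
  · intro P hP χ hχ
    constructor
    · intro hχN
      exact sub_realized_forward F hRS hN hQR₀ hR₀N hφ hφT hφR hRφ hE MR.hr hP hχ hχN
    · rintro ⟨g, hg⟩
      exact sub_realized_backward F hQS hN hφ hφT hE MR.hr hP hχ g hg
  · intro g y
    have hy : (((y : normalizerIn S Q)) : Ω) ∈ Q := Subgroup.mem_subgroupOf.1 y.2
    have h1 : (g : L) * subι₀ hφT ιR (y : normalizerIn S Q) * (g : L)⁻¹ ∈ subQbar hφT ιR :=
      (Subgroup.mem_normalizer_iff.1 g.2 _).1 ((mem_subQbar_iff hφT ιR _).2 ⟨y, hy, rfl⟩)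
    obtain ⟨a, ha, haa⟩ := (mem_subQbar_iff hφT ιR _).1 h1
    refine ⟨⟨a, Subgroup.mem_subgroupOf.2 ha⟩, ?_⟩
    apply Subtype.ext
    exact haa.symm
  · intro g hg
    have hg' : ∀ k ∈ subQbar hφT ιR, (g : L) * k = k * (g : L) := by
      intro k hk
      obtain ⟨a, ha, rfl⟩ := (mem_subQbar_iff hφT ιR k).1 hk
      exact congrArg Subtype.val (hg ⟨a, Subgroup.mem_subgroupOf.2 ha⟩)
    obtain ⟨a, -, ha⟩ := sub_cent hS F hF hQS hQc hQR₀ hφ hφT hφR hRφ hE MR (g : L) hg'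
    exact ⟨a, Subtype.ext ha⟩

include hS hF hQn hQc hN hQR₀ hR₀N hφ hφR hRφ hE MR in
/-- the normalizer of the (twisted) image of `Q` in a model of `N_F(R)` is a model of `N_F(Q)` -/
theorem sub_isModel : N.IsModel p ↥(subM hφT ιR) (subιM hφT ιR) := by
  have : Finite (normalizerIn S Q) := finite_of_le (normalizerIn_le S Q)
  exact (sub_preM hS F hF hQn hQc hN hQR₀ hR₀N hφ hφT hφR hRφ hE MR).isModel

end SubPreM

end Cfsg.Agent.Lib.Helper84.Model
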