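/-
helper84: every model of the normalizer system of a fully normalized centric subgroup embeds in a model of the normalizer
system of a fully normalized centric radical subgroup.
All declarations live in `Cfsg.Agent.Lib.Helper84.Model`.
-/
import Mathlib
import Cfsg.Prelude.Def_FusionSystem
import Cfsg.Agent.Lib.Helper84.ModelSub
import Cfsg.Agent.Lib.Helper88.FusionEssential
import Cfsg.Agent.Lib.Helper88.FusionModelBasic
import Cfsg.Agent.Lib.Helper85.FusionRS

set_option autoImplicit false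

namespace Cfsg.Agent.Lib.Helper84.Model

open Cfsg Cfsg.FusionSystem Cfsg.Agent.Lib.Helper87 Cfsg.Agent.Lib.Helper88 Cfsg.Agent.S5328

universe u v w

variable {Ω : Type u} [Group Ω] {S : Subgroup Ω}

/-- transport of a subgroup `A` normalizing `R₀ ≤ A` to the normalizer of a fully normalized conjugate of `R₀` -/
theorem exists_fullyNormalized_transport [Finite S] {p : ℕ} [Fact p.Prime] (hS : IsPGroup p S)
    (F : FusionSystem S) (hF : F.IsSaturated p) {A R₀ : Subgroup Ω} (hR₀S : R₀ ≤ S)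
    (hR₀A : R₀ ≤ A) (hA : A ≤ normalizerIn S R₀) :
    ∃ (R : Subgroup Ω) (φ : A →* Ω), F.IsFullyNormalized R ∧ F.IsConj R₀ R ∧ φ ∈ F.Hom A ∧
      (∀ a, φ a ∈ normalizerIn S R) ∧ (∀ x : A, (x : Ω) ∈ R₀ → φ x ∈ R) ∧
      (∀ r ∈ R, ∃ x : A, (x : Ω) ∈ R₀ ∧ φ x = r) := by
  obtain ⟨R, hconj, hRn⟩ := Cfsg.Agent.Lib.Helper85.exists_fullyNormalized_conj F hR₀S
  obtain ⟨θ, e, hθ, he, hθe⟩ := exists_extension_of_fullyNormalized F hS hF hRn hconj
  refine ⟨R, θ.comp (Subgroup.inclusion hA), hRn, hconj, Cfsg.Agent.Lib.Helper87.restrict_mem F hθ hA, ?_, ?_, ?_⟩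
  · intro a
    exact map_normalizerIn_mem F hθ e hR₀S hθe (Subgroup.inclusion hA a)
  · intro x hx
    show θ ⟨x, hA x.2⟩ ∈ R
    rw [hθe x hx (hA x.2)]
    exact (e ⟨x, hx⟩).2
  · intro r hr
    refine ⟨⟨e.symm ⟨r, hr⟩, hR₀A (e.symm ⟨r, hr⟩).2⟩, (e.symm ⟨r, hr⟩).2, ?_⟩
    show θ ⟨e.symm ⟨r, hr⟩, _⟩ = r
    rw [hθe _ (e.symm ⟨r, hr⟩).2]
    simp

section Step

variable [Finite S] {p : ℕ} [Fact p.Prime] (hS : IsPGroup p S) (F : FusionSystem S) (hF : F.IsSaturated p)
  {Q : Subgroup Ω} (hQn : F.IsFullyNormalized Q) (hQc : F.IsCentric Q)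
  {N : FusionSystem (normalizerIn S Q)} (hN : F.IsNormalizerSystem Q N)
  {L : Type v} [Group L] {ι : normalizerIn S Q →* L} (hM : N.IsModel p L ι)

include hS hF hQn hQc hN hM in
/-- one step: either `Q` is radical, or the model embeds in every model at a larger fully normalized centric subgroup -/
theorem model_step : F.IsRadical p Q ∨ ∃ R : Subgroup Ω, F.IsFullyNormalized R ∧ F.IsCentric R ∧
    Nat.card Q < Nat.card R ∧
    ∀ (E : FusionSystem (normalizerIn S R)), F.IsNormalizerSystem R E →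
      ∀ (L' : Type w) [Group L'] (ι' : normalizerIn S R →* L'), E.IsModel p L' ι' →
        ∃ f : L →* L', Function.Injective f := by
  have hQS : Q ≤ S := hQn.1
  have hTfin : Finite (normalizerIn S Q) := finite_of_le (normalizerIn_le S Q)
  have : Finite Q := finite_of_le hQS
  have C : Ctx N Q p := ctx_of_isNormalizerSystem hS F hF hQn hQc hN
  have M : MCtx N Q p L ι := ⟨C, hM⟩
  obtain ⟨Tsyl, hTsyl⟩ := hM.2.2.1
  have hR₀N : N.IsNormal (Cfsg.Agent.Lib.Helper88.Model.coreSub p ι) :=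
    Cfsg.Agent.Lib.Helper88.Model.coreSub_isNormal N hM.2.1 Tsyl hTsyl
  have hQR₀ : Q ≤ Cfsg.Agent.Lib.Helper88.Model.coreSub p ι := M.Q_le_preCore
  have hR₀A : Cfsg.Agent.Lib.Helper88.Model.coreSub p ι ≤ normalizerIn S Q := hR₀N.1
  have hR₀S : Cfsg.Agent.Lib.Helper88.Model.coreSub p ι ≤ S := hR₀A.trans (normalizerIn_le S Q)
  by_cases hcase : Cfsg.Agent.Lib.Helper88.Model.coreSub p ι ≤ Q
  · left
    refine ⟨hQS, ?_⟩
    rw [← autGroup_eq_of_isNormalizerSystem F hQS hN]
    apply M.radical_of_pCore_le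
    intro k hk
    obtain ⟨s, rfl⟩ := M.pCore_le_range hk
    refine ⟨s, Subgroup.mem_subgroupOf.2 (hcase ?_), rfl⟩
    exact Cfsg.Agent.Lib.Helper88.Model.mem_coreSub.2 ⟨s.2, hk⟩
  · right
    have hAN : normalizerIn S Q ≤ normalizerIn S (Cfsg.Agent.Lib.Helper88.Model.coreSub p ι) := by
      intro a ha
      exact ⟨normalizerIn_le S Q ha, le_normalizer_of_isNormal N hR₀N ha⟩
    obtain ⟨R, φ, hRn, hconj, hφ, hφT, hφR, hRφ⟩ :=
      exists_fullyNormalized_transport hS F hF hR₀S hR₀A hAN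
    have hR₀c : F.IsCentric (Cfsg.Agent.Lib.Helper88.Model.coreSub p ι) := isCentric_of_le F hQc hQR₀ hR₀S
    have hRc : F.IsCentric R := isCentric_of_isConj F hR₀c hconj
    have hRS : R ≤ S := hRn.1
    have hcard : Nat.card Q < Nat.card R := by
      obtain ⟨e, -⟩ := (isConj_iff F).1 hconj
      have h1 : Nat.card (Cfsg.Agent.Lib.Helper88.Model.coreSub p ι) = Nat.card R := Nat.card_congr e.toEquiv
      rw [← h1]
      have hfin0 : Finite (Cfsg.Agent.Lib.Helper88.Model.coreSub p ι) := finite_of_le hR₀S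
      have hfin : ((Cfsg.Agent.Lib.Helper88.Model.coreSub p ι : Subgroup Ω) : Set Ω).Finite := Set.toFinite _
      exact hfin.card_lt_card ⟨hQR₀, hcase⟩
    refine ⟨R, hRn, hRc, hcard, ?_⟩
    intro E hE L' _ ι' hM'
    have MR : MCtx E R p L' ι' := ⟨ctx_of_isNormalizerSystem hS F hF hRn hRc hE, hM'⟩
    have : Finite L' := MR.finite
    have hsub := sub_isModel hS F hF hQn hQc hN hQR₀ hR₀N hφ hφT hφR hRφ hE MR
    have M' : MCtx N Q p ↥(subM hφT ι') (subιM hφT ι') := ⟨C, hsub⟩
    obtain ⟨ψ, -⟩ := exists_mulEquiv_of_models M M'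
    exact ⟨(subM hφT ι').subtype.comp ψ.toMonoidHom,
      (subM hφT ι').subtype_injective.comp ψ.injective⟩

end Step

/-- two fusion systems with the same maps are equal -/
theorem fusionSystem_eq_of_hom_eq {F E : FusionSystem S} (h : ∀ P : Subgroup Ω, F.Hom P = E.Hom P) : F = E := by
  rcases F with ⟨H1, a1, a2, a3, a4, a5⟩
  rcases E with ⟨H2, b1, b2, b3, b4, b5⟩
  have h' : H1 = H2 := funext h
  subst h'
  rfl

/-- the normalizer system is unique -/
theorem eq_of_isNormalizerSystem {F : FusionSystem S} {Q : Subgroup Ω} {N E : FusionSystem (normalizerIn S Q)}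
    (hN : F.IsNormalizerSystem Q N) (hE : F.IsNormalizerSystem Q E) : N = E :=
  fusionSystem_eq_of_hom_eq (fun P => (hN P).trans (hE P).symm)

/-- **Reduction to centric radical subgroups**, inductive form. -/
theorem exists_radical_embedding_aux [Finite S] {p : ℕ} [Fact p.Prime] (hS : IsPGroup p S) (F : FusionSystem S)
    (hF : F.IsSaturated p) : ∀ (n : ℕ) (Q : Subgroup Ω), Nat.card S - Nat.card Q ≤ n →
    F.IsFullyNormalized Q → F.IsCentric Q →
    ∀ (N : FusionSystem (normalizerIn S Q)), F.IsNormalizerSystem Q N →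
    ∀ (L : Type u) [Group L] (ι : normalizerIn S Q →* L), N.IsModel p L ι →
    ∃ R : Subgroup Ω, F.IsFullyNormalized R ∧ F.IsCentric R ∧ F.IsRadical p R ∧
      ∀ (E : FusionSystem (normalizerIn S R)), F.IsNormalizerSystem R E →
        ∀ (L' : Type w) [Group L'] (ι' : normalizerIn S R →* L'), E.IsModel p L' ι' →
          ∃ f : L →* L', Function.Injective f := by
  intro n
  induction n with
  | zero =>
    intro Q hn hQn hQc N hN L _ ι hM
    rcases model_step.{u, u, u} hS F hF hQn hQc hN hM with hrad | ⟨R, hRn, -, hcard, -⟩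
    · refine ⟨Q, hQn, hQc, hrad, ?_⟩
      intro E hE L' _ ι' hM'
      have hEN : E = N := eq_of_isNormalizerSystem hE hN
      subst hEN
      have : Finite (normalizerIn S Q) := finite_of_le (normalizerIn_le S Q)
      have C : Ctx E Q p := ctx_of_isNormalizerSystem hS F hF hQn hQc hN
      obtain ⟨ψ, -⟩ := exists_mulEquiv_of_models (⟨C, hM⟩ : MCtx E Q p L ι) (⟨C, hM'⟩ : MCtx E Q p L' ι')
      exact ⟨ψ.toMonoidHom, ψ.injective⟩
    · exfalso
      have : Finite R := finite_of_le hRn.1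
      have h1 : Nat.card R ≤ Nat.card S := Nat.card_le_card_of_injective (Subgroup.inclusion hRn.1)
        (Subgroup.inclusion_injective hRn.1)
      omega
  | succ n ih =>
    intro Q hn hQn hQc N hN L _ ι hM
    rcases model_step.{u, u, u} hS F hF hQn hQc hN hM with hrad | ⟨R, hRn, hRc, hcard, hemb⟩
    · refine ⟨Q, hQn, hQc, hrad, ?_⟩
      intro E hE L' _ ι' hM'
      have hEN : E = N := eq_of_isNormalizerSystem hE hN
      subst hEN
      have : Finite (normalizerIn S Q) := finite_of_le (normalizerIn_le S Q)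
      have C : Ctx E Q p := ctx_of_isNormalizerSystem hS F hF hQn hQc hN
      obtain ⟨ψ, -⟩ := exists_mulEquiv_of_models (⟨C, hM⟩ : MCtx E Q p L ι) (⟨C, hM'⟩ : MCtx E Q p L' ι')
      exact ⟨ψ.toMonoidHom, ψ.injective⟩
    · have : Finite R := finite_of_le hRn.1
      have h1 : Nat.card R ≤ Nat.card S := Nat.card_le_card_of_injective (Subgroup.inclusion hRn.1)
        (Subgroup.inclusion_injective hRn.1)
      have hRT : Finite (normalizerIn S R) := finite_of_le (normalizerIn_le S R)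
      have hE₁ := isNormalizerSystem_normalizerSystem F R hRn.1
      have C₁ : Ctx (normalizerSystem F R hRn.1) R p := ctx_of_isNormalizerSystem hS F hF hRn hRc hE₁
      obtain ⟨L₁, hL₁, ι₁, hM₁⟩ := C₁.exists_isModel
      obtain ⟨f₁, hf₁⟩ := hemb _ hE₁ L₁ ι₁ hM₁
      obtain ⟨R', hR'n, hR'c, hR'r, hall⟩ := ih R (by omega) hRn hRc _ hE₁ L₁ ι₁ hM₁
      refine ⟨R', hR'n, hR'c, hR'r, ?_⟩
      intro E hE L' _ ι' hM'
      obtain ⟨f₂, hf₂⟩ := hall E hE L' ι' hM'
      exact ⟨f₂.comp f₁, hf₂.comp hf₁⟩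

/-- **Reduction to centric radical subgroups.** Every model of the normalizer system of a fully normalized centric subgroup
embeds in every model of the normalizer system of some fully normalized centric radical subgroup. -/
theorem exists_radical_embedding [Finite S] {p : ℕ} [Fact p.Prime] (hS : IsPGroup p S) (F : FusionSystem S)
    (hF : F.IsSaturated p) {Q : Subgroup Ω} (hQn : F.IsFullyNormalized Q) (hQc : F.IsCentric Q)
    {N : FusionSystem (normalizerIn S Q)} (hN : F.IsNormalizerSystem Q N)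
    {L : Type u} [Group L] {ι : normalizerIn S Q →* L} (hM : N.IsModel p L ι) :
    ∃ R : Subgroup Ω, F.IsFullyNormalized R ∧ F.IsCentric R ∧ F.IsRadical p R ∧
      ∀ (E : FusionSystem (normalizerIn S R)), F.IsNormalizerSystem R E →
        ∀ (L' : Type w) [Group L'] (ι' : normalizerIn S R →* L'), E.IsModel p L' ι' →
          ∃ f : L →* L', Function.Injective f :=
  exists_radical_embedding_aux hS F hF _ Q le_rfl hQn hQc N hN L ι hM

end Cfsg.Agent.Lib.Helper84.Model
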