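/-
helper84: subgroups of `N_S(Q)` containing `Q` that are centric in `N_F(Q)` are centric in `F`; a subgroup normal in a fusion
system is contained in every centric radical subgroup.
All declarations live in `Cfsg.Agent.Lib.Helper84.Model`.
-/
import Mathlib
import Cfsg.Prelude.Def_FusionSystem
import Cfsg.Agent.Lib.Helper84.ModelRadical

set_option autoImplicit false

namespace Cfsg.Agent.Lib.Helper84.Model

open Cfsg Cfsg.FusionSystem Cfsg.Agent.Lib.Helper87 Cfsg.Agent.Lib.Helper88 Cfsg.Agent.S5328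

universe u v w

variable {Ω : Type u} [Group Ω] {S : Subgroup Ω}

/-- if `Q` is fully normalized, `Q ≤ P ≤ N_S(Q)` and `P` is centric in `N_F(Q)`, then `P` is centric in `F` -/
theorem isCentric_of_isCentric_normalizerSystem [Finite S] {p : ℕ} [Fact p.Prime] (hS : IsPGroup p S)
    (F : FusionSystem S) (hF : F.IsSaturated p) {Q P : Subgroup Ω} (hQn : F.IsFullyNormalized Q)
    {N : FusionSystem (normalizerIn S Q)} (hN : F.IsNormalizerSystem Q N) (hQP : Q ≤ P)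
    (hPc : N.IsCentric P) : F.IsCentric P := by
  have hQS : Q ≤ S := hQn.1
  have hPT : P ≤ normalizerIn S Q := hPc.1
  have hPS : P ≤ S := hPT.trans (normalizerIn_le S Q)
  have : Finite Q := finite_of_le hQS
  refine ⟨hPS, ?_⟩
  rintro P' ⟨φ, hφ, rfl⟩
  -- the image of `Q`
  have hφQ : φ.comp (Subgroup.inclusion hQP) ∈ F.Hom Q := Cfsg.Agent.Lib.Helper87.restrict_mem F hφ hQP
  have hconj : F.IsConj (φ.comp (Subgroup.inclusion hQP)).range Q := IsConj_symm ⟨_, hφQ, rfl⟩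
  obtain ⟨θ, e, hθ, -, hθe⟩ := exists_extension_of_fullyNormalized F hS hF hQn hconj
  have hQ'S : (φ.comp (Subgroup.inclusion hQP)).range ≤ S := IsConj_le_left hconj
  have hθT := map_normalizerIn_mem F hθ e hQ'S hθe
  have : Finite (φ.comp (Subgroup.inclusion hQP)).range := finite_of_le hQ'S
  -- `φ(P)` normalizes `φ(Q)`
  have hφN : ∀ x : P, φ x ∈ normalizerIn S (φ.comp (Subgroup.inclusion hQP)).range := by
    intro x
    refine ⟨hom_map_mem F hφ x, ?_⟩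
    apply Cfsg.Agent.Lib.Helper85.mem_normalizer_of_conj_le_of_finite
    rintro _ ⟨q, rfl⟩
    have h1 : (x : Ω) * q * (x : Ω)⁻¹ ∈ Q := (Subgroup.mem_normalizer_iff.1 (hPT x.2).2 q).1 q.2
    refine ⟨⟨_, h1⟩, ?_⟩
    show φ ⟨(x : Ω) * q * (x : Ω)⁻¹, hQP h1⟩ = φ x * φ ⟨q, hQP q.2⟩ * (φ x)⁻¹
    rw [← map_inv, ← map_mul, ← map_mul]
    rfl
  -- the composite `ρ = θ ∘ φ`
  have hρ : θ.comp (φ.codRestrict _ hφN) ∈ F.Hom P := F.comp_mem hφ hθ hφN
  have hρQ : (Q.subgroupOf P).map (θ.comp (φ.codRestrict _ hφN)) = Q := by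
    rw [map_subgroupOf_eq_iff]
    constructor
    · intro x hx
      show θ ⟨φ x, hφN x⟩ ∈ Q
      have h1 : φ x ∈ (φ.comp (Subgroup.inclusion hQP)).range := ⟨⟨x, hx⟩, rfl⟩
      rw [hθe _ h1]
      exact (e _).2
    · intro q hq
      obtain ⟨⟨_, q₀, rfl⟩, hq₀⟩ : ∃ y, e y = ⟨q, hq⟩ := e.surjective _
      refine ⟨⟨q₀, hQP q₀.2⟩, q₀.2, ?_⟩
      show θ ⟨φ ⟨q₀, hQP q₀.2⟩, _⟩ = q
      have h1 : φ ⟨q₀, hQP q₀.2⟩ ∈ (φ.comp (Subgroup.inclusion hQP)).range := ⟨q₀, rfl⟩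
      rw [hθe _ h1]
      exact congrArg Subtype.val hq₀
  have hρN : θ.comp (φ.codRestrict _ hφN) ∈ N.Hom P := by
    rw [hN P]
    exact Cfsg.Agent.S5126.mem_normalizerHom_of_map_eq F hQP hPT hρ hρQ
  have hcent := hPc.2 _ ⟨_, hρN, rfl⟩
  -- now the centralizer
  rintro c ⟨hcS, hcC⟩
  have hcN : c ∈ normalizerIn S (φ.comp (Subgroup.inclusion hQP)).range := by
    refine ⟨hcS, ?_⟩
    apply Cfsg.Agent.Lib.Helper85.mem_normalizer_of_conj_le_of_finite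
    rintro _ ⟨q, rfl⟩
    have h1 : (φ.comp (Subgroup.inclusion hQP)) q * c = c * (φ.comp (Subgroup.inclusion hQP)) q :=
      Subgroup.mem_centralizer_iff.1 hcC _ ⟨Subgroup.inclusion hQP q, rfl⟩
    rw [← h1, mul_inv_cancel_right]
    exact ⟨q, rfl⟩
  have h2 : θ ⟨c, hcN⟩ ∈ centralizerIn (normalizerIn S Q) (θ.comp (φ.codRestrict _ hφN)).range := by
    refine ⟨hθT _, ?_⟩
    show _ ∈ Subgroup.centralizer _
    rw [Subgroup.mem_centralizer_iff]
    rintro _ ⟨x, rfl⟩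
    show θ ⟨φ x, hφN x⟩ * θ ⟨c, hcN⟩ = θ ⟨c, hcN⟩ * θ ⟨φ x, hφN x⟩
    rw [← map_mul, ← map_mul]
    congr 1
    apply Subtype.ext
    exact Subgroup.mem_centralizer_iff.1 hcC _ ⟨x, rfl⟩
  obtain ⟨x, hx⟩ := hcent h2
  have h3 : θ ⟨φ x, hφN x⟩ = θ ⟨c, hcN⟩ := hx
  have h4 := F.injective_of_mem hθ h3
  have h5 : φ x = c := congrArg Subtype.val h4
  exact ⟨x, h5⟩

/-- a subgroup normal in a fusion system over a finite `p`-group is contained in every centric radical subgroup -/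
theorem le_of_isNormal_of_centric_radical [Finite S] {p : ℕ} [Fact p.Prime] (hS : IsPGroup p S)
    (F : FusionSystem S) {Q P : Subgroup Ω} (hQ : F.IsNormal Q) (hPc : F.IsCentric P)
    (hPr : F.IsRadical p P) : Q ≤ P := by
  have hQS : Q ≤ S := hQ.1
  have hPS : P ≤ S := hPc.1
  have hKS : P ⊔ Q ≤ S := sup_le hPS hQS
  have hBle : autInducedBy (P ⊔ Q) P ≤ autInducedBy S P := by
    intro α hα
    obtain ⟨g, hg, hgα⟩ := mem_autInducedBy_iff.1 hα
    exact mem_autInducedBy_iff.2 ⟨g, hKS hg, hgα⟩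
  have hBF : autInducedBy (P ⊔ Q) P ≤ F.autGroup P :=
    hBle.trans (Cfsg.Agent.Lib.Helper87.autInducedBy_le_autGroup F hPS)
  have hBp : IsPGroup p ((autInducedBy (P ⊔ Q) P).subgroupOf (F.autGroup P)) :=
    ((autInducedBy_isPGroup hS P).to_le hBle).comap_subtype
  have hBn : ((autInducedBy (P ⊔ Q) P).subgroupOf (F.autGroup P)).Normal := by
    constructor
    intro β hβ α
    rw [Subgroup.mem_subgroupOf] at hβ ⊢
    obtain ⟨g, hg, hgβ⟩ := mem_autInducedBy_iff.1 hβ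
    have hαF : P.subtype.comp ((α : MulAut P) : P ≃* P).toMonoidHom ∈ F.Hom P :=
      (Cfsg.Agent.Lib.Helper87.mem_autGroup_iff F hPS).1 α.2
    obtain ⟨ψ, hψ, hψP, hψQ⟩ := hQ.2 P _ hαF
    rw [map_subgroupOf_eq_iff] at hψQ
    have hψP' : ∀ x : P, ψ (Subgroup.inclusion le_sup_left x) = (((α : MulAut P) x : P) : Ω) := hψP
    have hψK : ∀ x : ↥(P ⊔ Q), ψ x ∈ P ⊔ Q := hom_sup_mem ψ (P ⊔ Q)
      (fun x => by rw [hψP' x]; exact le_sup_left (b := Q) ((α : MulAut P) x).2)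
      (fun x => le_sup_right (a := P) (hψQ.1 _ x.2))
    refine mem_autInducedBy_iff.2 ⟨ψ ⟨g, hg⟩, hψK _, fun x => ?_⟩
    show ((((α : MulAut P) ((β : MulAut P) ((α : MulAut P)⁻¹ x))) : P) : Ω) = _
    rw [← hψP' ((β : MulAut P) ((α : MulAut P)⁻¹ x))]
    have h2 : Subgroup.inclusion (le_sup_left : P ≤ P ⊔ Q) ((β : MulAut P) ((α : MulAut P)⁻¹ x)) =
        ⟨g, hg⟩ * Subgroup.inclusion le_sup_left ((α : MulAut P)⁻¹ x) * ⟨g, hg⟩⁻¹ :=
      Subtype.ext (hgβ _)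
    rw [h2, map_mul, map_mul, map_inv, hψP']
    simp
  have hle := Helper1.le_pCore hBn hBp
  have hInn : ∀ α ∈ autInducedBy (P ⊔ Q) P, α ∈ Inn P := by
    intro α hα
    rw [← hPr.2]
    exact ⟨⟨α, hBF hα⟩, hle (Subgroup.mem_subgroupOf.2 hα), rfl⟩
  -- `N_{P ⊔ Q}(P) ≤ P`
  have hNP : ∀ g ∈ normalizerIn (P ⊔ Q) P, g ∈ P := by
    rintro g ⟨hgK, hgN⟩
    have hα : conjAut P g hgN ∈ autInducedBy (P ⊔ Q) P :=
      mem_autInducedBy_iff.2 ⟨g, hgK, fun x => conjAut_apply P g hgN x⟩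
    obtain ⟨y, hy⟩ := hInn _ hα
    have hc : (y : Ω)⁻¹ * g ∈ centralizerIn S P := by
      refine ⟨S.mul_mem (S.inv_mem (hPS y.2)) (hKS hgK), ?_⟩
      show _ ∈ Subgroup.centralizer _
      rw [Subgroup.mem_centralizer_iff]
      intro x hx
      have h1 : ((MulAut.conj y ⟨x, hx⟩ : P) : Ω) = ((conjAut P g hgN ⟨x, hx⟩ : P) : Ω) := by rw [hy]
      rw [conjAut_apply] at h1
      have h2 : (y : Ω) * x * (y : Ω)⁻¹ = g * x * g⁻¹ := h1
      calc x * ((y : Ω)⁻¹ * g) = (y : Ω)⁻¹ * ((y : Ω) * x * (y : Ω)⁻¹) * g := by group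
        _ = (y : Ω)⁻¹ * (g * x * g⁻¹) * g := by rw [h2]
        _ = (y : Ω)⁻¹ * g * x := by group
    have h3 := hPc.2 P (isConj_refl F hPS) hc
    have h4 : g = (y : Ω) * ((y : Ω)⁻¹ * g) := by group
    rw [h4]
    exact P.mul_mem y.2 h3
  by_contra hQP
  have hne : P ≠ P ⊔ Q := by
    intro h
    apply hQP
    rw [h]
    exact le_sup_right
  have hKfin : Finite ↥(P ⊔ Q) := finite_of_le hKS
  have hKp : IsPGroup p ↥(P ⊔ Q) := isPGroup_of_le hS hKS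
  obtain ⟨x, hxN, hxP⟩ := exists_mem_normalizerIn_not_mem (S := P ⊔ Q) hKp le_sup_left hne
  exact hxP (hNP x hxN)

end Cfsg.Agent.Lib.Helper84.Model
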