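/-
helper84: models of `N_{N_F(Q)}(P)` (for `Q ≤ P`) as subgroups of models of `N_F(R)`, `R` a fully normalized conjugate of `P`.
All declarations live in `Cfsg.Agent.Lib.Helper84.Model`.
-/
import Mathlib
import Cfsg.Prelude.Def_FusionSystem
import Cfsg.Agent.Lib.Helper84.ModelSub2
import Cfsg.Agent.Lib.Helper84.FusionNormCentric

set_option autoImplicit false

namespace Cfsg.Agent.Lib.Helper84.Model

open Cfsg Cfsg.FusionSystem Cfsg.Agent.Lib.Helper87 Cfsg.Agent.Lib.Helper88 Cfsg.Agent.S5328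

universe u v w

variable {Ω : Type u} [Group Ω] {S : Subgroup Ω}

/-- the maps of `N_{N_F(Q)}(P)`, for `Q ≤ P`, are the maps of `F` that extend to `D ⊔ P` normalizing `P` and `Q` -/
theorem normalizer_normalizer_hom_iff [Finite S] (F : FusionSystem S) {Q P : Subgroup Ω} (hQS : Q ≤ S)
    {N : FusionSystem (normalizerIn S Q)} (hN : F.IsNormalizerSystem Q N) (hQP : Q ≤ P)
    (hPT : P ≤ normalizerIn S Q)
    {N' : FusionSystem (normalizerIn (normalizerIn S Q) P)} (hN' : N.IsNormalizerSystem P N')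
    (D : Subgroup Ω) (χ : D →* Ω) : χ ∈ N'.Hom D ↔
    D ≤ normalizerIn (normalizerIn S Q) P ∧ (∀ x : D, χ x ∈ normalizerIn (normalizerIn S Q) P) ∧
      ∃ ψ ∈ F.Hom (D ⊔ P), (∀ x : D, ψ (Subgroup.inclusion le_sup_left x) = χ x) ∧
        (P.subgroupOf (D ⊔ P)).map ψ = P ∧ (Q.subgroupOf (D ⊔ P)).map ψ = Q := by
  have : Finite Q := finite_of_le hQS
  have hQD : Q ≤ D ⊔ P := hQP.trans le_sup_right
  rw [hN' D]
  constructor
  · rintro ⟨-, hDA, hχA, ψ, hψN, hψD, hψP⟩
    rw [hN (D ⊔ P)] at hψN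
    obtain ⟨hψF, -, -, ψ', -, hψ'ext, hψ'Q⟩ := hψN
    refine ⟨hDA, hχA, ψ, hψF, hψD, hψP, ?_⟩
    rw [map_subgroupOf_eq_iff] at hψ'Q ⊢
    constructor
    · intro x hx
      rw [← hψ'ext x]
      exact hψ'Q.1 _ hx
    · intro q hq
      obtain ⟨x, hx, hxq⟩ := hψ'Q.2 q hq
      refine ⟨⟨x, hQD hx⟩, hx, ?_⟩
      rw [← hψ'ext, ← hxq]
      congr 1
  · rintro ⟨hDA, hχA, ψ, hψF, hψD, hψP, hψQ⟩
    have hDPT : D ⊔ P ≤ normalizerIn S Q := sup_le (hDA.trans (normalizerIn_le _ P)) hPT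
    have hψN : ψ ∈ N.Hom (D ⊔ P) := by
      rw [hN (D ⊔ P)]
      exact Cfsg.Agent.S5126.mem_normalizerHom_of_map_eq F hQD hDPT hψF hψQ
    have hχN : χ ∈ N.Hom D := restrict_mem' N hψN le_sup_left (fun x => (hψD x).symm)
    exact ⟨hχN, hDA, hχA, ψ, hψN, hψD, hψP⟩

/-- **Models of iterated normalizer systems.**  Let `Q` be fully normalized in the saturated system `F`, `N = N_F(Q)`, and let
`P ⊇ Q` be fully normalized and centric in `N`.  Then `P` has a fully normalized, centric `F`-conjugate `R` such that every model of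
`N_F(R)` has a subgroup which is a model of `N_N(P)`. -/
theorem exists_submodel_of_normalizerSystem [Finite S] {p : ℕ} [Fact p.Prime] (hS : IsPGroup p S)
    (F : FusionSystem S) (hF : F.IsSaturated p) {Q : Subgroup Ω} (hQn : F.IsFullyNormalized Q)
    {N : FusionSystem (normalizerIn S Q)} (hN : F.IsNormalizerSystem Q N)
    {P : Subgroup Ω} (hPn : N.IsFullyNormalized P) (hPc : N.IsCentric P) (hQP : Q ≤ P)
    {N' : FusionSystem (normalizerIn (normalizerIn S Q) P)} (hN' : N.IsNormalizerSystem P N') :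
    ∃ R : Subgroup Ω, F.IsFullyNormalized R ∧ F.IsCentric R ∧
      ∀ (E : FusionSystem (normalizerIn S R)), F.IsNormalizerSystem R E →
        ∀ (L : Type v) [Group L] (ι : normalizerIn S R →* L), E.IsModel p L ι →
          ∃ (M : Subgroup L) (ι' : normalizerIn (normalizerIn S Q) P →* M), N'.IsModel p M ι' := by
  have hQS : Q ≤ S := hQn.1
  have hPT : P ≤ normalizerIn S Q := hPc.1
  have hPS : P ≤ S := hPT.trans (normalizerIn_le S Q)
  have hPA : P ≤ normalizerIn (normalizerIn S Q) P := le_normalizerIn hPT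
  have hAT : normalizerIn (normalizerIn S Q) P ≤ normalizerIn S Q := normalizerIn_le _ P
  have hAS : normalizerIn (normalizerIn S Q) P ≤ S := hAT.trans (normalizerIn_le S Q)
  have hAQ : normalizerIn (normalizerIn S Q) P ≤ Subgroup.normalizer (Q : Set Ω) := fun x hx => (hAT hx).2
  have hA : normalizerIn (normalizerIn S Q) P ≤ normalizerIn S P := fun x hx => ⟨hAS hx, hx.2⟩
  have hPcF : F.IsCentric P := isCentric_of_isCentric_normalizerSystem hS F hF hQn hN hQP hPc
  obtain ⟨R, φ, hRn, hconj, hφ, hφT, hφR, hRφ⟩ := exists_fullyNormalized_transport hS F hF hPS hPA hA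
  have hRc : F.IsCentric R := isCentric_of_isConj F hPcF hconj
  refine ⟨R, hRn, hRc, ?_⟩
  intro E hE L _ ι hM
  have MR : MCtx E R p L ι := ⟨ctx_of_isNormalizerSystem hS F hF hRn hRc hE, hM⟩
  have : Finite L := MR.finite
  have hTfin : Finite (normalizerIn S Q) := finite_of_le (normalizerIn_le S Q)
  have hTp : IsPGroup p (normalizerIn S Q) := isPGroup_of_le hS (normalizerIn_le S Q)
  have : Finite Q := finite_of_le hQS
  have hNsat : N.IsSaturated p := isSaturated_of_isNormalizerSystem F hS hF hQn hN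
  have C : Ctx N' P p := ctx_of_isNormalizerSystem hTp N hNsat hPn hPc hN'
  have hchar := normalizer_normalizer_hom_iff F hQS hN hQP hPT hN'
  exact ⟨gM hφT ι Q, gιM hφT ι Q hAQ, sub2_isModel F hQP hPA hAS hAQ hchar hφ hφT hφR hRφ hE MR C⟩

end Cfsg.Agent.Lib.Helper84.Model
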