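/-
helper84: the fusion system of a normal subgroup on its Sylow subgroup, the decomposition `Aut_F(P) = O^p(Aut_F(P)) Aut_S(P)`
for fully automized `P`, and `O^p(Aut_G(P))` is induced by `O^p(G)`.
All declarations live in `Cfsg.Agent.Lib.Helper84`.
-/
import Cfsg.Agent.Lib.Helper84.PResidualAux
import Cfsg.Agent.Lib.Helper84.Alperin
import Cfsg.Agent.Lib.Helper85.FusionRealized

set_option autoImplicit false

namespace Cfsg.Agent.Lib.Helper84

open Cfsg Cfsg.FusionSystem
open Cfsg.Agent.Lib.Helper87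

/-- For a normal subgroup `K` of the finite group `G` and a Sylow `p`-subgroup `S` of `G`, the fusion system of `K` on `S ∩ K`
is saturated. -/
theorem fusionSystemOfSubgroup_isSaturated {G : Type*} [Group G] [Finite G] (p : ℕ) [Fact p.Prime] (S : Sylow p G)
    (K : Subgroup G) [K.Normal] :
    (fusionSystemOfSubgroup K ((S : Subgroup G) ⊓ K) inf_le_right).IsSaturated p := by
  have hS₀K : (S : Subgroup G) ⊓ K ≤ K := inf_le_right
  obtain ⟨T, hT⟩ := exists_sylow_subgroupOf_normal K S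
  have hι : (fusionSystemOfSubgroup K ((S : Subgroup G) ⊓ K) inf_le_right).IsRealizedBy
      (Subgroup.inclusion hS₀K) := by
    refine ⟨Subgroup.inclusion_injective hS₀K, fun P hP φ hφ => ?_⟩
    constructor
    · rintro ⟨-, -, g, hgK, hg⟩
      refine ⟨⟨g, hgK⟩, fun x => Subtype.ext ?_⟩
      exact hg x
    · rintro ⟨g, hg⟩
      refine ⟨hP, hφ, g, g.2, fun x => ?_⟩
      exact congrArg Subtype.val (hg x)
  have hTr : (T : Subgroup K) = (Subgroup.inclusion hS₀K).range := by
    rw [hT, Subgroup.inclusion_range, Subgroup.inf_subgroupOf_right]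
  exact Cfsg.Agent.Lib.Helper85.isSaturated_of_isRealizedBy hι T hTr

variable {Ω : Type*} [Group Ω] {S : Subgroup Ω}

/-- For fully automized `P`: `Aut_F(P) = O^p(Aut_F(P)) Aut_S(P)`. -/
theorem exists_pResidual_mul_autInducedBy [Finite S] (p : ℕ) [Fact p.Prime] (F : FusionSystem S) {P : Subgroup Ω}
    (hPa : F.IsFullyAutomized p P) {α : MulAut P} (hα : α ∈ F.autGroup P) :
    ∃ β : F.autGroup P, β ∈ pResidual p (F.autGroup P) ∧ ∃ γ ∈ autInducedBy S P, α = (β : MulAut P) * γ := by
  obtain ⟨hPS, T, hT⟩ := hPa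
  have : Finite P := finite_of_le hPS
  have hnd : ¬ p ∣ (T : Subgroup (F.autGroup P)).index := T.not_dvd_index
  have htop := Cfsg.Agent.Lib.Helper34.pResidual_sup_eq_top p (T : Subgroup (F.autGroup P)) hnd
  have := Cfsg.Agent.Lib.Helper34.pResidual_normal p (F.autGroup P)
  have hmem : (⟨α, hα⟩ : F.autGroup P) ∈ pResidual p (F.autGroup P) ⊔ (T : Subgroup (F.autGroup P)) := by
    rw [htop]; trivial
  rw [← SetLike.mem_coe, Subgroup.normal_mul] at hmem
  obtain ⟨β, hβ, γ, hγ, hβγ⟩ := hmem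
  rw [SetLike.mem_coe, hT, Subgroup.mem_subgroupOf] at hγ
  rw [SetLike.mem_coe] at hβ
  refine ⟨β, hβ, (γ : MulAut P), hγ, ?_⟩
  have := congrArg Subtype.val hβγ
  exact this.symm

/-- In the fusion system of a finite group `G` on `S`, the elements of `O^p(Aut_G(P))` are induced by elements of `O^p(G)`. -/
theorem pResidual_autGroup_le_autInducedBy {G : Type*} [Group G] [Finite G] (p : ℕ) [Fact p.Prime] (S : Subgroup G)
    {P : Subgroup G} (hPS : P ≤ S) :
    (pResidual p ((groupFusionSystem S).autGroup P)).map ((groupFusionSystem S).autGroup P).subtype ≤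
      autInducedBy (pResidual p G) P := by
  unfold pResidual
  rw [MonoidHom.map_closure, Subgroup.closure_le]
  rintro _ ⟨a, ha, rfl⟩
  obtain ⟨-, -, g, hg⟩ := (mem_autGroup_iff _ hPS).1 a.2
  have hg' : ∀ y : P, (((a : MulAut P) y : P) : G) = g * y * g⁻¹ := fun y => hg y
  have hgN : g ∈ Subgroup.normalizer (P : Set G) := mem_normalizer_of_induces hg'
  have hfa : P.normalizerMonoidHom ⟨g, hgN⟩ = (a : MulAut P) := by
    ext y
    rw [hg' y]
    rfl
  have hord : Nat.Coprime (orderOf (P.normalizerMonoidHom ⟨g, hgN⟩)) p := by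
    rw [hfa, Subgroup.orderOf_coe]
    exact ha
  obtain ⟨g', hg'K, hg'a⟩ := exists_mem_pResidual_apply_eq P.normalizerMonoidHom ⟨g, hgN⟩ hord
  have hg'G : (g' : G) ∈ Subgroup.closure {g : G | Nat.Coprime (orderOf g) p} :=
    map_pResidual_le p (Subgroup.normalizer (P : Set G)).subtype ⟨g', hg'K, rfl⟩
  show (a : MulAut P) ∈ autInducedBy (Subgroup.closure {g : G | Nat.Coprime (orderOf g) p}) P
  rw [mem_autInducedBy_iff]
  refine ⟨(g' : G), hg'G, fun x => ?_⟩
  rw [← hfa, ← hg'a]
  rfl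

end Cfsg.Agent.Lib.Helper84
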