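/-
helper84: a "guarded" target system for Alperin-type inductions: the maps of `F` that lie in the subsystem `E` whenever their
source is larger than `R` or `F`-conjugate to `R`.
All declarations live in `Cfsg.Agent.Lib.Helper84`.
-/
import Cfsg.Agent.Lib.Helper87.FusionSat

set_option autoImplicit false

namespace Cfsg.Agent.Lib.Helper84
open Cfsg Cfsg.FusionSystem Cfsg.Agent.Lib.Helper87

variable {Ω : Type*} [Group Ω] {S : Subgroup Ω}

/-- The guard condition is inherited along maps of `F`. -/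
theorem guard_of_hom (F : FusionSystem S) [Finite S] (R : Subgroup Ω) {P Q : Subgroup Ω} {φ : P →* Ω}
    (hφ : φ ∈ F.Hom P) (hQS : Q ≤ S) (h : ∀ x : P, φ x ∈ Q)
    (hC : Nat.card R < Nat.card P ∨ F.IsConj R P) : Nat.card R < Nat.card Q ∨ F.IsConj R Q := by
  have hfinQ : Finite Q := finite_of_le hQS
  have hinj : Function.Injective (φ.codRestrict Q h) := by
    intro a b hab
    exact F.injective_of_mem hφ (congrArg Subtype.val hab)
  have hle : Nat.card P ≤ Nat.card Q := Nat.card_le_card_of_injective _ hinj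
  rcases hC with hC | hC
  · exact Or.inl (lt_of_lt_of_le hC hle)
  · have hRP : Nat.card R = Nat.card P := IsConj_card_eq hC
    rcases lt_or_eq_of_le hle with hlt | heq
    · exact Or.inl (hRP ▸ hlt)
    · right
      have hfinP : Finite P := Nat.finite_of_card_ne_zero (by rw [heq]; exact Nat.card_pos.ne')
      have hbij : Function.Bijective (φ.codRestrict Q h) :=
        (Nat.bijective_iff_injective_and_card _).2 ⟨hinj, heq⟩
      have hrange : φ.range = Q := by
        ext y
        constructor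
        · rintro ⟨x, rfl⟩
          exact h x
        · intro hy
          obtain ⟨x, hx⟩ := hbij.2 ⟨y, hy⟩
          exact ⟨x, congrArg Subtype.val hx⟩
      exact IsConj_trans hC ⟨φ, hφ, hrange⟩

/-- The maps of `F` that lie in `E` whenever their source is larger than `R` or `F`-conjugate to `R`. -/
def guardSystem (F E : FusionSystem S) [Finite S] (R : Subgroup Ω) : FusionSystem S where
  Hom P := {φ | φ ∈ F.Hom P ∧ ((Nat.card R < Nat.card P ∨ F.IsConj R P) → φ ∈ E.Hom P)}
  le_of_mem := by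
    rintro P φ ⟨h, -⟩
    exact F.le_of_mem h
  injective_of_mem := by
    rintro P φ ⟨h, -⟩
    exact F.injective_of_mem h
  conj_mem := by
    intro P g hP hg
    exact ⟨F.conj_mem hP hg, fun _ => E.conj_mem hP hg⟩
  comp_mem := by
    rintro P Q φ ψ ⟨hφ, hφE⟩ ⟨hψ, hψE⟩ h
    refine ⟨F.comp_mem hφ hψ h, fun hC => ?_⟩
    exact E.comp_mem (hφE hC) (hψE (guard_of_hom F R hφ (hom_le F hψ) h hC)) h
  inv_mem := by
    rintro P φ ⟨hφ, hφE⟩
    obtain ⟨ψ, hψ, hinv⟩ := F.inv_mem hφ
    refine ⟨ψ, ⟨hψ, fun hC => ?_⟩, hinv⟩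
    have hconj : F.IsConj P φ.range := ⟨φ, hφ, rfl⟩
    have hcard : Nat.card P = Nat.card φ.range := IsConj_card_eq hconj
    have hC' : Nat.card R < Nat.card P ∨ F.IsConj R P := by
      rcases hC with hC | hC
      · exact Or.inl (hcard ▸ hC)
      · exact Or.inr (IsConj_trans hC (IsConj_symm hconj))
    obtain ⟨ψ', hψ', hinv'⟩ := E.inv_mem (hφE hC')
    have : ψ = ψ' := by
      ext y
      obtain ⟨x, hx⟩ := y.2
      have hy : y = ⟨φ x, ⟨x, rfl⟩⟩ := Subtype.ext hx.symm
      rw [hy, hinv, hinv']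
    rw [this]
    exact hψ'

theorem mem_guardSystem_hom (F E : FusionSystem S) [Finite S] (R : Subgroup Ω) {P : Subgroup Ω} {φ : P →* Ω} :
    φ ∈ (guardSystem F E R).Hom P ↔
      φ ∈ F.Hom P ∧ ((Nat.card R < Nat.card P ∨ F.IsConj R P) → φ ∈ E.Hom P) := Iff.rfl

end Cfsg.Agent.Lib.Helper84
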