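/-
helper84: the `K`-normalizer fusion system `N_F^K(Q)` as an honest `FusionSystem (nK S K (MulEquiv.refl Q))`, so that helper87's
`IsKNormalizerSystem.isSaturated` (Puig) can be applied to it.
All declarations live in `Cfsg.Agent.Lib.Helper84`.
-/
import Cfsg.Agent.Lib.Helper87.FusionKNormSat
import Cfsg.Agent.Lib.Helper87.FusionNormalizer

set_option autoImplicit false

namespace Cfsg.Agent.Lib.Helper84
open Cfsg Cfsg.FusionSystem Cfsg.Agent.Lib.Helper87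

variable {Ω : Type*} [Group Ω] {S : Subgroup Ω}

/-- The `K`-normalizer fusion system `N_F^K(Q)` over `N_S^K(Q)`, for `Q ≤ S` and `K ≤ Aut(Q)`. -/
def kNormalizerSystem (F : FusionSystem S) (Q : Subgroup Ω) (K : Subgroup (MulAut Q)) (hQS : Q ≤ S) :
    FusionSystem (nK S K (MulEquiv.refl Q)) where
  Hom P := {φ | φ ∈ F.Hom P ∧ P ≤ nK S K (MulEquiv.refl Q) ∧ (∀ x : P, φ x ∈ nK S K (MulEquiv.refl Q)) ∧
    ∃ ψ ∈ F.Hom (P ⊔ Q), (∀ x : P, ψ (Subgroup.inclusion le_sup_left x) = φ x) ∧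
      ∃ κ ∈ K, ∀ u : Q, ψ (Subgroup.inclusion le_sup_right u) = ((κ u : Q) : Ω)}
  le_of_mem := by
    rintro P φ ⟨-, h1, h2, -⟩
    exact ⟨h1, h2⟩
  injective_of_mem := by
    rintro P φ ⟨h, -⟩
    exact F.injective_of_mem h
  conj_mem := by
    intro P g hP hg
    have hPS : P ≤ S := hP.trans (nK_le K _)
    obtain ⟨hgS, κ, hκ, hκg⟩ := hg
    refine ⟨F.conj_mem hPS hgS, hP, ?_, conjHom (P ⊔ Q) g, F.conj_mem (sup_le hPS hQS) hgS, ?_, κ, hκ, ?_⟩
    · intro x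
      exact (nK S K (MulEquiv.refl Q)).mul_mem ((nK S K (MulEquiv.refl Q)).mul_mem ⟨hgS, κ, hκ, hκg⟩ (hP x.2))
        ((nK S K (MulEquiv.refl Q)).inv_mem ⟨hgS, κ, hκ, hκg⟩)
    · intro x
      rfl
    · intro u
      exact (hκg u).symm
  comp_mem := by
    rintro P P' φ ψ' ⟨hφ, hPN, hφN, φh, hφh, hφhe, κ₁, hκ₁, hφhQ⟩ ⟨hψ', hP'N, hψ'N, ψh, hψh, hψhe, κ₂, hκ₂, hψhQ⟩ h
    have h' : ∀ x : ↥(P ⊔ Q), φh x ∈ P' ⊔ Q := by
      apply map_sup_mem
      · intro x
        rw [hφhe]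
        exact (le_sup_left : P' ≤ P' ⊔ Q) (h x)
      · intro x
        rw [hφhQ]
        exact (le_sup_right : Q ≤ P' ⊔ Q) (κ₁ x).2
    refine ⟨F.comp_mem hφ hψ' h, hPN, fun x => hψ'N _, ψh.comp (φh.codRestrict (P' ⊔ Q) h'),
      F.comp_mem hφh hψh h', ?_, κ₂ * κ₁, K.mul_mem hκ₂ hκ₁, ?_⟩
    · intro x
      show ψh ⟨φh (Subgroup.inclusion le_sup_left x), _⟩ = ψ' ⟨φ x, h x⟩
      rw [← hψhe ⟨φ x, h x⟩]
      congr 1
      apply Subtype.ext
      exact hφhe x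
    · intro u
      show ψh ⟨φh (Subgroup.inclusion le_sup_right u), _⟩ = _
      rw [MulAut.mul_apply, ← hψhQ (κ₁ u)]
      congr 1
      apply Subtype.ext
      exact hφhQ u
  inv_mem := by
    rintro P φ ⟨hφ, hPN, hφN, φh, hφh, hφhe, κ, hκ, hφhQ⟩
    obtain ⟨χ, hχ, hχinv⟩ := F.inv_mem hφh
    have hrange : φh.range = φ.range ⊔ Q := by
      apply le_antisymm
      · rintro _ ⟨x, rfl⟩
        apply map_sup_mem
        · intro y
          rw [hφhe]
          exact (le_sup_left : φ.range ≤ φ.range ⊔ Q) ⟨y, rfl⟩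
        · intro y
          rw [hφhQ]
          exact (le_sup_right : Q ≤ φ.range ⊔ Q) (κ y).2
      · apply sup_le
        · rintro _ ⟨x, rfl⟩
          exact ⟨Subgroup.inclusion le_sup_left x, hφhe x⟩
        · intro q hq
          refine ⟨Subgroup.inclusion le_sup_right (κ⁻¹ ⟨q, hq⟩), ?_⟩
          rw [hφhQ, MulAut.apply_inv_self]
    have hle : φ.range ≤ φh.range := by rw [hrange]; exact le_sup_left
    have key : ∀ x : P, χ ⟨φ x, hle ⟨x, rfl⟩⟩ = (x : Ω) := by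
      intro x
      have h1 := hχinv (Subgroup.inclusion le_sup_left x)
      have h2 : (⟨φh (Subgroup.inclusion le_sup_left x), ⟨_, rfl⟩⟩ : φh.range) = ⟨φ x, hle ⟨x, rfl⟩⟩ :=
        Subtype.ext (hφhe x)
      rw [h2] at h1
      exact h1
    refine ⟨χ.comp (Subgroup.inclusion hle), ⟨restrict_mem F hχ hle, ?_, ?_,
      χ.comp (MulEquiv.subgroupCongr hrange.symm).toMonoidHom, ?_, ?_, κ⁻¹, K.inv_mem hκ, ?_⟩, ?_⟩
    · rintro _ ⟨x, rfl⟩
      exact hφN x
    · rintro ⟨_, x, rfl⟩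
      show χ ⟨φ x, hle ⟨x, rfl⟩⟩ ∈ _
      rw [key x]
      exact hPN x.2
    · exact hom_of_eq_on F hrange hχ (fun x hx hx' => rfl)
    · intro x
      rfl
    · intro u
      have h1 := hχinv (Subgroup.inclusion le_sup_right (κ⁻¹ u))
      have h2 : (⟨φh (Subgroup.inclusion le_sup_right (κ⁻¹ u)), ⟨_, rfl⟩⟩ : φh.range) =
          (MulEquiv.subgroupCongr hrange.symm) (Subgroup.inclusion le_sup_right u) := by
        apply Subtype.ext
        show φh (Subgroup.inclusion le_sup_right (κ⁻¹ u)) = (u : Ω)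
        rw [hφhQ, MulAut.apply_inv_self]
      rw [h2] at h1
      exact h1
    · intro x
      exact key x

theorem isKNormalizerSystem_kNormalizerSystem (F : FusionSystem S) (Q : Subgroup Ω) (K : Subgroup (MulAut Q))
    (hQS : Q ≤ S) : IsKNormalizerSystem F Q K (nK S K (MulEquiv.refl Q)) (kNormalizerSystem F Q K hQS) :=
  ⟨fun _ => Iff.rfl, fun _ _ => Iff.rfl⟩

/-- `N_S^{Aut_S(V)}(V) = N_S(V)` along any isomorphism `e : U ≃* V`, for `K = e⁻¹ Aut_S(V) e`; here only the inclusion. -/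
theorem nK_le_normalizerIn {U V : Subgroup Ω} (K : Subgroup (MulAut U)) (e : U ≃* V) :
    nK S K e ≤ normalizerIn S V :=
  fun _ hg => ⟨hg.1, nK_le_normalizer K e hg⟩

/-- `N_S^{Aut_S(Q)}(Q) = N_S(Q)`. -/
theorem nK_autInducedBy (Q : Subgroup Ω) :
    nK S (autInducedBy S Q) (MulEquiv.refl Q) = normalizerIn S Q := by
  apply le_antisymm (nK_le_normalizerIn _ _)
  rintro g ⟨hgS, hgN⟩
  refine ⟨hgS, conjAut Q g hgN, mem_autInducedBy_iff.2 ⟨g, hgS, fun x => rfl⟩, fun u => rfl⟩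

/-- A fully normalized subgroup is fully `Aut_S(Q)`-normalized. -/
theorem isMaxK_autInducedBy_of_fullyNormalized (F : FusionSystem S) [Finite S] {Q : Subgroup Ω}
    (hQ : F.IsFullyNormalized Q) : IsMaxK F (autInducedBy S Q) (MulEquiv.refl Q) := by
  intro W e' he'
  rw [nK_autInducedBy]
  refine le_trans ?_ (hQ.2 W ((isConj_iff F).2 ⟨e', he'⟩))
  have : Finite (normalizerIn S W) := finite_of_le (normalizerIn_le S W)
  exact Subgroup.card_le_of_le (nK_le_normalizerIn _ e')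

end Cfsg.Agent.Lib.Helper84
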