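/-
helper84: an `A`-invariant version of the Ω-lemma (`Helper29.exists_small_exponent_not_centralized`) and a chain argument:
if a group `A` normalizes the `p`-subgroup `K`, preserves (on elements of small order) a chain `Z i` and a set `T ⊆ A`
acts trivially on the factors of the chain, then the `p'`-elements of the normal closure of `T` in `A` centralize `K`.
All declarations live in `Cfsg.Agent.Lib.Helper84`.
-/
import Mathlib
import Cfsg.Agent.Lib.Helper29.OmegaAut

set_option autoImplicit false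

open scoped commutatorElement

namespace Cfsg.Agent.Lib.Helper84

open Cfsg.Agent.Lib.Helper24 Cfsg.Agent.Lib.Helper29

variable {G : Type*} [Group G]

/-- **Ω-lemma, invariant form.** -/
theorem exists_invariant_small_exponent_aux [Finite G] (p : ℕ) [hp : Fact p.Prime]
    (A : Subgroup G) (Sg : Set G) (hSgA : Sg ⊆ A) (hSgcop : ∀ σ ∈ Sg, (orderOf σ).Coprime p)
    (hSginv : ∀ c ∈ A, ∀ σ ∈ Sg, c * σ * c⁻¹ ∈ Sg) :
    ∀ (n : ℕ) (K : Subgroup G), Nat.card K ≤ n → IsPGroup p K →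
      A ≤ Subgroup.normalizer (K : Set G) → (¬ ∀ σ ∈ Sg, ∀ x ∈ K, σ * x = x * σ) →
      ∃ U : Subgroup G, U ≤ K ∧ A ≤ Subgroup.normalizer (U : Set G) ∧
        (∀ u ∈ U, u ^ smallExp p = 1) ∧ ¬ ∀ σ ∈ Sg, ∀ x ∈ U, σ * x = x * σ := by
  set R : Subgroup G := Subgroup.closure Sg with hR
  have hRA : R ≤ A := (Subgroup.closure_le A).mpr hSgA
  have hAR : A ≤ Subgroup.normalizer (R : Set G) := by
    intro c hc
    apply mem_normalizer_of_conj_mem'
    intro r hr
    induction hr using Subgroup.closure_induction with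
    | mem x hx => exact Subgroup.subset_closure (hSginv c hc x hx)
    | one => simp
    | mul x y _ _ hx hy =>
      have : c * (x * y) * c⁻¹ = (c * x * c⁻¹) * (c * y * c⁻¹) := by group
      rw [this]; exact R.mul_mem hx hy
    | inv x _ hx =>
      have : c * x⁻¹ * c⁻¹ = (c * x * c⁻¹)⁻¹ := by group
      rw [this]; exact R.inv_mem hx
  intro n
  induction n with
  | zero =>
    intro K hcard
    have := Nat.card_pos (α := K)
    omega
  | succ n ih =>
    intro K hcard hK hA hnc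
    have hRK : R ≤ Subgroup.normalizer (K : Set G) := hRA.trans hA
    have hLK : ⁅K, R⁆ ≤ K := Subgroup.le_normalizer_iff_commutator_le_left.mp hRK
    have hAL : A ≤ Subgroup.normalizer ((⁅K, R⁆ : Subgroup G) : Set G) := by
      intro c hc
      apply mem_normalizer_of_conj_mem'
      intro y hy
      have hcK := hA hc
      have hcR := hAR hc
      induction hy using Subgroup.closure_induction with
      | mem x hx =>
        obtain ⟨k, hk, r, hr, rfl⟩ := hx
        have : c * ⁅k, r⁆ * c⁻¹ = ⁅c * k * c⁻¹, c * r * c⁻¹⁆ := by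
          simp only [commutatorElement_def]; group
        rw [this]
        exact Subgroup.commutator_mem_commutator ((Subgroup.mem_normalizer_iff.mp hcK k).mp hk)
          ((Subgroup.mem_normalizer_iff.mp hcR r).mp hr)
      | one => simp
      | mul x y _ _ hx hy =>
        have : c * (x * y) * c⁻¹ = (c * x * c⁻¹) * (c * y * c⁻¹) := by group
        rw [this]; exact Subgroup.mul_mem _ hx hy
      | inv x _ hx =>
        have : c * x⁻¹ * c⁻¹ = (c * x * c⁻¹)⁻¹ := by group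
        rw [this]; exact Subgroup.inv_mem _ hx
    by_cases hL : ⁅K, R⁆ = K
    · have hbot : K ≠ ⊥ := by
        intro hbot
        apply hnc
        intro σ _ x hx
        rw [hbot, Subgroup.mem_bot] at hx
        subst hx; simp
      have hΦne : frat p K ≠ K := frat_ne p K hK hbot
      have hΦle : frat p K ≤ K := frat_le p K
      have hΦcard : Nat.card (frat p K) ≤ n := by
        have := card_lt_of_le_of_ne hΦle hΦne
        omega
      have hAΦ : A ≤ Subgroup.normalizer ((frat p K : Subgroup G) : Set G) :=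
        fun c hc => normalizer_le_normalizer_frat p K (hA hc)
      by_cases hcΦ : ∀ σ ∈ Sg, ∀ x ∈ frat p K, σ * x = x * σ
      · have hzc : R ≤ Subgroup.centralizer ((frat p K : Subgroup G) : Set G) := by
          rw [hR, Subgroup.closure_le]
          intro σ hσ
          exact Subgroup.mem_centralizer_iff.mpr (fun x hx => (hcΦ σ hσ x hx).symm)
        have h1 : ⁅⁅R, frat p K⁆, K⁆ = ⊥ := by
          rw [Subgroup.commutator_eq_bot_iff_le_centralizer.mpr hzc, Subgroup.commutator_bot_left]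
        have h2 : ⁅⁅frat p K, K⁆, R⁆ = ⊥ := by
          rw [eq_bot_iff]
          have hle1 : ⁅frat p K, K⁆ ≤ frat p K :=
            le_trans (Subgroup.commutator_mono hΦle le_rfl) (comm_le_frat p K)
          have hle2 : ⁅⁅frat p K, K⁆, R⁆ ≤ ⁅R, frat p K⁆ := by
            rw [Subgroup.commutator_comm R]
            exact Subgroup.commutator_mono hle1 le_rfl
          rw [Subgroup.commutator_eq_bot_iff_le_centralizer.mpr hzc] at hle2
          exact hle2
        have h3 := Subgroup.commutator_commutator_eq_bot_of_rotate h1 h2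
        rw [hL, Subgroup.commutator_eq_bot_iff_le_centralizer] at h3
        have hcen : ∀ x ∈ K, ∀ c ∈ frat p K, c * x = x * c := by
          intro x hx c hc
          exact Subgroup.mem_centralizer_iff.mp (h3 hx) c hc
        let U : Subgroup G :=
          { carrier := {x | x ∈ K ∧ x ^ smallExp p = 1}
            mul_mem' := by
              rintro x y ⟨hx, hx1⟩ ⟨hy, hy1⟩
              refine ⟨K.mul_mem hx hy, ?_⟩
              rw [mul_pow_smallExp_of_frat_central p K hcen x y hx hy, hx1, hy1, mul_one]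
            one_mem' := ⟨K.one_mem, one_pow _⟩
            inv_mem' := by
              rintro x ⟨hx, hx1⟩
              exact ⟨K.inv_mem hx, by rw [inv_pow, hx1, inv_one]⟩ }
        have hUK : U ≤ K := fun x hx => hx.1
        refine ⟨U, hUK, ?_, fun u hu => hu.2, ?_⟩
        · intro c hc
          apply mem_normalizer_of_conj_mem'
          rintro x ⟨hx, hx1⟩
          refine ⟨(Subgroup.mem_normalizer_iff.mp (hA hc) x).mp hx, ?_⟩
          rw [conj_pow, hx1]; group
        · intro hcU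
          apply hnc
          intro σ hσ x hx
          have hσN : σ ∈ Subgroup.normalizer (K : Set G) := hA (hSgA hσ)
          apply commute_of_comm_commute_pgroup p σ (hSgcop σ hσ) K hK hσN x hx
          have haxa : σ * x * σ⁻¹ ∈ K := (Subgroup.mem_normalizer_iff.mp hσN x).mp hx
          apply hcU σ hσ
          refine ⟨K.mul_mem (K.inv_mem hx) haxa, ?_⟩
          rw [mul_pow_smallExp_of_frat_central p K hcen _ _ (K.inv_mem hx) haxa, conj_pow]
          have hxp : σ * x ^ smallExp p = x ^ smallExp p * σ :=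
            hcΦ σ hσ _ (pow_smallExp_mem_frat p K hx)
          rw [hxp]; group
      · obtain ⟨U, hU1, hU2, hU3, hU4⟩ := ih (frat p K) hΦcard (hK.to_le hΦle) hAΦ hcΦ
        exact ⟨U, hU1.trans hΦle, hU2, hU3, hU4⟩
    · have hLcard : Nat.card (⁅K, R⁆ : Subgroup G) ≤ n := by
        have := card_lt_of_le_of_ne hLK hL
        omega
      have hncL : ¬ ∀ σ ∈ Sg, ∀ y ∈ ⁅K, R⁆, σ * y = y * σ := by
        intro hcL
        apply hnc
        intro σ hσ
        have hσN : σ ∈ Subgroup.normalizer (K : Set G) := hA (hSgA hσ)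
        apply centralizes_of_centralizes_comm p σ (hSgcop σ hσ) K hK hσN
        intro y hy
        apply hcL σ hσ
        exact Subgroup.commutator_mono le_rfl
          (Subgroup.zpowers_le.mpr (Subgroup.subset_closure hσ)) hy
      obtain ⟨U, hU1, hU2, hU3, hU4⟩ := ih _ hLcard (hK.to_le hLK) hAL hncL
      exact ⟨U, hU1.trans hLK, hU2, hU3, hU4⟩

/-- **Chain argument.** `A` normalizes the `p`-subgroup `U` and each `U ∩ Z i`; the elements of `T ⊆ A` act trivially on the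
factors `(U ∩ Z (i+1)) / (U ∩ Z i)`; `U ∩ Z 0 = 1` and `U ≤ Z n`.  Then the `p'`-elements of the normal closure of `T` in `A`
centralize `U`. -/
theorem coprime_centralizes_of_chain [Finite G] (p : ℕ) [hp : Fact p.Prime]
    (A : Subgroup G) (T : Set G) (hTA : T ⊆ A) (U : Subgroup G) (hU : IsPGroup p U)
    (hAU : A ≤ Subgroup.normalizer (U : Set G))
    (Z : ℕ → Subgroup G) (n : ℕ) (hZ0 : U ⊓ Z 0 = ⊥) (hZn : U ≤ Z n)
    (hi : ∀ c ∈ A, ∀ i, ∀ x ∈ U, x ∈ Z i → c * x * c⁻¹ ∈ Z i)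
    (hii : ∀ t ∈ T, ∀ i, ∀ x ∈ U, x ∈ Z (i + 1) → x⁻¹ * (t * x * t⁻¹) ∈ Z i) :
    ∀ a ∈ Subgroup.closure {g | ∃ c ∈ A, ∃ t ∈ T, g = c * t * c⁻¹}, (orderOf a).Coprime p →
      ∀ x ∈ U, a * x = x * a := by
  have hconjU : ∀ c ∈ A, ∀ x ∈ U, c * x * c⁻¹ ∈ U :=
    fun c hc x hx => (Subgroup.mem_normalizer_iff.mp (hAU hc) x).mp hx
  -- the subgroup of `A` acting trivially on the factors
  let D : Subgroup G :=
    { carrier := {a | a ∈ A ∧ ∀ i, ∀ x ∈ U, x ∈ Z (i + 1) → x⁻¹ * (a * x * a⁻¹) ∈ Z i}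
      one_mem' := ⟨A.one_mem, fun i x _ _ => by simp⟩
      mul_mem' := by
        rintro a b ⟨ha, ha'⟩ ⟨hb, hb'⟩
        refine ⟨A.mul_mem ha hb, fun i x hx hxZ => ?_⟩
        have hy : b * x * b⁻¹ ∈ U := hconjU b hb x hx
        have hyZ : b * x * b⁻¹ ∈ Z (i + 1) := hi b hb (i + 1) x hx hxZ
        have h1 := hb' i x hx hxZ
        have h2 := ha' i _ hy hyZ
        have : x⁻¹ * (a * b * x * (a * b)⁻¹) =
            (x⁻¹ * (b * x * b⁻¹)) * ((b * x * b⁻¹)⁻¹ * (a * (b * x * b⁻¹) * a⁻¹)) := by group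
        rw [this]
        exact (Z i).mul_mem h1 h2
      inv_mem' := by
        rintro a ⟨ha, ha'⟩
        refine ⟨A.inv_mem ha, fun i x hx hxZ => ?_⟩
        have hy : a⁻¹ * x * a⁻¹⁻¹ ∈ U := hconjU a⁻¹ (A.inv_mem ha) x hx
        have hyZ : a⁻¹ * x * a⁻¹⁻¹ ∈ Z (i + 1) := hi a⁻¹ (A.inv_mem ha) (i + 1) x hx hxZ
        have h2 := ha' i _ hy hyZ
        have : x⁻¹ * (a⁻¹ * x * a⁻¹⁻¹) =
            ((a⁻¹ * x * a⁻¹⁻¹)⁻¹ * (a * (a⁻¹ * x * a⁻¹⁻¹) * a⁻¹))⁻¹ := by group
        rw [this]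
        exact (Z i).inv_mem h2 }
  have hDmem : ∀ a, a ∈ D ↔ a ∈ A ∧ ∀ i, ∀ x ∈ U, x ∈ Z (i + 1) → x⁻¹ * (a * x * a⁻¹) ∈ Z i :=
    fun a => Iff.rfl
  have hXD : Subgroup.closure {g | ∃ c ∈ A, ∃ t ∈ T, g = c * t * c⁻¹} ≤ D := by
    rw [Subgroup.closure_le]
    rintro _ ⟨c, hc, t, ht, rfl⟩
    refine ⟨A.mul_mem (A.mul_mem hc (hTA ht)) (A.inv_mem hc), fun i x hx hxZ => ?_⟩
    have hy : c⁻¹ * x * c⁻¹⁻¹ ∈ U := hconjU c⁻¹ (A.inv_mem hc) x hx
    have hyZ : c⁻¹ * x * c⁻¹⁻¹ ∈ Z (i + 1) := hi c⁻¹ (A.inv_mem hc) (i + 1) x hx hxZ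
    have h1 := hii t ht i _ hy hyZ
    have hk : (c⁻¹ * x * c⁻¹⁻¹)⁻¹ * (t * (c⁻¹ * x * c⁻¹⁻¹) * t⁻¹) ∈ U :=
      U.mul_mem (U.inv_mem hy) (hconjU t (hTA ht) _ hy)
    have h2 := hi c hc i _ hk h1
    have : x⁻¹ * (c * t * c⁻¹ * x * (c * t * c⁻¹)⁻¹) =
        c * ((c⁻¹ * x * c⁻¹⁻¹)⁻¹ * (t * (c⁻¹ * x * c⁻¹⁻¹) * t⁻¹)) * c⁻¹ := by group
    rw [this]
    exact h2
  intro a ha hcop
  have haD := hXD ha
  have haA : a ∈ A := ((hDmem a).mp haD).1
  apply descent_inner p a hcop U hU (hAU haA) (fun k => U ⊓ Z (n - k)) n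
  · show U ≤ U ⊓ Z (n - 0)
    exact le_inf le_rfl hZn
  · show U ⊓ Z (n - n) = ⊥
    rw [Nat.sub_self]; exact hZ0
  · intro k v hv hvL q hq
    have hqD : q ∈ D := (Subgroup.zpowers_le.mpr haD) hq
    obtain ⟨hqA, hq'⟩ := (hDmem q).mp hqD
    show ⁅v, q⁆ ∈ U ⊓ Z (n - (k + 1))
    have hvinv : v⁻¹ ∈ U := U.inv_mem hv
    have e : ⁅v, q⁆ = (v⁻¹)⁻¹ * (q * v⁻¹ * q⁻¹) := by rw [commutatorElement_def]; group
    refine ⟨?_, ?_⟩
    · rw [e]; exact U.mul_mem (U.inv_mem hvinv) (hconjU q hqA _ hvinv)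
    · by_cases hk : k < n
      · have hnk : n - k = (n - (k + 1)) + 1 := by omega
        have hvZ : v⁻¹ ∈ Z ((n - (k + 1)) + 1) := by
          rw [← hnk]; exact (Z _).inv_mem hvL.2
        rw [e]
        exact hq' _ _ hvinv hvZ
      · have h0 : n - k = 0 := by omega
        have hv1 : v ∈ U ⊓ Z 0 := by rw [← h0]; exact hvL
        rw [hZ0, Subgroup.mem_bot] at hv1
        rw [hv1]
        simp

/-- **Main group-theoretic lemma.** `A` normalizes the `p`-subgroup `K`, preserves the chain `Z i` on the elements of `K` of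
small order, and the elements of `T ⊆ A` act trivially on the factors of the chain.  Then the `p'`-elements of the normal closure
of `T` in `A` centralize `K`. -/
theorem coprime_centralizes_of_small_chain [Finite G] (p : ℕ) [hp : Fact p.Prime]
    (A : Subgroup G) (T : Set G) (hTA : T ⊆ A) (K : Subgroup G) (hK : IsPGroup p K)
    (hAK : A ≤ Subgroup.normalizer (K : Set G))
    (Z : ℕ → Subgroup G) (n : ℕ) (hZ0 : K ⊓ Z 0 = ⊥) (hZn : K ≤ Z n)
    (hi : ∀ c ∈ A, ∀ i, ∀ x ∈ K, (x ^ p = 1 ∨ (p = 2 ∧ x ^ 4 = 1)) → x ∈ Z i → c * x * c⁻¹ ∈ Z i)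
    (hii : ∀ t ∈ T, ∀ i, ∀ x ∈ K, x ∈ Z (i + 1) → x⁻¹ * (t * x * t⁻¹) ∈ Z i) :
    ∀ a ∈ Subgroup.closure {g | ∃ c ∈ A, ∃ t ∈ T, g = c * t * c⁻¹}, (orderOf a).Coprime p →
      ∀ x ∈ K, a * x = x * a := by
  set X : Subgroup G := Subgroup.closure {g | ∃ c ∈ A, ∃ t ∈ T, g = c * t * c⁻¹} with hX
  have hXA : X ≤ A := by
    rw [hX, Subgroup.closure_le]
    rintro _ ⟨c, hc, t, ht, rfl⟩
    exact A.mul_mem (A.mul_mem hc (hTA ht)) (A.inv_mem hc)
  have hXinv : ∀ c ∈ A, ∀ x ∈ X, c * x * c⁻¹ ∈ X := by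
    intro c hc x hx
    induction hx using Subgroup.closure_induction with
    | mem y hy =>
      obtain ⟨d, hd, t, ht, rfl⟩ := hy
      apply Subgroup.subset_closure
      exact ⟨c * d, A.mul_mem hc hd, t, ht, by group⟩
    | one => simp
    | mul x y _ _ hx hy =>
      have : c * (x * y) * c⁻¹ = (c * x * c⁻¹) * (c * y * c⁻¹) := by group
      rw [this]; exact X.mul_mem hx hy
    | inv x _ hx =>
      have : c * x⁻¹ * c⁻¹ = (c * x * c⁻¹)⁻¹ := by group
      rw [this]; exact X.inv_mem hx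
  by_contra hne
  have hnc : ¬ ∀ σ ∈ {a | a ∈ X ∧ (orderOf a).Coprime p}, ∀ x ∈ K, σ * x = x * σ := by
    intro h
    apply hne
    intro a ha hcop x hx
    exact h a ⟨ha, hcop⟩ x hx
  obtain ⟨U, hUK, hAU, hexp, hncU⟩ := exists_invariant_small_exponent_aux p A
    {a | a ∈ X ∧ (orderOf a).Coprime p} (fun a ha => hXA ha.1) (fun a ha => ha.2)
    (fun c hc σ hσ => ⟨hXinv c hc σ hσ.1, by
      have : orderOf (c * σ * c⁻¹) = orderOf σ := orderOf_injective (MulAut.conj c).toMonoidHom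
        (MulAut.conj c).injective σ
      rw [this]; exact hσ.2⟩) _ K le_rfl hK hAK hnc
  apply hncU
  intro σ hσ x hx
  exact coprime_centralizes_of_chain p A T hTA U (hK.to_le hUK) hAU Z n
    (by rw [eq_bot_iff, ← hZ0]; exact inf_le_inf_right _ hUK) (hUK.trans hZn)
    (fun c hc i x hx hxZ => hi c hc i x (hUK hx) (smallExp_spec p x (hexp x hx)) hxZ)
    (fun t ht i x hx hxZ => hii t ht i x (hUK hx) hxZ) σ hσ.1 hσ.2 x hx

end Cfsg.Agent.Lib.Helper84
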