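/-
helper84: a `p'`-element `r` normalizing a `p`-group `P` with `[P, r] ≤ K ⊴ P` and centralizing an abelian subgroup `A ≤ K`
of small exponent that is maximal among the `P`-invariant abelian subgroups of small exponent of `K`, centralizes `P`
(Thompson `P × Q` lemma + the invariant Ω-lemma).
All declarations live in `Cfsg.Agent.Lib.Helper84`.
-/
import Mathlib
import Cfsg.Agent.Lib.Helper84.InvariantOmega
import Cfsg.Agent.S0028
import Cfsg.Agent.Lib.Helper87.FusionKNormSat

set_option autoImplicit false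

namespace Cfsg.Agent.Lib.Helper84

open Cfsg.Agent.Lib.Helper24 Cfsg.Agent.Lib.Helper29
open scoped commutatorElement

variable {G : Type*} [Group G]

/-- The iterated commutators `[B, P, …, P]`. -/
def commSeq (P B : Subgroup G) : ℕ → Subgroup G
  | 0 => B
  | (i + 1) => Subgroup.closure {g | ∃ x ∈ P, ∃ y ∈ commSeq P B i, g = x * y * x⁻¹ * y⁻¹}

theorem commSeq_le (P B : Subgroup G) (hPB : P ≤ Subgroup.normalizer (B : Set G)) :
    ∀ i, commSeq P B i ≤ B := by
  intro i
  induction i with
  | zero => exact le_rfl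
  | succ i ih =>
    show Subgroup.closure _ ≤ B
    rw [Subgroup.closure_le]
    rintro _ ⟨x, hx, y, hy, rfl⟩
    have hyB : y ∈ B := ih hy
    have h1 : x * y * x⁻¹ ∈ B := (Subgroup.mem_normalizer_iff.1 (hPB hx) y).1 hyB
    exact B.mul_mem h1 (B.inv_mem hyB)

theorem commSeq_le_lcs (P B : Subgroup G) (hBP : B ≤ P) :
    ∀ i, commSeq P B i ≤ P.lowerCentralSeries i := by
  intro i
  induction i with
  | zero => exact hBP
  | succ i ih =>
    show Subgroup.closure _ ≤ _
    rw [Subgroup.closure_le]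
    rintro _ ⟨x, hx, y, hy, rfl⟩
    have hy' := ih hy
    rw [Subgroup.lowerCentralSeries_succ]
    have h1 : ⁅y, x⁆ ∈ ⁅P.lowerCentralSeries i, P⁆ := Subgroup.commutator_mem_commutator hy' hx
    have h2 := Subgroup.inv_mem _ h1
    have h3 : (⁅y, x⁆)⁻¹ = x * y * x⁻¹ * y⁻¹ := by
      rw [commutatorElement_def]; group
    rw [h3] at h2
    exact h2

/-- In a `p`-group `P`, if `A < B` are `P`-invariant subgroups of `P`, some `b ∈ B \ A` has `[P, b] ≤ A`. -/
theorem exists_mem_not_mem_comm_mem [Finite G] (p : ℕ) [hp : Fact p.Prime] (P A B : Subgroup G)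
    (hP : IsPGroup p P) (hBP : B ≤ P) (hPB : P ≤ Subgroup.normalizer (B : Set G)) (hne : ¬ B ≤ A) :
    ∃ b ∈ B, b ∉ A ∧ ∀ x ∈ P, x * b * x⁻¹ * b⁻¹ ∈ A := by
  classical
  have hnil : Group.IsNilpotent P := hP.isNilpotent
  obtain ⟨n, hn⟩ := (Subgroup.isNilpotent_iff_lowerCentralSeries P).1 hnil
  have hex : ∃ m, commSeq P B m ≤ A := by
    refine ⟨n, ?_⟩
    refine (commSeq_le_lcs P B hBP n).trans ?_
    rw [hn]
    exact bot_le
  have hm := Nat.find_spec hex
  have hmin := fun k => Nat.find_min hex (m := k)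
  set m := Nat.find hex with hmdef
  rcases Nat.eq_zero_or_pos m with h0 | hpos
  · exfalso
    rw [h0] at hm
    exact hne hm
  obtain ⟨k, hk⟩ : ∃ k, m = k + 1 := ⟨m - 1, by omega⟩
  have hk' : ¬ commSeq P B k ≤ A := hmin k (by omega)
  rw [SetLike.not_le_iff_exists] at hk'
  obtain ⟨b, hb, hbA⟩ := hk'
  refine ⟨b, commSeq_le P B hPB k hb, hbA, fun x hx => ?_⟩
  apply hm
  rw [hk]
  exact Subgroup.subset_closure ⟨x, hx, b, hb, rfl⟩

/-- Elements of the join of two subgroups, one of which centralizes the other, are products. -/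
theorem exists_mul_of_mem_sup_of_commute (U A : Subgroup G) (hUA : ∀ u ∈ U, ∀ a ∈ A, u * a = a * u)
    {x : G} (hx : x ∈ U ⊔ A) : ∃ u ∈ U, ∃ a ∈ A, x = u * a := by
  rw [Subgroup.sup_eq_closure] at hx
  induction hx using Subgroup.closure_induction with
  | mem y hy =>
    rcases hy with hy | hy
    · exact ⟨y, hy, 1, A.one_mem, by simp⟩
    · exact ⟨1, U.one_mem, y, hy, by simp⟩
  | one => exact ⟨1, U.one_mem, 1, A.one_mem, by simp⟩
  | mul y z _ _ hy hz =>
    obtain ⟨u, hu, a, ha, rfl⟩ := hy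
    obtain ⟨u', hu', a', ha', rfl⟩ := hz
    refine ⟨u * u', U.mul_mem hu hu', a * a', A.mul_mem ha ha', ?_⟩
    have h := hUA u' hu' a ha
    calc u * a * (u' * a') = u * (a * u') * a' := by group
      _ = u * (u' * a) * a' := by rw [h]
      _ = u * u' * (a * a') := by group
  | inv y _ hy =>
    obtain ⟨u, hu, a, ha, rfl⟩ := hy
    refine ⟨u⁻¹, U.inv_mem hu, a⁻¹, A.inv_mem ha, ?_⟩
    have h := hUA u⁻¹ (U.inv_mem hu) a⁻¹ (A.inv_mem ha)
    rw [mul_inv_rev, h]

/-- The join of a commutative subgroup `A` with the cyclic group of an element centralizing `A` is commutative. -/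
theorem commute_of_mem_sup_zpowers (A : Subgroup G) (b : G) (hA : ∀ a ∈ A, ∀ a' ∈ A, a * a' = a' * a)
    (hb : ∀ a ∈ A, b * a = a * b) : ∀ y ∈ A ⊔ Subgroup.zpowers b, ∀ z ∈ A ⊔ Subgroup.zpowers b, y * z = z * y := by
  set T : Set G := (A : Set G) ∪ {b} with hT
  have hcl : A ⊔ Subgroup.zpowers b = Subgroup.closure T := by
    rw [hT, Subgroup.closure_union, Subgroup.closure_eq, Subgroup.zpowers_eq_closure]
  have h1 : T ⊆ Subgroup.centralizer T := by
    intro s hs
    show s ∈ Subgroup.centralizer T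
    rw [Subgroup.mem_centralizer_iff]
    intro t ht
    rcases hs with hs | hs <;> rcases ht with ht | ht
    · exact hA t ht s hs
    · rw [Set.mem_singleton_iff] at ht
      subst ht
      exact hb s hs
    · rw [Set.mem_singleton_iff] at hs
      subst hs
      exact (hb t ht).symm
    · rw [Set.mem_singleton_iff] at hs ht
      rw [hs, ht]
  have h2 : Subgroup.closure T ≤ Subgroup.centralizer T := (Subgroup.closure_le _).2 h1
  have h3 : T ⊆ Subgroup.centralizer (Subgroup.closure T : Set G) := by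
    intro t ht
    show t ∈ Subgroup.centralizer (Subgroup.closure T : Set G)
    rw [Subgroup.mem_centralizer_iff]
    intro y hy
    have := Subgroup.mem_centralizer_iff.1 (h2 hy) t ht
    exact this.symm
  have h4 : Subgroup.closure T ≤ Subgroup.centralizer (Subgroup.closure T : Set G) := (Subgroup.closure_le _).2 h3
  intro y hy z hz
  rw [hcl] at hy hz
  exact (Subgroup.mem_centralizer_iff.1 (h4 hy) z hz).symm

/-- The normalizers of `K` and `A` normalize `C_K(A)`. -/
theorem normalizer_inf_le_normalizer_inf_centralizer (K A : Subgroup G) :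
    Subgroup.normalizer (K : Set G) ⊓ Subgroup.normalizer (A : Set G) ≤
      Subgroup.normalizer ((K ⊓ Subgroup.centralizer (A : Set G) : Subgroup G) : Set G) := by
  have key : ∀ g : G, g ∈ Subgroup.normalizer (K : Set G) → g ∈ Subgroup.normalizer (A : Set G) →
      ∀ x, x ∈ K ⊓ Subgroup.centralizer (A : Set G) → g * x * g⁻¹ ∈ K ⊓ Subgroup.centralizer (A : Set G) := by
    intro g hgK hgA x hx
    refine ⟨(Subgroup.mem_normalizer_iff.1 hgK x).1 hx.1, ?_⟩
    show g * x * g⁻¹ ∈ Subgroup.centralizer (A : Set G)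
    rw [Subgroup.mem_centralizer_iff]
    intro a ha
    have ha' : g⁻¹ * a * g ∈ A := by
      have := (Subgroup.mem_normalizer_iff.1 (Subgroup.inv_mem _ hgA) a).1 ha
      simpa using this
    have h1 := Subgroup.mem_centralizer_iff.1 hx.2 _ ha'
    calc a * (g * x * g⁻¹) = g * ((g⁻¹ * a * g) * x) * g⁻¹ := by group
      _ = g * (x * (g⁻¹ * a * g)) * g⁻¹ := by rw [h1]
      _ = g * x * g⁻¹ * a := by group
  rintro g ⟨hgK, hgA⟩
  rw [Subgroup.mem_normalizer_iff]
  intro x
  refine ⟨key g hgK hgA x, fun hx => ?_⟩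
  have := key g⁻¹ (Subgroup.inv_mem _ hgK) (Subgroup.inv_mem _ hgA) _ hx
  have h2 : g⁻¹ * (g * x * g⁻¹) * g⁻¹⁻¹ = x := by group
  rwa [h2] at this

/-- **Main lemma (group form).** `P` a `p`-subgroup, `K ≤ P` and `A ≤ K` normalized by `P`, `A` abelian of small exponent and
maximal among the `P`-invariant abelian subgroups of small exponent of `K`. A `p'`-element `r` normalizing `K`, centralizing `A`
and with `[P, r] ≤ K` centralizes `P`. -/
theorem centralizes_of_max_small [Finite G] (p : ℕ) [hp : Fact p.Prime]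
    (P K A : Subgroup G) (hP : IsPGroup p P) (hKP : K ≤ P) (hAK : A ≤ K)
    (hPK : P ≤ Subgroup.normalizer (K : Set G)) (hPA : P ≤ Subgroup.normalizer (A : Set G))
    (hAab : ∀ a ∈ A, ∀ b ∈ A, a * b = b * a) (hAexp : ∀ a ∈ A, a ^ smallExp p = 1)
    (hmax : ∀ B : Subgroup G, A ≤ B → B ≤ K → P ≤ Subgroup.normalizer (B : Set G) →
      (∀ a ∈ B, ∀ b ∈ B, a * b = b * a) → (∀ b ∈ B, b ^ smallExp p = 1) → B ≤ A)
    (r : G) (hr : (orderOf r).Coprime p) (hrK : r ∈ Subgroup.normalizer (K : Set G))
    (hrA : ∀ a ∈ A, r * a = a * r) (hrP : ∀ x ∈ P, x⁻¹ * (r * x * r⁻¹) ∈ K) :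
    ∀ x ∈ P, r * x = x * r := by
  have hKp : IsPGroup p K := hP.to_le hKP
  have hrNA : r ∈ Subgroup.normalizer (A : Set G) := by
    apply Subgroup.centralizer_le_normalizer
    rw [Subgroup.mem_centralizer_iff]
    intro a ha
    exact (hrA a ha).symm
  -- `r` centralizes `K`
  have hK : ∀ x ∈ K, r * x = x * r := by
    by_contra hnot
    set C : Subgroup G := K ⊓ Subgroup.centralizer (A : Set G) with hC
    have hCK : C ≤ K := inf_le_left
    -- `r` does not centralize `C_K(A)`: Thompson's `P × Q` lemma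
    have hnotC : ¬ ∀ x ∈ C, r * x = x * r := by
      intro hcen
      apply hnot
      have hQ : (Nat.card (Subgroup.zpowers r)).Coprime p := by
        rw [Nat.card_zpowers]; exact hr
      have hPQ : A ≤ Subgroup.centralizer ((Subgroup.zpowers r : Subgroup G) : Set G) := by
        intro a ha
        rw [Subgroup.mem_centralizer_iff]
        rintro _ ⟨k, rfl⟩
        have : Commute r a := hrA a ha
        exact (this.zpow_left k).eq
      have hQU : Subgroup.zpowers r ≤ Subgroup.normalizer (K : Set G) := Subgroup.zpowers_le.2 hrK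
      have hCc : K ⊓ Subgroup.centralizer (A : Set G) ≤
          Subgroup.centralizer ((Subgroup.zpowers r : Subgroup G) : Set G) := by
        intro x hx
        rw [Subgroup.mem_centralizer_iff]
        rintro _ ⟨k, rfl⟩
        have : Commute r x := hcen x hx
        exact (this.zpow_left k).eq
      have h1 := Cfsg.Agent.S0028.result p A (Subgroup.zpowers r) K (hKp.to_le hAK) hQ hKp hPQ
        (hAK.trans Subgroup.le_normalizer) hQU hCc
      intro x hx
      have h2 := h1 (Subgroup.mem_zpowers r)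
      rw [Subgroup.mem_centralizer_iff] at h2
      exact (h2 x hx).symm
    -- the acting group and the invariant set of `p'`-elements
    set AA : Subgroup G := P ⊔ Subgroup.zpowers r with hAA
    set Sg : Set G := {g | ∃ c ∈ AA, g = c * r * c⁻¹} with hSg
    have hrAA : r ∈ AA := (le_sup_right : Subgroup.zpowers r ≤ AA) (Subgroup.mem_zpowers r)
    have hSgA : Sg ⊆ AA := by
      rintro _ ⟨c, hc, rfl⟩
      exact AA.mul_mem (AA.mul_mem hc hrAA) (AA.inv_mem hc)
    have hSgcop : ∀ σ ∈ Sg, (orderOf σ).Coprime p := by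
      rintro _ ⟨c, hc, rfl⟩
      have : orderOf (c * r * c⁻¹) = orderOf r := by
        have h := orderOf_injective (MulAut.conj c).toMonoidHom (MulAut.conj c).injective r
        simpa [MulAut.conj_apply] using h
      rw [this]; exact hr
    have hSginv : ∀ c ∈ AA, ∀ σ ∈ Sg, c * σ * c⁻¹ ∈ Sg := by
      rintro c hc _ ⟨d, hd, rfl⟩
      exact ⟨c * d, AA.mul_mem hc hd, by group⟩
    have hAAN : AA ≤ Subgroup.normalizer (K : Set G) ⊓ Subgroup.normalizer (A : Set G) :=
      sup_le (le_inf hPK hPA) (Subgroup.zpowers_le.2 ⟨hrK, hrNA⟩)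
    have hAAC : AA ≤ Subgroup.normalizer (C : Set G) :=
      hAAN.trans (normalizer_inf_le_normalizer_inf_centralizer K A)
    obtain ⟨U, hUC, hAAU, hUexp, hUnot⟩ := exists_invariant_small_exponent_aux p AA Sg hSgA hSgcop hSginv
      (Nat.card C) C le_rfl (hKp.to_le hCK) hAAC
      (fun h => hnotC (fun x hx => h r ⟨1, AA.one_mem, by simp⟩ x hx))
    -- `U ≤ A`
    have hUcen : ∀ u ∈ U, ∀ a ∈ A, u * a = a * u := by
      intro u hu a ha
      have := Subgroup.mem_centralizer_iff.1 (hUC hu).2 a ha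
      exact this.symm
    have hUA : U ≤ A := by
      by_contra hUA
      set B₀ : Subgroup G := U ⊔ A with hB₀
      have hB₀K : B₀ ≤ K := sup_le (hUC.trans hCK) hAK
      have hPB₀ : P ≤ Subgroup.normalizer (B₀ : Set G) := by
        intro x hx
        exact Cfsg.Agent.Lib.Helper87.mem_normalizer_sup (hAAU ((le_sup_left : P ≤ AA) hx)) (hPA hx)
      have hB₀A : ¬ B₀ ≤ A := fun h => hUA (le_sup_left.trans h)
      have hB₀exp : ∀ b ∈ B₀, b ^ smallExp p = 1 := by
        intro b hb
        obtain ⟨u, hu, a, ha, rfl⟩ := exists_mul_of_mem_sup_of_commute U A hUcen hb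
        have hc : Commute u a := hUcen u hu a ha
        rw [hc.mul_pow, hUexp u hu, hAexp a ha, mul_one]
      have hB₀cen : ∀ b ∈ B₀, ∀ a ∈ A, b * a = a * b := by
        intro b hb a ha
        obtain ⟨u, hu, a', ha', rfl⟩ := exists_mul_of_mem_sup_of_commute U A hUcen hb
        rw [mul_assoc, hAab a' ha' a ha, ← mul_assoc, hUcen u hu a ha, mul_assoc]
      obtain ⟨b, hbB₀, hbA, hbP⟩ := exists_mem_not_mem_comm_mem p P A B₀ hP (hB₀K.trans hKP) hPB₀ hB₀A
      set B : Subgroup G := A ⊔ Subgroup.zpowers b with hB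
      have hBB₀ : B ≤ B₀ := sup_le le_sup_right (Subgroup.zpowers_le.2 hbB₀)
      have hBab := commute_of_mem_sup_zpowers A b hAab (fun a ha => hB₀cen b hbB₀ a ha)
      have hPB : P ≤ Subgroup.normalizer (B : Set G) := by
        intro x hx
        apply mem_normalizer_of_conj_mem'
        intro y hy
        rw [hB, Subgroup.sup_eq_closure] at hy
        induction hy using Subgroup.closure_induction with
        | mem z hz =>
          rcases hz with hz | hz
          · exact (le_sup_left : A ≤ B) ((Subgroup.mem_normalizer_iff.1 (hPA hx) z).1 hz)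
          · obtain ⟨k, rfl⟩ := hz
            have h1 : x * b ^ k * x⁻¹ = (x * b * x⁻¹) ^ k := by
              have := map_zpow (MulAut.conj x) b k
              simpa [MulAut.conj_apply] using this
            show x * b ^ k * x⁻¹ ∈ B
            rw [h1]
            apply Subgroup.zpow_mem
            have h2 : x * b * x⁻¹ = (x * b * x⁻¹ * b⁻¹) * b := by group
            rw [h2]
            exact B.mul_mem ((le_sup_left : A ≤ B) (hbP x hx))
              ((le_sup_right : Subgroup.zpowers b ≤ B) (Subgroup.mem_zpowers b))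
        | one => simp
        | mul y z _ _ hy hz =>
          have : x * (y * z) * x⁻¹ = (x * y * x⁻¹) * (x * z * x⁻¹) := by group
          rw [this]; exact B.mul_mem hy hz
        | inv y _ hy =>
          have : x * y⁻¹ * x⁻¹ = (x * y * x⁻¹)⁻¹ := by group
          rw [this]; exact B.inv_mem hy
      have hBA := hmax B le_sup_left (hBB₀.trans hB₀K) hPB hBab (fun y hy => hB₀exp y (hBB₀ hy))
      exact hbA (hBA ((le_sup_right : Subgroup.zpowers b ≤ B) (Subgroup.mem_zpowers b)))
    -- contradiction: the conjugates of `r` centralize `A ≥ U`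
    apply hUnot
    rintro _ ⟨c, hc, rfl⟩ x hx
    have hxA : x ∈ A := hUA hx
    have hcN : c ∈ Subgroup.normalizer (A : Set G) := (hAAN hc).2
    have hx' : c⁻¹ * x * c ∈ A := by
      have := (Subgroup.mem_normalizer_iff.1 (Subgroup.inv_mem _ hcN) x).1 hxA
      simpa using this
    have h1 := hrA _ hx'
    calc c * r * c⁻¹ * x = c * (r * (c⁻¹ * x * c)) * c⁻¹ := by group
      _ = c * ((c⁻¹ * x * c) * r) * c⁻¹ := by rw [h1]
      _ = x * (c * r * c⁻¹) := by group
  -- coprime action
  intro x hx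
  have hy := hrP x hx
  have hcomm := hK _ hy
  have hcop : (orderOf (MulAut.conj r)).Coprime p :=
    Nat.Coprime.coprime_dvd_left (orderOf_map_dvd (MulAut.conj : G →* MulAut G) r) hr
  have h1 : (MulAut.conj r) (x⁻¹ * (MulAut.conj r) x) = x⁻¹ * (MulAut.conj r) x := by
    simp only [MulAut.conj_apply]
    calc r * (x⁻¹ * (r * x * r⁻¹)) * r⁻¹ = (x⁻¹ * (r * x * r⁻¹)) * r * r⁻¹ := by rw [hcomm]
      _ = x⁻¹ * (r * x * r⁻¹) := by group
  have h2 : ∃ k : ℕ, (x⁻¹ * (MulAut.conj r) x) ^ p ^ k = 1 := by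
    obtain ⟨k, hk⟩ := hKp ⟨_, hy⟩
    refine ⟨k, ?_⟩
    have := congrArg Subtype.val hk
    simpa [MulAut.conj_apply] using this
  have h3 := fixed_of_comm_fixed p (MulAut.conj r) hcop x h1 h2
  rw [MulAut.conj_apply] at h3
  calc r * x = r * x * r⁻¹ * r := by group
    _ = x * r := by rw [h3]

end Cfsg.Agent.Lib.Helper84
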