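/-
helper84: `MulAut` form of `centralizes_of_max_small`.
All declarations live in `Cfsg.Agent.Lib.Helper84`.
-/
import Mathlib
import Cfsg.Agent.Lib.Helper84.MaxSmallAbelian

set_option autoImplicit false

namespace Cfsg.Agent.Lib.Helper84

open Cfsg.Agent.Lib.Helper29

variable {H : Type*} [Group H] [Finite H]

local notation "Γ" => SemidirectProduct H (MulAut H) (MonoidHom.id (MulAut H))

/-- **Main lemma, `MulAut` form.** `H` a finite `p`-group, `K ⊴ H`, `A ≤ K` a normal abelian subgroup of small exponent of `H`,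
maximal among the normal abelian subgroups of small exponent of `H` contained in `K`. A `p'`-automorphism `ρ` of `H` that leaves
`K` invariant, fixes `A` pointwise and satisfies `[H, ρ] ≤ K`, is trivial. -/
theorem mulAut_eq_one_of_max_small (p : ℕ) [hp : Fact p.Prime] (hH : IsPGroup p H)
    (K A : Subgroup H) (hKn : K.Normal) (hAn : A.Normal) (hAK : A ≤ K)
    (hAab : ∀ a ∈ A, ∀ b ∈ A, a * b = b * a) (hAexp : ∀ a ∈ A, a ^ smallExp p = 1)
    (hmax : ∀ B : Subgroup H, B.Normal → A ≤ B → B ≤ K → (∀ a ∈ B, ∀ b ∈ B, a * b = b * a) →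
      (∀ b ∈ B, b ^ smallExp p = 1) → B ≤ A)
    (ρ : MulAut H) (hρ : (orderOf ρ).Coprime p) (hρK : ∀ x ∈ K, ρ x ∈ K) (hρA : ∀ a ∈ A, ρ a = a)
    (hρH : ∀ x : H, x⁻¹ * ρ x ∈ K) : ρ = 1 := by
  have := finite_holomorph (H := H)
  have hinl : Function.Injective (SemidirectProduct.inl : H →* Γ) := SemidirectProduct.inl_injective
  have hinr : Function.Injective (SemidirectProduct.inr : MulAut H →* Γ) := SemidirectProduct.inr_injective
  set i : H →* Γ := SemidirectProduct.inl with hi
  have hnorm : ∀ (B : Subgroup H), B.Normal → (⊤ : Subgroup H).map i ≤ Subgroup.normalizer ((B.map i : Subgroup Γ) : Set Γ) := by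
    intro B hB
    rintro _ ⟨x, -, rfl⟩
    apply mem_normalizer_of_conj_mem'
    rintro _ ⟨b, hb, rfl⟩
    refine ⟨x * b * x⁻¹, hB.conj_mem b hb x, ?_⟩
    rw [map_mul, map_mul, map_inv]
  have hord : orderOf (SemidirectProduct.inr ρ : Γ) = orderOf ρ := orderOf_injective _ hinr ρ
  have key := centralizes_of_max_small (G := Γ) p ((⊤ : Subgroup H).map i) (K.map i) (A.map i)
    ((hH.to_subgroup ⊤).map i) (Subgroup.map_mono le_top) (Subgroup.map_mono hAK) (hnorm K hKn) (hnorm A hAn)
    (by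
      rintro _ ⟨a, ha, rfl⟩ _ ⟨b, hb, rfl⟩
      rw [← map_mul, ← map_mul, hAab a ha b hb])
    (by
      rintro _ ⟨a, ha, rfl⟩
      rw [← map_pow, hAexp a ha, map_one])
    (by
      intro B hAB hBK hPB hBab hBexp
      set B' : Subgroup H := B.comap i with hB'
      have hB'n : B'.Normal := by
        constructor
        intro x hx y
        show i (y * x * y⁻¹) ∈ B
        rw [map_mul, map_mul, map_inv]
        exact (Subgroup.mem_normalizer_iff.1 (hPB ⟨y, Subgroup.mem_top _, rfl⟩) _).1 hx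
      have hAB' : A ≤ B' := fun a ha => hAB ⟨a, ha, rfl⟩
      have hB'K : B' ≤ K := by
        intro x hx
        obtain ⟨k, hk, hkx⟩ := hBK hx
        rw [← hinl hkx]; exact hk
      have hB'A := hmax B' hB'n hAB' hB'K
        (fun a ha b hb => hinl (by rw [map_mul, map_mul]; exact hBab _ ha _ hb))
        (fun b hb => hinl (by rw [map_pow, map_one]; exact hBexp _ hb))
      intro g hg
      obtain ⟨k, -, rfl⟩ := hBK hg
      exact ⟨k, hB'A hg, rfl⟩)
    (SemidirectProduct.inr ρ) (hord ▸ hρ) (inr_mem_normalizer_map ρ K hρK)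
    (by
      rintro _ ⟨a, ha, rfl⟩
      exact (inr_comm_iff ρ a).2 (hρA a ha))
    (by
      rintro _ ⟨x, -, rfl⟩
      rw [inl_aut', ← map_inv, ← map_mul]
      exact ⟨_, hρH x, rfl⟩)
  ext x
  have := key (i x) ⟨x, Subgroup.mem_top _, rfl⟩
  rw [MulAut.one_apply]
  exact (inr_comm_iff ρ x).1 this

end Cfsg.Agent.Lib.Helper84
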