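/-
helper84: normal abelian subgroups of small exponent of `R ≤ S` inside a strongly closed subgroup `H`; one of largest order has
the property that no nontrivial `p'`-element of `Aut_F(R₀)` (`R₀` any `F`-conjugate of `R`) fixes a normal abelian subgroup of small
exponent of `R₀` of that order inside `H` pointwise.
All declarations live in `Cfsg.Agent.Lib.Helper84`.
-/
import Cfsg.Agent.Lib.Helper84.MaxSmallAbelianAut
import Cfsg.Agent.Lib.Helper87.FusionNormal

set_option autoImplicit false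

namespace Cfsg.Agent.Lib.Helper84
open Cfsg Cfsg.FusionSystem Cfsg.Agent.Lib.Helper87 Cfsg.Agent.Lib.Helper29

variable {Ω : Type*} [Group Ω] {S : Subgroup Ω}

/-- `B` (a subgroup of `↥R`) is normal in `R`, abelian, of small exponent, and contained in `H`. -/
def IsSmallNormalIn (p : ℕ) (H R : Subgroup Ω) (B : Subgroup ↥R) : Prop :=
  B.Normal ∧ (∀ a ∈ B, ∀ b ∈ B, a * b = b * a) ∧ (∀ b ∈ B, b ^ smallExp p = 1) ∧ ∀ b ∈ B, (b : Ω) ∈ H

theorem isSmallNormalIn_bot (p : ℕ) (H R : Subgroup Ω) : IsSmallNormalIn p H R ⊥ := by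
  refine ⟨inferInstance, ?_, ?_, ?_⟩
  · intro a ha b hb
    rw [Subgroup.mem_bot] at ha hb
    rw [ha, hb]
  · intro b hb
    rw [Subgroup.mem_bot] at hb
    rw [hb, one_pow]
  · intro b hb
    rw [Subgroup.mem_bot] at hb
    rw [hb]
    exact H.one_mem

theorem IsSmallNormalIn.map {p : ℕ} {H R R₀ : Subgroup Ω} {B : Subgroup ↥R} (hB : IsSmallNormalIn p H R B)
    (e : R ≃* R₀) (he : ∀ x : R, (x : Ω) ∈ H → ((e x : R₀) : Ω) ∈ H) :
    IsSmallNormalIn p H R₀ (B.map e.toMonoidHom) := by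
  obtain ⟨h1, h2, h3, h4⟩ := hB
  refine ⟨h1.map e.toMonoidHom e.surjective, ?_, ?_, ?_⟩
  · rintro _ ⟨a, ha, rfl⟩ _ ⟨b, hb, rfl⟩
    show e a * e b = e b * e a
    rw [← map_mul, ← map_mul, h2 a ha b hb]
  · rintro _ ⟨b, hb, rfl⟩
    show (e b) ^ smallExp p = 1
    rw [← map_pow, h3 b hb, map_one]
  · rintro _ ⟨b, hb, rfl⟩
    exact he b (h4 b hb)

/-- There is a normal abelian subgroup of small exponent of `R` inside `H` of largest order. -/
theorem exists_max_isSmallNormalIn (p : ℕ) (H R : Subgroup Ω) [Finite R] :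
    ∃ A : Subgroup ↥R, IsSmallNormalIn p H R A ∧ ∀ B : Subgroup ↥R, IsSmallNormalIn p H R B → Nat.card B ≤ Nat.card A := by
  have hfin : Set.Finite {B : Subgroup ↥R | IsSmallNormalIn p H R B} := Set.toFinite _
  obtain ⟨A, hA, hmax⟩ := Set.exists_max_image _ (fun B : Subgroup ↥R => Nat.card B) hfin
    ⟨⊥, isSmallNormalIn_bot p H R⟩
  exact ⟨A, hA, fun B hB => hmax B hB⟩

/-- An isomorphism of the system maps elements of a strongly closed subgroup into it. -/
theorem IsIso.apply_mem_of_stronglyClosed {F : FusionSystem S} {H : Subgroup Ω} (hH : F.StronglyClosed H)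
    {P Q : Subgroup Ω} {e : P ≃* Q} (he : IsIso F e) (x : P) (hx : (x : Ω) ∈ H) : ((e x : Q) : Ω) ∈ H := by
  have hle : P ⊓ H ≤ P := inf_le_left
  have h1 := restrict_mem F he hle
  exact hH.2 (P ⊓ H) inf_le_right _ h1 ⟨(x : Ω), ⟨x.2, hx⟩⟩

/-- Conjugation by an element of `R ≤ S` is an automorphism of `R` in the system. -/
theorem conj_mem_autGroup (F : FusionSystem S) {R : Subgroup Ω} (hRS : R ≤ S) (g : R) :
    (MulAut.conj g : MulAut R) ∈ F.autGroup R := by
  apply autInducedBy_le_autGroup F hRS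
  rw [mem_autInducedBy_iff]
  exact ⟨(g : Ω), hRS g.2, fun x => by simp [MulAut.conj_apply]⟩

/-- **Key property of a largest normal abelian subgroup of small exponent.** -/
theorem aut_eq_one_of_fixes_max_small (F : FusionSystem S) [Finite S] (p : ℕ) [Fact p.Prime] (hS : IsPGroup p S)
    (H : Subgroup Ω) (hHsc : F.StronglyClosed H)
    (hHfoc : ∀ R₀ : Subgroup Ω, R₀ ≤ S → ∀ ρ ∈ F.autGroup R₀, (orderOf ρ).Coprime p →
      ∀ x : R₀, ((x⁻¹ * ρ x : R₀) : Ω) ∈ H)
    {R : Subgroup Ω} (A : Subgroup ↥R) (hAmax : ∀ B : Subgroup ↥R, IsSmallNormalIn p H R B → Nat.card B ≤ Nat.card A)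
    {R₀ : Subgroup Ω} (hconj : F.IsConj R R₀) (A' : Subgroup ↥R₀) (hA' : IsSmallNormalIn p H R₀ A')
    (hcard : Nat.card A' = Nat.card A)
    (ρ : MulAut R₀) (hρ : ρ ∈ F.autGroup R₀) (hcop : (orderOf ρ).Coprime p) (hfix : ∀ a ∈ A', ρ a = a) : ρ = 1 := by
  obtain ⟨e, he⟩ := (isConj_iff F).1 hconj
  have hR₀S : R₀ ≤ S := he.le_right
  have hfinR₀ : Finite R₀ := finite_of_le hR₀S
  have hKn : (H.subgroupOf R₀).Normal := by
    constructor
    intro x hx g
    rw [Subgroup.mem_subgroupOf] at hx ⊢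
    have := StronglyClosed_aut_mem hHsc hR₀S (conj_mem_autGroup F hR₀S g) hx
    simpa [MulAut.conj_apply] using this
  refine mulAut_eq_one_of_max_small p (hS.to_le hR₀S) (H.subgroupOf R₀) A' hKn hA'.1
    (fun a ha => Subgroup.mem_subgroupOf.2 (hA'.2.2.2 a ha)) hA'.2.1 hA'.2.2.1 ?_ ρ hcop
    (fun x hx => Subgroup.mem_subgroupOf.2 (StronglyClosed_aut_mem hHsc hR₀S hρ (Subgroup.mem_subgroupOf.1 hx)))
    hfix (fun x => Subgroup.mem_subgroupOf.2 (hHfoc R₀ hR₀S ρ hρ hcop x))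
  intro B hBn hA'B hBK hBab hBexp
  have hB : IsSmallNormalIn p H R₀ B := ⟨hBn, hBab, hBexp, fun b hb => Subgroup.mem_subgroupOf.1 (hBK hb)⟩
  have hB' := hB.map e.symm (fun x hx => IsIso.apply_mem_of_stronglyClosed hHsc he.symm x hx)
  have h1 := hAmax _ hB'
  have h2 : Nat.card (B.map e.symm.toMonoidHom) = Nat.card B :=
    Subgroup.card_map_of_injective e.symm.injective
  have h3 : Nat.card B ≤ Nat.card A' := by rw [hcard, ← h2]; exact h1
  exact (Subgroup.eq_of_le_of_card_ge hA'B h3).ge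

end Cfsg.Agent.Lib.Helper84
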