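/-
helper84: towards "small abelian subgroups control fusion" (Benson-Grodal-Henke). `F` saturated over `S`, `E ≤ F` a subsystem
over `S`. If all maps of `F` on subgroups larger than `R` lie in `E`, `A'` is fully normalized and no nontrivial `p'`-automorphism of an
`F`-conjugate `R₀ ≥ A'` of `R` inside `N_S(A')` fixes `A'` pointwise, then every isomorphism of `F` between subgroups of `N_S(A')`
that is the identity on `A'`, with source conjugate to `R`, lies in `E`.
All declarations live in `Cfsg.Agent.Lib.Helper84`.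
-/
import Cfsg.Agent.Lib.Helper84.FusionKNormSys
import Cfsg.Agent.Lib.Helper84.FusionGuard
import Cfsg.Agent.Lib.Helper84.FusionSmallMax
import Cfsg.Agent.Lib.Helper47.Coprime

set_option autoImplicit false

namespace Cfsg.Agent.Lib.Helper84
open Cfsg Cfsg.FusionSystem Cfsg.Agent.Lib.Helper87 Cfsg.Agent.Lib.Helper29

variable {Ω : Type*} [Group Ω] {S : Subgroup Ω}

/-- **Step 3.** Isomorphisms of `F` fixing the fully normalized subgroup `A'` pointwise lie in `E`. -/
theorem isIso_of_fixes (F E : FusionSystem S) [Finite S] (p : ℕ) [Fact p.Prime] (hS : IsPGroup p S)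
    (hF : F.IsSaturated p)
    (R : Subgroup Ω) (IH : ∀ P' : Subgroup Ω, Nat.card R < Nat.card P' → F.Hom P' ⊆ E.Hom P')
    (A' : Subgroup Ω) (hA'fn : F.IsFullyNormalized A')
    (hkey : ∀ R₀ : Subgroup Ω, F.IsConj R R₀ → A' ≤ R₀ → R₀ ≤ normalizerIn S A' → ∀ ρ ∈ F.autGroup R₀,
      (orderOf ρ).Coprime p → (∀ a : R₀, (a : Ω) ∈ A' → ρ a = a) → ρ = 1)
    {X Y : Subgroup Ω} (θ : X ≃* Y) (hθ : IsIso F θ) (hRX : F.IsConj R X) (hA'X : A' ≤ X)
    (hXN : X ≤ normalizerIn S A') (hYN : Y ≤ normalizerIn S A')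
    (hfix : ∀ x : X, (x : Ω) ∈ A' → ((θ x : Y) : Ω) = x) : IsIso E θ := by
  have hA'S : A' ≤ S := hA'fn.1
  set K : Subgroup (MulAut A') := autInducedBy S A' with hK
  set N₀ : Subgroup Ω := nK S K (MulEquiv.refl A') with hN₀
  have hN₀eq : N₀ = normalizerIn S A' := nK_autInducedBy A'
  have hN₀S : N₀ ≤ S := nK_le K _
  have hfinN₀ : Finite N₀ := finite_of_le hN₀S
  set F₀ : FusionSystem N₀ := kNormalizerSystem F A' K hA'S with hF₀
  have hsys : IsKNormalizerSystem F A' K N₀ F₀ := isKNormalizerSystem_kNormalizerSystem F A' K hA'S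
  have hsat : F₀.IsSaturated p :=
    hsys.isSaturated F hS hF hA'S (isMaxK_autInducedBy_of_fullyNormalized F hA'fn)
  have hKp : IsPGroup p K := autInducedBy_isPGroup hS A'
  have hmemF₀ : ∀ {P : Subgroup Ω} {φ : P →* Ω}, φ ∈ F₀.Hom P ↔ φ ∈ F.Hom P ∧ P ≤ N₀ ∧ (∀ x : P, φ x ∈ N₀) ∧
      ∃ ψ ∈ F.Hom (P ⊔ A'), (∀ x : P, ψ (Subgroup.inclusion le_sup_left x) = φ x) ∧
        ∃ κ ∈ K, ∀ u : A', ψ (Subgroup.inclusion le_sup_right u) = ((κ u : A') : Ω) := fun {P φ} => hsys.2 P φ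
  set Es : FusionSystem S := guardSystem F E R with hEs
  have main : ∀ P : Subgroup Ω, F₀.Hom P ⊆ Es.Hom P := by
    apply alperin_weak' F₀ Es (hS.to_le hN₀S) hsat
    intro R₀ hR₀a hR₀r _ ρ hρ
    have hR₀N : R₀ ≤ N₀ := hR₀a.1
    have hR₀S : R₀ ≤ S := hR₀N.trans hN₀S
    have hfinR₀ : Finite R₀ := finite_of_le hR₀S
    have hρ₀ : IsIso F₀ (ρ : R₀ ≃* R₀) := (mem_autGroup_iff F₀ hR₀N).1 hρ
    obtain ⟨hρF, -, -, ψ, hψ, hψe, κ, hκ, hψκ⟩ := hmemF₀.1 hρ₀
    show R₀.subtype.comp (ρ : R₀ ≃* R₀).toMonoidHom ∈ Es.Hom R₀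
    rw [hEs, mem_guardSystem_hom]
    refine ⟨hρF, fun hC => ?_⟩
    rcases hC with hlt | hconj
    · exact IH R₀ hlt hρF
    by_cases hA'R₀ : A' ≤ R₀
    · -- `Aut_{F₀}(R₀)` is a `p`-group
      have hfinAut : Finite (MulAut R₀) := Cfsg.Agent.Lib.Helper29.finite_mulAut
      have hp : IsPGroup p (F₀.autGroup R₀) := by
        apply Cfsg.Agent.Lib.Helper47.isPGroup_subgroup_of_forall_coprime_eq_one
        intro σ hσ hcop
        have hσ₀ : IsIso F₀ (σ : R₀ ≃* R₀) := (mem_autGroup_iff F₀ hR₀N).1 hσ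
        obtain ⟨hσF, -, -, ψσ, -, hψσe, κσ, hκσ, hψσκ⟩ := hmemF₀.1 hσ₀
        have hσA : σ ∈ F.autGroup R₀ := (mem_autGroup_iff F hR₀S).2 hσF
        -- `σ` acts on `A'` as `κσ`
        have hact : ∀ u : A', ((σ ⟨(u : Ω), hA'R₀ u.2⟩ : R₀) : Ω) = ((κσ u : A') : Ω) := by
          intro u
          have h1 := hψσe ⟨(u : Ω), hA'R₀ u.2⟩
          have h2 := hψσκ u
          have h3 : (Subgroup.inclusion (le_sup_left : R₀ ≤ R₀ ⊔ A') ⟨(u : Ω), hA'R₀ u.2⟩ : ↥(R₀ ⊔ A')) =
              Subgroup.inclusion (le_sup_right : A' ≤ R₀ ⊔ A') u := Subtype.ext rfl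
          rw [h3, h2] at h1
          exact h1.symm
        have hpow : ∀ (j : ℕ) (u : A'), (((σ ^ j) ⟨(u : Ω), hA'R₀ u.2⟩ : R₀) : Ω) = (((κσ ^ j) u : A') : Ω) := by
          intro j
          induction j with
          | zero => intro u; simp
          | succ j ih =>
            intro u
            rw [pow_succ', pow_succ', MulAut.mul_apply, MulAut.mul_apply]
            have h1 : (σ ^ j) ⟨(u : Ω), hA'R₀ u.2⟩ = ⟨(((κσ ^ j) u : A') : Ω), hA'R₀ ((κσ ^ j) u).2⟩ :=
              Subtype.ext (ih u)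
            rw [h1]
            exact hact _
        have hκpow : κσ ^ orderOf σ = 1 := by
          ext u
          have := hpow (orderOf σ) u
          rw [pow_orderOf_eq_one] at this
          rw [← this]
          rfl
        have hκ1 : κσ = 1 := by
          have hd : orderOf κσ ∣ orderOf σ := orderOf_dvd_of_pow_eq_one hκpow
          obtain ⟨k, hk⟩ := hKp ⟨κσ, hκσ⟩
          have hk' : κσ ^ p ^ k = 1 := by
            have := congrArg Subtype.val hk
            simpa using this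
          have hd2 : orderOf κσ ∣ p ^ k := orderOf_dvd_of_pow_eq_one hk'
          have hcop2 : (orderOf κσ).Coprime (p ^ k) :=
            Nat.Coprime.pow_right k (Nat.Coprime.coprime_dvd_left hd hcop)
          have : orderOf κσ = 1 := Nat.Coprime.eq_one_of_dvd hcop2 hd2
          exact orderOf_eq_one_iff.1 this
        apply hkey R₀ hconj hA'R₀ (hN₀eq ▸ hR₀N) σ hσA hcop
        intro a ha
        apply Subtype.ext
        have := hact ⟨(a : Ω), ha⟩
        rw [hκ1, MulAut.one_apply] at this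
        exact this
      have hind := autGroup_le_autInducedBy_of_isPGroup F₀ hR₀a hp hρ
      obtain ⟨g, hg, hgρ⟩ := mem_autInducedBy_iff.1 hind
      refine hom_of_eq_on E rfl (E.conj_mem (P := R₀) (g := g) hR₀S (hN₀S hg)) ?_
      intro x hx _
      exact hgρ ⟨x, hx⟩
    · -- `ρ` extends to the larger subgroup `R₀ ⊔ A'`
      have hsupS : R₀ ⊔ A' ≤ S := sup_le hR₀S hA'S
      have hfinsup : Finite ↥(R₀ ⊔ A') := finite_of_le hsupS
      have hlt : Nat.card R < Nat.card ↥(R₀ ⊔ A') := by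
        rw [IsConj_card_eq hconj]
        by_contra hle
        push Not at hle
        have heq := Subgroup.eq_of_le_of_card_ge (le_sup_left : R₀ ≤ R₀ ⊔ A') hle
        apply hA'R₀
        rw [heq]
        exact le_sup_right
      have hψE := IH _ hlt hψ
      exact restrict_mem' E hψE le_sup_left (fun x => (hψe x).symm)
  -- `θ` is a map of `F₀`
  have hθ₀ : Y.subtype.comp θ.toMonoidHom ∈ F₀.Hom X := by
    rw [hmemF₀]
    have hle : X ⊔ A' ≤ X := sup_le le_rfl hA'X
    refine ⟨hθ, hN₀eq ▸ hXN, fun x => hN₀eq ▸ hYN (θ x).2,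
      (Y.subtype.comp θ.toMonoidHom).comp (Subgroup.inclusion hle), restrict_mem F hθ hle, fun x => ?_,
      1, K.one_mem, fun u => ?_⟩
    · rfl
    · exact hfix ⟨(u : Ω), hA'X u.2⟩ u.2
  have := main X hθ₀
  rw [hEs, mem_guardSystem_hom] at this
  exact this.2 (Or.inr hRX)

end Cfsg.Agent.Lib.Helper84
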