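/-
helper84: "small abelian subgroups control fusion", step 2: isomorphisms of `F` stabilizing a fully normalized subgroup `A'` whose
`F`-automorphisms all lie in `E`.
All declarations live in `Cfsg.Agent.Lib.Helper84`.
-/
import Cfsg.Agent.Lib.Helper84.FusionSmallControl
import Cfsg.Agent.Lib.Helper87.FusionFully

set_option autoImplicit false

namespace Cfsg.Agent.Lib.Helper84
open Cfsg Cfsg.FusionSystem Cfsg.Agent.Lib.Helper87 Cfsg.Agent.Lib.Helper29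

variable {Ω : Type*} [Group Ω] {S : Subgroup Ω}

/-- For a finite subgroup, `g K g⁻¹ ⊆ K` implies `g ∈ N(K)`. -/
theorem mem_normalizer_of_conj_mem_of_finite (K : Subgroup Ω) [Finite K] (g : Ω)
    (h : ∀ k ∈ K, g * k * g⁻¹ ∈ K) : g ∈ Subgroup.normalizer (K : Set Ω) := by
  rw [Subgroup.mem_normalizer_iff]
  intro k
  refine ⟨h k, fun hk => ?_⟩
  let f : K → K := fun x => ⟨g * x * g⁻¹, h x x.2⟩
  have hinj : Function.Injective f := by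
    intro x y hxy
    have := congrArg Subtype.val hxy
    apply Subtype.ext
    exact mul_left_cancel (mul_right_cancel this)
  obtain ⟨x, hx⟩ := (Finite.injective_iff_surjective.1 hinj) ⟨g * k * g⁻¹, hk⟩
  have h1 : g * (x : Ω) * g⁻¹ = g * k * g⁻¹ := congrArg Subtype.val hx
  have h2 : (x : Ω) = k := mul_left_cancel (mul_right_cancel h1)
  rw [← h2]
  exact x.2

/-- The restriction of an isomorphism `χ : X ≃* Y` stabilizing `A' ≤ X ⊓ Y` to an automorphism of `A'`. -/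
def restrictStab {X Y A' : Subgroup Ω} (χ : X ≃* Y) (hA'X : A' ≤ X) (hA'Y : A' ≤ Y)
    (hstab : ∀ x : X, (x : Ω) ∈ A' ↔ ((χ x : Y) : Ω) ∈ A') : MulAut A' where
  toFun u := ⟨(χ ⟨(u : Ω), hA'X u.2⟩ : Y), (hstab _).1 u.2⟩
  invFun u := ⟨(χ.symm ⟨(u : Ω), hA'Y u.2⟩ : X), (hstab _).2 (by rw [MulEquiv.apply_symm_apply]; exact u.2)⟩
  left_inv u := by
    apply Subtype.ext
    show ((χ.symm ⟨((χ ⟨(u : Ω), hA'X u.2⟩ : Y) : Ω), _⟩ : X) : Ω) = u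
    have : (⟨((χ ⟨(u : Ω), hA'X u.2⟩ : Y) : Ω), hA'Y ((hstab _).1 u.2)⟩ : Y) = χ ⟨(u : Ω), hA'X u.2⟩ :=
      Subtype.ext rfl
    rw [this, MulEquiv.symm_apply_apply]
  right_inv u := by
    apply Subtype.ext
    show ((χ ⟨((χ.symm ⟨(u : Ω), hA'Y u.2⟩ : X) : Ω), _⟩ : Y) : Ω) = u
    have : (⟨((χ.symm ⟨(u : Ω), hA'Y u.2⟩ : X) : Ω),
        hA'X ((hstab _).2 (by rw [MulEquiv.apply_symm_apply]; exact u.2))⟩ : X) = χ.symm ⟨(u : Ω), hA'Y u.2⟩ :=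
      Subtype.ext rfl
    rw [this, MulEquiv.apply_symm_apply]
  map_mul' u v := by
    apply Subtype.ext
    show ((χ ⟨((u * v : A') : Ω), _⟩ : Y) : Ω) = ((χ ⟨(u : Ω), hA'X u.2⟩ : Y) : Ω) * ((χ ⟨(v : Ω), hA'X v.2⟩ : Y) : Ω)
    have : (⟨((u * v : A') : Ω), hA'X (u * v).2⟩ : X) = ⟨(u : Ω), hA'X u.2⟩ * ⟨(v : Ω), hA'X v.2⟩ := Subtype.ext rfl
    rw [this, map_mul]
    rfl

theorem restrictStab_apply {X Y A' : Subgroup Ω} (χ : X ≃* Y) (hA'X : A' ≤ X) (hA'Y : A' ≤ Y)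
    (hstab : ∀ x : X, (x : Ω) ∈ A' ↔ ((χ x : Y) : Ω) ∈ A') (u : A') :
    ((restrictStab χ hA'X hA'Y hstab u : A') : Ω) = ((χ ⟨(u : Ω), hA'X u.2⟩ : Y) : Ω) := rfl

/-- **Step 2.** Isomorphisms of `F` stabilizing the fully normalized subgroup `A'` lie in `E`. -/
theorem isIso_of_stabilizes (F E : FusionSystem S) [Finite S] (p : ℕ) [Fact p.Prime] (hS : IsPGroup p S)
    (hF : F.IsSaturated p) (hEF : ∀ P : Subgroup Ω, E.Hom P ⊆ F.Hom P)
    (R : Subgroup Ω) (IH : ∀ P' : Subgroup Ω, Nat.card R < Nat.card P' → F.Hom P' ⊆ E.Hom P')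
    (A' : Subgroup Ω) (hA'fn : F.IsFullyNormalized A') (hA'r : E.IsReceptive A')
    (hAutE : ∀ ω : MulAut A', IsIso F (ω : A' ≃* A') → IsIso E (ω : A' ≃* A'))
    (hkey : ∀ R₀ : Subgroup Ω, F.IsConj R R₀ → A' ≤ R₀ → R₀ ≤ normalizerIn S A' → ∀ ρ ∈ F.autGroup R₀,
      (orderOf ρ).Coprime p → (∀ a : R₀, (a : Ω) ∈ A' → ρ a = a) → ρ = 1)
    {X Y : Subgroup Ω} (χ : X ≃* Y) (hχ : IsIso F χ) (hRX : F.IsConj R X) (hA'X : A' ≤ X) (hA'Y : A' ≤ Y)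
    (hXN : X ≤ normalizerIn S A') (hYN : Y ≤ normalizerIn S A')
    (hstab : ∀ x : X, (x : Ω) ∈ A' ↔ ((χ x : Y) : Ω) ∈ A') : IsIso E χ := by
  have hA'S : A' ≤ S := hA'fn.1
  have hXS : X ≤ S := hχ.le_left
  have hYS : Y ≤ S := hχ.le_right
  have hfinA' : Finite A' := finite_of_le hA'S
  set ω : MulAut A' := restrictStab χ hA'X hA'Y hstab with hω
  have hωF : IsIso F (ω : A' ≃* A') := by
    refine restrict_mem' F hχ hA'X (fun u => ?_)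
    rfl
  have hωE : IsIso E (ω : A' ≃* A') := hAutE ω hωF
  set φ' : A' →* Ω := A'.subtype.comp (ω : A' ≃* A').toMonoidHom with hφ'
  have hrange : φ'.range = A' := range_subtype_comp (ω : A' ≃* A')
  obtain ⟨ψ, hψ, hψe⟩ := hA'r.2 A' φ' hωE hrange
  -- `X` lies in the extender
  have hXext : X ≤ extender S A' φ' := by
    intro g hg
    rw [Cfsg.Agent.Lib.Helper85.mem_extender_iff]
    refine ⟨hXS hg, (hXN hg).2, ((χ ⟨g, hg⟩ : Y) : Ω), hYS (χ ⟨g, hg⟩).2, ?_⟩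
    intro x hx
    show ((ω ⟨g * (x : Ω) * g⁻¹, hx⟩ : A') : Ω) = ((χ ⟨g, hg⟩ : Y) : Ω) * ((ω x : A') : Ω) * ((χ ⟨g, hg⟩ : Y) : Ω)⁻¹
    rw [hω, restrictStab_apply, restrictStab_apply]
    have : (⟨g * (x : Ω) * g⁻¹, hA'X hx⟩ : X) = ⟨g, hg⟩ * ⟨(x : Ω), hA'X x.2⟩ * ⟨g, hg⟩⁻¹ := Subtype.ext rfl
    rw [this, map_mul, map_mul, map_inv]
    rfl
  set c₀ : X →* Ω := ψ.comp (Subgroup.inclusion hXext) with hc₀
  have hc₀E : c₀ ∈ E.Hom X := restrict_mem E hψ hXext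
  set c : X ≃* c₀.range := MonoidHom.ofInjective (E.injective_of_mem hc₀E) with hc
  have hcE : IsIso E c := isIso_ofInjective E hc₀E
  have hcF : IsIso F c := hEF X hcE
  have hcapp : ∀ x : X, ((c x : c₀.range) : Ω) = ψ ⟨(x : Ω), hXext x.2⟩ := fun x => rfl
  -- on `A'`, `c` is `χ`
  have hcA' : ∀ x : X, (x : Ω) ∈ A' → ((c x : c₀.range) : Ω) = ((χ x : Y) : Ω) := by
    intro x hx
    rw [hcapp, hψe (x : Ω) hx (hXext x.2)]
    rfl
  set θ : Y ≃* c₀.range := χ.symm.trans c with hθ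
  have hθF : IsIso F θ := hχ.symm.trans hcF
  have hfix : ∀ y : Y, (y : Ω) ∈ A' → ((θ y : c₀.range) : Ω) = y := by
    intro y hy
    have hz : ((χ.symm y : X) : Ω) ∈ A' := (hstab _).2 (by rw [MulEquiv.apply_symm_apply]; exact hy)
    show ((c (χ.symm y) : c₀.range) : Ω) = y
    rw [hcA' _ hz, MulEquiv.apply_symm_apply]
  have hP₃N : c₀.range ≤ normalizerIn S A' := by
    rintro _ ⟨x, rfl⟩
    refine ⟨hom_map_mem E hc₀E x, ?_⟩
    apply mem_normalizer_of_conj_mem_of_finite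
    intro a ha
    -- `a = χ a₀ = c a₀`
    set a₀ : X := χ.symm ⟨a, hA'Y ha⟩ with ha₀
    have ha₀A : (a₀ : Ω) ∈ A' := (hstab _).2 (by rw [MulEquiv.apply_symm_apply]; exact ha)
    have h1 : c₀ a₀ = a := by
      have := hcA' a₀ ha₀A
      rw [MulEquiv.apply_symm_apply] at this
      exact this
    have hconj : (x : Ω) * (a₀ : Ω) * (x : Ω)⁻¹ ∈ A' :=
      (Subgroup.mem_normalizer_iff.1 (hXN x.2).2 _).1 ha₀A
    have h2 : c₀ (x * a₀ * x⁻¹) = c₀ x * a * (c₀ x)⁻¹ := by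
      rw [map_mul, map_mul, map_inv, h1]
    rw [← h2]
    have h3 := hcA' (x * a₀ * x⁻¹) hconj
    have h4 : ((c (x * a₀ * x⁻¹) : c₀.range) : Ω) = c₀ (x * a₀ * x⁻¹) := rfl
    rw [← h4, h3]
    exact (hstab _).1 hconj
  have hRY : F.IsConj R Y := IsConj_trans hRX ((isConj_iff F).2 ⟨χ, hχ⟩)
  have hθE : IsIso E θ := isIso_of_fixes F E p hS hF R IH A' hA'fn hkey θ hθF hRY hA'Y hYN hP₃N hfix
  have hχeq : χ = c.trans θ.symm := by
    ext x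
    simp [hθ]
  rw [hχeq]
  exact hcE.trans hθE.symm

end Cfsg.Agent.Lib.Helper84
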