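/-
helper84: the fusion system over `S` pulled back along an injective homomorphism `ι : S →* G` (the fusion system that
`G` induces on the image of `S`, transported back to `S`). It is realized by `ι`; it is saturated when the image of `ι`
is a Sylow `p`-subgroup of the finite group `G`; strongly closed subgroups are closed under `G`-conjugacy read
through `ι`.
All declarations live in `Cfsg.Agent.Lib.Helper84`.
-/
import Mathlib
import Cfsg.Agent.Lib.Helper85.FusionRealized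

set_option autoImplicit false

namespace Cfsg.Agent.Lib.Helper84

open Cfsg Cfsg.FusionSystem

variable {Ω : Type*} [Group Ω] {S : Subgroup Ω} {G : Type*} [Group G]

/-- The fusion system over `S` pulled back along the injective homomorphism `ι : S →* G`. -/
noncomputable def pullbackSystem (ι : S →* G) (hι : Function.Injective ι) : FusionSystem S where
  Hom P := {φ | ∃ hP : P ≤ S, ∃ hφ : ∀ x : P, φ x ∈ S, ∃ g : G, ∀ x : P,
    ι ⟨φ x, hφ x⟩ = g * ι ⟨x, hP x.2⟩ * g⁻¹}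
  le_of_mem := by
    rintro P φ ⟨hP, hφ, -⟩
    exact ⟨hP, hφ⟩
  injective_of_mem := by
    rintro P φ ⟨hP, hφ, g, hg⟩ x y hxy
    have h1 : ι ⟨φ x, hφ x⟩ = ι ⟨φ y, hφ y⟩ := by
      congr 1
      exact Subtype.ext hxy
    rw [hg x, hg y] at h1
    have h2 : ι ⟨x, hP x.2⟩ = ι ⟨y, hP y.2⟩ := mul_left_cancel (mul_right_cancel h1)
    have h3 := hι h2
    exact Subtype.ext (congrArg (fun z : S => (z : Ω)) h3)
  conj_mem := by
    intro P g hP hg
    refine ⟨hP, fun x => S.mul_mem (S.mul_mem hg (hP x.2)) (S.inv_mem hg), ι ⟨g, hg⟩, fun x => ?_⟩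
    rw [← map_inv, ← map_mul, ← map_mul]
    rfl
  comp_mem := by
    rintro P Q φ ψ ⟨hP, hφ, g, hg⟩ ⟨hQ, hψ, k, hk⟩ h
    refine ⟨hP, fun x => hψ _, k * g, fun x => ?_⟩
    have h1 := hk (φ.codRestrict Q h x)
    have h2 := hg x
    show ι ⟨ψ (φ.codRestrict Q h x), _⟩ = _
    rw [h1]
    have h3 : (⟨((φ.codRestrict Q h x : Q) : Ω), hQ (φ.codRestrict Q h x).2⟩ : S) = ⟨φ x, hφ x⟩ := rfl
    rw [h3, h2]
    group
  inv_mem := by
    rintro P φ ⟨hP, hφ, g, hg⟩
    have hinj : Function.Injective φ := by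
      intro x y hxy
      have h1 : ι ⟨φ x, hφ x⟩ = ι ⟨φ y, hφ y⟩ := by
        congr 1
        exact Subtype.ext hxy
      rw [hg x, hg y] at h1
      have h2 : ι ⟨x, hP x.2⟩ = ι ⟨y, hP y.2⟩ := mul_left_cancel (mul_right_cancel h1)
      have h3 := hι h2
      exact Subtype.ext (congrArg (fun z : S => (z : Ω)) h3)
    have hR : φ.range ≤ S := by
      rintro _ ⟨x, rfl⟩
      exact hφ x
    let ψ : φ.range →* Ω := P.subtype.comp (MonoidHom.ofInjective hinj).symm.toMonoidHom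
    have hψ : ∀ x : P, ψ ⟨φ x, ⟨x, rfl⟩⟩ = (x : Ω) := by
      intro x
      show (((MonoidHom.ofInjective hinj).symm ⟨φ x, ⟨x, rfl⟩⟩ : P) : Ω) = x
      have : (MonoidHom.ofInjective hinj).symm ⟨φ x, ⟨x, rfl⟩⟩ = x := by
        rw [MulEquiv.symm_apply_eq]
        exact Subtype.ext (MonoidHom.ofInjective_apply hinj).symm
      rw [this]
    refine ⟨ψ, ⟨hR, ?_, g⁻¹, ?_⟩, hψ⟩
    · rintro ⟨_, x, rfl⟩
      rw [hψ x]
      exact hP x.2
    · rintro ⟨_, x, rfl⟩
      have h1 : (⟨ψ ⟨φ x, ⟨x, rfl⟩⟩, by rw [hψ x]; exact hP x.2⟩ : S) = ⟨x, hP x.2⟩ := Subtype.ext (hψ x)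
      rw [h1]
      have h2 : (⟨((⟨φ x, ⟨x, rfl⟩⟩ : φ.range) : Ω), hR ⟨x, rfl⟩⟩ : S) = ⟨φ x, hφ x⟩ := rfl
      rw [h2, hg x]
      group

theorem pullbackSystem_isRealizedBy (ι : S →* G) (hι : Function.Injective ι) :
    (pullbackSystem ι hι).IsRealizedBy ι := by
  refine ⟨hι, fun P hP φ hφ => ?_⟩
  constructor
  · rintro ⟨_, _, g, hg⟩
    exact ⟨g, hg⟩
  · rintro ⟨g, hg⟩
    exact ⟨hP, hφ, g, hg⟩

/-- The pulled back system is saturated when the image of `ι` is a Sylow `p`-subgroup of the finite group `G`. -/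
theorem pullbackSystem_isSaturated [Finite G] {p : ℕ} [Fact p.Prime] (ι : S →* G) (hι : Function.Injective ι)
    (T : Sylow p G) (hT : (T : Subgroup G) = ι.range) : (pullbackSystem ι hι).IsSaturated p :=
  Cfsg.Agent.Lib.Helper85.isSaturated_of_isRealizedBy (pullbackSystem_isRealizedBy ι hι) T hT

/-- In a system realized by `ι`, a strongly closed subgroup is closed under `G`-conjugacy read through `ι`. -/
theorem mem_of_conj_of_stronglyClosed {F : FusionSystem S} {ι : S →* G} (hι : F.IsRealizedBy ι)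
    {K : Subgroup Ω} (hK : F.StronglyClosed K) {x y : Ω} (hx : x ∈ K) (hy : y ∈ S) (g : G)
    (hg : ι ⟨y, hy⟩ = g * ι ⟨x, hK.1 hx⟩ * g⁻¹) : y ∈ K := by
  have hP : Subgroup.zpowers x ≤ S := (Subgroup.zpowers_le.2 hx).trans hK.1
  have hPK : Subgroup.zpowers x ≤ K := Subgroup.zpowers_le.2 hx
  have hval : ∀ u : Subgroup.zpowers x, g * ι ⟨u, hP u.2⟩ * g⁻¹ ∈ ι.range := by
    rintro ⟨_, i, rfl⟩
    refine ⟨⟨y, hy⟩ ^ i, ?_⟩
    rw [map_zpow, hg]
    have h1 : (⟨x ^ i, hP ⟨i, rfl⟩⟩ : S) = ⟨x, hK.1 hx⟩ ^ i := Subtype.ext (by simp)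
    show (g * ι ⟨x, hK.1 hx⟩ * g⁻¹) ^ i = g * ι ⟨x ^ i, _⟩ * g⁻¹
    rw [h1, map_zpow, ← MulAut.conj_apply, ← MulAut.conj_apply, map_zpow]
  have hφ := Cfsg.Agent.Lib.Helper85.conjι_mem_Hom hι hP g hval
  have hmem := hK.2 _ hPK _ hφ ⟨x, Subgroup.mem_zpowers x⟩
  have h2 := Cfsg.Agent.Lib.Helper85.ι_conjι hι.1 hP g hval ⟨x, Subgroup.mem_zpowers x⟩
  have h3 : (⟨Cfsg.Agent.Lib.Helper85.conjι hι.1 hP g hval ⟨x, Subgroup.mem_zpowers x⟩,
      Cfsg.Agent.Lib.Helper85.conjι_mem hι.1 hP g hval _⟩ : S) = ⟨y, hy⟩ := by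
    apply hι.1
    rw [h2, hg]
  have h4 : Cfsg.Agent.Lib.Helper85.conjι hι.1 hP g hval ⟨x, Subgroup.mem_zpowers x⟩ = y :=
    congrArg (fun z : S => (z : Ω)) h3
  rw [← h4]
  exact hmem

/-- A group isomorphic to a Sylow `p`-subgroup of a finite group `G` carries a saturated fusion system realized by `G`. -/
theorem exists_saturated_realized_of_equiv_sylow [Finite G] {p : ℕ} [Fact p.Prime] (T : Sylow p G)
    (e : S ≃* (T : Subgroup G)) :
    ∃ (F : FusionSystem S) (ι : S →* G), F.IsSaturated p ∧ F.IsRealizedBy ι ∧ ι.range = (T : Subgroup G) := by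
  let ι : S →* G := (T : Subgroup G).subtype.comp e.toMonoidHom
  have hι : Function.Injective ι := (Subgroup.subtype_injective _).comp e.injective
  have hr : ι.range = (T : Subgroup G) := by
    ext y
    constructor
    · rintro ⟨s, rfl⟩
      exact (e s).2
    · intro hy
      exact ⟨e.symm ⟨y, hy⟩, by simp [ι]⟩
  exact ⟨pullbackSystem ι hι, ι, pullbackSystem_isSaturated ι hι T hr.symm, pullbackSystem_isRealizedBy ι hι, hr⟩

end Cfsg.Agent.Lib.Helper84
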