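/-
helper84: ASCHSP-[C5] `sgeo_of_realisable`: a subgroup of the isometry group normalising an absolutely irreducible
subgroup that is realisable over a proper subfield lies in a class-5 member (with a form-rational structure).
-/
import Mathlib
import Cfsg.Prelude.Def_GeometricClasses
import Cfsg.Agent.Lib.Helper99.AschDefs
import Cfsg.Agent.Lib.Helper23.AschSpDefs
import Cfsg.Agent.Lib.Helper44.SubF1
import Cfsg.Agent.Lib.Helper84.AschC5
import Cfsg.Agent.Lib.Helper84.AschSpC5Key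
import Cfsg.Agent.Lib.Helper42.AschSpC5Form

set_option autoImplicit false
set_option linter.unusedSectionVars false
set_option linter.style.haveILetI false

namespace Cfsg.Agent.Lib.Helper23.AschSp

open Cfsg Cfsg.Geo Cfsg.Agent.Lib.Helper99.Asch
open scoped MatrixGroups Matrix Kronecker

variable {n m : ℕ} {F : Type*} [Field F] [Fintype F] {f : (Fin n → F) → (Fin n → F) → F}

/-- ASCHSP-[C5] -/
theorem sgeo_of_realisable (hf : IsSymplecticForm f) (H S : Subgroup (GL (Fin n) F)) (hH : H ≤ isoGL f)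
    (hS : ActsAbsolutelyIrreducibly (matrixSet S)) (hSf : S ≤ isoGL f) (hnrm : Nrm H S) (F₀ : Subfield F)
    (hF₀ : F₀ ≠ ⊤) (hreal : RealisableOver F₀ (matrixSet S)) : SGeo m f H := by
  obtain ⟨B, hB1, hB2⟩ := exists_conj_realisable_normalizer H S hS hnrm F₀ hreal
  obtain ⟨F₁, r, hr, hle, hcard⟩ := Cfsg.Agent.Lib.Helper84.AschC5.exists_prime_degree_subfield F₀ hF₀
  obtain ⟨ζ, hζ, hrat⟩ := exists_formRational hf S hS hSf F₁ B (fun s hs i j => hle (hB1 s hs i j))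
  refine SGeo.of_c5 (M := subfieldSubgroup F₁ B⁻¹ ⊓ isoGL f) ⟨F₁, r, B⁻¹, ζ, hr, hcard, hζ, hrat, rfl⟩ ?_
  refine le_inf ?_ hH
  intro h hh
  obtain ⟨c, hc⟩ := hB2 h hh
  have hmem : B * h * B⁻¹ ∈ Cfsg.Agent.Lib.Helper44.SubF.NGrp F₁ :=
    (Cfsg.Agent.Lib.Helper44.SubF.mem_NGrp_iff _).2 ⟨c, fun i j => hle (hc i j)⟩
  refine ⟨B * h * B⁻¹, hmem, ?_⟩
  show B⁻¹ * (B * h * B⁻¹) * B⁻¹⁻¹ = h
  group

end Cfsg.Agent.Lib.Helper23.AschSp
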