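/-
helper84: ASCHSP-[C5-KEY].  Port of helper49's `exists_conj_smul_mem_of_realisable`, also exporting that the base change
`B` realises `S` over `F₀`.
-/
import Mathlib
import Cfsg.Prelude.Def_GeometricClasses
import Cfsg.Agent.Lib.Helper99.AschDefs
import Cfsg.Agent.Lib.Helper39.AschBurnside
import Cfsg.Agent.Lib.Helper49.AschNDescOf
import Cfsg.Agent.Lib.Helper49.AschNDescKey

set_option autoImplicit false
set_option linter.unusedSectionVars false

namespace Cfsg.Agent.Lib.Helper23.AschSp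

open Cfsg Cfsg.Geo Cfsg.Agent.Lib.Helper99.Asch Cfsg.Agent.Lib.Helper49.AschNDesc
open scoped MatrixGroups Matrix Kronecker

variable {n : ℕ} {F : Type*} [Field F] [Fintype F]

/-- ASCHSP-[C5-KEY] -/
theorem exists_conj_realisable_normalizer (H S : Subgroup (GL (Fin n) F))
    (hS : ActsAbsolutelyIrreducibly (matrixSet S)) (hnrm : Nrm H S) (F₀ : Subfield F)
    (hreal : RealisableOver F₀ (matrixSet S)) :
    ∃ B : GL (Fin n) F,
      (∀ s ∈ matrixSet S, ∀ i j, ((B : Matrix (Fin n) (Fin n) F) * s * ((B⁻¹ : GL (Fin n) F) : Matrix (Fin n) (Fin n) F)) i j ∈ F₀) ∧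
      ∀ h ∈ H, ∃ c : Fˣ, ∀ i j,
        ((c : F) • ((B * h * B⁻¹ : GL (Fin n) F) : Matrix (Fin n) (Fin n) F)) i j ∈ F₀ := by
  obtain ⟨B, hB⟩ := hreal
  refine ⟨B, hB, ?_⟩
  intro h hh
  apply exists_smul_mem_of_normalizes (conjSub B S)
    (span_conjSub B S (span_eq_top_of_absIrred S hS)) (comm_conjSub B S hS.2) F₀
  · intro s hs i j
    obtain ⟨s', hs', rfl⟩ := (mem_matrixSet_conjSub B S s).1 hs
    exact hB s' hs' i j
  · intro y hy
    obtain ⟨x, hx, rfl⟩ := (mem_conjSub B S y).1 hy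
    rw [mem_conjSub]
    refine ⟨h * x * h⁻¹, hnrm h hh x hx, ?_⟩
    group

end Cfsg.Agent.Lib.Helper23.AschSp
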