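import Mathlib
import Cfsg.Agent.Lib.Helper30.BSW.Defs

set_option autoImplicit false

/-!
# BSW module [B3] (helper84): outer elements

Elementary facts on elements not conjugate into `K` in the abstract Brauer-Suzuki-Wall setting.
-/

open Cfsg.Agent.Lib.Helper30.BSW

namespace Cfsg.Agent.Lib.Helper84.BSWOuter

variable {G : Type*} [Group G] {t s : G} {K : Subgroup G}

/-- No conjugate of an outer element lies in `C_G(t)`. -/
theorem outer_conj_not_mem_H (h : Hyp t s K) (b : Basic t s K) {x : G} (hx : IsOuter K x) (g : G) :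
    g * x * g⁻¹ ∉ Subgroup.centralizer ({t} : Set G) := by
  intro hmem
  rcases (b.mem_H _).1 hmem with hK | ⟨y, hy, hys⟩
  · exact hx g hK
  · have h2 : orderOf (g * x * g⁻¹) = 2 := by rw [hys]; exact b.invol_coset y hy
    obtain ⟨d, hd⟩ := isConj_iff.1 (h.hconj _ _ h2 h.ht)
    apply hx (d * g)
    have : d * g * x * (d * g)⁻¹ = d * (g * x * g⁻¹) * d⁻¹ := by group
    rw [this, hd]
    exact h.htK

theorem outer_not_commute_invol (h : Hyp t s K) (b : Basic t s K) {x : G} (hx : IsOuter K x)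
    {u : G} (hu : orderOf u = 2) : u * x ≠ x * u := by
  intro hcomm
  obtain ⟨c, hc⟩ := isConj_iff.1 (h.hconj _ _ hu h.ht)
  apply outer_conj_not_mem_H h b hx c
  rw [Subgroup.mem_centralizer_singleton_iff, ← hc]
  have e1 : c * x * c⁻¹ * (c * u * c⁻¹) = c * (x * u) * c⁻¹ := by group
  have e2 : c * u * c⁻¹ * (c * x * c⁻¹) = c * (u * x) * c⁻¹ := by group
  rw [e1, e2, hcomm]

theorem outer_of_mem_centralizer (h : Hyp t s K) (b : Basic t s K) {x : G} (hx : IsOuter K x)
    {y : G} (hy : y ∈ Subgroup.centralizer ({x} : Set G)) (hy1 : y ≠ 1) : IsOuter K y := by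
  intro g hg
  have hne : g * y * g⁻¹ ≠ 1 := by
    intro h1
    apply hy1
    have : y = g⁻¹ * (g * y * g⁻¹) * g := by group
    rw [this, h1]; group
  apply outer_conj_not_mem_H h b hx g
  apply b.cent_le _ hg hne
  rw [Subgroup.mem_centralizer_singleton_iff] at hy ⊢
  have e1 : g * x * g⁻¹ * (g * y * g⁻¹) = g * (x * y) * g⁻¹ := by group
  have e2 : g * y * g⁻¹ * (g * x * g⁻¹) = g * (y * x) * g⁻¹ := by group
  rw [e1, e2, hy]

theorem outer_conj {x : G} (hx : IsOuter K x) (g : G) : IsOuter K (g * x * g⁻¹) := by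
  intro a
  have : a * (g * x * g⁻¹) * a⁻¹ = (a * g) * x * (a * g)⁻¹ := by group
  rw [this]
  exact hx (a * g)

theorem outer_inv {x : G} (hx : IsOuter K x) : IsOuter K x⁻¹ := by
  intro a ha
  apply hx a
  have : a * x * a⁻¹ = (a * x⁻¹ * a⁻¹)⁻¹ := by group
  rw [this]
  exact K.inv_mem ha

theorem outer_sq_ne_one (h : Hyp t s K) {x : G} (hx : IsOuter K x) : x ^ 2 ≠ 1 := by
  intro hsq
  by_cases hx1 : x = 1
  · apply hx 1
    rw [hx1]; simp
  · have h2 : orderOf x = 2 := orderOf_eq_prime hsq hx1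
    obtain ⟨d, hd⟩ := isConj_iff.1 (h.hconj _ _ h2 h.ht)
    apply hx d
    rw [hd]
    exact h.htK

end Cfsg.Agent.Lib.Helper84.BSWOuter
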