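import Mathlib
import Cfsg.Agent.Lib.Helper30.BSW.Defs
import Cfsg.Agent.Lib.Helper84.BSWOuter

set_option autoImplicit false

/-!
# BSW module [B5] (helper84): real outer elements

For an outer element `x` inverted by an involution `u`: `u` inverts `C_G(x)`, the centralizers of
the nontrivial elements of `C_G(x)` all equal `C_G(x)`, and the number of involutions inverting
`x` is `|C_G(x)|`.
-/

open Cfsg.Agent.Lib.Helper30.BSW

namespace Cfsg.Agent.Lib.Helper84.BSWReal

open Cfsg.Agent.Lib.Helper84.BSWOuter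

variable {G : Type*} [Group G] {t s : G} {K : Subgroup G}

/-- `u` inverts `C_G(x)` and `C_G(x)` is commutative. -/
theorem inverts_and_comm [Finite G] (h : Hyp t s K) (b : Basic t s K) {x : G} (hx : IsOuter K x)
    {u : G} (hu : orderOf u = 2) (hux : u * x * u⁻¹ = x⁻¹) :
    (∀ c ∈ Subgroup.centralizer ({x} : Set G), u * c * u⁻¹ = c⁻¹) ∧
      ∀ c ∈ Subgroup.centralizer ({x} : Set G), ∀ d ∈ Subgroup.centralizer ({x} : Set G),
        c * d = d * c := by
  have hu2 : u * u = 1 := by rw [← pow_two, ← hu, pow_orderOf_eq_one]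
  have huinv : u⁻¹ = u := inv_eq_of_mul_eq_one_right hu2
  have hxu : x = u * x⁻¹ * u⁻¹ := by
    symm
    calc u * x⁻¹ * u⁻¹ = u * (u * x * u⁻¹) * u⁻¹ := by rw [hux]
      _ = (u * u) * x * (u * u)⁻¹ := by group
      _ = x := by rw [hu2]; simp
  have hnorm : ∀ c ∈ Subgroup.centralizer ({x} : Set G),
      u * c * u⁻¹ ∈ Subgroup.centralizer ({x} : Set G) := by
    intro c hc
    rw [Subgroup.mem_centralizer_singleton_iff] at hc ⊢
    have hc' : c * x⁻¹ = x⁻¹ * c := by
      have : c * x⁻¹ = x⁻¹ * (x * c) * x⁻¹ := by group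
      rw [this, ← hc]; group
    calc u * c * u⁻¹ * x = u * c * u⁻¹ * (u * x⁻¹ * u⁻¹) := by rw [← hxu]
      _ = u * (c * x⁻¹) * u⁻¹ := by group
      _ = u * (x⁻¹ * c) * u⁻¹ := by rw [hc']
      _ = (u * x⁻¹ * u⁻¹) * (u * c * u⁻¹) := by group
      _ = x * (u * c * u⁻¹) := by rw [← hxu]
  let φ : ↥(Subgroup.centralizer ({x} : Set G)) →* ↥(Subgroup.centralizer ({x} : Set G)) :=
    { toFun := fun c => ⟨u * c * u⁻¹, hnorm c c.2⟩
      map_one' := by apply Subtype.ext; simp
      map_mul' := by
        intro c d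
        apply Subtype.ext
        show u * ((c : G) * d) * u⁻¹ = (u * c * u⁻¹) * (u * d * u⁻¹)
        group }
  have hφ : MonoidHom.FixedPointFree φ := by
    intro c hc
    by_contra hc1
    have hc1' : (c : G) ≠ 1 := fun h1 => hc1 (Subtype.ext h1)
    have hout : IsOuter K (c : G) := outer_of_mem_centralizer h b hx c.2 hc1'
    apply outer_not_commute_invol h b hout hu
    have : u * (c : G) * u⁻¹ = c := congrArg Subtype.val hc
    calc u * (c : G) = u * c * u⁻¹ * u := by group
      _ = c * u := by rw [this]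
  have h2 : Function.Involutive φ := by
    intro c
    apply Subtype.ext
    show u * (u * (c : G) * u⁻¹) * u⁻¹ = c
    have : u * (u * (c : G) * u⁻¹) * u⁻¹ = (u * u) * c * (u * u)⁻¹ := by group
    rw [this, hu2]; simp
  constructor
  · intro c hc
    have := congrFun (hφ.coe_eq_inv_of_involutive h2) ⟨c, hc⟩
    exact congrArg Subtype.val this
  · intro c hc d hd
    have := hφ.commute_all_of_involutive h2 ⟨c, hc⟩ ⟨d, hd⟩
    exact congrArg Subtype.val this.eq

theorem real_outer [Finite G] (h : Hyp t s K) (b : Basic t s K) {x : G} (hx : IsOuter K x)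
    {u : G} (hu : orderOf u = 2) (hux : u * x * u⁻¹ = x⁻¹) :
    (∀ c ∈ Subgroup.centralizer ({x} : Set G), u * c * u⁻¹ = c⁻¹) ∧
    (∀ y ∈ Subgroup.centralizer ({x} : Set G), y ≠ 1 →
      Subgroup.centralizer ({y} : Set G) = Subgroup.centralizer ({x} : Set G)) ∧
    rinv x = Nat.card (Subgroup.centralizer ({x} : Set G)) := by
  obtain ⟨hinv, hcomm⟩ := inverts_and_comm h b hx hu hux
  have hu2 : u * u = 1 := by rw [← pow_two, ← hu, pow_orderOf_eq_one]
  have huinv : u⁻¹ = u := inv_eq_of_mul_eq_one_right hu2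
  have hxC : x ∈ Subgroup.centralizer ({x} : Set G) := by
    rw [Subgroup.mem_centralizer_singleton_iff]
  refine ⟨hinv, ?_, ?_⟩
  · intro y hy hy1
    have hyout : IsOuter K y := outer_of_mem_centralizer h b hx hy hy1
    have huy : u * y * u⁻¹ = y⁻¹ := hinv y hy
    obtain ⟨-, hcommy⟩ := inverts_and_comm h b hyout hu huy
    have hyCy : y ∈ Subgroup.centralizer ({y} : Set G) := by
      rw [Subgroup.mem_centralizer_singleton_iff]
    have hxCy : x ∈ Subgroup.centralizer ({y} : Set G) := by
      rw [Subgroup.mem_centralizer_singleton_iff]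
      exact (Subgroup.mem_centralizer_singleton_iff.1 hy).symm
    apply le_antisymm
    · intro c hc
      rw [Subgroup.mem_centralizer_singleton_iff]
      exact hcommy c hc x hxCy
    · intro c hc
      rw [Subgroup.mem_centralizer_singleton_iff]
      exact hcomm c hc y hy
  · unfold rinv
    have huC : u ∉ Subgroup.centralizer ({x} : Set G) := by
      intro hmem
      rw [Subgroup.mem_centralizer_singleton_iff] at hmem
      exact outer_not_commute_invol h b hx hu hmem
    apply Nat.card_congr
    refine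
      { toFun := fun v => ⟨(v : G) * u⁻¹, ?_⟩
        invFun := fun c => ⟨(c : G) * u, ?_, ?_⟩
        left_inv := ?_
        right_inv := ?_ }
    · rw [Subgroup.mem_centralizer_singleton_iff]
      have hv := v.2.2
      have hxu : u⁻¹ * x * u = x⁻¹ := by
        calc u⁻¹ * x * u = u * x * u⁻¹ := by rw [huinv]
          _ = x⁻¹ := hux
      have hvx : (v : G) * x⁻¹ * (v : G)⁻¹ = x := by
        have : (v : G) * x⁻¹ * (v : G)⁻¹ = ((v : G) * x * (v : G)⁻¹)⁻¹ := by group
        rw [this, hv, inv_inv]
      calc (v : G) * u⁻¹ * x = (v : G) * (u⁻¹ * x * u) * (v : G)⁻¹ * ((v : G) * u⁻¹) := by group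
        _ = x * ((v : G) * u⁻¹) := by rw [hxu, hvx]
    · have hcu : (c : G) * u ≠ 1 := by
        intro h1
        apply huC
        have : u = (c : G)⁻¹ := by
          have : u = (c : G)⁻¹ * ((c : G) * u) := by group
          rw [this, h1, mul_one]
        rw [this]
        exact Subgroup.inv_mem _ c.2
      have hsq : ((c : G) * u) ^ 2 = 1 := by
        have hc := hinv c c.2
        rw [huinv] at hc
        calc ((c : G) * u) ^ 2 = (c : G) * (u * c * u) := by rw [pow_two]; group
          _ = 1 := by rw [hc]; group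
      exact orderOf_eq_prime hsq hcu
    · have hc := Subgroup.mem_centralizer_singleton_iff.1 c.2
      calc (c : G) * u * x * ((c : G) * u)⁻¹ = (c : G) * (u * x * u⁻¹) * (c : G)⁻¹ := by group
        _ = (c : G) * x⁻¹ * (c : G)⁻¹ := by rw [hux]
        _ = ((c : G) * x * (c : G)⁻¹)⁻¹ := by group
        _ = x⁻¹ := by rw [hc]; group
    · intro v
      apply Subtype.ext
      show (v : G) * u⁻¹ * u = v
      group
    · intro c
      apply Subtype.ext
      show (c : G) * u * u⁻¹ = c
      group

end Cfsg.Agent.Lib.Helper84.BSWReal
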