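/-
helper84: project STEINBERG phase 3 (helper60), module ST3-[SEC]: for a section `z` of a central extension
`ψ : E →* Γ` of a Steinberg model, `ψ` is injective on the subgroup generated by the `z a t`, `a` positive
(`injU`), hence (R2) holds for the `z`'s on pairs of positive roots (`r2_pos`).
-/
import Cfsg.Agent.Lib.Helper60.St3Defs
import Mathlib

set_option autoImplicit false
set_option linter.unusedSectionVars false

namespace Cfsg.Agent.Lib.Helper84.St3

open Cfsg.Lie Cfsg.Agent.Lib.Helper35.St Cfsg.Agent.Lib.Helper60.St3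

universe u v w

variable {D : ChevalleyDatum} {K : Type u} [Field K] {Γ : Type v} [Group Γ] {E : Type w} [Group E]

section basics

variable {M : Model D K Γ} {ψ : E →* Γ} {z : ℕ → K → E}

theorem z_zero (hz : IsSection M ψ z) (s : ℕ) (hs : s < D.nroots) : z s 0 = 1 := by
  have h := hz.add s hs 0 0
  rw [add_zero] at h
  exact mul_left_cancel (a := z s 0) (by rw [h, mul_one])

theorem z_neg (hz : IsSection M ψ z) (s : ℕ) (hs : s < D.nroots) (t : K) : (z s t)⁻¹ = z s (-t) := by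
  have h := hz.add s hs t (-t)
  rw [add_neg_cancel, z_zero hz s hs] at h
  exact inv_eq_of_mul_eq_one_right h

/-- Conjugation of `z s t` by a lift of a diagonal element. -/
theorem zeq (hz : IsSection M ψ z) {g : Γ} {χ : ℕ → K} (hg : IsDiag M g χ) (e : E) (he : ψ e = g)
    (s : ℕ) (hs : s < D.nroots) (t : K) : e * z s t * e⁻¹ = z s (χ s * t) := by
  have h := hz.brk g χ hg s hs t e (z s t) he (hz.lift s hs t)
  have h2 : e * z s t * e⁻¹ = z s ((χ s - 1) * t) * z s t := by rw [← h]; group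
  rw [h2, hz.add s hs]
  congr 1
  ring

end basics

/-- The subgroup generated by the `z a t`, `a` positive, `n ≤ a`. -/
def Et (D : ChevalleyDatum) {K : Type u} (z : ℕ → K → E) (n : ℕ) : Subgroup E :=
  Subgroup.closure {e : E | ∃ (a : ℕ) (t : K), D.IsPosRoot a ∧ n ≤ a ∧ e = z a t}

section filtration

variable {M : Model D K Γ} {ψ : E →* Γ} {z : ℕ → K → E}

theorem Et_zero : Et D z 0 = Upos D z := by
  unfold Et Upos
  congr 1
  exact Set.ext fun e => ⟨fun ⟨a, t, ha, _, he⟩ => ⟨a, t, ha, he⟩, fun ⟨a, t, ha, he⟩ => ⟨a, t, ha, Nat.zero_le _, he⟩⟩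

theorem mem_Et_gen {a n : ℕ} (ha : D.IsPosRoot a) (hn : n ≤ a) (t : K) : z a t ∈ Et D z n :=
  Subgroup.subset_closure ⟨a, t, ha, hn, rfl⟩

theorem Et_anti {n m : ℕ} (h : n ≤ m) : Et D z m ≤ Et D z n :=
  Subgroup.closure_mono fun _ ⟨a, t, ha, hm, he⟩ => ⟨a, t, ha, h.trans hm, he⟩

theorem Et_top {n : ℕ} (hn : D.nroots ≤ n) : Et D z n = ⊥ := by
  rw [Et, Subgroup.closure_eq_bot_iff]
  rintro e ⟨a, t, ha, hna, rfl⟩
  exact absurd ha.1 (by omega)

theorem map_mem_sub (hz : IsSection M ψ z) {n : ℕ} {e : E} (he : e ∈ Et D z n) :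
    ψ e ∈ M.sub (fun b => D.IsPosRoot b ∧ n ≤ b) := by
  induction he using Subgroup.closure_induction with
  | mem x hx =>
    obtain ⟨a, t, ha, hn, rfl⟩ := hx
    rw [hz.lift a ha.1 t]
    exact Subgroup.subset_closure ⟨a, t, ⟨ha, hn⟩, rfl⟩
  | one => rw [map_one]; exact one_mem _
  | mul x y _ _ hx hy => rw [map_mul]; exact mul_mem hx hy
  | inv x _ hx => rw [map_inv]; exact inv_mem hx

theorem conj_mem_Et (hz : IsSection M ψ z) {g : Γ} {χ : ℕ → K} (hg : IsDiag M g χ) (e : E) (he : ψ e = g)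
    {n : ℕ} {x : E} (hx : x ∈ Et D z n) : e * x * e⁻¹ ∈ Et D z n := by
  induction hx using Subgroup.closure_induction with
  | mem x hx =>
    obtain ⟨a, t, ha, hn, rfl⟩ := hx
    rw [zeq hz hg e he a ha.1 t]
    exact mem_Et_gen ha hn _
  | one => simp
  | mul x y _ _ hx hy =>
    have : e * (x * y) * e⁻¹ = (e * x * e⁻¹) * (e * y * e⁻¹) := by group
    rw [this]; exact mul_mem hx hy
  | inv x _ hx =>
    have : e * x⁻¹ * e⁻¹ = (e * x * e⁻¹)⁻¹ := by group
    rw [this]; exact inv_mem hx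

end filtration

section step

variable (M : Model D K Γ) (tf : TF D) (ψ : E →* Γ) (hψ : Function.Surjective ψ)
  (hc : ψ.ker ≤ Subgroup.center E) (z : ℕ → K → E) (hz : IsSection M ψ z) (hidx : IdxLvl D) (hds : DSep M)

include tf hψ hc hz hidx hds in
/-- The key claim: `z_a(t)⁻¹ z_k(u) z_a(t)` lies in `Ẽ_{a+1}` for `k > a`. -/
theorem conj_gen_mem {a : ℕ} (ha : D.IsPosRoot a)
    (hP : ∀ e ∈ Et D z (a + 1), ψ e = 1 → e = 1) (t : K) {k : ℕ} (hk : D.IsPosRoot k) (hak : a < k) (u : K) :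
    (z a t)⁻¹ * z k u * z a t ∈ Et D z (a + 1) := by
  have hka : k ≠ a := by omega
  have hkn : k ≠ D.neg a := fun h => tf.not_pos_neg k hk (h ▸ tf.neg_pos a ha)
  let Wt : K → E := fun u => ((D.commWord K a k t u).map fun p => z p.1 p.2).prod
  have hWN : ∀ u, Wt u ∈ Et D z (a + 1) := by
    intro u
    apply Subgroup.list_prod_mem
    intro x hx
    simp only [ChevalleyDatum.commWord, List.map_map, List.mem_map] at hx
    obtain ⟨c, hc', rfl⟩ := hx
    obtain ⟨hcp, hac, -⟩ := hidx a k ha hk hka c hc'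
    exact mem_Et_gen hcp hac _
  have hWψ : ∀ u, ψ (Wt u) = ((D.commWord K a k t u).map fun p => M.X p.1 p.2).prod := by
    intro u
    simp only [Wt, map_list_prod, List.map_map]
    congr 1
    apply List.map_congr_left
    intro p hp
    simp only [ChevalleyDatum.commWord, List.mem_map] at hp
    obtain ⟨c, hc', rfl⟩ := hp
    exact hz.lift _ (hidx a k ha hk hka c hc').1.1 _
  let n' : K → E := fun u => z k u * Wt u
  let f : K → E := fun u => (z a t)⁻¹ * z k u * z a t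
  let κ : K → E := fun u => (n' u)⁻¹ * f u
  have hn'N : ∀ u, n' u ∈ Et D z (a + 1) := fun u => mul_mem (mem_Et_gen hk hak _) (hWN u)
  have hκC : ∀ u, κ u ∈ ψ.ker := by
    intro u
    rw [MonoidHom.mem_ker]
    simp only [κ, n', f, map_mul, map_inv, hWψ, hz.lift k hk.1, hz.lift a ha.1]
    rw [← M.comm a k ha.1 hk.1 hka hkn t u]
    group
  have hf : ∀ u, f u = n' u * κ u := fun u => by simp [κ]
  have hfadd : ∀ u u', f (u + u') = f u * f u' := by
    intro u u'
    simp only [f]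
    rw [← hz.add k hk.1 u u']
    group
  have hdec : ∀ n₁ ∈ Et D z (a + 1), ∀ n₂ ∈ Et D z (a + 1), ∀ κ₁ ∈ ψ.ker, ∀ κ₂ ∈ ψ.ker,
      n₁ * κ₁ = n₂ * κ₂ → κ₁ = κ₂ := by
    intro n₁ h₁ n₂ h₂ κ₁ hκ₁ κ₂ hκ₂ h
    have h3 : n₂⁻¹ * n₁ = κ₂ * κ₁⁻¹ := by
      have : n₁ = n₂ * κ₂ * κ₁⁻¹ := by rw [← h]; group
      rw [this]; group
    have h4 : n₂⁻¹ * n₁ = 1 :=
      hP _ (mul_mem (inv_mem h₂) h₁) (by rw [h3]; exact MonoidHom.mem_ker.1 (mul_mem hκ₂ (inv_mem hκ₁)))
    rw [h4] at h3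
    exact (mul_inv_eq_one.1 h3.symm).symm
  have hκcen : ∀ u, ∀ y : E, y * κ u = κ u * y := fun u y => Subgroup.mem_center_iff.1 (hc (hκC u)) y
  have hκadd : ∀ u u', κ (u + u') = κ u * κ u' := by
    intro u u'
    refine hdec (n' (u + u')) (hn'N _) (n' u * n' u') (mul_mem (hn'N _) (hn'N _)) _ (hκC _) _
      (mul_mem (hκC _) (hκC _)) ?_
    rw [← hf, hfadd, hf u, hf u']
    have h1 : κ u * n' u' = n' u' * κ u := (hκcen u (n' u')).symm
    calc n' u * κ u * (n' u' * κ u') = n' u * (κ u * n' u') * κ u' := by group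
      _ = n' u * (n' u' * κ u) * κ u' := by rw [h1]
      _ = n' u * n' u' * (κ u * κ u') := by group
  obtain ⟨g, χ, hg, hχa, hχk⟩ := hds a k ha.1 hk.1 hka hkn
  obtain ⟨e, he⟩ := hψ g
  have hea : e * z a t * e⁻¹ = z a t := by rw [zeq hz hg e he a ha.1 t, hχa, one_mul]
  have hek : ∀ u, e * z k u * e⁻¹ = z k (χ k * u) := fun u => zeq hz hg e he k hk.1 u
  have hef : ∀ u, e * f u * e⁻¹ = f (χ k * u) := by
    intro u
    simp only [f]
    rw [← hek u]
    have : e * ((z a t)⁻¹ * z k u * z a t) * e⁻¹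
        = (e * z a t * e⁻¹)⁻¹ * (e * z k u * e⁻¹) * (e * z a t * e⁻¹) := by group
    rw [this, hea]
  have hκinv : ∀ u, κ (χ k * u) = κ u := by
    intro u
    refine hdec (n' (χ k * u)) (hn'N _) (e * n' u * e⁻¹) (conj_mem_Et hz hg e he (hn'N u)) _ (hκC _) _
      (hκC _) ?_
    rw [← hf, ← hef, hf u]
    have h1 : κ u * e⁻¹ = e⁻¹ * κ u := (hκcen u e⁻¹).symm
    calc e * (n' u * κ u) * e⁻¹ = e * n' u * (κ u * e⁻¹) := by group
      _ = e * n' u * (e⁻¹ * κ u) := by rw [h1]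
      _ = e * n' u * e⁻¹ * κ u := by group
  have hd : χ k - 1 ≠ 0 := sub_ne_zero.2 hχk
  have h2 : ∀ v, κ ((χ k - 1) * v) = 1 := by
    intro v
    have h3 : κ (χ k * v) = κ ((χ k - 1) * v) * κ v := by
      rw [← hκadd]; congr 1; ring
    rw [hκinv] at h3
    exact mul_eq_right.1 h3.symm
  have hκ1 : κ u = 1 := by
    have := h2 (u / (χ k - 1))
    rwa [mul_div_cancel₀ _ hd] at this
  have h5 := hf u
  rw [hκ1, mul_one] at h5
  change f u ∈ _
  rw [h5]
  exact hn'N u

include tf hψ hc hz hidx hds in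
theorem conj_mem_N {a : ℕ} (ha : D.IsPosRoot a)
    (hP : ∀ e ∈ Et D z (a + 1), ψ e = 1 → e = 1) (t : K) {x : E} (hx : x ∈ Et D z (a + 1)) :
    (z a t)⁻¹ * x * z a t ∈ Et D z (a + 1) := by
  induction hx using Subgroup.closure_induction with
  | mem x hx =>
    obtain ⟨k, u, hk, hak, rfl⟩ := hx
    exact conj_gen_mem M tf ψ hψ hc z hz hidx hds ha hP t hk hak u
  | one => simp
  | mul x y _ _ hx hy =>
    have : (z a t)⁻¹ * (x * y) * z a t = ((z a t)⁻¹ * x * z a t) * ((z a t)⁻¹ * y * z a t) := by group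
    rw [this]; exact mul_mem hx hy
  | inv x _ hx =>
    have : (z a t)⁻¹ * x⁻¹ * z a t = ((z a t)⁻¹ * x * z a t)⁻¹ := by group
    rw [this]; exact inv_mem hx

include tf hψ hc hz hidx hds in
theorem exists_decomp {a : ℕ} (ha : D.IsPosRoot a)
    (hP : ∀ e ∈ Et D z (a + 1), ψ e = 1 → e = 1) {e : E} (he : e ∈ Et D z a) :
    ∃ t : K, ∃ n ∈ Et D z (a + 1), e = z a t * n := by
  induction he using Subgroup.closure_induction with
  | mem x hx =>
    obtain ⟨b, u, hb, hab, rfl⟩ := hx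
    rcases eq_or_lt_of_le hab with rfl | hlt
    · exact ⟨u, 1, one_mem _, (mul_one _).symm⟩
    · exact ⟨0, z b u, mem_Et_gen hb hlt u, by rw [z_zero hz a ha.1, one_mul]⟩
  | one => exact ⟨0, 1, one_mem _, by rw [z_zero hz a ha.1, one_mul]⟩
  | mul x y _ _ hx hy =>
    obtain ⟨t, n, hn, rfl⟩ := hx
    obtain ⟨t', n', hn', rfl⟩ := hy
    refine ⟨t + t', (z a t')⁻¹ * n * z a t' * n',
      mul_mem (conj_mem_N M tf ψ hψ hc z hz hidx hds ha hP t' hn) hn', ?_⟩
    rw [← hz.add a ha.1 t t']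
    group
  | inv x _ hx =>
    obtain ⟨t, n, hn, rfl⟩ := hx
    refine ⟨-t, (z a (-t))⁻¹ * n⁻¹ * z a (-t),
      conj_mem_N M tf ψ hψ hc z hz hidx hds ha hP (-t) (inv_mem hn), ?_⟩
    rw [mul_inv_rev, z_neg hz a ha.1 t]
    group

include tf hψ hc hz hidx hds in
theorem step (htail : TailInj M) (n : ℕ) (hP : ∀ e ∈ Et D z (n + 1), ψ e = 1 → e = 1) :
    ∀ e ∈ Et D z n, ψ e = 1 → e = 1 := by
  by_cases ha : D.IsPosRoot n
  · intro e he h1
    obtain ⟨t, m, hm, rfl⟩ := exists_decomp M tf ψ hψ hc z hz hidx hds ha hP he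
    have h2 : M.X n t = (ψ m)⁻¹ := by
      rw [map_mul, hz.lift n ha.1 t] at h1
      exact eq_inv_of_mul_eq_one_left h1
    have h3 : M.X n t ∈ M.sub (fun b => D.IsPosRoot b ∧ n < b) := by
      rw [h2]; exact inv_mem (map_mem_sub hz hm)
    have ht : t = 0 := htail n ha t h3
    subst ht
    rw [z_zero hz n ha.1, one_mul] at h1 ⊢
    exact hP m hm h1
  · intro e he
    have hle : Et D z n ≤ Et D z (n + 1) := by
      apply Subgroup.closure_mono
      rintro x ⟨a, t, hap, hna, rfl⟩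
      refine ⟨a, t, hap, ?_, rfl⟩
      rcases eq_or_lt_of_le hna with rfl | hlt
      · exact absurd hap ha
      · exact hlt
    exact hP e (hle he)

end step

/-- ST3-[SEC], first part: `ψ` is injective on `Ũ⁺`. -/
theorem injU (M : Model D K Γ) (tf : TF D) (ψ : E →* Γ) (hψ : Function.Surjective ψ)
    (hc : ψ.ker ≤ Subgroup.center E) (z : ℕ → K → E) (hz : IsSection M ψ z) (hidx : IdxLvl D) (hds : DSep M)
    (htail : TailInj M) : InjU D ψ z := by
  have key : ∀ m n, n + m = D.nroots → ∀ e ∈ Et D z n, ψ e = 1 → e = 1 := by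
    intro m
    induction m with
    | zero =>
      intro n hn e he _
      rw [Et_top (by omega)] at he
      exact Subgroup.mem_bot.1 he
    | succ m ih =>
      intro n hn
      exact step M tf ψ hψ hc z hz hidx hds htail n (ih (n + 1) (by omega))
  intro e he h1
  rw [← Et_zero] at he
  exact key D.nroots 0 (by omega) e he h1

/-- ST3-[SEC], second part: (R2) for the `z`'s on pairs of positive roots. -/
theorem r2_pos (M : Model D K Γ) (tf : TF D) (ψ : E →* Γ) (z : ℕ → K → E) (hz : IsSection M ψ z)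
    (hidx : IdxLvl D) (hinj : InjU D ψ z) (r s : ℕ) (hr : D.IsPosRoot r) (hs : D.IsPosRoot s) (hsr : s ≠ r)
    (t u : K) :
    (z s u)⁻¹ * (z r t)⁻¹ * z s u * z r t = ((D.commWord K r s t u).map fun p => z p.1 p.2).prod := by
  have hsn : s ≠ D.neg r := fun h => tf.not_pos_neg s hs (h ▸ tf.neg_pos r hr)
  have hgen : ∀ a (v : K), D.IsPosRoot a → z a v ∈ Upos D z := fun a v ha =>
    Subgroup.subset_closure ⟨a, v, ha, rfl⟩
  have hl : (z s u)⁻¹ * (z r t)⁻¹ * z s u * z r t ∈ Upos D z :=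
    mul_mem (mul_mem (mul_mem (inv_mem (hgen s u hs)) (inv_mem (hgen r t hr))) (hgen s u hs)) (hgen r t hr)
  have hrm : ((D.commWord K r s t u).map fun p => z p.1 p.2).prod ∈ Upos D z := by
    apply Subgroup.list_prod_mem
    intro x hx
    simp only [ChevalleyDatum.commWord, List.map_map, List.mem_map] at hx
    obtain ⟨c, hc', rfl⟩ := hx
    exact hgen _ _ (hidx r s hr hs hsr c hc').1
  have hψr : ψ (((D.commWord K r s t u).map fun p => z p.1 p.2).prod)
      = ((D.commWord K r s t u).map fun p => M.X p.1 p.2).prod := by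
    simp only [map_list_prod, List.map_map]
    congr 1
    apply List.map_congr_left
    intro p hp
    simp only [ChevalleyDatum.commWord, List.mem_map] at hp
    obtain ⟨c, hc', rfl⟩ := hp
    exact hz.lift _ (hidx r s hr hs hsr c hc').1.1 _
  have h1 := hinj _ (mul_mem hl (inv_mem hrm)) (by
    rw [map_mul, map_inv, hψr, ← M.comm r s hr.1 hs.1 hsr hsn t u]
    simp only [map_mul, map_inv, hz.lift r hr.1, hz.lift s hs.1]
    group)
  exact mul_inv_eq_one.1 h1

end Cfsg.Agent.Lib.Helper84.St3
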