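/-
helper84: project STEINBERG phase 3 (helper60), module ST3-[SCTOR] (hedge): lifts of elements of a root subgroup
`X_s` commute when the torus acts on `X_s` through all of `Kˣ` and `K` has an element `v ≠ 0, 1` with `v² - v + 1 ≠ 0`.
-/
import Cfsg.Agent.Lib.Helper60.St3Defs
import Cfsg.Agent.Lib.Helper53.CentralLift
import Mathlib

set_option autoImplicit false

namespace Cfsg.Agent.Lib.Helper84.St3

open Cfsg.Lie Cfsg.Agent.Lib.Helper35.St Cfsg.Agent.Lib.Helper60.St3 Cfsg.Agent.Lib.Helper53.CLift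
open scoped IsMulCommutative

universe u v w

/-- A bi-additive map `β : K × K → A` with `β (w t) (w u) = β t u` for all `w ≠ 0` vanishes, provided `K` has an
element `v ≠ 0, 1` with `v² - v + 1 ≠ 0`. -/
theorem biadd_eq_zero {K : Type*} [Field K] {A : Type*} [AddCommGroup A] (β : K → K → A)
    (bL : ∀ t t' u, β (t + t') u = β t u + β t' u) (bR : ∀ t u u', β t (u + u') = β t u + β t u')
    (bI : ∀ w : K, w ≠ 0 → ∀ t u, β (w * t) (w * u) = β t u)
    (v : K) (hv0 : v ≠ 0) (hv1 : v ≠ 1) (hv : v ^ 2 - v + 1 ≠ 0) (t u : K) : β t u = 0 := by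
  have bL0 : ∀ u, β 0 u = 0 := by
    intro u
    have := bL 0 0 u
    rw [add_zero] at this
    exact left_eq_add.1 this
  have bR0 : ∀ t, β t 0 = 0 := by
    intro t
    have := bR t 0 0
    rw [add_zero] at this
    exact left_eq_add.1 this
  have bLn : ∀ t u, β (-t) u = -β t u := by
    intro t u
    have := bL t (-t) u
    rw [add_neg_cancel, bL0] at this
    exact (neg_eq_of_add_eq_zero_right this.symm).symm
  have bRn : ∀ t u, β t (-u) = -β t u := by
    intro t u
    have := bR t u (-u)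
    rw [add_neg_cancel, bR0] at this
    exact (neg_eq_of_add_eq_zero_right this.symm).symm
  have h1v : (1 : K) - v ≠ 0 := sub_ne_zero.2 (Ne.symm hv1)
  have key : ∀ t u, β t (v * u) + β t (v⁻¹ * u) - β t u = 0 := by
    intro t u
    have e1 : β ((1 - v) * t) ((1 - v) * u) = β t u := bI _ h1v t u
    have e2 : (1 - v) * t = t + -(v * t) := by ring
    have e3 : (1 - v) * u = u + -(v * u) := by ring
    rw [e2, e3, bL, bR, bR, bLn, bLn, bRn, bRn, bI v hv0] at e1
    have e4 : β (v * t) u = β t (v⁻¹ * u) := by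
      have := bI v⁻¹ (inv_ne_zero hv0) (v * t) u
      rw [← mul_assoc, inv_mul_cancel₀ hv0, one_mul] at this
      exact this.symm
    rw [e4] at e1
    have e5 : β t (v * u) + β t (v⁻¹ * u) - β t u
        = β t u - (β t u + -β t (v * u) + (-β t (v⁻¹ * u) + - -β t u)) := by
      generalize β t (v * u) = a
      generalize β t (v⁻¹ * u) = b
      generalize β t u = c
      abel
    rw [e5, e1, sub_self]
  have hcne : v + v⁻¹ - 1 ≠ 0 := by
    intro h
    apply hv
    have : v ^ 2 - v + 1 = v * (v + v⁻¹ - 1) := by field_simp; ring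
    rw [this, h, mul_zero]
  have h := key t (u / (v + v⁻¹ - 1))
  have e : β t (v * (u / (v + v⁻¹ - 1))) + β t (v⁻¹ * (u / (v + v⁻¹ - 1))) - β t (u / (v + v⁻¹ - 1))
      = β t ((v + v⁻¹ - 1) * (u / (v + v⁻¹ - 1))) := by
    have : (v + v⁻¹ - 1) * (u / (v + v⁻¹ - 1))
        = v * (u / (v + v⁻¹ - 1)) + (v⁻¹ * (u / (v + v⁻¹ - 1)) + -(u / (v + v⁻¹ - 1))) := by ring
    rw [this, bR, bR, bRn]
    generalize β t (v * (u / (v + v⁻¹ - 1))) = a
    generalize β t (v⁻¹ * (u / (v + v⁻¹ - 1))) = b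
    generalize β t (u / (v + v⁻¹ - 1)) = c
    abel
  rw [e, mul_div_cancel₀ _ hcne] at h
  exact h

variable {D : ChevalleyDatum} {K : Type u} [Field K] {Γ : Type v} [Group Γ] {E : Type w} [Group E]

/-- ST3-[SCTOR]. -/
theorem selfComm_of_full (M : Model D K Γ) (ψ : E →* Γ) (hψ : Function.Surjective ψ)
    (hc : ψ.ker ≤ Subgroup.center E) (s : ℕ) (hs : s < D.nroots)
    (hfull : ∀ v : K, v ≠ 0 → ∃ (g : Γ) (χ : ℕ → K), IsDiag M g χ ∧ χ s = v)
    (v : K) (hv0 : v ≠ 0) (hv1 : v ≠ 1) (hv : v ^ 2 - v + 1 ≠ 0) (a b : K) :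
    LiftsComm ψ (M.X s a) (M.X s b) := by
  choose x hx using fun t => hψ (M.X s t)
  -- root elements of one root commute
  have hXc : ∀ t u, M.X s t * M.X s u = M.X s u * M.X s t := by
    intro t u
    rw [M.add s hs, M.add s hs, add_comm]
  have hker : ∀ t u, cm (x t) (x u) ∈ Subgroup.center E := by
    intro t u
    apply hc
    rw [MonoidHom.mem_ker, map_cm, hx, hx]
    exact cm_eq_one_iff.2 (hXc t u)
  have hcen : ∀ t u (y : E), y * cm (x t) (x u) = cm (x t) (x u) * y :=
    fun t u y => Subgroup.mem_center_iff.1 (hker t u) y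
  have hL : ∀ t t' u, cm (x (t + t')) (x u) = cm (x t) (x u) * cm (x t') (x u) := by
    intro t t' u
    have e : cm (x (t + t')) (x u) = cm (x t * x t') (x u) := by
      apply cm_eq_of_map_eq ψ hc _ rfl
      rw [map_mul, hx, hx, hx, M.add s hs]
    rw [e, cm_mul_left, hcen t' u (x t), mul_inv_cancel_right, ← hcen]
  have hR : ∀ t u u', cm (x t) (x (u + u')) = cm (x t) (x u) * cm (x t) (x u') := by
    intro t u u'
    have e : cm (x t) (x (u + u')) = cm (x t) (x u * x u') := by
      apply cm_eq_of_map_eq ψ hc rfl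
      rw [map_mul, hx, hx, hx, M.add s hs]
    rw [e, cm_mul_right, hcen t u' (x u), mul_inv_cancel_right]
  have hI : ∀ w : K, w ≠ 0 → ∀ t u, cm (x (w * t)) (x (w * u)) = cm (x t) (x u) := by
    intro w hw t u
    obtain ⟨g, χ, hg, hχ⟩ := hfull w hw
    obtain ⟨η, hη⟩ := hψ g
    have e1 : ψ (η * x t * η⁻¹) = ψ (x (w * t)) := by
      rw [map_mul, map_mul, map_inv, hη, hx, hx, (hg s hs).2 t, hχ]
    have e2 : ψ (η * x u * η⁻¹) = ψ (x (w * u)) := by
      rw [map_mul, map_mul, map_inv, hη, hx, hx, (hg s hs).2 u, hχ]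
    rw [← cm_eq_of_map_eq ψ hc e1 e2, ← conj_cm, hcen t u η, mul_inv_cancel_right]
  -- pass to the additive group of the centre
  let β : K → K → Additive (Subgroup.center E) := fun t u => Additive.ofMul ⟨cm (x t) (x u), hker t u⟩
  have bL : ∀ t t' u, β (t + t') u = β t u + β t' u := by
    intro t t' u
    show Additive.ofMul (⟨cm (x (t + t')) (x u), hker _ _⟩ : Subgroup.center E)
      = Additive.ofMul ((⟨cm (x t) (x u), hker _ _⟩ : Subgroup.center E) * ⟨cm (x t') (x u), hker _ _⟩)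
    exact congrArg Additive.ofMul (Subtype.ext (hL t t' u))
  have bR : ∀ t u u', β t (u + u') = β t u + β t u' := by
    intro t u u'
    show Additive.ofMul (⟨cm (x t) (x (u + u')), hker _ _⟩ : Subgroup.center E)
      = Additive.ofMul ((⟨cm (x t) (x u), hker _ _⟩ : Subgroup.center E) * ⟨cm (x t) (x u'), hker _ _⟩)
    exact congrArg Additive.ofMul (Subtype.ext (hR t u u'))
  have bI : ∀ w : K, w ≠ 0 → ∀ t u, β (w * t) (w * u) = β t u := by
    intro w hw t u
    exact congrArg Additive.ofMul (Subtype.ext (hI w hw t u))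
  intro y y' hy hy'
  have h0 : cm (x a) (x b) = 1 := by
    have := biadd_eq_zero β bL bR bI v hv0 hv1 hv a b
    have h2 : (⟨cm (x a) (x b), hker a b⟩ : Subgroup.center E) = 1 := this
    exact congrArg Subtype.val h2
  have h3 : cm y y' = cm (x a) (x b) :=
    cm_eq_of_map_eq ψ hc (by rw [hy, hx]) (by rw [hy', hx])
  rw [h0] at h3
  exact cm_eq_one_iff.1 h3

end Cfsg.Agent.Lib.Helper84.St3
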