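/-
helper84: project IP26 (helper58, S4463), module IP26-[VAN]: a character of degree `b(G)` of a subgroup `H` vanishes
off the core of `H`.
-/
import Mathlib
import Cfsg.Agent.Lib.Helper58.IP26.Defs
import Cfsg.Agent.Lib.Helper75.Clifford
import Cfsg.Agent.Lib.Helper78.CharOrtho
import Cfsg.Agent.Lib.Helper80.CharBasic
import Cfsg.Agent.Lib.Helper80.ItoMichler
import Cfsg.Agent.Lib.Helper80.TwoDeg
import Cfsg.Agent.Lib.Helper81.TISylowChar

set_option autoImplicit false
set_option linter.unusedSectionVars false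
set_option linter.style.haveILetI false

namespace Cfsg.Agent.Lib.Helper84.IP26

open Cfsg Cfsg.Agent.Lib.Helper58.IP26
open scoped ComplexConjugate

universe u

variable {G : Type u} [Group G] [Fintype G] {b : ℕ}

/-- An irreducible character of `G` lying over a character `ψ` of degree `b(G)` of `H` restricts to `ψ`. -/
theorem restrict_eq_of_over (hb : IsMaxDeg G b) (H : Subgroup G) [Fintype H] (ψ : IrrCharacter H)
    (hψ : charDegree (ψ : H → ℂ) = b) {χ : G → ℂ} (hχ : IsIrrCharacter G χ)
    (hover : classInner (fun h : H => χ h) (ψ : H → ℂ) ≠ 0) :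
    (fun h : H => χ h) = (ψ : H → ℂ) ∧ charDegree χ = b := by
  have hχc : IsCharacter G χ := Helper78.IsIrrCharacter.isCharacter hχ
  have hres : IsCharacter H (fun h : H => χ h) := Helper80.isCharacter_restrict H hχc
  have h1 : charDegree (ψ : H → ℂ) ≤ charDegree (fun h : H => χ h) :=
    Helper81.charDegree_le_of_classInner_ne_zero _ hres ψ hover
  have h2 : charDegree (fun h : H => χ h) = charDegree χ := rfl
  have h3 : charDegree χ ≤ b := hb.le ⟨χ, hχ⟩
  have hdeg : charDegree χ = b := by omega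
  refine ⟨Helper80.eq_of_constituent_of_degree_eq hres ψ.2 hover ?_, hdeg⟩
  rw [Helper78.IsCharacter.apply_one_eq_charDegree hres,
    Helper78.IsCharacter.apply_one_eq_charDegree (Helper78.IsIrrCharacter.isCharacter ψ.2), h2, hdeg, hψ]

/-- IP26-[EXT] (own copy): a character of degree `b(G)` of a subgroup extends to `G`. -/
theorem exists_extension' (hb : IsMaxDeg G b) (H : Subgroup G) [Fintype H] (ψ : IrrCharacter H)
    (hψ : charDegree (ψ : H → ℂ) = b) :
    ∃ χ : IrrCharacter G, charDegree (χ : G → ℂ) = b ∧ (fun h : H => (χ : G → ℂ) h) = (ψ : H → ℂ) := by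
  obtain ⟨χ, hχ, hover⟩ := Helper80.exists_irr_over' H ψ.2
  obtain ⟨h1, h2⟩ := restrict_eq_of_over hb H ψ hψ hχ hover
  exact ⟨⟨χ, hχ⟩, h2, h1⟩

/-- The induced function restricted to `H` is `|G : H| ψ`. -/
theorem indFun_restrict (hb : IsMaxDeg G b) (H : Subgroup G) [Fintype H] (ψ : IrrCharacter H)
    (hψ : charDegree (ψ : H → ℂ) = b) (h : H) :
    indFun H (ψ : H → ℂ) (h : G) = (H.index : ℂ) * (ψ : H → ℂ) h := by
  classical
  have hcf := Helper75.isClassFunction_indFun H (ψ : H → ℂ)
  have hexp := Helper78.classFunction_eq_sum_irr hcf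
  -- every constituent restricts to `ψ`
  have hterm : ∀ (χ : IrrCharacter G) (k : H),
      classInner (indFun H (ψ : H → ℂ)) (χ : G → ℂ) * (χ : G → ℂ) (k : G) =
        classInner (indFun H (ψ : H → ℂ)) (χ : G → ℂ) * (ψ : H → ℂ) k := by
    intro χ k
    by_cases h0 : classInner (indFun H (ψ : H → ℂ)) (χ : G → ℂ) = 0
    · rw [h0, zero_mul, zero_mul]
    · have hfr := Helper75.frobenius_reciprocity H (ψ : H → ℂ) (Helper78.isClassFunction_irr χ)
      have hover : classInner (fun h : H => (χ : G → ℂ) h) (ψ : H → ℂ) ≠ 0 := by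
        intro hz
        apply h0
        rw [hfr, ← Helper78.classInner_conj_symm, hz, map_zero]
      have := (restrict_eq_of_over hb H ψ hψ χ.2 hover).1
      rw [← congrFun this k]
  have hval : ∀ k : H, indFun H (ψ : H → ℂ) (k : G) =
      (∑ χ : IrrCharacter G, classInner (indFun H (ψ : H → ℂ)) (χ : G → ℂ)) * (ψ : H → ℂ) k := by
    intro k
    conv_lhs => rw [hexp]
    rw [Finset.sum_apply, Finset.sum_mul]
    refine Finset.sum_congr rfl fun χ _ => ?_
    rw [Pi.smul_apply, smul_eq_mul]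
    exact hterm χ k
  -- the multiplicity sum is the index
  have hone := hval 1
  rw [show ((1 : H) : G) = 1 from rfl, Helper75.indFun_one] at hone
  have hψ1 : (ψ : H → ℂ) 1 ≠ 0 := by
    rw [Helper78.IsCharacter.apply_one_eq_charDegree (Helper78.IsIrrCharacter.isCharacter ψ.2)]
    have := Helper78.IsIrrCharacter.charDegree_pos ψ.2
    exact_mod_cast this.ne'
  have hm := mul_right_cancel₀ hψ1 hone
  rw [hval h, ← hm]

open Classical in
/-- Direct evaluation of the induced function at `h ∈ H` through an extension of `ψ`. -/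
theorem indFun_eval (hb : IsMaxDeg G b) (H : Subgroup G) [Fintype H] (ψ : IrrCharacter H)
    (hψ : charDegree (ψ : H → ℂ) = b) (h : H) :
    indFun H (ψ : H → ℂ) (h : G) = (Nat.card H : ℂ)⁻¹ *
      (((Finset.univ.filter fun x : G => x⁻¹ * (h : G) * x ∈ H).card : ℂ) * (ψ : H → ℂ) h) := by
  obtain ⟨χ, -, hχ⟩ := exists_extension' hb H ψ hψ
  unfold indFun
  congr 1
  have hcf := Helper78.isClassFunction_irr χ
  have hpt : ∀ x : G, extendByZero H (ψ : H → ℂ) (x⁻¹ * (h : G) * x) =
      if x⁻¹ * (h : G) * x ∈ H then (ψ : H → ℂ) h else 0 := by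
    intro x
    split_ifs with hm
    · rw [Helper75.extendByZero_of_mem H _ hm, ← congrFun hχ ⟨_, hm⟩, ← congrFun hχ h]
      show (χ : G → ℂ) (x⁻¹ * (h : G) * x) = (χ : G → ℂ) (h : G)
      have := hcf (h : G) x⁻¹
      rwa [inv_inv] at this
    · exact Helper75.extendByZero_of_not_mem H _ hm
  rw [Finset.sum_congr rfl (fun x _ => hpt x), ← Finset.sum_filter, Finset.sum_const, nsmul_eq_mul]

end Cfsg.Agent.Lib.Helper84.IP26

namespace Cfsg.Agent.Lib.Helper58.IP26

open Cfsg
open scoped commutatorElement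

universe u

variable {G : Type u} [Group G] [Finite G] {b : ℕ}

/-- IP26-[VAN] (T1b): a character of degree `b(G)` of a subgroup `H` vanishes off the core of `H`. -/
theorem vanish_off_core (hb : IsMaxDeg G b) (H : Subgroup G) (ψ : IrrCharacter H)
    (hψ : charDegree (ψ : H → ℂ) = b) (h : H) (x : G) (hx : x * (h : G) * x⁻¹ ∉ H) :
    (ψ : H → ℂ) h = 0 := by
  classical
  haveI : Fintype G := Fintype.ofFinite G
  haveI : Fintype H := Fintype.ofFinite H
  by_contra hne
  have h1 := Cfsg.Agent.Lib.Helper84.IP26.indFun_restrict hb H ψ hψ h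
  have h2 := Cfsg.Agent.Lib.Helper84.IP26.indFun_eval hb H ψ hψ h
  rw [h1] at h2
  -- cancel `ψ h`
  have hH : (Nat.card H : ℂ) ≠ 0 := by
    have : Nat.card H ≠ 0 := Nat.card_pos.ne'
    exact_mod_cast this
  have h3 : (H.index : ℂ) * (Nat.card H : ℂ) =
      ((Finset.univ.filter fun y : G => y⁻¹ * (h : G) * y ∈ H).card : ℂ) := by
    have e : (H.index : ℂ) * (ψ : H → ℂ) h = ((Nat.card H : ℂ)⁻¹ *
        ((Finset.univ.filter fun y : G => y⁻¹ * (h : G) * y ∈ H).card : ℂ)) * (ψ : H → ℂ) h := by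
      rw [h2]; ring
    have e2 := mul_right_cancel₀ hne e
    rw [e2, mul_comm, ← mul_assoc, mul_inv_cancel₀ hH, one_mul]
  have h4 : (Finset.univ.filter fun y : G => y⁻¹ * (h : G) * y ∈ H).card = Fintype.card G := by
    have : H.index * Nat.card H = Nat.card G := H.index_mul_card
    rw [← Nat.card_eq_fintype_card, ← this]
    exact_mod_cast h3.symm
  have h5 : (Finset.univ.filter fun y : G => y⁻¹ * (h : G) * y ∈ H) = Finset.univ := by
    apply Finset.eq_univ_of_card
    exact h4
  have h6 : x⁻¹ ∈ (Finset.univ.filter fun y : G => y⁻¹ * (h : G) * y ∈ H) := by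
    rw [h5]; exact Finset.mem_univ _
  rw [Finset.mem_filter, inv_inv] at h6
  exact hx h6.2

end Cfsg.Agent.Lib.Helper58.IP26
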