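/-
helper84: project IP26 (helper58, S4463), module IP26-[CLASS2]: a counterexample to Lemma B has no nonabelian quotient of
nilpotency class two.
-/
import Mathlib
import Cfsg.Agent.Lib.Helper58.IP26.Defs
import Cfsg.Agent.Lib.Helper84.IP26Van
import Cfsg.Agent.Lib.Helper80.OneP
import Cfsg.Agent.Lib.Helper78.CharMore

set_option autoImplicit false
set_option linter.unusedSectionVars false
set_option linter.style.haveILetI false

namespace Cfsg.Agent.Lib.Helper84.IP26

open Cfsg Cfsg.Agent.Lib.Helper58.IP26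
open scoped ComplexConjugate commutatorElement

universe u

variable {G : Type u} [Group G] [Fintype G] {b : ℕ}

/-- A group with a nonabelian quotient `G ⧸ K` of class two has a nonlinear irreducible character vanishing off its
centre (Step 1 of helper80's `OneP`, with `K` in place of `[G', G]`). -/
theorem exists_irr_vanishing_off_center_of_class_two (K : Subgroup G) [K.Normal]
    (hnab : ¬ commutator G ≤ K) (hcl2 : ∀ x y z : G, ⁅⁅x, y⁆, z⁆ ∈ K) :
    ∃ ψ : IrrCharacter G, charDegree (ψ : G → ℂ) ≠ 1 ∧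
      ∀ g : G, g ∉ Helper77.irrCenter ψ → (ψ : G → ℂ) g = 0 := by
  classical
  let _ : Fintype (G ⧸ K) := Fintype.ofFinite _
  obtain ⟨a, b, hab⟩ : ∃ a b : G, ⁅a, b⁆ ∉ K := by
    by_contra hcon
    push Not at hcon
    apply hnab
    rw [commutator_def, Subgroup.commutator_le]
    intro a _ b _
    exact hcon a b
  have hex : ∃ ψ' : IrrCharacter (G ⧸ K), charDegree (ψ' : G ⧸ K → ℂ) ≠ 1 := by
    by_contra hcon
    push Not at hcon
    have hcomm := Helper80.commutative_of_forall_charDegree_eq_one hcon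
    apply hab
    have h1 : (QuotientGroup.mk' K) ⁅a, b⁆ = 1 := by
      rw [map_commutatorElement]
      exact commutatorElement_eq_one_iff_mul_comm.mpr (hcomm _ _)
    exact (QuotientGroup.eq_one_iff _).mp h1
  obtain ⟨ψ', hψ'⟩ := hex
  set ψ : IrrCharacter G := Helper77.inflate K ψ' with hψdef
  have hdeg : charDegree (ψ : G → ℂ) ≠ 1 := by
    rw [hψdef, Helper80.charDegree_inflate]; exact hψ'
  have hKker : K ≤ Helper77.irrKer ψ := by
    intro x hx
    rw [Helper77.mem_irrKer]
    exact Helper77.inflate_apply_of_mem K ψ' x hx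
  have hcen : ∀ a b : G, ⁅a, b⁆ ∈ Helper77.irrCenter ψ := by
    intro a b
    rw [Helper77.mem_irrCenter_iff_commutator]
    intro h
    exact hKker (hcl2 a b h)
  refine ⟨ψ, hdeg, ?_⟩
  intro g hg
  rw [Helper77.mem_irrCenter_iff_commutator] at hg
  push Not at hg
  obtain ⟨h, hh⟩ := hg
  set z : G := ⁅g, h⁆ with hz
  have hzc : z⁻¹ ∈ Helper77.irrCenter ψ := (Helper77.irrCenter ψ).inv_mem (hcen g h)
  have hconj : h * g * h⁻¹ = z⁻¹ * g := by
    rw [hz, commutatorElement_def]; group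
  have hcl : (ψ : G → ℂ) (h * g * h⁻¹) = (ψ : G → ℂ) g :=
    Helper78.IsCharacter.isClassFunction (Helper78.IsIrrCharacter.isCharacter ψ.2) g h
  have hmul := Helper77.irr_center_mul ψ ⟨z⁻¹, hzc⟩ g
  simp only at hmul
  rw [← hconj, hcl] at hmul
  have hω : Helper77.irrCenterScalar ψ ⟨z⁻¹, hzc⟩ ≠ 1 := by
    intro h1
    rw [Helper77.irrCenterScalar_apply] at h1
    have hne : (ψ : G → ℂ) 1 ≠ 0 := Helper78.IsIrrCharacter.apply_one_ne_zero ψ.2
    have h2 : (ψ : G → ℂ) z⁻¹ = (ψ : G → ℂ) 1 := by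
      field_simp at h1
      exact h1
    have h3 : z⁻¹ ∈ Helper77.irrKer ψ := (Helper77.mem_irrKer ψ z⁻¹).mpr h2
    exact hh (by simpa using (Helper77.irrKer ψ).inv_mem h3)
  have h4 : (1 - Helper77.irrCenterScalar ψ ⟨z⁻¹, hzc⟩) * (ψ : G → ℂ) g = 0 := by
    rw [sub_mul, one_mul, ← hmul, sub_self]
  rcases mul_eq_zero.mp h4 with h5 | h5
  · exact absurd (sub_eq_zero.mp h5).symm hω
  · exact h5

end Cfsg.Agent.Lib.Helper84.IP26

namespace Cfsg.Agent.Lib.Helper58.IP26

open Cfsg
open scoped commutatorElement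

universe u

variable {G : Type u} [Group G] [Finite G] {b : ℕ}

/-- IP26-[CLASS2]: a counterexample has no nonabelian quotient of nilpotency class two. -/
theorem CE.false_of_class_two_quotient (hb : IsMaxDeg G b) (h2 : 2 ≤ b) (hCE : CE G b)
    (K : Subgroup G) [K.Normal] (hnab : ¬ commutator G ≤ K)
    (hcl2 : ∀ x y z : G, ⁅⁅x, y⁆, z⁆ ∈ K) : False := by
  classical
  haveI : Fintype G := Fintype.ofFinite G
  obtain ⟨φ, hφ1, hvan⟩ :=
    Cfsg.Agent.Lib.Helper84.IP26.exists_irr_vanishing_off_center_of_class_two K hnab hcl2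
  set Z := Helper77.irrCenter φ with hZ
  haveI : Fintype Z := Fintype.ofFinite Z
  have hcard := Helper80.card_irrCenter_mul_sq_of_vanishing φ hvan
  have hφpos : 0 < charDegree (φ : G → ℂ) := Helper78.IsIrrCharacter.charDegree_pos φ.2
  have hφle : charDegree (φ : G → ℂ) ≤ b := hb.le φ
  -- the index of `Z` is `φ(1)²`
  have hidx : Z.index = charDegree (φ : G → ℂ) ^ 2 := by
    have h1 : Z.index * Nat.card Z = Nat.card G := Z.index_mul_card
    rw [← hcard, mul_comm] at h1
    exact Nat.eq_of_mul_eq_mul_left Nat.card_pos h1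
  have hidx' : Z.index ≤ b ^ 2 := by
    rw [hidx]; exact Nat.pow_le_pow_left hφle 2
  obtain ⟨ψ, hψ⟩ := hCE Z hidx'
  obtain ⟨χ, hχdeg, hχ⟩ := Cfsg.Agent.Lib.Helper84.IP26.exists_extension' hb Z ψ hψ
  -- `χ φ` is irreducible
  have hnorm : classInner ((χ : G → ℂ) * (φ : G → ℂ)) ((χ : G → ℂ) * (φ : G → ℂ)) = 1 := by
    rw [Helper80.classInner_mul_of_vanishing φ hvan (χ : G → ℂ), hχ]
    exact Helper78.classInner_irr_self ψ.2
  have hchar : IsCharacter G ((χ : G → ℂ) * (φ : G → ℂ)) :=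
    Helper80.isCharacter_mul (Helper78.IsIrrCharacter.isCharacter χ.2) (Helper78.IsIrrCharacter.isCharacter φ.2)
  have hirr := Helper78.isIrrCharacter_of_classInner_self_eq_one hchar hnorm
  have hle := hb.le ⟨_, hirr⟩
  -- its degree is `b φ(1) > b`
  have hdeg : charDegree ((χ : G → ℂ) * (φ : G → ℂ)) = b * charDegree (φ : G → ℂ) := by
    have h1 : ((χ : G → ℂ) * (φ : G → ℂ)) 1 = ((b * charDegree (φ : G → ℂ) : ℕ) : ℂ) := by
      rw [Pi.mul_apply, Helper78.IsCharacter.apply_one_eq_charDegree (Helper78.IsIrrCharacter.isCharacter χ.2),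
        Helper78.IsCharacter.apply_one_eq_charDegree (Helper78.IsIrrCharacter.isCharacter φ.2), hχdeg]
      push_cast; ring
    have h2 := Helper78.IsCharacter.apply_one_eq_charDegree hchar
    rw [h1] at h2
    exact_mod_cast h2.symm
  simp only at hle
  rw [hdeg] at hle
  have h3 : 2 ≤ charDegree (φ : G → ℂ) := by omega
  nlinarith

end Cfsg.Agent.Lib.Helper58.IP26
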