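import Mathlib
import Cfsg.Agent.Lib.Helper58.IP26.Defs
import Cfsg.Agent.Lib.Helper36.IP26Ext
import Cfsg.Agent.Lib.Helper83.IP26Frob12
import Cfsg.Agent.Lib.Helper71.IP26Div
import Cfsg.Agent.Lib.Helper71.IP26FrobGrp
import Cfsg.Agent.Lib.Helper84.IP26Van

/-!
# Project IP26 (helper58, S4463), module [FROB]: `CE.false_of_frobenius_quotient`  (helper84)

Steps (1), (2) are helper83's (`frob_index_le`, `frob_vanish_off`), steps (3), (4) are helper71's
(`index_dvd_sq_of_vanish_off`, `exists_complement_of_fpf`).  Here: steps (5), (6) and the assembly,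
with the exact statement of the skeleton.  (helper83 landed the exact NAME
`Cfsg.Agent.Lib.Helper58.IP26.CE.false_of_frobenius_quotient` nine seconds earlier in
`Lib/Helper83/IP26Frob.lean`; this copy is renamed `Helper84.IP26.false_of_frobenius_quotient_h84`
so that no closure can contain the name twice.)
-/

set_option autoImplicit false
set_option linter.style.haveILetI false
set_option linter.unusedSectionVars false

namespace Cfsg.Agent.Lib.Helper84.IP26

open Cfsg Cfsg.Agent.Lib Cfsg.Agent.Lib.Helper58.IP26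
open scoped commutatorElement

universe u

variable {G : Type u} [Group G] [Finite G] {b : ℕ}

/-- IP26-[FROB]: a counterexample has no quotient `G/K` of "Frobenius type"
(`N/K = (G/K)'` an abelian `q`-group on which every element outside `N` acts fixed-point-freely). -/
theorem false_of_frobenius_quotient_h84 (hb : IsMaxDeg G b) (h2 : 2 ≤ b) (hCE : CE G b)
    (K N : Subgroup G) [K.Normal] [N.Normal] (hKN : K ≤ N) (hNK : ¬ N ≤ K)
    (habN : ∀ a ∈ N, ∀ c ∈ N, ⁅a, c⁆ ∈ K) (habG : commutator G ≤ N) (hNtop : N ≠ ⊤)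
    (q : ℕ) (hq : q.Prime) (a : ℕ) (hidx : K.relIndex N = q ^ a)
    (hfpf : ∀ g : G, g ∉ N → ∀ n ∈ N, ⁅g, n⁆ ∈ K → n ∈ K) : False := by
  classical
  have hbpos : 0 < b ^ 2 := by positivity
  -- step (1)
  have hf : N.index ≤ b := frob_index_le hb K N hNK habN hfpf
  have hf2 : N.index ≤ b ^ 2 := hf.trans (by nlinarith)
  -- step (2)
  obtain ⟨ψ, hψ⟩ := hCE N hf2
  have hvanN : ∀ n : N, (n : G) ∉ K → (ψ : N → ℂ) n = 0 :=
    fun n hn => frob_vanish_off hb K N habN habG hNtop hfpf ψ hψ n hn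
  -- step (3) on `N`
  have hQ : K.relIndex N ∣ b ^ 2 := by
    letI : Fintype N := Fintype.ofFinite N
    letI : Fintype (K.subgroupOf N) := Fintype.ofFinite _
    have := Helper71.IP26Frob.index_dvd_sq_of_vanish_off (K.subgroupOf N) ψ.2
      (fun n hn => hvanN n (by rwa [Subgroup.mem_subgroupOf] at hn))
    rwa [hψ] at this
  -- step (4)
  obtain ⟨hcop, Y, -, -, -, hYidx, hYK, hconj⟩ :=
    Helper71.IP26Frob.exists_complement_of_fpf K N hKN hNK q hq a hidx hfpf
  have hcop' : Nat.Coprime (K.relIndex N) N.index := by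
    rw [hidx]
    exact (Nat.Coprime.pow_right a hcop).symm
  -- step (5)
  have hY2 : Y.index ≤ b ^ 2 := by
    rw [hYidx, ← hidx]
    exact Nat.le_of_dvd hbpos hQ
  obtain ⟨η, hη⟩ := hCE Y hY2
  have hvanY : ∀ y : Y, (y : G) ∉ K → (η : Y → ℂ) y = 0 := by
    intro y hy
    obtain ⟨g, hg⟩ := hconj y y.2 hy
    exact vanish_off_core hb Y η hη y g hg
  have hfdvd : N.index ∣ b ^ 2 := by
    letI : Fintype Y := Fintype.ofFinite Y
    letI : Fintype (K.subgroupOf Y) := Fintype.ofFinite _
    have := Helper71.IP26Frob.index_dvd_sq_of_vanish_off (K.subgroupOf Y) η.2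
      (fun y hy => hvanY y (by rwa [Subgroup.mem_subgroupOf] at hy))
    rw [hη] at this
    rw [← hYK]
    exact this
  have hKidx : K.index ∣ b ^ 2 := by
    rw [← Subgroup.relIndex_mul_index hKN]
    exact Nat.Coprime.mul_dvd_of_dvd_of_dvd hcop' hQ hfdvd
  -- step (6)
  obtain ⟨θ, hθ⟩ := hCE K (Nat.le_of_dvd hbpos hKidx)
  have hGK : commutator G ≤ K := commutator_le_of_maxDeg hb K θ hθ
  obtain ⟨g, hg⟩ : ∃ g : G, g ∉ N := by
    by_contra hcon
    push Not at hcon
    exact hNtop (eq_top_iff.2 fun x _ => hcon x)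
  apply hNK
  intro n hn
  apply hfpf g hg n hn
  apply hGK
  rw [commutator_def]
  exact Subgroup.commutator_mem_commutator (Subgroup.mem_top g) (Subgroup.mem_top n)

end Cfsg.Agent.Lib.Helper84.IP26
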