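import Mathlib
import Cfsg.Agent.Lib.Helper75.QBaer.Defs
import Cfsg.Agent.Lib.Helper76.PCore
import Cfsg.Prelude.Def_Solvable

/-!
# S4125-[W] (helper84, for helper75's project S4125: q-Baer groups)

Wielandt-type lemma: a `q`-element whose centralizer has `q`-power index lies in `O_q(G)`.
-/

set_option autoImplicit false

namespace Cfsg.Agent.Lib.Helper84.QBaer

open Cfsg.Agent.Lib.Helper75.QBaer

variable {G : Type*} [Group G] [Finite G]

/-- [W] -/
theorem mem_pCore_of_index_pow (q : ℕ) [Fact q.Prime] (x : G) (hx : ∃ k : ℕ, orderOf x = q ^ k)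
    (hi : ∃ a : ℕ, (Subgroup.centralizer ({x} : Set G)).index = q ^ a) :
    x ∈ Cfsg.pCore q G := by
  have hq : q.Prime := Fact.out
  -- `x` lies in a Sylow `q`-subgroup
  have hxp : IsPGroup q (Subgroup.zpowers x) := by
    obtain ⟨k, hk⟩ := hx
    rw [IsPGroup.iff_card, Nat.card_zpowers]
    exact ⟨k, hk⟩
  obtain ⟨Q, hQ⟩ := hxp.exists_le_sylow
  have hxQ : x ∈ (Q : Subgroup G) := hQ (Subgroup.mem_zpowers x)
  obtain ⟨a, ha⟩ := hi
  have hcop : (Q : Subgroup G).index.Coprime (Subgroup.centralizer ({x} : Set G)).index := by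
    rw [ha]
    exact Nat.Coprime.pow_right _ ((Nat.Prime.coprime_iff_not_dvd hq).mpr Q.not_dvd_index).symm
  -- every conjugate of `x` lies in `Q`
  have hconj : ∀ g : G, g * x * g⁻¹ ∈ (Q : Subgroup G) := by
    intro g
    obtain ⟨u, hu, c, hc, rfl⟩ := Cfsg.Agent.S4126.exists_mul_of_coprime_index _ _ hcop g
    have hcx : c * x = x * c := by
      rw [Subgroup.mem_centralizer_iff] at hc
      exact (hc x rfl).symm
    have : u * c * x * (u * c)⁻¹ = u * x * u⁻¹ := by
      calc u * c * x * (u * c)⁻¹ = u * (c * x) * c⁻¹ * u⁻¹ := by group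
        _ = u * (x * c) * c⁻¹ * u⁻¹ := by rw [hcx]
        _ = u * x * u⁻¹ := by group
    rw [this]
    exact (Q : Subgroup G).mul_mem ((Q : Subgroup G).mul_mem hu hxQ) ((Q : Subgroup G).inv_mem hu)
  have hle : Subgroup.normalClosure ({x} : Set G) ≤ (Q : Subgroup G) := by
    rw [Subgroup.normalClosure, Subgroup.closure_le]
    intro y hy
    rw [Group.mem_conjugatesOfSet_iff] at hy
    obtain ⟨z, hz, hzy⟩ := hy
    rw [Set.mem_singleton_iff] at hz
    subst hz
    rw [isConj_iff] at hzy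
    obtain ⟨g, rfl⟩ := hzy
    exact hconj g
  have hNp : IsPGroup q (Subgroup.normalClosure ({x} : Set G)) := Q.isPGroup'.to_le hle
  exact Cfsg.Agent.Lib.Helper76.le_pCore q _ Subgroup.normalClosure_normal hNp
    (Subgroup.subset_normalClosure rfl)

end Cfsg.Agent.Lib.Helper84.QBaer
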