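import Mathlib
import Cfsg.Agent.Lib.Helper85.Suz2ThDefs
import Cfsg.Agent.Lib.Helper76.PCore
import Cfsg.Agent.Lib.Helper1.MinimalNormal
import Cfsg.Agent.S4145

/-!
# SUZ2-[T-INV] (helper84, for helper85's project SUZ2 part 2, S3797)

Under `THyp G` every involution of `G` lies in `O_2(G)` and is centralized by `O_2(G)`:
`C_G(O_2(G)) ≤ O_2(G)` (Hall–Higman 1.2.3, helper76), so `O_2(G) ≠ 1`, its centre contains an involution `u`,
and every involution is a `G`-conjugate of `u`.
-/

set_option autoImplicit false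
set_option linter.unusedSectionVars false
set_option linter.style.haveILetI false

namespace Cfsg.Agent.Lib.Helper84.Suz2

open Cfsg Cfsg.Agent.Lib.Helper19.Suz Cfsg.Agent.Lib.Helper85.Suz2

universe u

/-- A finite solvable group is `p`-solvable (proof of helper77, `Lib/Helper77/FongPrincipal.lean`, light imports). -/
theorem isPSolvable_of_isSolvable_suz (p : ℕ) [Fact p.Prime] :
    ∀ (n : ℕ) (G : Type u) [Group G] [Finite G] [Group.IsSolvable G], Nat.card G = n →
      IsPSolvable p G := by
  intro n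
  induction n using Nat.strong_induction_on with
  | _ n ih =>
    intro G _ _ _ hn
    by_cases hG : Subsingleton G
    · exact Cfsg.Agent.S4145.isPSolvable_of_subsingleton p
    · rw [not_subsingleton_iff_nontrivial] at hG
      obtain ⟨q, R, hq, hRn, hR1, hRq, -, -, -⟩ :=
        Cfsg.Agent.Lib.Helper1.exists_normal_pSubgroup_of_isSolvable (G := G)
      have hcard : Nat.card (G ⧸ R) < n := by
        rw [← hn, ← Subgroup.index_eq_card]
        have h1 : Nat.card R * R.index = Nat.card G := Subgroup.card_mul_index R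
        have h2 : 1 < Nat.card R := by
          rw [Finite.one_lt_card_iff_nontrivial]
          exact (Subgroup.nontrivial_iff_ne_bot R).mpr hR1
        have h3 : 0 < R.index := Nat.pos_of_ne_zero Subgroup.index_ne_zero_of_finite
        nlinarith
      have hquot : IsPSolvable p (G ⧸ R) := ih _ hcard (G ⧸ R) rfl
      apply Cfsg.Agent.S4145.isPSolvable_of_quotient p R _ hquot
      have : Fact q.Prime := ⟨hq⟩
      obtain ⟨k, hk⟩ := hRq.exists_card_eq
      by_cases hpq : q = p
      · left
        exact ⟨k, by rw [hk, hpq]⟩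
      · right
        rw [hk]
        apply Nat.Coprime.pow_left
        exact (Nat.coprime_primes hq (Fact.out : p.Prime)).mpr hpq

variable {G : Type u} [Group G]

/-- `THyp G` gives `2`-solvability. -/
theorem THyp.isPSolvable (h : THyp G) : IsPSolvable 2 G := by
  haveI := h.fin
  haveI := h.sol
  haveI : Fact (Nat.Prime 2) := ⟨Nat.prime_two⟩
  exact isPSolvable_of_isSolvable_suz 2 _ G rfl

/-- `C_G(O_2(G)) ≤ O_2(G)` under `THyp G`. -/
theorem THyp.centralizer_core_le (h : THyp G) :
    Subgroup.centralizer (pCore 2 G : Set G) ≤ pCore 2 G := by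
  haveI := h.fin
  haveI : Fact (Nat.Prime 2) := ⟨Nat.prime_two⟩
  exact Cfsg.Agent.Lib.Helper76.centralizer_pCore_le 2 (THyp.isPSolvable h) h.core

/-- `O_2(G)` is nontrivial under `THyp G`. -/
theorem THyp.core_nontrivial (h : THyp G) : Nontrivial ↥(pCore 2 G) := by
  rw [Subgroup.nontrivial_iff_ne_bot]
  intro hbot
  have hC := THyp.centralizer_core_le h
  obtain ⟨x, y, hxy, -⟩ := h.two
  have hall : ∀ g : G, g = 1 := by
    intro g
    have hg : g ∈ Subgroup.centralizer (pCore 2 G : Set G) := by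
      rw [Subgroup.mem_centralizer_iff]
      intro z hz
      have hz' : z ∈ pCore 2 G := hz
      rw [hbot, Subgroup.mem_bot] at hz'
      rw [hz']; simp
    have := hC hg
    rwa [hbot, Subgroup.mem_bot] at this
  exact hxy ((hall x).trans (hall y).symm)

/-- [T-INV] -/
theorem THyp.inv_mem (h : THyp G) {x : G} (hx1 : x ≠ 1) (hx2 : x * x = 1) :
    x ∈ pCore 2 G ∧ ∀ p ∈ pCore 2 G, p * x = x * p := by
  haveI := h.fin
  haveI : Fact (Nat.Prime 2) := ⟨Nat.prime_two⟩
  haveI := THyp.core_nontrivial h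
  have hPn : (pCore 2 G).Normal := inferInstance
  have hP2 : IsPGroup 2 ↥(pCore 2 G) := Cfsg.Agent.Lib.Helper76.pCore_isPGroup 2
  obtain ⟨u, huc, hu1, hu2⟩ := exists_central_involution hP2
  have hy1 : (u : G) ≠ 1 := fun e => hu1 (Subtype.ext e)
  have hy2 : (u : G) * (u : G) = 1 := by
    have := congrArg (Subtype.val) hu2
    simpa using this
  obtain ⟨g, hg⟩ := h.conj (u : G) x hy1 hy2 hx1 hx2
  refine ⟨?_, ?_⟩
  · rw [← hg]
    exact hPn.conj_mem _ u.2 g
  · intro p hp
    have hq : g⁻¹ * p * g ∈ pCore 2 G := by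
      have := hPn.conj_mem _ hp g⁻¹
      simpa using this
    have hcomm : (⟨g⁻¹ * p * g, hq⟩ : ↥(pCore 2 G)) * u = u * ⟨g⁻¹ * p * g, hq⟩ :=
      Subgroup.mem_center_iff.mp huc ⟨g⁻¹ * p * g, hq⟩
    have hcomm' : g⁻¹ * p * g * (u : G) = (u : G) * (g⁻¹ * p * g) := by
      have := congrArg (Subtype.val) hcomm
      simpa using this
    rw [← hg]
    calc p * (g * (u : G) * g⁻¹) = g * (g⁻¹ * p * g * (u : G)) * g⁻¹ := by group
      _ = g * ((u : G) * (g⁻¹ * p * g)) * g⁻¹ := by rw [hcomm']
      _ = g * (u : G) * g⁻¹ * p := by group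

end Cfsg.Agent.Lib.Helper84.Suz2
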