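/-
helper84: SQF-[CLASS2-P].  A finite p-group all of whose class sizes are squarefree has class at most two.
-/
import Mathlib
import Cfsg.Agent.Lib.Helper85.SqfDefs

set_option autoImplicit false
set_option linter.unusedSectionVars false
set_option linter.style.haveILetI false

namespace Cfsg.Agent.Lib.Helper84.Sqf

open Cfsg Cfsg.Agent.Lib.Helper85.Sqf

variable {G : Type*} [Group G]

/-- in a finite `p`-group with squarefree class sizes every centraliser has index `1` or `p` -/
theorem index_centralizer_dvd_of_pGroup [Finite G] (h : SqF G) {p : ℕ} [Fact p.Prime]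
    (hG : IsPGroup p G) (c : G) : (Subgroup.centralizer ({c} : Set G)).index ∣ p := by
  have hp : p.Prime := Fact.out
  obtain ⟨n, hn⟩ := IsPGroup.iff_card.1 hG
  have hdvd : (Subgroup.centralizer ({c} : Set G)).index ∣ p ^ n := by
    rw [← hn]; exact Subgroup.index_dvd_card _
  obtain ⟨k, hk, hk'⟩ := (Nat.dvd_prime_pow hp).1 hdvd
  have hsq := h c
  rw [hk'] at hsq ⊢
  rcases Nat.lt_or_ge k 2 with h2 | h2
  · interval_cases k
    · simp
    · simp
  · exfalso
    have : p * p ∣ p ^ k := by
      rw [← pow_two]; exact pow_dvd_pow p h2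
    exact hp.one_lt.ne' (Nat.isUnit_iff.1 (hsq p this))

/-- a subgroup of index dividing `p` in a finite `p`-group contains all commutators -/
theorem comm_mem_of_index_dvd [Finite G] {p : ℕ} [Fact p.Prime] (hG : IsPGroup p G)
    (H : Subgroup G) (hH : H.index ∣ p) (a b : G) : a * b * a⁻¹ * b⁻¹ ∈ H := by
  have hp : p.Prime := Fact.out
  rcases (Nat.dvd_prime hp).1 hH with h1 | h1
  · rw [Subgroup.index_eq_one] at h1
    rw [h1]; exact Subgroup.mem_top _
  · obtain ⟨n, hn⟩ := IsPGroup.iff_card.1 hG
    have hn0 : n ≠ 0 := by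
      rintro rfl
      rw [pow_zero] at hn
      have := Subgroup.index_dvd_card H
      rw [hn, h1] at this
      exact hp.one_lt.ne' (Nat.dvd_one.1 this)
    haveI : H.Normal := by
      apply Subgroup.normal_of_index_eq_minFac_card
      rw [h1, hn, hp.pow_minFac hn0]
    have hcard : Nat.card (G ⧸ H) = p := by rw [← Subgroup.index_eq_card]; exact h1
    haveI : IsCyclic (G ⧸ H) := isCyclic_of_prime_card hcard
    letI : CommGroup (G ⧸ H) := IsCyclic.commGroup
    rw [← QuotientGroup.eq_one_iff]
    simp only [QuotientGroup.mk_mul, QuotientGroup.mk_inv]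
    rw [mul_comm ((a : G ⧸ H)) (b : G ⧸ H)]
    group

/-- [CLASS2-P] -/
theorem class_two_of_pGroup [Finite G] (h : SqF G) {p : ℕ} [Fact p.Prime] (hG : IsPGroup p G) :
    ∀ a b c : G, (a * b * a⁻¹ * b⁻¹) * c = c * (a * b * a⁻¹ * b⁻¹) := by
  intro a b c
  have hmem := comm_mem_of_index_dvd hG _ (index_centralizer_dvd_of_pGroup h hG c) a b
  rw [Subgroup.mem_centralizer_iff] at hmem
  exact (hmem c (Set.mem_singleton c)).symm

end Cfsg.Agent.Lib.Helper84.Sqf
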