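/-
helper84: the order of a Sylow `2`-subgroup from a factorization of the group order, and primes (by Dirichlet's theorem)
for which `|SL₂(q)|` and `|GL₂(q)|` have a prescribed `2`-part.
All declarations live in `Cfsg.Agent.Lib.Helper84`.
-/
import Mathlib

set_option autoImplicit false

namespace Cfsg.Agent.Lib.Helper84

theorem card_sylow_two_of_card_eq {G : Type*} [Group G] [Finite G] (P : Sylow 2 G) (e m : ℕ) (hm : Odd m)
    (h : Nat.card G = 2 ^ e * m) : Nat.card P = 2 ^ e := by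
  have : Fact (Nat.Prime 2) := ⟨Nat.prime_two⟩
  rw [P.card_eq_multiplicity, h]
  congr 1
  have hm0 : m ≠ 0 := by
    rintro rfl
    exact (Nat.not_odd_iff_even.2 (by decide)) hm
  rw [Nat.factorization_mul (by positivity) hm0, Nat.Prime.factorization_pow Nat.prime_two]
  have : m.factorization 2 = 0 := by
    apply Nat.factorization_eq_zero_of_not_dvd
    intro hd
    rw [← even_iff_two_dvd] at hd
    exact (Nat.not_odd_iff_even.2 hd) hm
  simp [this]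

/-- A prime `q ≡ 1 + 2^(k+1) mod 2^(k+2)`: then `|SL₂(q)| = q (q² - 1)` has `2`-part `2^(k+2)`. -/
theorem exists_prime_card_sl2 (k : ℕ) (hk : 1 ≤ k) :
    ∃ q : ℕ, q.Prime ∧ q % 2 = 1 ∧ ∃ m : ℕ, Odd m ∧ q * (q ^ 2 - 1) = 2 ^ (k + 2) * m := by
  set A := 2 ^ k with hA
  have hA2 : Even A := by
    rw [hA]
    exact (Nat.even_pow' (by omega)).2 even_two
  have h1 : 2 ^ (k + 2) = 4 * A := by rw [hA, pow_add]; ring
  have hcop : Nat.Coprime (1 + 2 * A) (2 ^ (k + 2)) := by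
    apply Nat.Coprime.pow_right
    rw [Nat.coprime_two_right]
    exact ⟨A, by ring⟩
  obtain ⟨q, hgt, hq, hmod⟩ := Nat.forall_exists_prime_gt_and_modEq (1 + 2 * A) (by positivity) hcop
  have hdvd : 2 ^ (k + 2) ∣ q - (1 + 2 * A) := (Nat.modEq_iff_dvd' hgt.le).1 hmod.symm
  obtain ⟨t, ht⟩ := hdvd
  rw [h1] at ht
  have hq' : q = 1 + 2 * A * (1 + 2 * t) := by
    have : q = (1 + 2 * A) + 4 * A * t := by omega
    rw [this]; ring
  set s := 1 + 2 * t with hs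
  have hs_odd : Odd s := ⟨t, by rw [hs]; ring⟩
  have hq_odd : Odd q := by
    rw [hq']
    exact ⟨A * s, by ring⟩
  refine ⟨q, hq, Nat.odd_iff.1 hq_odd, q * s * (1 + A * s), ?_, ?_⟩
  · apply Odd.mul (hq_odd.mul hs_odd)
    rw [add_comm]
    exact (hA2.mul_right s).add_one
  · have h2 : q ^ 2 - 1 = 4 * A * s * (1 + A * s) := by
      apply Nat.sub_eq_of_eq_add
      rw [hq']
      ring
    rw [h2, h1]
    ring

/-- A prime `q ≡ 2^(n-1) - 1 mod 2^n`, `n ≥ 3`: then `q ≡ 3 mod 4` and `|GL₂(q)| = (q² - 1)(q² - q)` has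
`2`-part `2^(n+1)`. -/
theorem exists_prime_card_gl2 (n : ℕ) (hn : 3 ≤ n) :
    ∃ q : ℕ, q.Prime ∧ q % 4 = 3 ∧ ∃ m : ℕ, Odd m ∧ (q ^ 2 - 1) * (q ^ 2 - q) = 2 ^ (n + 1) * m := by
  set B := 2 ^ (n - 3) with hB
  have hBpos : 1 ≤ B := Nat.one_le_two_pow
  have h1 : 2 ^ n = 8 * B := by
    rw [hB]
    have : n = n - 3 + 3 := by omega
    conv_lhs => rw [this, pow_add]
    ring
  have h2 : 2 ^ (n + 1) = 16 * B := by rw [pow_succ, h1]; ring
  have hcop : Nat.Coprime (4 * B - 1) (2 ^ n) := by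
    apply Nat.Coprime.pow_right
    rw [Nat.coprime_two_right]
    exact ⟨2 * B - 1, by omega⟩
  obtain ⟨q, hgt, hq, hmod⟩ := Nat.forall_exists_prime_gt_and_modEq (4 * B - 1) (by positivity) hcop
  have hdvd : 2 ^ n ∣ q - (4 * B - 1) := (Nat.modEq_iff_dvd' hgt.le).1 hmod.symm
  obtain ⟨t, ht⟩ := hdvd
  rw [h1] at ht
  -- `q = 2 r + 1` with `r + 1 = 2 B s`, `s = 1 + 2 t`
  set s := 1 + 2 * t with hs
  have hs_odd : Odd s := ⟨t, by rw [hs]; ring⟩
  have hBt : 8 * B * t = 4 * (2 * (B * t)) := by ring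
  have hq1 : q + 1 = 4 * B + 4 * (2 * (B * t)) := by omega
  have hBs : B * s = B + 2 * (B * t) := by rw [hs]; ring
  have hr : ∃ r : ℕ, q = 2 * r + 1 ∧ r + 1 = 2 * (B * s) := by
    refine ⟨2 * (B * s) - 1, ?_, ?_⟩ <;> omega
  obtain ⟨r, hqr, hr1⟩ := hr
  have hr_odd : Odd r := ⟨B * s - 1, by omega⟩
  have hq_odd : Odd q := ⟨r, hqr⟩
  refine ⟨q, hq, by omega, q * r ^ 2 * s, (hq_odd.mul hr_odd.pow).mul hs_odd, ?_⟩
  have h3 : q ^ 2 - 1 = 8 * r * (B * s) := by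
    apply Nat.sub_eq_of_eq_add
    rw [hqr]
    have : (2 * r + 1) ^ 2 = 4 * r * (r + 1) + 1 := by ring
    rw [this, hr1]
    ring
  have h4 : q ^ 2 - q = 2 * r * q := by
    apply Nat.sub_eq_of_eq_add
    conv_lhs => rw [sq]
    nth_rewrite 1 [hqr]
    ring
  rw [h3, h4, h2]
  ring

end Cfsg.Agent.Lib.Helper84
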