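/-
helper84: chains of strongly closed subgroups with cyclic steps ("supersoluble" fusion systems): the predicate,
the first step of a chain leaving a given subgroup, and chains with two steps.
All declarations live in `Cfsg.Agent.Lib.Helper84`.
-/
import Mathlib
import Cfsg.Prelude.Def_FusionSystem

set_option autoImplicit false

namespace Cfsg.Agent.Lib.Helper84

open Cfsg Cfsg.FusionSystem

variable {Ω : Type*} [Group Ω] {S : Subgroup Ω}

/-- `F` is supersoluble: `S` has a chain of `F`-strongly closed subgroups from `1` to `S` with cyclic steps. -/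
def HasSSChain (F : FusionSystem S) : Prop :=
  ∃ (m : ℕ) (c : Fin (m + 1) → Subgroup Ω), c 0 = ⊥ ∧ c (Fin.last m) = S ∧
    (∀ i : Fin (m + 1), F.StronglyClosed (c i)) ∧
    ∀ i : Fin m, c i.castSucc ≤ c i.succ ∧ ∃ x ∈ S, c i.succ = c i.castSucc ⊔ Subgroup.zpowers x

theorem ss_stronglyClosed_bot (F : FusionSystem S) : F.StronglyClosed (⊥ : Subgroup Ω) := by
  refine ⟨bot_le, fun R hR φ _ x => ?_⟩
  have hx : (x : Ω) = 1 := by
    have := hR x.2
    rwa [Subgroup.mem_bot] at this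
  have hx1 : x = 1 := Subtype.ext hx
  rw [hx1, map_one]
  exact Subgroup.one_mem _

theorem ss_stronglyClosed_self (F : FusionSystem S) : F.StronglyClosed S :=
  ⟨le_rfl, fun _ _ _ hφ x => (F.le_of_mem hφ).2 x⟩

/-- In a chain, the first step leaving a subgroup `Z` not containing `S`. -/
theorem HasSSChain.exists_step {F : FusionSystem S} (h : HasSSChain F) (Z : Subgroup Ω) (hZ : ¬ S ≤ Z) :
    ∃ (K₀ : Subgroup Ω) (x : Ω), F.StronglyClosed K₀ ∧ K₀ ≤ Z ∧ x ∈ S ∧
      F.StronglyClosed (K₀ ⊔ Subgroup.zpowers x) ∧ ¬ (K₀ ⊔ Subgroup.zpowers x) ≤ Z := by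
  obtain ⟨m, c, h0, hm, hsc, hstep⟩ := h
  by_contra hcon
  push Not at hcon
  have key : ∀ i : Fin (m + 1), c i ≤ Z := by
    intro i
    induction i using Fin.induction with
    | zero => rw [h0]; exact bot_le
    | succ i ih =>
      obtain ⟨hle, x, hx, hxe⟩ := hstep i
      have := hcon (c i.castSucc) x (hsc _) ih hx (hxe ▸ hsc i.succ)
      rw [hxe]; exact this
  exact hZ (hm ▸ key (Fin.last m))

/-- A chain with two cyclic steps `1 ≤ N ≤ S`. -/
theorem hasSSChain_of_two_step (F : FusionSystem S) (N : Subgroup Ω) (hN : F.StronglyClosed N)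
    (x₁ x₂ : Ω) (hx₁ : x₁ ∈ S) (hx₂ : x₂ ∈ S) (h1 : N = Subgroup.zpowers x₁)
    (h2 : S = N ⊔ Subgroup.zpowers x₂) : HasSSChain F := by
  refine ⟨2, ![⊥, N, S], rfl, rfl, ?_, ?_⟩
  · intro i
    fin_cases i
    · exact ss_stronglyClosed_bot F
    · exact hN
    · exact ss_stronglyClosed_self F
  · intro i
    fin_cases i
    · refine ⟨bot_le, x₁, hx₁, ?_⟩
      show N = ⊥ ⊔ Subgroup.zpowers x₁
      rw [bot_sup_eq]; exact h1
    · refine ⟨?_, x₂, hx₂, h2⟩
      show N ≤ S
      exact hN.1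

/-- A chain with one cyclic step `1 ≤ S`. -/
theorem hasSSChain_of_one_step (F : FusionSystem S) (x : Ω) (hx : x ∈ S) (h : S = Subgroup.zpowers x) :
    HasSSChain F := by
  refine ⟨1, ![⊥, S], rfl, rfl, ?_, ?_⟩
  · intro i
    fin_cases i
    · exact ss_stronglyClosed_bot F
    · exact ss_stronglyClosed_self F
  · intro i
    fin_cases i
    refine ⟨bot_le, x, hx, ?_⟩
    show S = ⊥ ⊔ Subgroup.zpowers x
    rw [bot_sup_eq]; exact h

end Cfsg.Agent.Lib.Helper84
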