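/-
helper84: two criteria for a fusion system over a finite `2`-group to have no chain of strongly closed subgroups with
cyclic steps: (A) all involutions are fused and there are two of them; (B) all elements of order four are fused, the
elements of order at most two are central, and two elements of order four do not commute.
All declarations live in `Cfsg.Agent.Lib.Helper84`.
-/
import Mathlib
import Cfsg.Agent.Lib.Helper84.SSChain
import Cfsg.Agent.Lib.Helper84.FusionPullback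

set_option autoImplicit false

namespace Cfsg.Agent.Lib.Helper84

open Cfsg Cfsg.FusionSystem

variable {Ω : Type*} [Group Ω] {S : Subgroup Ω}

theorem orderOf_eq_two_pow_of_mem [Finite S] (hS : IsPGroup 2 S) {x : Ω} (hx : x ∈ S) :
    ∃ j : ℕ, orderOf x = 2 ^ j := by
  obtain ⟨j, hj⟩ := (IsPGroup.iff_orderOf.1 hS) ⟨x, hx⟩
  exact ⟨j, by rw [← hj, Subgroup.orderOf_mk]⟩

/-- An involution in the cyclic group generated by an element `x` of order `2 ^ j`. -/
theorem eq_pow_of_mem_zpowers_of_orderOf_two {x v : Ω} {j : ℕ} (hj : orderOf x = 2 ^ j) (hj0 : j ≠ 0)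
    (hv : v ∈ Subgroup.zpowers x) (ov : orderOf v = 2) : v = x ^ (2 ^ (j - 1)) := by
  rw [Subgroup.mem_zpowers_iff] at hv
  obtain ⟨a, rfl⟩ := hv
  have h1 : x ^ (a * 2) = 1 := by
    rw [zpow_mul]
    have := pow_orderOf_eq_one (x ^ a)
    rw [ov] at this
    exact_mod_cast this
  have h2 : ((orderOf x : ℕ) : ℤ) ∣ a * 2 := orderOf_dvd_iff_zpow_eq_one.2 h1
  have h3 : (2 : ℤ) ^ j = 2 ^ (j - 1) * 2 := by
    rw [← pow_succ]; congr 1; omega
  rw [hj] at h2
  push_cast at h2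
  rw [h3] at h2
  have h4 : (2 : ℤ) ^ (j - 1) ∣ a := Int.dvd_of_mul_dvd_mul_right (by norm_num) h2
  obtain ⟨b, rfl⟩ := h4
  set u := x ^ (2 ^ (j - 1)) with hu
  have hu2 : u ^ 2 = 1 := by
    rw [hu, ← pow_mul, ← pow_succ]
    have : j - 1 + 1 = j := by omega
    rw [this, ← hj, pow_orderOf_eq_one]
  have h5 : x ^ ((2 : ℤ) ^ (j - 1) * b) = u ^ b := by
    rw [zpow_mul, hu]
    congr 1
    exact_mod_cast zpow_natCast x (2 ^ (j - 1))
  rw [h5] at ov ⊢
  rcases Int.even_or_odd' b with ⟨c, hc | hc⟩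
  · exfalso
    rw [hc, zpow_mul, zpow_two, ← pow_two, hu2, one_zpow, orderOf_one] at ov
    omega
  · rw [hc, zpow_add, zpow_mul, zpow_two, ← pow_two, hu2, one_zpow, one_mul, zpow_one]

/-- **Criterion (A).** -/
theorem not_hasSSChain_of_involutions [Finite S] (hS : IsPGroup 2 S) (F : FusionSystem S)
    (hCP : ∀ K : Subgroup Ω, F.StronglyClosed K → ∀ u ∈ K, ∀ v ∈ S, orderOf u = 2 → orderOf v = 2 → v ∈ K)
    (u₁ u₂ : Ω) (h₁ : u₁ ∈ S) (h₂ : u₂ ∈ S) (o₁ : orderOf u₁ = 2) (o₂ : orderOf u₂ = 2) (hne : u₁ ≠ u₂) :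
    ¬ HasSSChain F := by
  intro h
  have hSbot : ¬ S ≤ ⊥ := by
    intro hle
    have := hle h₁
    rw [Subgroup.mem_bot] at this
    rw [this, orderOf_one] at o₁
    omega
  obtain ⟨K₀, x, hK₀, hK₀Z, hx, hK, hKZ⟩ := h.exists_step ⊥ hSbot
  have hK₀' : K₀ = ⊥ := le_bot_iff.1 hK₀Z
  rw [hK₀', bot_sup_eq] at hK hKZ
  have hx1 : x ≠ 1 := by
    rintro rfl
    apply hKZ
    simp
  obtain ⟨j, hj⟩ := orderOf_eq_two_pow_of_mem hS hx
  have hj0 : j ≠ 0 := by
    rintro rfl
    rw [pow_zero, orderOf_eq_one_iff] at hj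
    exact hx1 hj
  set u := x ^ (2 ^ (j - 1)) with hu
  have huK : u ∈ Subgroup.zpowers x := Subgroup.pow_mem _ (Subgroup.mem_zpowers x) _
  have ou : orderOf u = 2 := by
    rw [hu, orderOf_pow' _ (by positivity), hj, Nat.gcd_eq_right (pow_dvd_pow 2 (by omega))]
    have : (2 : ℕ) ^ j = 2 ^ (j - 1) * 2 := by
      rw [← pow_succ]; congr 1; omega
    rw [this, Nat.mul_div_cancel_left _ (by positivity)]
  have e₁ := eq_pow_of_mem_zpowers_of_orderOf_two hj hj0 (hCP _ hK u huK u₁ h₁ ou o₁) o₁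
  have e₂ := eq_pow_of_mem_zpowers_of_orderOf_two hj hj0 (hCP _ hK u huK u₂ h₂ ou o₂) o₂
  exact hne (e₁.trans e₂.symm)

/-- **Criterion (B).** -/
theorem not_hasSSChain_of_order_four [Finite S] (hS : IsPGroup 2 S) (F : FusionSystem S)
    (hCP : ∀ K : Subgroup Ω, F.StronglyClosed K → ∀ u ∈ K, ∀ v ∈ S, orderOf u = 4 → orderOf v = 4 → v ∈ K)
    (Z : Subgroup Ω) (hZc : ∀ a ∈ Z, ∀ s ∈ S, a * s = s * a) (hZ2 : ∀ g ∈ S, g ^ 2 = 1 → g ∈ Z)
    (w₁ w₂ : Ω) (h₁ : w₁ ∈ S) (h₂ : w₂ ∈ S) (o₁ : orderOf w₁ = 4) (o₂ : orderOf w₂ = 4)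
    (hnc : w₁ * w₂ ≠ w₂ * w₁) : ¬ HasSSChain F := by
  intro h
  have hSZ : ¬ S ≤ Z := fun hle => hnc (hZc w₁ (hle h₁) w₂ h₂)
  obtain ⟨K₀, x, hK₀, hK₀Z, hx, hK, hKZ⟩ := h.exists_step Z hSZ
  set K := K₀ ⊔ Subgroup.zpowers x with hKdef
  -- `K` is commutative
  have hcx : ∀ a ∈ K, a * x = x * a := by
    intro a ha
    have hle : K ≤ Subgroup.centralizer ({x} : Set Ω) := by
      rw [hKdef]
      apply sup_le
      · intro b hb
        rw [Subgroup.mem_centralizer_iff]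
        intro y hy
        rw [Set.mem_singleton_iff] at hy
        rw [hy]
        exact (hZc b (hK₀Z hb) x hx).symm
      · rw [Subgroup.zpowers_le, Subgroup.mem_centralizer_iff]
        intro y hy
        rw [Set.mem_singleton_iff] at hy
        rw [hy]
    have := (Subgroup.mem_centralizer_iff.1 (hle ha)) x (Set.mem_singleton x)
    exact this.symm
  have hcomm : ∀ a ∈ K, ∀ b ∈ K, a * b = b * a := by
    intro a ha b hb
    have hle : K ≤ Subgroup.centralizer ({b} : Set Ω) := by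
      rw [hKdef]
      apply sup_le
      · intro c hc
        rw [Subgroup.mem_centralizer_iff]
        intro y hy
        rw [Set.mem_singleton_iff] at hy
        rw [hy]
        exact (hZc c (hK₀Z hc) b (hK.1 hb)).symm
      · rw [Subgroup.zpowers_le, Subgroup.mem_centralizer_iff]
        intro y hy
        rw [Set.mem_singleton_iff] at hy
        rw [hy]
        exact hcx b hb
    have := (Subgroup.mem_centralizer_iff.1 (hle ha)) b (Set.mem_singleton b)
    exact this.symm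
  -- an element of order four in `K`
  obtain ⟨g, hgK, hgZ⟩ := SetLike.not_le_iff_exists.1 hKZ
  have hgS : g ∈ S := hK.1 hgK
  obtain ⟨j, hj⟩ := orderOf_eq_two_pow_of_mem hS hgS
  have hj2 : 2 ≤ j := by
    by_contra hlt
    push Not at hlt
    apply hgZ
    apply hZ2 g hgS
    apply orderOf_dvd_iff_pow_eq_one.1
    rw [hj]
    have : j ≤ 1 := by omega
    calc 2 ^ j ∣ 2 ^ 1 := pow_dvd_pow 2 this
      _ = 2 := by norm_num
  set w := g ^ (2 ^ (j - 2)) with hw
  have hwK : w ∈ K := Subgroup.pow_mem _ hgK _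
  have ow : orderOf w = 4 := by
    rw [hw, orderOf_pow' _ (by positivity), hj, Nat.gcd_eq_right (pow_dvd_pow 2 (by omega))]
    have : (2 : ℕ) ^ j = 2 ^ (j - 2) * 4 := by
      have : (4 : ℕ) = 2 ^ 2 := by norm_num
      rw [this, ← pow_add]; congr 1; omega
    rw [this, Nat.mul_div_cancel_left _ (by positivity)]
  exact hnc (hcomm w₁ (hCP _ hK w hwK w₁ h₁ ow o₁) w₂ (hCP _ hK w hwK w₂ h₂ ow o₂))

/-- In a system realized by `ι`, elements of `S` whose images are conjugate in `G` are fused. -/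
theorem cp_of_realized {G : Type*} [Group G] {F : FusionSystem S} {ι : S →* G} (hι : F.IsRealizedBy ι) (n : ℕ)
    (hconj : ∀ a b : G, orderOf a = n → orderOf b = n → a ∈ ι.range → b ∈ ι.range → ∃ g : G, b = g * a * g⁻¹) :
    ∀ K : Subgroup Ω, F.StronglyClosed K → ∀ u ∈ K, ∀ v ∈ S, orderOf u = n → orderOf v = n → v ∈ K := by
  intro K hK u hu v hv ou ov
  have o1 : orderOf (ι ⟨u, hK.1 hu⟩) = n := by
    rw [orderOf_injective ι hι.1, Subgroup.orderOf_mk, ou]
  have o2 : orderOf (ι ⟨v, hv⟩) = n := by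
    rw [orderOf_injective ι hι.1, Subgroup.orderOf_mk, ov]
  obtain ⟨g, hg⟩ := hconj _ _ o1 o2 ⟨_, rfl⟩ ⟨_, rfl⟩
  exact mem_of_conj_of_stronglyClosed hι hK hu hv g hg

end Cfsg.Agent.Lib.Helper84
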