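/-
helper84: a generalized quaternion `2`-group `Q_{4n}` (`n ≥ 2`) carries a saturated fusion system (that of `SL₂(q)`)
without a chain of strongly closed subgroups with cyclic steps.
All declarations live in `Cfsg.Agent.Lib.Helper84`.
-/
import Mathlib
import Cfsg.Agent.S0261
import Cfsg.Agent.Lib.Helper98.SL2Quat
import Cfsg.Agent.Lib.Helper98.QuatFacts
import Cfsg.Agent.Lib.Helper5.SL2Sylow
import Cfsg.Agent.Lib.Helper84.SSCrit
import Cfsg.Agent.Lib.Helper84.SylowTwoCard

set_option autoImplicit false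

namespace Cfsg.Agent.Lib.Helper84

open Cfsg Cfsg.FusionSystem

/-- A `2`-group isomorphic to `QuaternionGroup n` has `n` a power of two. -/
theorem exists_pow_of_equiv_quaternion {P : Type*} [Group P] [Finite P] (hP : IsPGroup 2 P) (n : ℕ) (hn : 2 ≤ n)
    (e : P ≃* QuaternionGroup n) : ∃ k : ℕ, 1 ≤ k ∧ n = 2 ^ k := by
  have : NeZero n := ⟨by omega⟩
  obtain ⟨j, hj⟩ := IsPGroup.iff_card.1 hP
  have h1 : Nat.card P = 4 * n := by
    rw [Nat.card_congr e.toEquiv, Nat.card_eq_fintype_card, QuaternionGroup.card]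
  have h2 : n ∣ 2 ^ j := by
    rw [← hj, h1]
    exact dvd_mul_left n 4
  obtain ⟨k, -, hk⟩ := (Nat.dvd_prime_pow Nat.prime_two).1 h2
  refine ⟨k, ?_, hk⟩
  by_contra hk0
  have : k = 0 := by omega
  rw [this, pow_zero] at hk
  omega

/-- An element of `QuaternionGroup n` of order at most two is central. -/
theorem quaternion_central_of_sq {n : ℕ} [NeZero n] (t : QuaternionGroup n) (ht : t * t = 1)
    (g : QuaternionGroup n) : g * t = t * g := by
  rcases t with i | i
  · rw [QuaternionGroup.a_mul_a, QuaternionGroup.one_def] at ht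
    have h1 : i + i = 0 := by injection ht
    rcases Cfsg.Agent.Lib.Helper98.QuatFacts.two_mul_eq_zero i h1 with rfl | rfl
    · rw [QuaternionGroup.a_zero, mul_one, one_mul]
    · exact Cfsg.Agent.Lib.Helper98.QuatFacts.an_central g
  · exfalso
    rw [Cfsg.Agent.Lib.Helper98.QuatFacts.xa_mul_self] at ht
    exact Cfsg.Agent.Lib.Helper98.QuatFacts.an_ne_one ht

theorem quaternion_xa_not_comm {n : ℕ} (hn : 2 ≤ n) :
    (QuaternionGroup.xa 0 : QuaternionGroup n) * QuaternionGroup.xa 1 ≠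
      QuaternionGroup.xa 1 * QuaternionGroup.xa 0 := by
  rw [QuaternionGroup.xa_mul_xa, QuaternionGroup.xa_mul_xa]
  intro h
  have h1 : (n : ZMod (2 * n)) + 1 - 0 = (n : ZMod (2 * n)) + 0 - 1 := by injection h
  apply Cfsg.Agent.Lib.Helper98.QuatFacts.two_ne_zero_zmod hn
  linear_combination h1

/-- For `k ≥ 1` there is a prime `q` such that the Sylow `2`-subgroups of `SL₂(q)` are isomorphic to
`QuaternionGroup (2 ^ k)`. -/
theorem exists_prime_sylow_sl2_quaternion (k : ℕ) (hk : 1 ≤ k) :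
    ∃ (q : ℕ) (_ : Fact q.Prime), q % 2 = 1 ∧
      ∀ Q : Sylow 2 (Matrix.SpecialLinearGroup (Fin 2) (ZMod q)),
        Nonempty ((Q : Subgroup (Matrix.SpecialLinearGroup (Fin 2) (ZMod q))) ≃* QuaternionGroup (2 ^ k)) := by
  obtain ⟨q, hq, hodd, m, hm, hcard⟩ := exists_prime_card_sl2 k hk
  have : Fact q.Prime := ⟨hq⟩
  refine ⟨q, ⟨hq⟩, hodd, fun Q => ?_⟩
  have hF : Fintype.card (ZMod q) = q := ZMod.card q
  have hc : Nat.card (Matrix.SpecialLinearGroup (Fin 2) (ZMod q)) = 2 ^ (k + 2) * m := by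
    rw [Cfsg.Agent.Lib.Helper5.card_SL2, hF, hcard]
  have hQ : Nat.card Q = 2 ^ (k + 2) := card_sylow_two_of_card_eq Q (k + 2) m hm hc
  obtain ⟨k', hk', ⟨e⟩⟩ := Cfsg.Agent.S0261.result (F := ZMod q) (by rw [hF]; exact Nat.odd_iff.2 hodd) Q
  have h1 : Nat.card Q = 4 * 2 ^ k' := by
    have : NeZero (2 ^ k') := ⟨by positivity⟩
    rw [Nat.card_congr e.toEquiv, Nat.card_eq_fintype_card, QuaternionGroup.card]
  have h2 : k' = k := by
    rw [hQ] at h1
    have h3 : (2 : ℕ) ^ (k + 2) = 2 ^ (k' + 2) := by rw [h1, pow_add]; ring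
    have := Nat.pow_right_injective (le_refl 2) h3
    omega
  rw [h2] at e
  exact ⟨e⟩

/-- **A generalized quaternion `2`-group carries a saturated fusion system that is not supersoluble.** -/
theorem exists_saturated_not_hasSSChain_of_quaternion {Ω : Type*} [Group Ω] {S : Subgroup Ω} [Finite S]
    (hS : IsPGroup 2 S) (n : ℕ) (hn : 2 ≤ n) (e : S ≃* QuaternionGroup n) :
    ∃ F : FusionSystem S, F.IsSaturated 2 ∧ ¬ HasSSChain F := by
  have : Fact (Nat.Prime 2) := ⟨Nat.prime_two⟩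
  have : NeZero n := ⟨by omega⟩
  obtain ⟨k, hk, rfl⟩ := exists_pow_of_equiv_quaternion hS n hn e
  obtain ⟨q, hqp, hodd, hQ⟩ := exists_prime_sylow_sl2_quaternion k hk
  have hF : Fintype.card (ZMod q) = q := ZMod.card q
  have hodd' : Fintype.card (ZMod q) % 2 = 1 := by rw [hF]; exact hodd
  have h2 : (2 : ZMod q) ≠ 0 := Cfsg.Agent.Lib.Helper98.PSL2Fusion.two_ne_zero_of_odd_card hodd'
  let Q : Sylow 2 (Matrix.SpecialLinearGroup (Fin 2) (ZMod q)) := default
  obtain ⟨e₂⟩ := hQ Q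
  obtain ⟨F, ι, hsat, hreal, -⟩ := exists_saturated_realized_of_equiv_sylow Q (e.trans e₂.symm)
  refine ⟨F, hsat, ?_⟩
  -- elements of order four are conjugate in `SL₂(q)`
  have hconj : ∀ a b : Matrix.SpecialLinearGroup (Fin 2) (ZMod q), orderOf a = 4 → orderOf b = 4 →
      a ∈ ι.range → b ∈ ι.range → ∃ g, b = g * a * g⁻¹ := by
    intro a b oa ob _ _
    have key : ∀ c : Matrix.SpecialLinearGroup (Fin 2) (ZMod q), orderOf c = 4 →
        c * c = Cfsg.Agent.Lib.Helper41.negOne := by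
      intro c oc
      apply Cfsg.Agent.Lib.Helper98.SL2Quat.eq_negOne_of_sq h2
      · have := pow_orderOf_eq_one c
        rw [oc] at this
        rw [← this]
        simp only [pow_succ, pow_zero, one_mul, mul_assoc]
      · intro h
        have h4 : orderOf c ∣ 2 := orderOf_dvd_of_pow_eq_one (by rw [pow_two]; exact h)
        rw [oc] at h4
        omega
    obtain ⟨g, hg⟩ := Cfsg.Agent.Lib.Helper98.SL2Quat.exists_conj_of_sq h2 a b (key a oa) (key b ob)
    exact ⟨g, hg.symm⟩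
  have hCP := cp_of_realized hreal 4 hconj
  -- the centre of `S`
  set Z : Subgroup Ω := (Subgroup.center S).map S.subtype with hZ
  have hZc : ∀ a ∈ Z, ∀ s ∈ S, a * s = s * a := by
    rintro _ ⟨a, ha, rfl⟩ s hs
    have := (Subgroup.mem_center_iff.1 ha) ⟨s, hs⟩
    exact (congrArg (fun z : S => (z : Ω)) this).symm
  have hZ2 : ∀ g ∈ S, g ^ 2 = 1 → g ∈ Z := by
    intro g hg hg2
    refine ⟨⟨g, hg⟩, ?_, rfl⟩
    show (⟨g, hg⟩ : S) ∈ Subgroup.center S
    rw [Subgroup.mem_center_iff]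
    intro s
    apply e.injective
    rw [map_mul, map_mul]
    apply quaternion_central_of_sq
    rw [← map_mul]
    have : (⟨g, hg⟩ : S) * ⟨g, hg⟩ = 1 := Subtype.ext (by rw [Subgroup.coe_mul, ← pow_two]; exact hg2)
    rw [this, map_one]
  have o : ∀ i : ZMod (2 * 2 ^ k), orderOf (((e.symm (QuaternionGroup.xa i) : S)) : Ω) = 4 := by
    intro i
    rw [Subgroup.orderOf_coe, MulEquiv.orderOf_eq, QuaternionGroup.orderOf_xa]
  refine not_hasSSChain_of_order_four hS F hCP Z hZc hZ2 _ _ (e.symm (QuaternionGroup.xa 0)).2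
    (e.symm (QuaternionGroup.xa 1)).2 (o 0) (o 1) ?_
  intro h
  apply quaternion_xa_not_comm hn
  have h1 : e.symm (QuaternionGroup.xa 0) * e.symm (QuaternionGroup.xa 1) =
      e.symm (QuaternionGroup.xa 1) * e.symm (QuaternionGroup.xa 0) := Subtype.ext h
  rw [← map_mul, ← map_mul] at h1
  exact e.symm.injective h1

end Cfsg.Agent.Lib.Helper84
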