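/-
helper84: SQF-[MIN] (and an own proof of SQF-[MIN-P]).  In a finite solvable group with squarefree class sizes every
minimal normal subgroup has prime order.
-/
import Mathlib
import Cfsg.Agent.Lib.Helper85.SqfDefs
import Cfsg.Agent.Lib.Helper36.SqfIdxH
import Cfsg.Agent.Lib.Helper1.MinimalNormal
import Cfsg.Agent.S0043

set_option autoImplicit false
set_option linter.unusedSectionVars false
set_option linter.unusedVariables false
set_option linter.style.haveILetI false

namespace Cfsg.Agent.Lib.Helper84.Sqf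

open Cfsg Cfsg.Agent.Lib.Helper85.Sqf

variable {G : Type*} [Group G]

/-- [MIN-P] -/
theorem centralizes_of_pPower_action [Finite G] {p : ℕ} [Fact p.Prime] (N : Subgroup G) [N.Normal]
    (hNp : IsPGroup p N) (hN : N ≠ ⊥)
    (hmin : ∀ M : Subgroup G, M.Normal → M ≤ N → M = ⊥ ∨ M = N)
    (A : Subgroup G) [A.Normal]
    (hA : ∀ a ∈ A, ∃ k : ℕ, ∀ v ∈ N, a ^ p ^ k * v = v * a ^ p ^ k) :
    ∀ a ∈ A, ∀ v ∈ N, a * v = v * a := by
  classical
  have hp : p.Prime := Fact.out
  -- the image of A in Aut(N)
  let φ : G →* MulAut N := MulAut.conjNormal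
  let Abar : Subgroup (MulAut N) := A.map φ
  have hAbar : IsPGroup p Abar := by
    intro ψ
    obtain ⟨a, ha, hψ⟩ := ψ.2
    obtain ⟨k, hk⟩ := hA a ha
    refine ⟨k, ?_⟩
    apply Subtype.ext
    rw [Subgroup.coe_pow, Subgroup.coe_one, ← hψ, ← map_pow]
    ext n
    rw [MulAut.conjNormal_apply, MulAut.one_apply]
    have := hk n n.2
    rw [this]; group
  -- a non-trivial fixed point
  have hdvd : p ∣ Nat.card N := by
    obtain ⟨n, hn⟩ := IsPGroup.iff_card.1 hNp
    rw [hn]
    have : n ≠ 0 := by
      rintro rfl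
      rw [pow_zero, Subgroup.card_eq_one] at hn
      exact hN hn
    exact dvd_pow_self p this
  have h1fix : (1 : N) ∈ MulAction.fixedPoints Abar N := by
    intro ψ
    rw [Subgroup.smul_def, MulAut.smul_def, map_one]
  obtain ⟨v, hvfix, hv1⟩ := hAbar.exists_fixed_point_of_prime_dvd_card_of_fixed_point N hdvd h1fix
  -- D = N ⊓ C(A) is normal and non-trivial
  have hDn : (N ⊓ Subgroup.centralizer (A : Set G)).Normal := inferInstance
  have hvD : (v : G) ∈ N ⊓ Subgroup.centralizer (A : Set G) := by
    refine ⟨v.2, ?_⟩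
    show (v : G) ∈ Subgroup.centralizer (A : Set G)
    rw [Subgroup.mem_centralizer_iff]
    intro a ha
    have := hvfix ⟨φ a, a, ha, rfl⟩
    rw [Subgroup.smul_def, MulAut.smul_def] at this
    have h2 : ((φ a) v : G) = a * v * a⁻¹ := MulAut.conjNormal_apply a v
    have h3 : a * v * a⁻¹ = v := by rw [← h2]; exact congrArg Subtype.val this
    calc a * (v : G) = a * v * a⁻¹ * a := by group
      _ = v * a := by rw [h3]
  have hD : N ⊓ Subgroup.centralizer (A : Set G) = N := by
    rcases hmin _ hDn inf_le_left with h | h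
    · exfalso
      rw [h, Subgroup.mem_bot] at hvD
      exact hv1 (Subtype.ext hvD.symm)
    · exact h
  intro a ha w hw
  have : w ∈ N ⊓ Subgroup.centralizer (A : Set G) := by rw [hD]; exact hw
  exact Subgroup.mem_centralizer_iff.1 this.2 a ha

/-- step (0): a proper subgroup of `N` of the form `N ⊓ C(a)` that is normal in `G` forces `|N| = p` -/
theorem card_eq_of_inf_centralizer_normal [Finite G] (h : SqF G) {p : ℕ} [Fact p.Prime]
    (N : Subgroup G) [N.Normal] (hNp : IsPGroup p N) (hN : N ≠ ⊥)
    (hmin : ∀ M : Subgroup G, M.Normal → M ≤ N → M = ⊥ ∨ M = N) (a : G)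
    (hnorm : (N ⊓ Subgroup.centralizer ({a} : Set G)).Normal)
    (hne : N ⊓ Subgroup.centralizer ({a} : Set G) ≠ N) : Nat.card N = p := by
  have hp : p.Prime := Fact.out
  have hbot : N ⊓ Subgroup.centralizer ({a} : Set G) = ⊥ := by
    rcases hmin _ hnorm inf_le_left with h1 | h1
    · exact h1
    · exact absurd h1 hne
  have hdvd := Cfsg.Agent.Lib.Helper36.Sqf.card_dvd_mul_card_inf h N hNp a
  rw [hbot, Subgroup.card_bot, mul_one] at hdvd
  rcases (Nat.dvd_prime hp).1 hdvd with h1 | h1
  · exact absurd (Subgroup.card_eq_one.1 h1) hN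
  · exact h1

/-- [MIN] -/
theorem card_minimal_normal_prime [Finite G] [Group.IsSolvable G] (h : SqF G) (N : Subgroup G)
    [N.Normal] (hN : N ≠ ⊥) (hmin : ∀ M : Subgroup G, M.Normal → M ≤ N → M = ⊥ ∨ M = N) :
    (Nat.card N).Prime := by
  classical
  obtain ⟨hcomm, p, hp, hexp⟩ := Cfsg.Agent.S0043.result N hN hmin
  haveI : Fact p.Prime := ⟨hp⟩
  have hNp : IsPGroup p N := by
    intro x
    refine ⟨1, ?_⟩
    rw [pow_one]
    exact Subtype.ext (by simpa using hexp x x.2)
  set C := Subgroup.centralizer (N : Set G) with hC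
  have hCn : C.Normal := inferInstance
  have hCmem : ∀ g : G, g ∈ C ↔ ∀ v ∈ N, g * v = v * g := by
    intro g
    rw [hC, Subgroup.mem_centralizer_iff]
    exact ⟨fun hg v hv => (hg v hv).symm, fun hg v hv => (hg v hv).symm⟩
  by_cases htop : C = ⊤
  · -- N is central
    obtain ⟨x, hxN, hx1⟩ : ∃ x ∈ N, x ≠ 1 := by
      by_contra hno
      push Not at hno
      exact hN ((Subgroup.eq_bot_iff_forall _).2 hno)
    have hzn : (Subgroup.zpowers x).Normal := by
      refine ⟨fun y hy g => ?_⟩
      have hg : g ∈ C := by rw [htop]; exact Subgroup.mem_top _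
      have hyN : y ∈ N := (Subgroup.zpowers_le.2 hxN) hy
      have := (hCmem g).1 hg y hyN
      have h2 : g * y * g⁻¹ = y := by rw [this]; group
      rw [h2]; exact hy
    have hzN : Subgroup.zpowers x = N := by
      rcases hmin _ hzn (Subgroup.zpowers_le.2 hxN) with h1 | h1
      · exfalso
        have : x ∈ Subgroup.zpowers x := Subgroup.mem_zpowers x
        rw [h1, Subgroup.mem_bot] at this
        exact hx1 this
      · exact h1
    have hord : orderOf x = p := by
      have h1 : orderOf x ∣ p := orderOf_dvd_of_pow_eq_one (hexp x hxN)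
      rcases (Nat.dvd_prime hp).1 h1 with h2 | h2
      · exact absurd (orderOf_eq_one_iff.1 h2) hx1
      · exact h2
    rw [← hzN, Nat.card_zpowers, hord]
    exact hp
  · -- G ⧸ C is a non-trivial solvable group
    haveI : Nontrivial (G ⧸ C) := by
      rw [QuotientGroup.nontrivial_iff]
      exact htop
    obtain ⟨Abar, hAbn, hAb1, -, hAbmin⟩ :=
      Cfsg.Agent.Lib.Helper1.exists_minimal_normal_le (⊤ : Subgroup (G ⧸ C)) inferInstance top_ne_bot
    haveI := hAbn
    obtain ⟨hAbcomm, q, hq, hAbexp⟩ := Cfsg.Agent.S0043.result Abar hAb1 hAbmin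
    haveI : Fact q.Prime := ⟨hq⟩
    set A := Abar.comap (QuotientGroup.mk' C) with hAdef
    haveI hAn : A.Normal := inferInstance
    have hpowA : ∀ a ∈ A, a ^ q ∈ C := by
      intro a ha
      have := hAbexp _ ha
      rw [← QuotientGroup.eq_one_iff]
      simpa using this
    have hcommA : ∀ a ∈ A, ∀ b ∈ A, a * b * a⁻¹ * b⁻¹ ∈ C := by
      intro a ha b hb
      rw [← QuotientGroup.eq_one_iff]
      have hab : (⟨_, ha⟩ : Abar) * ⟨_, hb⟩ = ⟨_, hb⟩ * ⟨_, ha⟩ := hAbcomm.is_comm.comm _ _
      have hab' : (QuotientGroup.mk' C a) * (QuotientGroup.mk' C b) =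
          (QuotientGroup.mk' C b) * (QuotientGroup.mk' C a) := congrArg Subtype.val hab
      simp only [QuotientGroup.mk'_apply] at hab'
      simp only [QuotientGroup.mk_mul, QuotientGroup.mk_inv]
      rw [hab']; group
    obtain ⟨a, haA, haC⟩ : ∃ a ∈ A, a ∉ C := by
      by_contra hno
      push Not at hno
      apply hAb1
      rw [Subgroup.eq_bot_iff_forall]
      intro y hy
      obtain ⟨g, rfl⟩ := QuotientGroup.mk'_surjective C y
      have : g ∈ C := hno g hy
      exact (QuotientGroup.eq_one_iff g).2 this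
    have hqp : q ≠ p := by
      rintro rfl
      apply haC
      rw [hCmem]
      refine centralizes_of_pPower_action N hNp hN hmin A ?_ a haA
      intro b hb
      refine ⟨1, ?_⟩
      rw [pow_one]
      exact (hCmem _).1 (hpowA b hb)
    have hcop : q.Coprime p := (Nat.coprime_primes hq hp).2 hqp
    -- all non-centralising elements of A have the same centraliser in N
    have hsame : ∀ b ∈ A, b ∉ C → N ⊓ Subgroup.centralizer ({a} : Set G) =
        N ⊓ Subgroup.centralizer ({b} : Set G) := by
      intro b hbA hbC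
      refine Cfsg.Agent.Lib.Helper36.Sqf.inf_centralizer_eq_of_inner_comm h N hNp a b
        (fun hh => haC ((hCmem a).2 hh)) (fun hh => hbC ((hCmem b).2 hh)) q q hcop hcop
        ((hCmem _).1 (hpowA a haA)) ((hCmem _).1 (hpowA b hbA)) 1 N.one_mem ?_
      intro v hv
      have hk := (hCmem _).1 (hcommA b hbA a haA) v hv
      rw [hk]; group
    have hnorm : (N ⊓ Subgroup.centralizer ({a} : Set G)).Normal := by
      refine ⟨fun y hy g => ?_⟩
      have hgaA : g * a * g⁻¹ ∈ A := hAn.conj_mem a haA g
      have hgaC : g * a * g⁻¹ ∉ C := by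
        intro hh
        apply haC
        have := hCn.conj_mem _ hh g⁻¹
        have h2 : g⁻¹ * (g * a * g⁻¹) * g⁻¹⁻¹ = a := by group
        rwa [h2] at this
      rw [hsame _ hgaA hgaC]
      refine ⟨Subgroup.Normal.conj_mem inferInstance y hy.1 g, ?_⟩
      show g * y * g⁻¹ ∈ Subgroup.centralizer ({g * a * g⁻¹} : Set G)
      rw [Subgroup.mem_centralizer_singleton_iff]
      have hya : y * a = a * y := Subgroup.mem_centralizer_singleton_iff.1 hy.2
      calc g * y * g⁻¹ * (g * a * g⁻¹) = g * (y * a) * g⁻¹ := by group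
        _ = g * (a * y) * g⁻¹ := by rw [hya]
        _ = g * a * g⁻¹ * (g * y * g⁻¹) := by group
    have hne : N ⊓ Subgroup.centralizer ({a} : Set G) ≠ N := by
      intro hh
      apply haC
      rw [hCmem]
      intro v hv
      have : v ∈ N ⊓ Subgroup.centralizer ({a} : Set G) := by rw [hh]; exact hv
      exact (Subgroup.mem_centralizer_singleton_iff.1 this.2).symm
    rw [card_eq_of_inf_centralizer_normal h N hNp hN hmin a hnorm hne]
    exact hp

end Cfsg.Agent.Lib.Helper84.Sqf
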