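import Mathlib
import Cfsg.Agent.Lib.Helper64.CH4Defs

/-!
# CH4-[FIBER] (helper84 hedge, for helper64's project CH4 = S4167)

If the Sylow 2-subgroup `P` has exponent 2 and every involution of `P` has a second conjugate in `P`, then
`2 * ∑_{t involution} |C_G(t)| ≤ |G| (|P| - 1)`: count `G × (P \ {1})` over `(g, s) ↦ g s g⁻¹`.
-/

set_option autoImplicit false
set_option linter.style.haveILetI false

namespace Cfsg.Agent.Lib.Helper84.CH4

open Cfsg.Agent.Lib.Helper64.CH4

theorem orderOf_conj_h84 {G : Type*} [Group G] (g x : G) : orderOf (g * x * g⁻¹) = orderOf x :=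
  (SemiconjBy.orderOf_eq g (show SemiconjBy g x (g * x * g⁻¹) by unfold SemiconjBy; group)).symm

/-- [FIBER] -/
theorem two_mul_sum_card_centralizer_le {G : Type*} [Group G] [Fintype G] [DecidableEq G]
    (P : Sylow 2 G) (hexp : ∀ a ∈ P, a ^ 2 = 1)
    (hconj : ∀ t : G, orderOf t = 2 → t ∈ P → ∃ g : G, g * t * g⁻¹ ∈ P ∧ g * t * g⁻¹ ≠ t) :
    2 * ∑ t ∈ Finset.univ.filter (fun t : G => orderOf t = 2),
        Nat.card (Subgroup.centralizer ({t} : Set G)) ≤ Nat.card G * (Nat.card P - 1) := by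
  classical
  haveI : Fact (Nat.Prime 2) := ⟨Nat.prime_two⟩
  set Inv : Finset G := Finset.univ.filter (fun t : G => orderOf t = 2) with hInv
  set P1 : Finset G := (Finset.univ.filter fun s : G => s ∈ (P : Subgroup G)).erase 1 with hP1
  set D : Finset (G × G) := (Finset.univ : Finset G) ×ˢ P1 with hD
  let φ : G × G → G := fun p => p.1 * p.2 * p.1⁻¹
  have hord2 : ∀ s ∈ P1, orderOf s = 2 := by
    intro s hs
    rw [hP1, Finset.mem_erase, Finset.mem_filter] at hs
    have h2 : s ^ 2 = 1 := hexp s hs.2.2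
    exact orderOf_eq_prime h2 hs.1
  have hcardD : D.card = Nat.card G * (Nat.card P - 1) := by
    rw [hD, Finset.card_product, Finset.card_univ, Nat.card_eq_fintype_card, hP1,
      Finset.card_erase_of_mem (by simp [(P : Subgroup G).one_mem])]
    congr 2
    rw [Nat.card_eq_fintype_card, Fintype.card_subtype]
  have hmaps : ∀ p ∈ D, φ p ∈ Inv := by
    intro p hp
    rw [hD, Finset.mem_product] at hp
    rw [hInv, Finset.mem_filter]
    refine ⟨Finset.mem_univ _, ?_⟩
    show orderOf (p.1 * p.2 * p.1⁻¹) = 2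
    have := hord2 p.2 hp.2
    rw [← this]
    exact orderOf_conj_h84 p.1 p.2
  have hfib := Finset.card_eq_sum_card_fiberwise (s := D) (t := Inv) (f := φ) hmaps
  -- each fibre is large
  have hlarge : ∀ t ∈ Inv, 2 * Nat.card (Subgroup.centralizer ({t} : Set G)) ≤
      (D.filter fun p => φ p = t).card := by
    intro t ht
    rw [hInv, Finset.mem_filter] at ht
    have ht2 : orderOf t = 2 := ht.2
    -- `t` is conjugate into `P`
    have htp : IsPGroup 2 (Subgroup.zpowers t) := by
      rw [IsPGroup.iff_card, Nat.card_zpowers, ht2]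
      exact ⟨1, (pow_one 2).symm⟩
    obtain ⟨Q, hQ⟩ := htp.exists_le_sylow
    obtain ⟨g, hg⟩ := MulAction.exists_smul_eq G Q P
    -- `g • Q = P`
    have htQ : t ∈ (Q : Subgroup G) := hQ (Subgroup.mem_zpowers t)
    have hsP : g * t * g⁻¹ ∈ (P : Subgroup G) := by
      rw [← hg, Sylow.coe_subgroup_smul]
      exact ⟨t, htQ, rfl⟩
    set s : G := g * t * g⁻¹ with hs
    have hs2 : orderOf s = 2 := by rw [hs, orderOf_conj_h84]; exact ht2
    obtain ⟨k, hkP, hkne⟩ := hconj s hs2 hsP
    set s' : G := k * s * k⁻¹ with hs'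
    have hs'2 : orderOf s' = 2 := by rw [hs', orderOf_conj_h84]; exact hs2
    -- conjugators back to `t`
    have hg0 : g⁻¹ * s * g⁻¹⁻¹ = t := by rw [hs]; group
    have hg1 : (g⁻¹ * k⁻¹) * s' * (g⁻¹ * k⁻¹)⁻¹ = t := by rw [hs', hs]; group
    set C : Finset G := Finset.univ.filter fun c : G => c ∈ Subgroup.centralizer ({t} : Set G) with hC
    have hCcard : C.card = Nat.card (Subgroup.centralizer ({t} : Set G)) := by
      rw [Nat.card_eq_fintype_card, Fintype.card_subtype]
    have hcomm : ∀ c ∈ C, c * t * c⁻¹ = t := by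
      intro c hc
      rw [hC, Finset.mem_filter, Subgroup.mem_centralizer_iff] at hc
      have := hc.2 t rfl
      rw [← this]; group
    set A₁ : Finset (G × G) := C.image fun c => (c * g⁻¹, s) with hA₁
    set A₂ : Finset (G × G) := C.image fun c => (c * (g⁻¹ * k⁻¹), s') with hA₂
    have hA₁card : A₁.card = C.card := by
      apply Finset.card_image_of_injective
      intro c c' hcc
      simp only [Prod.mk.injEq, mul_left_inj, and_true] at hcc
      exact hcc
    have hA₂card : A₂.card = C.card := by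
      apply Finset.card_image_of_injective
      intro c c' hcc
      simp only [Prod.mk.injEq, mul_left_inj, and_true] at hcc
      exact hcc
    have hdisj : Disjoint A₁ A₂ := by
      rw [Finset.disjoint_left]
      intro p hp1 hp2
      rw [hA₁, Finset.mem_image] at hp1
      rw [hA₂, Finset.mem_image] at hp2
      obtain ⟨c, -, rfl⟩ := hp1
      obtain ⟨c', -, hc'⟩ := hp2
      have := congrArg Prod.snd hc'
      exact hkne this
    have hsP1 : s ∈ P1 := by
      rw [hP1, Finset.mem_erase, Finset.mem_filter]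
      refine ⟨?_, Finset.mem_univ _, hsP⟩
      rintro h1
      rw [h1, orderOf_one] at hs2
      norm_num at hs2
    have hs'P1 : s' ∈ P1 := by
      rw [hP1, Finset.mem_erase, Finset.mem_filter]
      refine ⟨?_, Finset.mem_univ _, hkP⟩
      rintro h1
      rw [h1, orderOf_one] at hs'2
      norm_num at hs'2
    have hsub : A₁ ∪ A₂ ⊆ D.filter fun p => φ p = t := by
      intro p hp
      rw [Finset.mem_union] at hp
      rw [Finset.mem_filter, hD, Finset.mem_product]
      rcases hp with hp | hp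
      · rw [hA₁, Finset.mem_image] at hp
        obtain ⟨c, hc, rfl⟩ := hp
        refine ⟨⟨Finset.mem_univ _, hsP1⟩, ?_⟩
        show c * g⁻¹ * s * (c * g⁻¹)⁻¹ = t
        have : c * g⁻¹ * s * (c * g⁻¹)⁻¹ = c * (g⁻¹ * s * g⁻¹⁻¹) * c⁻¹ := by group
        rw [this, hg0, hcomm c hc]
      · rw [hA₂, Finset.mem_image] at hp
        obtain ⟨c, hc, rfl⟩ := hp
        refine ⟨⟨Finset.mem_univ _, hs'P1⟩, ?_⟩
        show c * (g⁻¹ * k⁻¹) * s' * (c * (g⁻¹ * k⁻¹))⁻¹ = t
        have : c * (g⁻¹ * k⁻¹) * s' * (c * (g⁻¹ * k⁻¹))⁻¹ =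
            c * ((g⁻¹ * k⁻¹) * s' * (g⁻¹ * k⁻¹)⁻¹) * c⁻¹ := by group
        rw [this, hg1, hcomm c hc]
    have := Finset.card_le_card hsub
    rw [Finset.card_union_of_disjoint hdisj, hA₁card, hA₂card, hCcard] at this
    omega
  calc 2 * ∑ t ∈ Inv, Nat.card (Subgroup.centralizer ({t} : Set G))
      = ∑ t ∈ Inv, 2 * Nat.card (Subgroup.centralizer ({t} : Set G)) := Finset.mul_sum _ _ _
    _ ≤ ∑ t ∈ Inv, (D.filter fun p => φ p = t).card := Finset.sum_le_sum hlarge
    _ = D.card := hfib.symm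
    _ = Nat.card G * (Nat.card P - 1) := hcardD

end Cfsg.Agent.Lib.Helper84.CH4
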