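/-
helper84: a dihedral `2`-group `D_{2n}` (`n ≥ 2`) carries a saturated fusion system (that of `PSL₂(q)`)
without a chain of strongly closed subgroups with cyclic steps.
All declarations live in `Cfsg.Agent.Lib.Helper84`.
-/
import Mathlib
import Cfsg.Agent.Lib.Helper98.PSL2Fusion
import Cfsg.Agent.Lib.Helper66.QuatDihedral
import Cfsg.Agent.Lib.Helper84.SSQuat

set_option autoImplicit false

namespace Cfsg.Agent.Lib.Helper84

open Cfsg Cfsg.FusionSystem

/-- A `2`-group isomorphic to `DihedralGroup n` has `n` a power of two. -/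
theorem exists_pow_of_equiv_dihedral {P : Type*} [Group P] [Finite P] (hP : IsPGroup 2 P) (n : ℕ) (hn : 2 ≤ n)
    (e : P ≃* DihedralGroup n) : ∃ k : ℕ, 1 ≤ k ∧ n = 2 ^ k := by
  obtain ⟨j, hj⟩ := IsPGroup.iff_card.1 hP
  have h1 : Nat.card P = 2 * n := by
    rw [Nat.card_congr e.toEquiv, DihedralGroup.nat_card]
  have h2 : n ∣ 2 ^ j := by
    rw [← hj, h1]
    exact dvd_mul_left n 2
  obtain ⟨k, -, hk⟩ := (Nat.dvd_prime_pow Nat.prime_two).1 h2
  refine ⟨k, ?_, hk⟩
  by_contra hk0
  have : k = 0 := by omega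
  rw [this, pow_zero] at hk
  omega

/-- The involution of `QuaternionGroup n`. -/
theorem quaternion_eq_an_of_sq {n : ℕ} [NeZero n] (t : QuaternionGroup n) (ht : t * t = 1) (ht1 : t ≠ 1) :
    t = QuaternionGroup.a (n : ZMod (2 * n)) := by
  rcases t with i | i
  · rw [QuaternionGroup.a_mul_a, QuaternionGroup.one_def] at ht
    have h1 : i + i = 0 := by injection ht
    rcases Cfsg.Agent.Lib.Helper98.QuatFacts.two_mul_eq_zero i h1 with rfl | rfl
    · exact absurd QuaternionGroup.a_zero ht1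
    · rfl
  · exfalso
    rw [Cfsg.Agent.Lib.Helper98.QuatFacts.xa_mul_self] at ht
    exact Cfsg.Agent.Lib.Helper98.QuatFacts.an_ne_one ht

section psl2

variable {F : Type*} [Field F]

local notation "SL2" => Matrix.SpecialLinearGroup (Fin 2) F
local notation "PSL2" => Matrix.ProjectiveSpecialLinearGroup (Fin 2) F

open Cfsg.Agent.Lib.Helper98.PSL2Fusion Cfsg.Agent.Lib.Helper41 Cfsg.Agent.Lib.Helper66

/-- If the Sylow `2`-subgroup of `SL₂(F)` above a Sylow `2`-subgroup `T` of `PSL₂(F)` is generalized quaternion, then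
`T` is dihedral. -/
theorem nonempty_sylow_psl2_equiv_dihedral (h2 : (2 : F) ≠ 0) (T : Sylow 2 PSL2) (n : ℕ) [NeZero n]
    (e₂ : ((liftSylow T : Sylow 2 SL2) : Subgroup SL2) ≃* QuaternionGroup n) :
    Nonempty ((T : Subgroup PSL2) ≃* DihedralGroup n) := by
  set Q : Subgroup SL2 := ((liftSylow T : Sylow 2 SL2) : Subgroup SL2) with hQ
  have hQmem : ∀ x : SL2, x ∈ Q ↔ proj x ∈ (T : Subgroup PSL2) := fun x => Iff.rfl
  let θ : Q →* (T : Subgroup PSL2) := (proj.comp Q.subtype).codRestrict _ (fun x => (hQmem x).1 x.2)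
  have hθ : Function.Surjective θ := by
    rintro ⟨t, ht⟩
    obtain ⟨A, rfl⟩ := proj_surjective t
    exact ⟨⟨A, (hQmem A).2 ht⟩, rfl⟩
  let π : Q →* DihedralGroup n := (quatToDihedral n).comp e₂.toMonoidHom
  have hπ : Function.Surjective π := (quatToDihedral_surjective n).comp e₂.surjective
  -- `-1` as an element of `Q`
  have hzQ : (negOne : SL2) ∈ Q := by
    rw [hQmem]
    have : (negOne : SL2) ∈ (proj (F := F)).ker := by
      rw [proj_ker, mem_center_iff_pm, coe_negOne]
      right; rfl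
    rw [MonoidHom.mem_ker] at this
    rw [this]
    exact Subgroup.one_mem _
  set z : Q := ⟨negOne, hzQ⟩ with hz
  have hz1 : z ≠ 1 := by
    intro h
    exact negOne_ne_one h2 (congrArg Subtype.val h)
  have hzz : z * z = 1 := Subtype.ext negOne_mul_self
  have hez : e₂ z = QuaternionGroup.a (n : ZMod (2 * n)) := by
    apply quaternion_eq_an_of_sq
    · rw [← map_mul, hzz, map_one]
    · intro h
      apply hz1
      apply e₂.injective
      rw [h, map_one]
  have hker : θ.ker = π.ker := by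
    ext x
    rw [MonoidHom.mem_ker, MonoidHom.mem_ker]
    have h1 : θ x = 1 ↔ (x : SL2) ∈ (proj (F := F)).ker := by
      rw [MonoidHom.mem_ker]
      constructor
      · intro h
        exact congrArg Subtype.val h
      · intro h
        exact Subtype.ext h
    have h3 : π x = 1 ↔ e₂ x ∈ (quatToDihedral n).ker := by
      rw [MonoidHom.mem_ker]
      rfl
    rw [h1, proj_ker, mem_center_iff_pm, h3, mem_ker_quatToDihedral]
    constructor
    · rintro (h | h)
      · left
        have : x = 1 := Subtype.ext (Subtype.ext (by rw [h]; rfl))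
        rw [this, map_one]
      · right
        have : x = z := Subtype.ext (eq_negOne_of_coe h)
        rw [this, hez]
    · rintro (h | h)
      · left
        have : x = 1 := e₂.injective (by rw [h, map_one])
        rw [this]
        rfl
      · right
        have : x = z := e₂.injective (by rw [h, hez])
        rw [this]
        exact coe_negOne
  let ε₁ : Q ⧸ θ.ker ≃* (T : Subgroup PSL2) := QuotientGroup.quotientKerEquivOfSurjective θ hθ
  let ε₂ : Q ⧸ π.ker ≃* DihedralGroup n := QuotientGroup.quotientKerEquivOfSurjective π hπ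
  let ε₃ : Q ⧸ θ.ker ≃* Q ⧸ π.ker := QuotientGroup.quotientMulEquivOfEq hker
  exact ⟨ε₁.symm.trans (ε₃.trans ε₂)⟩

end psl2

/-- **A dihedral `2`-group carries a saturated fusion system that is not supersoluble.** -/
theorem exists_saturated_not_hasSSChain_of_dihedral {Ω : Type*} [Group Ω] {S : Subgroup Ω} [Finite S]
    (hS : IsPGroup 2 S) (n : ℕ) (hn : 2 ≤ n) (e : S ≃* DihedralGroup n) :
    ∃ F : FusionSystem S, F.IsSaturated 2 ∧ ¬ HasSSChain F := by
  have : Fact (Nat.Prime 2) := ⟨Nat.prime_two⟩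
  obtain ⟨k, hk, rfl⟩ := exists_pow_of_equiv_dihedral hS n hn e
  have : NeZero (2 ^ k) := ⟨by positivity⟩
  obtain ⟨q, hqp, hodd, hQ⟩ := exists_prime_sylow_sl2_quaternion k hk
  have hF : Fintype.card (ZMod q) = q := ZMod.card q
  have hodd' : Fintype.card (ZMod q) % 2 = 1 := by rw [hF]; exact hodd
  have h2 : (2 : ZMod q) ≠ 0 := Cfsg.Agent.Lib.Helper98.PSL2Fusion.two_ne_zero_of_odd_card hodd'
  let T : Sylow 2 (Matrix.ProjectiveSpecialLinearGroup (Fin 2) (ZMod q)) := default
  obtain ⟨e₂⟩ := hQ (Cfsg.Agent.Lib.Helper98.PSL2Fusion.liftSylow T)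
  obtain ⟨eT⟩ := nonempty_sylow_psl2_equiv_dihedral h2 T (2 ^ k) e₂
  have hfin : Finite (Matrix.ProjectiveSpecialLinearGroup (Fin 2) (ZMod q)) := by
    unfold Matrix.ProjectiveSpecialLinearGroup
    infer_instance
  obtain ⟨F, ι, hsat, hreal, -⟩ := exists_saturated_realized_of_equiv_sylow T (e.trans eT.symm)
  refine ⟨F, hsat, ?_⟩
  have hconj : ∀ a b : Matrix.ProjectiveSpecialLinearGroup (Fin 2) (ZMod q), orderOf a = 2 → orderOf b = 2 →
      a ∈ ι.range → b ∈ ι.range → ∃ g, b = g * a * g⁻¹ := by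
    intro a b oa ob _ _
    obtain ⟨g, hg⟩ := isConj_iff.1 (Cfsg.Agent.Lib.Helper98.PSL2Fusion.isConj_of_orderOf_eq_two hodd' a b oa ob)
    exact ⟨g, hg.symm⟩
  have hCP := cp_of_realized hreal 2 hconj
  have o : ∀ i : ZMod (2 ^ k), orderOf (((e.symm (DihedralGroup.sr i) : S)) : Ω) = 2 := by
    intro i
    rw [Subgroup.orderOf_coe, MulEquiv.orderOf_eq, DihedralGroup.orderOf_sr]
  refine not_hasSSChain_of_involutions hS F hCP _ _ (e.symm (DihedralGroup.sr 0)).2
    (e.symm (DihedralGroup.sr 1)).2 (o 0) (o 1) ?_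
  intro h
  have h1 : e.symm (DihedralGroup.sr 0) = e.symm (DihedralGroup.sr 1) := Subtype.ext h
  have h3 : (DihedralGroup.sr 0 : DihedralGroup (2 ^ k)) = DihedralGroup.sr 1 := e.symm.injective h1
  have h4 : (0 : ZMod (2 ^ k)) = 1 := by injection h3
  have : Fact (1 < 2 ^ k) := ⟨by omega⟩
  exact zero_ne_one h4

end Cfsg.Agent.Lib.Helper84
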