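import Mathlib

/-!
# S4125-[PART] (helper84, for helper75's project S4125: q-Baer groups)

A cover of an abelian group of order `q ^ n` by proper subgroups with pairwise trivial intersections
has at least `q ^ ⌈n/2⌉ + 1` members.
-/

set_option autoImplicit false
set_option linter.style.haveILetI false

namespace Cfsg.Agent.Lib.Helper84.QBaer

/-- the arithmetic of case A: all members have order at most `q ^ (n / 2)` -/
theorem part_arith_A {a m H C : ℕ} (hHC : C * H = a) (hC : 2 ≤ C) (hH : 1 ≤ H)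
    (hcov : a ≤ 1 + m * (H - 1)) : C + 1 ≤ m := by
  by_contra hlt
  have hm : m ≤ C := by omega
  obtain ⟨H', rfl⟩ : ∃ H', H = H' + 1 := ⟨H - 1, by omega⟩
  have h1 : m * (H' + 1 - 1) ≤ C * H' := by
    rw [Nat.add_sub_cancel]
    exact Nat.mul_le_mul_right _ hm
  have h2 : C * (H' + 1) = C * H' + C := by ring
  omega

/-- the arithmetic of case B: one large member, the others of order at most `q ^ (n - d₀)` -/
theorem part_arith_B {a m E K : ℕ} (hEK : E * K = a) (hK : 2 ≤ K) (hE : 1 ≤ E) (hm : 1 ≤ m)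
    (hcov : a ≤ 1 + ((E - 1) + (m - 1) * (K - 1))) : E + 1 ≤ m := by
  obtain ⟨K', rfl⟩ : ∃ K', K = K' + 2 := ⟨K - 2, by omega⟩
  obtain ⟨E', rfl⟩ : ∃ E', E = E' + 1 := ⟨E - 1, by omega⟩
  obtain ⟨m', rfl⟩ : ∃ m', m = m' + 1 := ⟨m - 1, by omega⟩
  simp only [Nat.add_sub_cancel] at hcov
  have h3 : K' + 2 - 1 = K' + 1 := by omega
  rw [h3] at hcov
  by_contra hlt
  have hm' : m' ≤ E' := by omega
  have h1 : m' * (K' + 1) ≤ E' * (K' + 1) := Nat.mul_le_mul_right _ hm'
  have h2 : (E' + 1) * (K' + 2) = E' * (K' + 1) + E' + K' + 2 := by ring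
  omega

/-- [PART] -/
theorem partition_bound {V : Type*} [CommGroup V] [Finite V] {q n : ℕ} (hq : q.Prime)
    (hV : Nat.card V = q ^ n) (hn : 0 < n) {ι : Type*} [Fintype ι] (W : ι → Subgroup V)
    (hcov : ∀ v : V, ∃ i, v ∈ W i) (hdisj : ∀ i j, i ≠ j → W i ⊓ W j = ⊥)
    (hprop : ∀ i, W i ≠ ⊤) : q ^ ((n + 1) / 2) + 1 ≤ Fintype.card ι := by
  classical
  haveI : Fintype V := Fintype.ofFinite V
  have hq1 : 1 < q := hq.one_lt
  -- orders of the members
  have hd : ∀ i, ∃ d, d < n ∧ Nat.card (W i) = q ^ d := by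
    intro i
    have hdvd : Nat.card (W i) ∣ q ^ n := by
      rw [← hV]; exact Subgroup.card_subgroup_dvd_card _
    obtain ⟨d, hdn, hd⟩ := (Nat.dvd_prime_pow hq).mp hdvd
    refine ⟨d, ?_, hd⟩
    rcases Nat.lt_or_ge d n with h | h
    · exact h
    · exfalso
      have hdn' : d = n := le_antisymm hdn h
      apply hprop i
      apply Subgroup.eq_top_of_card_eq
      rw [hd, hdn', hV]
  choose d hdn hdcard using hd
  -- pairwise sums of exponents
  have hpair : ∀ i j, i ≠ j → d i + d j ≤ n := by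
    intro i j hij
    have hinj : Function.Injective (fun p : ↥(W i) × ↥(W j) => (p.1 : V) * (p.2 : V)) := by
      rintro ⟨a, b⟩ ⟨a', b'⟩ h
      simp only at h
      have hmem : (a' : V)⁻¹ * a ∈ W i ⊓ W j := by
        rw [Subgroup.mem_inf]
        refine ⟨(W i).mul_mem ((W i).inv_mem a'.2) a.2, ?_⟩
        have : (a' : V)⁻¹ * a = (b' : V) * (b : V)⁻¹ := by
          rw [inv_mul_eq_iff_eq_mul, ← mul_assoc, eq_mul_inv_iff_mul_eq]
          exact h
        rw [this]
        exact (W j).mul_mem b'.2 ((W j).inv_mem b.2)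
      rw [hdisj i j hij, Subgroup.mem_bot, inv_mul_eq_one] at hmem
      have ha : a = a' := Subtype.ext hmem.symm
      subst ha
      have hb : (b : V) = b' := mul_left_cancel h
      exact Prod.ext rfl (Subtype.ext hb)
    have hle := Nat.card_le_card_of_injective _ hinj
    rw [Nat.card_prod, hdcard, hdcard, hV, ← pow_add] at hle
    exact (Nat.pow_le_pow_iff_right hq1).mp hle
  -- the covering inequality
  have hcover : q ^ n ≤ 1 + ∑ i, (q ^ d i - 1) := by
    have hsub : (Finset.univ : Finset V) ⊆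
        insert 1 (Finset.univ.biUnion fun i => (Finset.univ.filter fun v => v ∈ W i).erase 1) := by
      intro v _
      by_cases hv : v = 1
      · rw [hv]; exact Finset.mem_insert_self _ _
      · obtain ⟨i, hi⟩ := hcov v
        apply Finset.mem_insert_of_mem
        rw [Finset.mem_biUnion]
        exact ⟨i, Finset.mem_univ _, Finset.mem_erase.mpr ⟨hv, by simpa using hi⟩⟩
    have h1 := Finset.card_le_card hsub
    have h2 := Finset.card_insert_le (1 : V)
      (Finset.univ.biUnion fun i => (Finset.univ.filter fun v => v ∈ W i).erase 1)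
    have h3 := Finset.card_biUnion_le (s := (Finset.univ : Finset ι))
      (t := fun i => (Finset.univ.filter fun v => v ∈ W i).erase (1 : V))
    have h4 : ∀ i, ((Finset.univ.filter fun v => v ∈ W i).erase (1 : V)).card = q ^ d i - 1 := by
      intro i
      rw [Finset.card_erase_of_mem (by simp [(W i).one_mem])]
      congr 1
      rw [← hdcard i, Nat.card_eq_fintype_card, Fintype.card_subtype]
    rw [Finset.card_univ, ← Nat.card_eq_fintype_card, hV] at h1
    simp only [h4] at h3
    omega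
  -- `ι` is nonempty
  obtain ⟨i₁, -⟩ := hcov 1
  haveI : Nonempty ι := ⟨i₁⟩
  obtain ⟨i₀, -, hmax⟩ := Finset.exists_max_image (Finset.univ : Finset ι) d ⟨i₁, Finset.mem_univ _⟩
  have hmax' : ∀ i, d i ≤ d i₀ := fun i => hmax i (Finset.mem_univ _)
  have hpos : ∀ k : ℕ, 1 ≤ q ^ k := fun k => Nat.one_le_pow _ _ hq.pos
  have hm1 : 1 ≤ Fintype.card ι := Fintype.card_pos
  rcases Nat.lt_or_ge n (2 * d i₀) with hB | hA
  · -- case B
    have hk : 1 ≤ n - d i₀ := by have := hdn i₀; omega
    have hothers : ∀ i ∈ (Finset.univ : Finset ι).erase i₀, q ^ d i - 1 ≤ q ^ (n - d i₀) - 1 := by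
      intro i hi
      have hne : i ≠ i₀ := (Finset.mem_erase.mp hi).1
      have := hpair i i₀ hne
      have hle : d i ≤ n - d i₀ := by omega
      have := Nat.pow_le_pow_right hq.pos hle
      omega
    have hsum := Finset.sum_le_card_nsmul _ _ _ hothers
    rw [Finset.card_erase_of_mem (Finset.mem_univ _), Finset.card_univ, smul_eq_mul] at hsum
    have hsplit := Finset.add_sum_erase (Finset.univ : Finset ι) (fun i => q ^ d i - 1)
      (Finset.mem_univ i₀)
    have hcov' : q ^ n ≤ 1 + ((q ^ d i₀ - 1) + (Fintype.card ι - 1) * (q ^ (n - d i₀) - 1)) := by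
      rw [← hsplit] at hcover
      omega
    have hEK : q ^ d i₀ * q ^ (n - d i₀) = q ^ n := by
      rw [← pow_add]
      congr 1
      have := hdn i₀
      omega
    have hK2 : 2 ≤ q ^ (n - d i₀) := by
      calc 2 ≤ q := hq.two_le
        _ = q ^ 1 := (pow_one q).symm
        _ ≤ q ^ (n - d i₀) := Nat.pow_le_pow_right hq.pos hk
    have hres := part_arith_B hEK hK2 (hpos _) hm1 hcov'
    have hge : q ^ ((n + 1) / 2) ≤ q ^ d i₀ := Nat.pow_le_pow_right hq.pos (by omega)
    omega
  · -- case A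
    have hall : ∀ i ∈ (Finset.univ : Finset ι), q ^ d i - 1 ≤ q ^ (n / 2) - 1 := by
      intro i _
      have hle : d i ≤ n / 2 := by have := hmax' i; omega
      have := Nat.pow_le_pow_right hq.pos hle
      omega
    have hsum := Finset.sum_le_card_nsmul _ _ _ hall
    rw [Finset.card_univ, smul_eq_mul] at hsum
    have hcov' : q ^ n ≤ 1 + Fintype.card ι * (q ^ (n / 2) - 1) := by omega
    have hHC : q ^ ((n + 1) / 2) * q ^ (n / 2) = q ^ n := by
      rw [← pow_add]
      congr 1
      omega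
    have hC2 : 2 ≤ q ^ ((n + 1) / 2) := by
      calc 2 ≤ q := hq.two_le
        _ = q ^ 1 := (pow_one q).symm
        _ ≤ q ^ ((n + 1) / 2) := Nat.pow_le_pow_right hq.pos (by omega)
    exact part_arith_A hHC hC2 (hpos _) hcov'

end Cfsg.Agent.Lib.Helper84.QBaer
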