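import Mathlib
import Cfsg.Agent.Lib.Helper75.QBaer.Defs
import Cfsg.Agent.Lib.Helper84.QBaerPart

/-!
# S4125-[C8] (helper84, for helper75's project S4125: q-Baer groups)

If the Sylow 2-subgroup `S` acts freely on `V \ {1}` and every `X`-orbit is an `S`-orbit, then for
`g ∉ S` the subgroups `W s = {v | g • v = s • v}` (`s ∈ S`) form a cover of `V` by proper subgroups with
pairwise trivial intersections, so `|S| ≥ q ^ ⌈n/2⌉ + 1` by [PART].
-/

set_option autoImplicit false
set_option linter.style.haveILetI false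
set_option linter.unusedSectionVars false

namespace Cfsg.Agent.Lib.Helper84.QBaer

open Cfsg.Agent.Lib.Helper75.QBaer

variable {q : ℕ} {X V : Type*} [Group X] [Finite X] [CommGroup V] [Finite V] [MulDistribMulAction X V]

/-- the subgroup of `V` on which `g` and `s` agree -/
def agreeSub (g s : X) : Subgroup V where
  carrier := {v | g • v = s • v}
  one_mem' := by
    show g • (1 : V) = s • (1 : V)
    rw [smul_one, smul_one]
  mul_mem' := by
    intro a b ha hb
    show g • (a * b) = s • (a * b)
    rw [smul_mul', smul_mul']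
    have ha' : g • a = s • a := ha
    have hb' : g • b = s • b := hb
    rw [ha', hb']
  inv_mem' := by
    intro a ha
    show g • a⁻¹ = s • a⁻¹
    rw [smul_inv', smul_inv']
    have ha' : g • a = s • a := ha
    rw [ha']

theorem mem_agreeSub {g s : X} {v : V} : v ∈ (agreeSub g s : Subgroup V) ↔ g • v = s • v := Iff.rfl

/-- [C8] -/
theorem card_sylow_ge (h : CoreHyp q X V) (S : Sylow 2 X) (n : ℕ) (hn : 0 < n)
    (hcard : Nat.card V = q ^ n)
    (hfree : ∀ v : V, v ≠ 1 → ∀ s ∈ S, s • v = v → s = 1)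
    (horb : ∀ v : V, ∀ g : X, ∃ s ∈ S, g • v = s • v)
    (g : X) (hg : g ∉ S) : q ^ ((n + 1) / 2) + 1 ≤ Nat.card S := by
  classical
  haveI : Fintype ↥(S : Subgroup X) := Fintype.ofFinite _
  have key := partition_bound (V := V) h.hq hcard hn
    (fun s : ↥(S : Subgroup X) => (agreeSub g (s : X) : Subgroup V)) ?_ ?_ ?_
  · rw [Nat.card_eq_fintype_card]
    exact key
  · intro v
    obtain ⟨s, hs, hgs⟩ := horb v g
    exact ⟨⟨s, hs⟩, hgs⟩
  · intro s s' hss'
    rw [eq_bot_iff]
    intro v hv
    rw [Subgroup.mem_inf, mem_agreeSub, mem_agreeSub] at hv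
    rw [Subgroup.mem_bot]
    by_contra hv1
    apply hss'
    have h1 : ((s' : X)⁻¹ * (s : X)) • v = v := by
      rw [mul_smul, ← hv.1, hv.2, inv_smul_smul]
    have h2 := hfree v hv1 ((s' : X)⁻¹ * (s : X))
      ((S : Subgroup X).mul_mem ((S : Subgroup X).inv_mem s'.2) s.2) h1
    apply Subtype.ext
    rw [inv_mul_eq_one] at h2
    exact h2.symm
  · intro s htop
    apply hg
    have h1 : ((s : X)⁻¹ * g) = 1 := by
      apply h.faithful
      intro v
      have hv : v ∈ (agreeSub g (s : X) : Subgroup V) := by rw [htop]; exact Subgroup.mem_top v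
      rw [mem_agreeSub] at hv
      rw [mul_smul, hv, inv_smul_smul]
    rw [inv_mul_eq_one] at h1
    rw [← h1]
    exact s.2

end Cfsg.Agent.Lib.Helper84.QBaer
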