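import Mathlib
import Cfsg.Agent.Lib.Helper75.QBaer.Defs
import Cfsg.Agent.Lib.Helper76.PCore
import Cfsg.Agent.Lib.Helper76.SylowNorm
import Cfsg.Agent.S4364

/-!
# S4125-[PNQ] (helper84 hedge, for helper75's project S4125: q-Baer groups)

If every `q`-element has a conjugacy class of `p`-power size (`p ≠ q`), then the Sylow `q`-subgroup `Q` is
abelian and `O_p(G) Q` is normal.  Proof in `G ⧸ O_p(G)`: the conjugates of the image of `x ∈ Q` commute
pairwise (S4364), so its normal closure is a normal `q`-subgroup; hence the image of `Q` is a normal Sylow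
subgroup, and it is centralized by each of its elements (centralizers of `q'`-index contain it).
-/

set_option autoImplicit false
set_option linter.style.haveILetI false

namespace Cfsg.Agent.Lib.Helper84.QBaer

open Cfsg.Agent.Lib.Helper75.QBaer

/-- a subgroup generated by pairwise commuting `q`-elements is a `q`-group -/
theorem isPGroup_closure_of_commute {H : Type*} [Group H] (q : ℕ) (T : Set H)
    (hcomm : ∀ a ∈ T, ∀ b ∈ T, a * b = b * a) (hq : ∀ a ∈ T, ∃ k : ℕ, a ^ q ^ k = 1) :
    IsPGroup q (Subgroup.closure T) := by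
  -- all elements of the closure commute
  have h1 : Subgroup.closure T ≤ Subgroup.centralizer T := by
    rw [Subgroup.closure_le]
    intro a ha
    rw [SetLike.mem_coe, Subgroup.mem_centralizer_iff]
    intro b hb
    exact hcomm b hb a ha
  have h2 : ∀ a ∈ Subgroup.closure T, ∀ b ∈ Subgroup.closure T, a * b = b * a := by
    intro a ha b hb
    have hT : T ⊆ Subgroup.centralizer ({a} : Set H) := by
      intro t ht
      rw [SetLike.mem_coe, Subgroup.mem_centralizer_iff]
      intro c hc
      rw [Set.mem_singleton_iff] at hc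
      subst hc
      have := h1 ha
      rw [Subgroup.mem_centralizer_iff] at this
      exact (this t ht).symm
    have hb' := (Subgroup.closure_le _).mpr hT hb
    rw [Subgroup.mem_centralizer_iff] at hb'
    exact hb' a rfl
  have h3 : ∀ a ∈ Subgroup.closure T, ∃ k : ℕ, a ^ q ^ k = 1 := by
    intro a ha
    induction ha using Subgroup.closure_induction with
    | mem x hx => exact hq x hx
    | one => exact ⟨0, one_pow _⟩
    | mul x y hx hy ihx ihy =>
      obtain ⟨k, hk⟩ := ihx
      obtain ⟨l, hl⟩ := ihy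
      refine ⟨k + l, ?_⟩
      have hc : Commute x y := h2 x hx y hy
      rw [hc.mul_pow, pow_add, pow_mul, hk, one_pow, one_mul, mul_comm (q ^ k), pow_mul, hl, one_pow]
    | inv x hx ihx =>
      obtain ⟨k, hk⟩ := ihx
      exact ⟨k, by rw [inv_pow, hk, inv_one]⟩
  intro g
  obtain ⟨k, hk⟩ := h3 g.1 g.2
  exact ⟨k, Subtype.ext (by simpa using hk)⟩

variable {G : Type*} [Group G] [Finite G]

/-- [PNQ] -/
theorem abelian_of_all_p (q p : ℕ) [Fact q.Prime] [Fact p.Prime] (hpq : p ≠ q)
    (h : ∀ x : G, (∃ k : ℕ, orderOf x = q ^ k) →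
      ∃ a : ℕ, (Subgroup.centralizer ({x} : Set G)).index = p ^ a) (Q : Sylow q G) :
    IsMulCommutative (Q : Subgroup G) ∧ (Cfsg.pCore p G ⊔ (Q : Subgroup G)).Normal := by
  have hq : q.Prime := Fact.out
  have hp : p.Prime := Fact.out
  set N : Subgroup G := Cfsg.pCore p G with hN
  have hNn : N.Normal := by rw [hN]; infer_instance
  let π : G →* G ⧸ N := QuotientGroup.mk' N
  have hπs : Function.Surjective π := QuotientGroup.mk'_surjective N
  have hker : π.ker = N := QuotientGroup.ker_mk' N
  have hπ1 : ∀ g : G, π g = 1 ↔ g ∈ N := by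
    intro g
    rw [← MonoidHom.mem_ker, hker]
  let Qb : Sylow q (G ⧸ N) := Q.mapSurjective hπs
  have hQb : (Qb : Subgroup (G ⧸ N)) = (Q : Subgroup G).map π := Sylow.coe_mapSurjective hπs Q
  have hxk : ∀ x ∈ (Q : Subgroup G), ∃ k : ℕ, orderOf x = q ^ k := by
    intro x hx
    obtain ⟨k, hk⟩ := (IsPGroup.iff_orderOf.mp Q.isPGroup') ⟨x, hx⟩
    exact ⟨k, by rw [← hk, Subgroup.orderOf_mk]⟩
  -- the image of `Q` is normal
  have hQbn : (Qb : Subgroup (G ⧸ N)).Normal := by
    constructor
    intro y hy gb
    rw [hQb] at hy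
    obtain ⟨x, hx, rfl⟩ := hy
    obtain ⟨k, hk⟩ := hxk x hx
    -- the normal closure of the image of `x`
    set T : Set (G ⧸ N) := Group.conjugatesOfSet ({π x} : Set (G ⧸ N)) with hT
    have hTform : ∀ t ∈ T, ∃ g : G, t = π (g * x * g⁻¹) := by
      intro t ht
      rw [hT, Group.mem_conjugatesOfSet_iff] at ht
      obtain ⟨z, hz, hzt⟩ := ht
      rw [Set.mem_singleton_iff] at hz
      subst hz
      rw [isConj_iff] at hzt
      obtain ⟨c, rfl⟩ := hzt
      obtain ⟨g, rfl⟩ := hπs c
      exact ⟨g, by simp⟩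
    have hB : IsPGroup q (Subgroup.closure T) := by
      apply isPGroup_closure_of_commute
      · intro a ha b hb
        obtain ⟨g, rfl⟩ := hTform a ha
        obtain ⟨g', rfl⟩ := hTform b hb
        have hmem := Cfsg.Agent.S4364.result p x (h x ⟨k, hk⟩) g g'
        rw [← hN, ← hπ1] at hmem
        rw [← map_mul, ← map_mul]
        have : π ((g * x * g⁻¹) * (g' * x * g'⁻¹)) * (π ((g' * x * g'⁻¹) * (g * x * g⁻¹)))⁻¹ = 1 := by
          rw [← map_inv, ← map_mul, ← hmem]
          congr 1
          group
        exact mul_inv_eq_one.mp this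
      · intro a ha
        obtain ⟨g, rfl⟩ := hTform a ha
        refine ⟨k, ?_⟩
        rw [← map_pow]
        have : (g * x * g⁻¹) ^ q ^ k = 1 := by
          rw [conj_pow, ← hk, pow_orderOf_eq_one]
          group
        rw [this, map_one]
    have hBn : (Subgroup.closure T).Normal := by
      have : Subgroup.closure T = Subgroup.normalClosure ({π x} : Set (G ⧸ N)) := rfl
      rw [this]
      exact Subgroup.normalClosure_normal
    have hBle : Subgroup.closure T ≤ (Qb : Subgroup (G ⧸ N)) :=
      (Cfsg.Agent.Lib.Helper76.le_pCore q _ hBn hB).trans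
        (Cfsg.Agent.Lib.Helper76.pCore_le_sylow q Qb)
    apply hBle
    apply Subgroup.subset_closure
    rw [hT, Group.mem_conjugatesOfSet_iff]
    exact ⟨π x, rfl, isConj_iff.mpr ⟨gb, rfl⟩⟩
  refine ⟨?_, ?_⟩
  · -- commutativity
    have hdisj : Disjoint N (Q : Subgroup G) :=
      IsPGroup.disjoint_of_ne p q hpq _ _ (Cfsg.Agent.Lib.Helper76.pCore_isPGroup p) Q.isPGroup'
    have hcomm : ∀ x ∈ (Q : Subgroup G), ∀ y ∈ (Q : Subgroup G), x * y = y * x := by
      intro x hx y hy
      obtain ⟨a, ha⟩ := h x (hxk x hx)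
      -- the centralizer of the image of `x` has index prime to `q`
      have hle : (Subgroup.centralizer ({x} : Set G)).map π ≤
          Subgroup.centralizer ({π x} : Set (G ⧸ N)) := by
        rintro _ ⟨c, hc, rfl⟩
        rw [SetLike.mem_coe] at hc
        rw [Subgroup.mem_centralizer_iff] at hc ⊢
        intro z hz
        rw [Set.mem_singleton_iff] at hz
        subst hz
        rw [← map_mul, ← map_mul, hc x rfl]
      have hdvd : (Subgroup.centralizer ({π x} : Set (G ⧸ N))).index ∣ p ^ a := by
        rw [← ha]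
        exact (Subgroup.index_dvd_of_le hle).trans (Subgroup.index_map_dvd _ hπs)
      have hnd : ¬ q ∣ (Subgroup.centralizer ({π x} : Set (G ⧸ N))).index := by
        intro hqd
        have := hq.dvd_of_dvd_pow (hqd.trans hdvd)
        exact hpq ((Nat.prime_dvd_prime_iff_eq hq hp).mp this).symm
      obtain ⟨S, hS⟩ := Cfsg.Agent.Lib.Helper76.exists_sylow_le_of_not_dvd_index q _ hnd
      haveI : Unique (Sylow q (G ⧸ N)) := Sylow.unique_of_normal Qb hQbn
      have hSQ : S = Qb := Subsingleton.elim S Qb
      have hy' : π y ∈ Subgroup.centralizer ({π x} : Set (G ⧸ N)) := by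
        apply hS
        rw [hSQ, hQb]
        exact ⟨y, hy, rfl⟩
      rw [Subgroup.mem_centralizer_iff] at hy'
      have h1 : π x * π y = π y * π x := hy' (π x) rfl
      have h2 : π (x * y * x⁻¹ * y⁻¹) = 1 := by
        rw [map_mul, map_mul, map_mul, h1, map_inv, map_inv]
        group
      rw [hπ1] at h2
      have h3 : x * y * x⁻¹ * y⁻¹ ∈ (Q : Subgroup G) :=
        (Q : Subgroup G).mul_mem ((Q : Subgroup G).mul_mem ((Q : Subgroup G).mul_mem hx hy)
          ((Q : Subgroup G).inv_mem hx)) ((Q : Subgroup G).inv_mem hy)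
      have h4 : x * y * x⁻¹ * y⁻¹ = 1 := by
        have := Subgroup.disjoint_def.mp hdisj h2 h3
        exact this
      calc x * y = (x * y * x⁻¹ * y⁻¹) * (y * x) := by group
        _ = y * x := by rw [h4, one_mul]
    exact ⟨⟨fun a b => Subtype.ext (hcomm a a.2 b b.2)⟩⟩
  · -- normality
    have heq : N ⊔ (Q : Subgroup G) = (Qb : Subgroup (G ⧸ N)).comap π := by
      rw [hQb, Subgroup.comap_map_eq, hker, sup_comm]
    rw [heq]
    infer_instance

end Cfsg.Agent.Lib.Helper84.QBaer
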