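/-
helper84: chains of normal subgroups of a finite `p`-group whose steps are generated by one element with `p`-th power in
the previous term ("`p`-steps"): refinement of chains with cyclic steps, centrality of `p`-steps, and the structure of
groups of `p'`-automorphisms preserving such a chain (abelian of exponent dividing `p - 1`).
All declarations live in `Cfsg.Agent.Lib.Helper84`.
-/
import Mathlib
import Cfsg.Agent.Lib.Helper63.PGroupBasic

set_option autoImplicit false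

namespace Cfsg.Agent.Lib.Helper84

open scoped commutatorElement

variable {P : Type*} [Group P]

/-- `PChain p 𝒞 A B`: a finite chain from `A` up to `B` of members of `𝒞`, each term generated by the previous one and an
element whose `p`-th power lies in the previous term. -/
inductive PChain (p : ℕ) (𝒞 : Subgroup P → Prop) : Subgroup P → Subgroup P → Prop
  | refl (A : Subgroup P) (hA : 𝒞 A) : PChain p 𝒞 A A
  | step (A D B : Subgroup P) (hA : 𝒞 A) (hstep : ∃ x, D = A ⊔ Subgroup.zpowers x ∧ x ^ p ∈ A)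
      (h : PChain p 𝒞 D B) : PChain p 𝒞 A B

theorem PChain.trans {p : ℕ} {𝒞 : Subgroup P → Prop} {A B C : Subgroup P}
    (h1 : PChain p 𝒞 A B) (h2 : PChain p 𝒞 B C) : PChain p 𝒞 A C := by
  induction h1 with
  | refl A hA => exact h2
  | step A D B hA hstep _ ih => exact PChain.step A D C hA hstep (ih h2)

theorem PChain.exists_seq {p : ℕ} {𝒞 : Subgroup P → Prop} {A B : Subgroup P} (h : PChain p 𝒞 A B) :
    ∃ (n : ℕ) (d : ℕ → Subgroup P), d 0 = A ∧ (∀ k, n ≤ k → d k = B) ∧ (∀ k, 𝒞 (d k)) ∧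
      ∀ k, ∃ x, d (k + 1) = d k ⊔ Subgroup.zpowers x ∧ x ^ p ∈ d k := by
  induction h with
  | refl A hA =>
    refine ⟨0, fun _ => A, rfl, fun _ _ => rfl, fun _ => hA, fun _ => ⟨1, ?_, ?_⟩⟩
    · simp
    · rw [one_pow]; exact Subgroup.one_mem _
  | step A D B hA hstep _ ih =>
    obtain ⟨n, d, hd0, hdn, hdC, hds⟩ := ih
    refine ⟨n + 1, fun k => Nat.casesOn k A d, rfl, ?_, ?_, ?_⟩
    · intro k hk
      cases k with
      | zero => omega
      | succ k => exact hdn k (by omega)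
    · intro k
      cases k with
      | zero => exact hA
      | succ k => exact hdC k
    · intro k
      cases k with
      | zero =>
        obtain ⟨x, hx1, hx2⟩ := hstep
        refine ⟨x, ?_, hx2⟩
        show d 0 = A ⊔ Subgroup.zpowers x
        rw [hd0, hx1]
      | succ k => exact hds k

/-- For `x ∉ A ⊴ P`, `P` a finite `p`-group: the subgroup `A⟨z⟩` with `z` the power of `x` of order `p` modulo `A`
consists of the elements of `A⟨x⟩` whose `p`-th power lies in `A`. -/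
theorem exists_pstep_sub [Finite P] {p : ℕ} [hp : Fact p.Prime] (hP : IsPGroup p P) (A : Subgroup P) [A.Normal]
    (x : P) (hx : x ∉ A) :
    ∃ z ∈ Subgroup.zpowers x, z ∉ A ∧ z ^ p ∈ A ∧
      ∀ y, y ∈ A ⊔ Subgroup.zpowers z ↔ y ∈ A ⊔ Subgroup.zpowers x ∧ y ^ p ∈ A := by
  have hq : ∀ g : P, (QuotientGroup.mk' A g = 1) ↔ g ∈ A := fun g => QuotientGroup.eq_one_iff g
  obtain ⟨k, hk⟩ := (IsPGroup.iff_orderOf.mp (hP.to_quotient A)) (QuotientGroup.mk' A x)
  have hk0 : k ≠ 0 := by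
    rintro rfl
    rw [pow_zero, orderOf_eq_one_iff] at hk
    exact hx ((hq x).mp hk)
  obtain ⟨j, rfl⟩ := Nat.exists_eq_succ_of_ne_zero hk0
  have hzA : x ^ p ^ j ∉ A := by
    intro h
    have h1 : (QuotientGroup.mk' A x) ^ p ^ j = 1 := by rw [← map_pow]; exact (hq _).mpr h
    have h2 := orderOf_dvd_of_pow_eq_one h1
    rw [hk] at h2
    have := (Nat.pow_dvd_pow_iff_le_right hp.out.one_lt).mp h2
    omega
  have hzp : (x ^ p ^ j) ^ p ∈ A := by
    rw [← pow_mul, ← pow_succ, ← hq, map_pow, ← hk]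
    exact pow_orderOf_eq_one _
  refine ⟨x ^ p ^ j, Subgroup.pow_mem _ (Subgroup.mem_zpowers x) _, hzA, hzp, fun y => ?_⟩
  constructor
  · intro hy
    rw [← SetLike.mem_coe, Subgroup.normal_mul] at hy
    obtain ⟨a, ha, w, hw, rfl⟩ := hy
    obtain ⟨t, rfl⟩ := Subgroup.mem_zpowers_iff.mp hw
    refine ⟨Subgroup.mul_mem _ (Subgroup.mem_sup_left ha) (Subgroup.mem_sup_right ?_), ?_⟩
    · exact Subgroup.zpow_mem _ (Subgroup.pow_mem _ (Subgroup.mem_zpowers x) _) t
    · rw [← hq, map_pow, map_mul, (hq a).mpr ha, one_mul, map_zpow, ← zpow_natCast, ← zpow_mul,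
        mul_comm, zpow_mul, zpow_natCast, ← map_pow, (hq _).mpr hzp, one_zpow]
  · rintro ⟨hy, hyp⟩
    rw [← SetLike.mem_coe, Subgroup.normal_mul] at hy
    obtain ⟨a, ha, w, hw, rfl⟩ := hy
    obtain ⟨t, rfl⟩ := Subgroup.mem_zpowers_iff.mp hw
    have h1 : (QuotientGroup.mk' A x) ^ (t * (p : ℤ)) = 1 := by
      have := (hq _).mpr hyp
      rw [map_pow, map_mul, (hq a).mpr ha, one_mul, map_zpow, ← zpow_natCast, ← zpow_mul] at this
      exact this
    have h2 := orderOf_dvd_iff_zpow_eq_one.mpr h1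
    rw [hk] at h2
    have h3 : ((p : ℤ) ^ j) ∣ t := by
      have h4 : (p : ℤ) ^ j * (p : ℤ) ∣ t * (p : ℤ) := by
        have : ((p ^ (j + 1) : ℕ) : ℤ) = (p : ℤ) ^ j * (p : ℤ) := by push_cast; ring
        rw [← this]; exact h2
      exact Int.dvd_of_mul_dvd_mul_right (by exact_mod_cast hp.out.ne_zero) h4
    obtain ⟨s, rfl⟩ := h3
    refine Subgroup.mul_mem _ (Subgroup.mem_sup_left ha) (Subgroup.mem_sup_right ?_)
    rw [zpow_mul, ← Nat.cast_pow, zpow_natCast]
    exact Subgroup.zpow_mem _ (Subgroup.mem_zpowers _) s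

/-- Refinement of one cyclic step into `p`-steps. -/
theorem pchain_of_cyclic_step [Finite P] {p : ℕ} [hp : Fact p.Prime] (hP : IsPGroup p P) (𝒞 : Subgroup P → Prop)
    (hnorm : ∀ A, 𝒞 A → A.Normal)
    (hpow : ∀ A B D : Subgroup P, 𝒞 A → 𝒞 B → A ≤ B → (∀ y, y ∈ D ↔ y ∈ B ∧ y ^ p ∈ A) → 𝒞 D)
    (B : Subgroup P) (hB : 𝒞 B) :
    ∀ A : Subgroup P, 𝒞 A → A ≤ B → (∃ x, B = A ⊔ Subgroup.zpowers x) → PChain p 𝒞 A B := by
  intro A
  induction A using WellFoundedGT.induction with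
  | ind A ih =>
    intro hA hAB hx
    obtain ⟨x, hx⟩ := hx
    by_cases hxA : x ∈ A
    · have : B = A := by
        rw [hx]; exact sup_eq_left.mpr ((Subgroup.zpowers_le).mpr hxA)
      rw [this]; exact PChain.refl A hA
    · have := hnorm A hA
      obtain ⟨z, hzx, hzA, hzp, hchar⟩ := exists_pstep_sub hP A x hxA
      have hD : 𝒞 (A ⊔ Subgroup.zpowers z) := by
        refine hpow A B _ hA hB hAB (fun y => ?_)
        rw [hchar y, ← hx]
      have hAD : A < A ⊔ Subgroup.zpowers z := by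
        refine lt_of_le_of_ne le_sup_left (fun h => hzA ?_)
        rw [h]; exact Subgroup.mem_sup_right (Subgroup.mem_zpowers z)
      have hzx' : Subgroup.zpowers z ≤ Subgroup.zpowers x := (Subgroup.zpowers_le).mpr hzx
      have hDB : A ⊔ Subgroup.zpowers z ≤ B := by
        rw [hx]; exact sup_le_sup_left hzx' A
      have hBD : B = (A ⊔ Subgroup.zpowers z) ⊔ Subgroup.zpowers x := by
        rw [sup_assoc, sup_eq_right.mpr hzx', hx]
      exact PChain.step A _ B hA ⟨z, rfl, hzp⟩ (ih _ hAD hD hDB ⟨x, hBD⟩)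

/-- Refinement of a chain with cyclic steps into a chain with `p`-steps. -/
theorem exists_pstep_chain [Finite P] {p : ℕ} [hp : Fact p.Prime] (hP : IsPGroup p P) (𝒞 : Subgroup P → Prop)
    (hnorm : ∀ A, 𝒞 A → A.Normal)
    (hpow : ∀ A B D : Subgroup P, 𝒞 A → 𝒞 B → A ≤ B → (∀ y, y ∈ D ↔ y ∈ B ∧ y ^ p ∈ A) → 𝒞 D)
    (m : ℕ) (c : Fin (m + 1) → Subgroup P) (hc0 : c 0 = ⊥) (hcm : c (Fin.last m) = ⊤)
    (hcC : ∀ i, 𝒞 (c i))
    (hstep : ∀ i : Fin m, c i.castSucc ≤ c i.succ ∧ ∃ x, c i.succ = c i.castSucc ⊔ Subgroup.zpowers x) :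
    ∃ (n : ℕ) (d : ℕ → Subgroup P), d 0 = ⊥ ∧ (∀ k, n ≤ k → d k = ⊤) ∧ (∀ k, 𝒞 (d k)) ∧
      ∀ k, ∃ x, d (k + 1) = d k ⊔ Subgroup.zpowers x ∧ x ^ p ∈ d k := by
  have key : ∀ i : Fin (m + 1), PChain p 𝒞 ⊥ (c i) := by
    intro i
    induction i using Fin.induction with
    | zero => rw [hc0]; exact PChain.refl ⊥ (hc0 ▸ hcC 0)
    | succ i ih =>
      exact ih.trans (pchain_of_cyclic_step hP 𝒞 hnorm hpow _ (hcC _) _ (hcC _) (hstep i).1 (hstep i).2)
  have := (key (Fin.last m)).exists_seq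
  rw [hcm] at this
  exact this

/-- A `p`-step between normal subgroups of a finite `p`-group is central. -/
theorem commutator_le_of_pstep [Finite P] {p : ℕ} [hp : Fact p.Prime] (hP : IsPGroup p P) (A B : Subgroup P)
    [hA : A.Normal] [hBn : B.Normal] (x : P) (hB : B = A ⊔ Subgroup.zpowers x) (hx : x ^ p ∈ A) :
    ⁅B, (⊤ : Subgroup P)⁆ ≤ A := by
  have hq : ∀ g : P, (QuotientGroup.mk' A g = 1) ↔ g ∈ A := fun g => QuotientGroup.eq_one_iff g
  have hmap : B.map (QuotientGroup.mk' A) = Subgroup.zpowers (QuotientGroup.mk' A x) := by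
    rw [hB, Subgroup.map_sup, QuotientGroup.map_mk'_self, bot_sup_eq, MonoidHom.map_zpowers]
  have hn : (B.map (QuotientGroup.mk' A)).Normal := hBn.map _ (QuotientGroup.mk'_surjective A)
  have hcen : B.map (QuotientGroup.mk' A) ≤ Subgroup.center (P ⧸ A) := by
    by_cases h1 : QuotientGroup.mk' A x = 1
    · rw [hmap, h1, Subgroup.zpowers_one_eq_bot]; exact bot_le
    · have hxp : (QuotientGroup.mk' A x) ^ p = 1 := by rw [← map_pow]; exact (hq _).mpr hx
      have hord : orderOf (QuotientGroup.mk' A x) = p := orderOf_eq_prime hxp h1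
      have hcard : Nat.card (B.map (QuotientGroup.mk' A)) = p := by
        rw [hmap, Nat.card_zpowers, hord]
      exact Cfsg.Agent.Lib.Helper63.normal_card_prime_le_center (hP.to_quotient A) _ hcard
  rw [Subgroup.commutator_le]
  intro b hb g _
  rw [← hq, map_commutatorElement, commutatorElement_eq_one_iff_mul_comm]
  exact (Subgroup.mem_center_iff.mp (hcen ⟨b, hb, rfl⟩) _).symm

end Cfsg.Agent.Lib.Helper84
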