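/-
helper84: relative versions of the lemmas of `PStepAut.lean`: a group of `p'`-automorphisms preserving a chain with `p`-steps
from `1` up to a subgroup `T` acts on `T` as an abelian group of exponent dividing `p - 1`.
All declarations live in `Cfsg.Agent.Lib.Helper84`.
-/
import Mathlib
import Cfsg.Agent.Lib.Helper84.PStepAut

set_option autoImplicit false

namespace Cfsg.Agent.Lib.Helper84

variable {P : Type*} [Group P]

/-- An automorphism of order prime to `p` of a finite `p`-group that acts trivially on the factors of a chain starting at `1` fixes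
every element of every term of the chain. -/
theorem fixes_of_stabilizes_chain [Finite P] {p : ℕ} (hP : IsPGroup p P) (γ : MulAut P)
    (hγ : (orderOf γ).Coprime p) (d : ℕ → Subgroup P) (hd0 : d 0 = ⊥)
    (hstab : ∀ k, ∀ y ∈ d (k + 1), y⁻¹ * γ y ∈ d k) : ∀ k, ∀ y ∈ d k, γ y = y := by
  intro k
  induction k with
  | zero =>
    intro y hy
    rw [hd0, Subgroup.mem_bot] at hy
    rw [hy, map_one]
  | succ k ih =>
    intro y hy
    have hz := hstab k y hy
    have hγz : γ (y⁻¹ * γ y) = y⁻¹ * γ y := ih _ hz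
    have hpow : ∀ j : ℕ, (γ ^ j) y = y * (y⁻¹ * γ y) ^ j := by
      intro j
      induction j with
      | zero => simp
      | succ j ihj =>
        rw [pow_succ', MulAut.mul_apply, ihj, map_mul, map_pow, hγz, pow_succ' (y⁻¹ * γ y) j,
          ← mul_assoc y, ← mul_assoc y, mul_inv_cancel, one_mul]
    have h1 := hpow (orderOf γ)
    rw [pow_orderOf_eq_one, MulAut.one_apply] at h1
    have h2 : (y⁻¹ * γ y) ^ orderOf γ = 1 := by
      have : y * (y⁻¹ * γ y) ^ orderOf γ = y * 1 := by rw [mul_one]; exact h1.symm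
      exact mul_left_cancel this
    obtain ⟨e, he⟩ := hP (y⁻¹ * γ y)
    have h3 : orderOf (y⁻¹ * γ y) ∣ orderOf γ := orderOf_dvd_of_pow_eq_one h2
    have h4 : orderOf (y⁻¹ * γ y) ∣ p ^ e := orderOf_dvd_of_pow_eq_one he
    have h5 : Nat.Coprime (orderOf γ) (p ^ e) := Nat.Coprime.pow_right e hγ
    have h6 : orderOf (y⁻¹ * γ y) = 1 := Nat.eq_one_of_dvd_coprimes h5 h3 h4
    have h7 : y⁻¹ * γ y = 1 := orderOf_eq_one_iff.mp h6
    exact (inv_mul_eq_one.mp h7).symm

/-- A group of automorphisms of order prime to `p` of a finite `p`-group `P` preserving a chain of normal subgroups starting at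
`1` with `p`-steps acts on each term of the chain as an abelian group of exponent dividing `p - 1`. -/
theorem comm_and_pow_on_pstep_chain [Finite P] {p : ℕ} [hp : Fact p.Prime] (hP : IsPGroup p P)
    (H : Subgroup (MulAut P)) (hH : (Nat.card H).Coprime p)
    (d : ℕ → Subgroup P) (hd0 : d 0 = ⊥) (hnorm : ∀ k, (d k).Normal)
    (hinv : ∀ h ∈ H, ∀ k, ∀ y ∈ d k, h y ∈ d k)
    (hstep : ∀ k, ∃ x, d (k + 1) = d k ⊔ Subgroup.zpowers x ∧ x ^ p ∈ d k) :
    (∀ α ∈ H, ∀ β ∈ H, ∀ k, ∀ y ∈ d k, (α * β) y = (β * α) y) ∧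
      ∀ α ∈ H, ∀ k, ∀ y ∈ d k, (α ^ (p - 1)) y = y := by
  have hcop : ∀ γ ∈ H, (orderOf γ).Coprime p := by
    intro γ hγ
    have h1 : orderOf γ ∣ Nat.card H := by
      have := orderOf_dvd_natCard (⟨γ, hγ⟩ : H)
      rwa [Subgroup.orderOf_mk] at this
    exact Nat.Coprime.coprime_dvd_left h1 hH
  have htriv : ∀ γ ∈ H, (∀ k, ∀ y ∈ d (k + 1), y⁻¹ * γ y ∈ d k) → ∀ k, ∀ y ∈ d k, γ y = y :=
    fun γ hγ hstab => fixes_of_stabilizes_chain hP γ (hcop γ hγ) d hd0 hstab
  constructor
  · intro α hα β hβ k₀ y₀ hy₀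
    have hγ : (β * α)⁻¹ * (α * β) ∈ H := H.mul_mem (H.inv_mem (H.mul_mem hβ hα)) (H.mul_mem hα hβ)
    have h1 := htriv _ hγ (by
      intro k y hy
      have := hnorm k
      obtain ⟨x, hx, -⟩ := hstep k
      have hxm : x ∈ d (k + 1) := by rw [hx]; exact Subgroup.mem_sup_right (Subgroup.mem_zpowers x)
      have hαx : α x ∈ d k ⊔ Subgroup.zpowers x := by rw [← hx]; exact hinv α hα _ _ hxm
      have hβx : β x ∈ d k ⊔ Subgroup.zpowers x := by rw [← hx]; exact hinv β hβ _ _ hxm
      obtain ⟨a, ha⟩ := exists_mk_apply_eq_zpow α (hinv α hα k) hαx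
      obtain ⟨b, hb⟩ := exists_mk_apply_eq_zpow β (hinv β hβ k) hβx
      rw [hx] at hy
      obtain ⟨t, ht⟩ := exists_mk_eq_zpow hy
      have e1 : QuotientGroup.mk' (d k) (α (β y)) = QuotientGroup.mk' (d k) (β (α y)) := by
        rw [ha _ _ (hb _ _ ht), hb _ _ (ha _ _ ht), ← mul_assoc, ← mul_assoc, mul_comm a b]
      have e2 := mk_apply_eq_of_mk_eq ((β * α)⁻¹) (hinv _ (H.inv_mem (H.mul_mem hβ hα)) k) e1
      have e3 : ((β * α)⁻¹ : MulAut P) (β (α y)) = y := by
        have : β (α y) = (β * α) y := rfl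
        rw [this, MulAut.inv_apply_self]
      rw [e3] at e2
      have e4 : ((β * α)⁻¹ * (α * β) : MulAut P) y = ((β * α)⁻¹ : MulAut P) (α (β y)) := rfl
      rw [e4]
      exact QuotientGroup.eq.mp e2.symm) k₀ y₀ hy₀
    have h2 : ((β * α)⁻¹ * (α * β) : MulAut P) y₀ = ((β * α)⁻¹ : MulAut P) ((α * β) y₀) := rfl
    rw [h2] at h1
    have h3 := congrArg (β * α) h1
    rw [MulAut.apply_inv_self] at h3
    exact h3
  · intro α hα
    apply htriv _ (H.pow_mem hα _)
    intro k y hy
    have := hnorm k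
    obtain ⟨x, hx, hxp⟩ := hstep k
    have hxm : x ∈ d (k + 1) := by rw [hx]; exact Subgroup.mem_sup_right (Subgroup.mem_zpowers x)
    have hαx : α x ∈ d k ⊔ Subgroup.zpowers x := by rw [← hx]; exact hinv α hα _ _ hxm
    obtain ⟨a, ha⟩ := exists_mk_apply_eq_zpow α (hinv α hα k) hαx
    rw [hx] at hy
    obtain ⟨t, ht⟩ := exists_mk_eq_zpow hy
    have hpow : ∀ j : ℕ, QuotientGroup.mk' (d k) ((α ^ j) y) = (QuotientGroup.mk' (d k) x) ^ (a ^ j * t) := by
      intro j
      induction j with
      | zero => simpa using ht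
      | succ j ih =>
        rw [pow_succ', MulAut.mul_apply, ha _ _ ih, pow_succ', mul_assoc]
    have hgoal : QuotientGroup.mk' (d k) ((α ^ (p - 1)) y) = QuotientGroup.mk' (d k) y := by
      rw [hpow, ht]
      by_cases h1 : QuotientGroup.mk' (d k) x = 1
      · rw [h1, one_zpow, one_zpow]
      · have hxp' : (QuotientGroup.mk' (d k) x) ^ p = 1 := by
          rw [← map_pow]; exact (QuotientGroup.eq_one_iff _).mpr hxp
        have hord : orderOf (QuotientGroup.mk' (d k) x) = p := orderOf_eq_prime hxp' h1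
        rw [zpow_eq_zpow_iff_modEq, hord]
        have hpa : IsCoprime a (p : ℤ) := by
          rw [Int.isCoprime_iff_gcd_eq_one]
          by_contra hne
          have hdvd : (p : ℤ) ∣ a := by
            have h2 : Int.gcd a p ∣ p := Int.gcd_dvd_natAbs_right a p |> fun h => by simpa using h
            rcases (Nat.dvd_prime hp.out).mp h2 with h3 | h3
            · exact absurd h3 hne
            · have := Int.gcd_dvd_left a (p : ℤ)
              rw [h3] at this
              exact this
          obtain ⟨s, rfl⟩ := hdvd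
          have h4 := ha x 1 (by rw [zpow_one])
          rw [mul_one, zpow_mul, zpow_natCast, hxp', one_zpow] at h4
          have h5 : α x ∈ d k := (QuotientGroup.eq_one_iff _).mp h4
          have h6 := hinv α⁻¹ (H.inv_mem hα) k _ h5
          rw [MulAut.inv_apply_self] at h6
          exact h1 ((QuotientGroup.eq_one_iff _).mpr h6)
        have hfer := Int.ModEq.pow_card_sub_one_eq_one hp.out hpa
        calc a ^ (p - 1) * t ≡ 1 * t [ZMOD p] := Int.ModEq.mul_right t hfer
          _ = t := one_mul t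
    exact QuotientGroup.eq.mp hgoal.symm

end Cfsg.Agent.Lib.Helper84
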