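/-
helper84: `p'`-groups of automorphisms of a finite abelian `p`-group with pairwise distinct invariants are abelian of exponent
dividing `p - 1`.
All declarations live in `Cfsg.Agent.Lib.Helper84`.
-/
import Mathlib
import Cfsg.Agent.Lib.Helper84.PStepAut2

set_option autoImplicit false

namespace Cfsg.Agent.Lib.Helper84

/-- An automorphism of `p'`-order of a finite abelian `p`-group that fixes all elements of order dividing `p` is trivial. -/
theorem eq_one_of_fixes_omega {P : Type*} [CommGroup P] [Finite P] {p : ℕ} (hP : IsPGroup p P) (γ : MulAut P)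
    (hγ : (orderOf γ).Coprime p) (hfix : ∀ y : P, y ^ p = 1 → γ y = y) : γ = 1 := by
  have h := fixes_of_stabilizes_chain hP γ hγ (fun k => (powMonoidHom (p ^ k) : P →* P).ker) (by
    ext y
    simp [MonoidHom.mem_ker]) (by
    intro k y hy
    simp only [MonoidHom.mem_ker, powMonoidHom_apply] at hy ⊢
    rw [mul_pow, inv_pow, ← map_pow, hfix (y ^ p ^ k) (by rw [← pow_mul, ← pow_succ]; exact hy), inv_mul_cancel])
  ext y
  obtain ⟨k, hk⟩ := hP y
  exact h k y (by simpa [MonoidHom.mem_ker] using hk)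

/-- In a cyclic group of order `p ^ e`, an element of order dividing `p` is a `p ^ t * c`-th power of the standard generator
for every `t < e`. -/
theorem zmod_eq_gen_pow {p : ℕ} [hp : Fact p.Prime] {e t : ℕ} (ht : t < e) (z : Multiplicative (ZMod (p ^ e)))
    (hz : z ^ p = 1) : ∃ c : ℕ, z = (Multiplicative.ofAdd (1 : ZMod (p ^ e))) ^ (p ^ t * c) := by
  have hord : orderOf (Multiplicative.ofAdd (1 : ZMod (p ^ e))) = p ^ e := by
    rw [orderOf_ofAdd_eq_addOrderOf, ZMod.addOrderOf_one]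
  have hz' : z = (Multiplicative.ofAdd (1 : ZMod (p ^ e))) ^ (Multiplicative.toAdd z).val := by
    rw [← ofAdd_nsmul, nsmul_eq_mul, mul_one, ZMod.natCast_zmod_val, ofAdd_toAdd]
  have h1 : p ^ e ∣ (Multiplicative.toAdd z).val * p := by
    have h0 : orderOf (Multiplicative.ofAdd (1 : ZMod (p ^ e))) ∣ (Multiplicative.toAdd z).val * p := by
      rw [orderOf_dvd_iff_pow_eq_one, pow_mul, ← hz', hz]
    rwa [hord] at h0
  obtain ⟨e', rfl⟩ : ∃ e', e = e' + 1 := ⟨e - 1, by omega⟩
  have h1' : p ^ e' * p ∣ (Multiplicative.toAdd z).val * p := by rw [← pow_succ]; exact h1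
  have h2 : p ^ e' ∣ (Multiplicative.toAdd z).val := Nat.dvd_of_mul_dvd_mul_right hp.out.pos h1'
  have h3 : p ^ t ∣ (Multiplicative.toAdd z).val := (pow_dvd_pow p (by omega)).trans h2
  obtain ⟨c, hc⟩ := h3
  exact ⟨c, by rw [← hc]; exact hz'⟩

section PiZMod

variable {ι : Type*} (p : ℕ) (e : ι → ℕ)

/-- The elements of order dividing `p` whose coordinates at the indices `i` with `e i ≤ t` are trivial. -/
def omegaLayer (t : ℕ) : Subgroup (∀ i, Multiplicative (ZMod (p ^ e i))) where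
  carrier := {x | ∀ i, x i ^ p = 1 ∧ (e i ≤ t → x i = 1)}
  one_mem' := fun i => ⟨one_pow _, fun _ => rfl⟩
  mul_mem' := by
    intro x y hx hy i
    refine ⟨?_, fun h => ?_⟩
    · rw [Pi.mul_apply, mul_pow, (hx i).1, (hy i).1, one_mul]
    · rw [Pi.mul_apply, (hx i).2 h, (hy i).2 h, one_mul]
  inv_mem' := by
    intro x hx i
    refine ⟨?_, fun h => ?_⟩
    · rw [Pi.inv_apply, inv_pow, (hx i).1, inv_one]
    · rw [Pi.inv_apply, (hx i).2 h, inv_one]

theorem mem_omegaLayer (t : ℕ) (x : ∀ i, Multiplicative (ZMod (p ^ e i))) :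
    x ∈ omegaLayer p e t ↔ ∀ i, x i ^ p = 1 ∧ (e i ≤ t → x i = 1) := Iff.rfl

variable [hp : Fact p.Prime]

theorem zmod_pow_eq_one (n k : ℕ) (hnk : n ≤ k) (w : Multiplicative (ZMod (p ^ n))) : w ^ (p ^ k) = 1 := by
  have h1 : w ^ (p ^ n) = 1 := by
    have := pow_card_eq_one' (x := w)
    rwa [Nat.card_eq_fintype_card, Fintype.card_multiplicative, ZMod.card] at this
  obtain ⟨d, rfl⟩ := Nat.exists_eq_add_of_le hnk
  rw [pow_add, pow_mul, h1, one_pow]

/-- Intrinsic description of the layers: `Ω₁ ∩ ℧^t`. -/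
theorem mem_omegaLayer_iff (t : ℕ) (x : ∀ i, Multiplicative (ZMod (p ^ e i))) :
    x ∈ omegaLayer p e t ↔ x ^ p = 1 ∧ ∃ y : (∀ i, Multiplicative (ZMod (p ^ e i))), y ^ (p ^ t) = x := by
  constructor
  · intro hx
    refine ⟨funext fun i => (hx i).1, ?_⟩
    have : ∀ i, ∃ w : Multiplicative (ZMod (p ^ e i)), w ^ (p ^ t) = x i := by
      intro i
      by_cases h : t < e i
      · obtain ⟨c, hc⟩ := zmod_eq_gen_pow h (x i) (hx i).1
        exact ⟨(Multiplicative.ofAdd (1 : ZMod (p ^ e i))) ^ c, by rw [hc, ← pow_mul, mul_comm]⟩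
      · exact ⟨1, by rw [one_pow, (hx i).2 (not_lt.mp h)]⟩
    choose y hy using this
    exact ⟨y, funext hy⟩
  · rintro ⟨hx, y, rfl⟩ i
    refine ⟨congrFun hx i, fun h => ?_⟩
    exact zmod_pow_eq_one p (e i) t h (y i)

omit hp in
theorem omegaLayer_anti (t : ℕ) : omegaLayer p e (t + 1) ≤ omegaLayer p e t :=
  fun _ hx i => ⟨(hx i).1, fun h => (hx i).2 (h.trans (Nat.le_succ t))⟩

/-- Consecutive layers differ by a `p`-step when `e` is injective. -/
theorem omegaLayer_step (he : Function.Injective e) (t : ℕ) :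
    ∃ x : (∀ i, Multiplicative (ZMod (p ^ e i))),
      omegaLayer p e t = omegaLayer p e (t + 1) ⊔ Subgroup.zpowers x ∧ x ^ p ∈ omegaLayer p e (t + 1) := by
  classical
  by_cases h : ∃ i₀, e i₀ = t + 1
  · obtain ⟨i₀, hi₀⟩ := h
    have hne : ∀ i, i ≠ i₀ → e i ≠ t + 1 := fun i hi h => hi (he (h.trans hi₀.symm))
    set g₀ : Multiplicative (ZMod (p ^ e i₀)) := (Multiplicative.ofAdd (1 : ZMod (p ^ e i₀))) ^ (p ^ t) with hg₀
    have hg₀p : g₀ ^ p = 1 := by
      rw [hg₀, ← pow_mul, ← pow_succ]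
      exact zmod_pow_eq_one p (e i₀) (t + 1) hi₀.le _
    have hxmem : Pi.mulSingle i₀ g₀ ∈ omegaLayer p e t := by
      intro i
      by_cases hi : i = i₀
      · subst hi
        rw [Pi.mulSingle_eq_same]
        exact ⟨hg₀p, fun h => by omega⟩
      · rw [Pi.mulSingle_eq_of_ne hi]
        exact ⟨one_pow _, fun _ => rfl⟩
    have hxp : (Pi.mulSingle i₀ g₀ : ∀ i, Multiplicative (ZMod (p ^ e i))) ^ p = 1 :=
      funext fun i => (hxmem i).1
    refine ⟨Pi.mulSingle i₀ g₀, le_antisymm ?_ (sup_le (omegaLayer_anti p e t) ?_), ?_⟩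
    · intro y hy
      obtain ⟨c, hc⟩ := zmod_eq_gen_pow (t := t) (by omega) (y i₀) (hy i₀).1
      have hc' : y i₀ = g₀ ^ c := by rw [hc, hg₀, pow_mul]
      have hy1 : y * ((Pi.mulSingle i₀ g₀ : ∀ i, Multiplicative (ZMod (p ^ e i))) ^ c)⁻¹ ∈ omegaLayer p e (t + 1) := by
        intro i
        by_cases hi : i = i₀
        · subst hi
          have : (y * ((Pi.mulSingle i g₀ : ∀ i, Multiplicative (ZMod (p ^ e i))) ^ c)⁻¹) i = 1 := by
            rw [Pi.mul_apply, Pi.inv_apply, Pi.pow_apply, Pi.mulSingle_eq_same, hc', mul_inv_cancel]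
          rw [this]
          exact ⟨one_pow _, fun _ => rfl⟩
        · have : (y * ((Pi.mulSingle i₀ g₀ : ∀ i, Multiplicative (ZMod (p ^ e i))) ^ c)⁻¹) i = y i := by
            rw [Pi.mul_apply, Pi.inv_apply, Pi.pow_apply, Pi.mulSingle_eq_of_ne hi, one_pow, inv_one, mul_one]
          rw [this]
          refine ⟨(hy i).1, fun h => (hy i).2 ?_⟩
          have := hne i hi
          omega
      have : y = (y * ((Pi.mulSingle i₀ g₀ : ∀ i, Multiplicative (ZMod (p ^ e i))) ^ c)⁻¹) *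
          (Pi.mulSingle i₀ g₀ : ∀ i, Multiplicative (ZMod (p ^ e i))) ^ c := by
        rw [inv_mul_cancel_right]
      rw [this]
      exact Subgroup.mul_mem_sup hy1 (Subgroup.pow_mem _ (Subgroup.mem_zpowers _) c)
    · rw [Subgroup.zpowers_le]; exact hxmem
    · rw [hxp]; exact Subgroup.one_mem _
  · refine ⟨1, ?_, ?_⟩
    · rw [Subgroup.zpowers_one_eq_bot, sup_bot_eq]
      apply le_antisymm _ (omegaLayer_anti p e t)
      intro y hy i
      refine ⟨(hy i).1, fun hi => (hy i).2 ?_⟩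
      have : e i ≠ t + 1 := fun h' => h ⟨i, h'⟩
      omega
    · rw [one_pow]; exact Subgroup.one_mem _

/-- A group of `p'`-automorphisms of a direct product of cyclic `p`-groups of pairwise distinct orders is abelian of
exponent dividing `p - 1`. -/
theorem pi_zmod_aut_comm_pow [Finite ι] (he : Function.Injective e)
    (H : Subgroup (MulAut (∀ i, Multiplicative (ZMod (p ^ e i))))) (hH : (Nat.card H).Coprime p) :
    IsMulCommutative H ∧ ∀ h ∈ H, h ^ (p - 1) = 1 := by
  obtain ⟨N, hN⟩ := (Set.finite_range e).bddAbove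
  have hN' : ∀ i, e i ≤ N := fun i => hN ⟨i, rfl⟩
  have hP : IsPGroup p (∀ i, Multiplicative (ZMod (p ^ e i))) := by
    intro x
    exact ⟨N, funext fun i => zmod_pow_eq_one p (e i) N (hN' i) (x i)⟩
  have hcop : ∀ γ ∈ H, (orderOf γ).Coprime p := by
    intro γ hγ
    have h1 : orderOf γ ∣ Nat.card H := by
      have := orderOf_dvd_natCard (⟨γ, hγ⟩ : H)
      rwa [Subgroup.orderOf_mk] at this
    exact Nat.Coprime.coprime_dvd_left h1 hH
  have hinv : ∀ h ∈ H, ∀ k, ∀ y ∈ omegaLayer p e (N - k), h y ∈ omegaLayer p e (N - k) := by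
    intro h _ k y hy
    rw [mem_omegaLayer_iff] at hy ⊢
    obtain ⟨hy1, w, hw⟩ := hy
    exact ⟨by rw [← map_pow, hy1, map_one], h w, by rw [← map_pow, hw]⟩
  obtain ⟨h1, h2⟩ := comm_and_pow_on_pstep_chain hP H hH (fun k => omegaLayer p e (N - k)) (by
      show omegaLayer p e (N - 0) = ⊥
      rw [eq_bot_iff]
      intro x hx
      rw [Subgroup.mem_bot]
      exact funext fun i => (hx i).2 (by have := hN' i; omega))
    (fun k => Subgroup.normal_of_isMulCommutative _) hinv (by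
      intro k
      show ∃ x, omegaLayer p e (N - (k + 1)) = omegaLayer p e (N - k) ⊔ Subgroup.zpowers x ∧
        x ^ p ∈ omegaLayer p e (N - k)
      by_cases hk : k < N
      · have : N - k = N - (k + 1) + 1 := by omega
        rw [this]
        exact omegaLayer_step p e he _
      · have h1 : N - (k + 1) = 0 := by omega
        have h2 : N - k = 0 := by omega
        rw [h1, h2]
        exact ⟨1, by rw [Subgroup.zpowers_one_eq_bot, sup_bot_eq], by rw [one_pow]; exact Subgroup.one_mem _⟩)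
  have hom : ∀ y : (∀ i, Multiplicative (ZMod (p ^ e i))), y ^ p = 1 → y ∈ omegaLayer p e (N - N) := by
    intro y hy
    rw [Nat.sub_self, mem_omegaLayer_iff]
    exact ⟨hy, y, by rw [pow_zero, pow_one]⟩
  constructor
  · refine ⟨⟨fun a b => Subtype.ext ?_⟩⟩
    show a.1 * b.1 = b.1 * a.1
    have hγ : (b.1 * a.1)⁻¹ * (a.1 * b.1) ∈ H := H.mul_mem (H.inv_mem (H.mul_mem b.2 a.2)) (H.mul_mem a.2 b.2)
    have := eq_one_of_fixes_omega hP _ (hcop _ hγ) (by
      intro y hy
      have h3 := h1 a.1 a.2 b.1 b.2 N y (hom y hy)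
      show (b.1 * a.1)⁻¹ ((a.1 * b.1) y) = y
      rw [h3, MulAut.inv_apply_self])
    exact (inv_mul_eq_one.mp this).symm
  · intro h hh
    exact eq_one_of_fixes_omega hP _ (hcop _ (H.pow_mem hh _)) (fun y hy => h2 h hh N y (hom y hy))

end PiZMod

end Cfsg.Agent.Lib.Helper84
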