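/-
helper84: a finite abelian `p`-group that is not of the form `(C_{p^n} × C_{p^n}) × H` has all its `p'`-groups of automorphisms
abelian of exponent dividing `p - 1`.
All declarations live in `Cfsg.Agent.Lib.Helper84`.
-/
import Mathlib
import Cfsg.Agent.Lib.Helper84.AbelianPAut

set_option autoImplicit false

namespace Cfsg.Agent.Lib.Helper84

/-- Splitting two coordinates off a product. -/
def piSplitTwo {ι : Type*} [DecidableEq ι] (M : ι → Type*) [∀ k, Mul (M k)] (i j : ι) (hij : i ≠ j) :
    (∀ k, M k) ≃* (M i × M j) × (∀ k : {k // k ≠ i ∧ k ≠ j}, M k) where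
  toFun x := ((x i, x j), fun k => x k.1)
  invFun y := fun k => if h : k = i then h ▸ y.1.1 else if h' : k = j then h' ▸ y.1.2 else y.2 ⟨k, h, h'⟩
  left_inv x := by
    funext k
    by_cases h : k = i
    · subst h; simp
    · by_cases h' : k = j
      · subst h'; simp [h]
      · simp [h, h']
  right_inv y := by
    refine Prod.ext (Prod.ext ?_ ?_) ?_
    · simp
    · simp [hij.symm]
    · funext k
      simp [k.2.1, k.2.2]
  map_mul' x y := rfl

open scoped IsMulCommutative in
/-- A finite abelian `p`-group that is not of the form `(C_{p^n} × C_{p^n}) × H` with `n > 0` has all its `p'`-groups of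
automorphisms abelian of exponent dividing `p - 1`. -/
theorem abelian_p_aut_comm_pow {P : Type*} [Group P] [IsMulCommutative P] [Finite P] {p : ℕ} [hp : Fact p.Prime]
    (hP : IsPGroup p P)
    (hno : ¬ ∃ (n : ℕ) (H : Type) (_ : CommGroup H), 0 < n ∧
      Nonempty (P ≃* (Multiplicative (ZMod (p ^ n)) × Multiplicative (ZMod (p ^ n))) × H))
    (H : Subgroup (MulAut P)) (hH : (Nat.card H).Coprime p) : IsMulCommutative H ∧ ∀ h ∈ H, h ^ (p - 1) = 1 := by
  classical
  obtain ⟨ι, _, n, hn, ⟨ε⟩⟩ := CommGroup.equiv_prod_multiplicative_zmod_of_finite P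
  have hne : ∀ i, ∃ k, n i = p ^ k := by
    intro i
    have h1 : orderOf (ε.symm (Pi.mulSingle i (Multiplicative.ofAdd (1 : ZMod (n i))))) = n i := by
      rw [MulEquiv.orderOf_eq]
      have h2 := orderOf_injective (MonoidHom.mulSingle (fun j => Multiplicative (ZMod (n j))) i)
        (by
          intro a b hab
          rw [MonoidHom.mulSingle_apply, MonoidHom.mulSingle_apply] at hab
          exact Pi.mulSingle_injective i hab) (Multiplicative.ofAdd (1 : ZMod (n i)))
      rw [MonoidHom.mulSingle_apply] at h2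
      rw [h2, orderOf_ofAdd_eq_addOrderOf, ZMod.addOrderOf_one]
    obtain ⟨k, hk⟩ := (IsPGroup.iff_orderOf.mp hP) (ε.symm (Pi.mulSingle i (Multiplicative.ofAdd (1 : ZMod (n i)))))
    exact ⟨k, by rw [← h1, hk]⟩
  choose e he using hne
  obtain rfl : n = fun i => p ^ e i := funext he
  have hepos : ∀ i, 0 < e i := by
    intro i
    rcases Nat.eq_zero_or_pos (e i) with h | h
    · have := hn i
      simp only [h, pow_zero, lt_self_iff_false] at this
    · exact h
  have hinj : Function.Injective e := by
    intro i j hij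
    by_contra hne
    apply hno
    have cj : Multiplicative (ZMod (p ^ e j)) ≃* Multiplicative (ZMod (p ^ e i)) :=
      hij ▸ MulEquiv.refl (Multiplicative (ZMod (p ^ e j)))
    exact ⟨e i, ∀ k : {k // k ≠ i ∧ k ≠ j}, Multiplicative (ZMod (p ^ e k.1)), inferInstance, hepos i,
      ⟨ε.trans ((piSplitTwo (fun k => Multiplicative (ZMod (p ^ e k))) i j hne).trans
        (MulEquiv.prodCongr (MulEquiv.prodCongr (MulEquiv.refl _) cj) (MulEquiv.refl _)))⟩⟩
  -- transport `H`
  have hcard : Nat.card (H.map (MulAut.congr ε).toMonoidHom) = Nat.card H :=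
    Nat.card_congr (H.equivMapOfInjective _ (MulAut.congr ε).injective).symm.toEquiv
  obtain ⟨h1, h2⟩ := pi_zmod_aut_comm_pow p e hinj (H.map (MulAut.congr ε).toMonoidHom) (by rw [hcard]; exact hH)
  constructor
  · refine ⟨⟨fun a b => Subtype.ext ?_⟩⟩
    show a.1 * b.1 = b.1 * a.1
    have := h1.is_comm.comm ⟨MulAut.congr ε a.1, Subgroup.mem_map_of_mem _ a.2⟩
      ⟨MulAut.congr ε b.1, Subgroup.mem_map_of_mem _ b.2⟩
    have h3 := congrArg Subtype.val this
    simp only [Subgroup.coe_mul] at h3
    rw [← map_mul, ← map_mul] at h3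
    exact (MulAut.congr ε).injective h3
  · intro h hh
    have h3 := h2 (MulAut.congr ε h) (Subgroup.mem_map_of_mem _ hh)
    rw [← map_pow] at h3
    exact (MulAut.congr ε).injective (by rw [h3, map_one])

end Cfsg.Agent.Lib.Helper84
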