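/-
helper84: an abelian group of the form `(C × C) × H` has `p'`-groups of automorphisms that are not abelian of exponent
dividing `p - 1` (an element of order `3` when `p = 2`, a nonabelian `2`-group when `p` is odd).
All declarations live in `Cfsg.Agent.Lib.Helper84`.
-/
import Mathlib

set_option autoImplicit false

namespace Cfsg.Agent.Lib.Helper84

section

variable (C H : Type*) [CommGroup C] [CommGroup H]

/-- The automorphism `(a, b, x) ↦ (b⁻¹, a b⁻¹, x)` of order dividing three. -/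
def autThree : MulAut ((C × C) × H) where
  toFun z := ((z.1.2⁻¹, z.1.1 * z.1.2⁻¹), z.2)
  invFun z := ((z.1.1⁻¹ * z.1.2, z.1.1⁻¹), z.2)
  left_inv z := by
    refine Prod.ext (Prod.ext ?_ ?_) rfl
    · simp
    · simp
  right_inv z := by
    refine Prod.ext (Prod.ext ?_ ?_) rfl
    · simp
    · simp
  map_mul' z w := by
    refine Prod.ext (Prod.ext ?_ ?_) rfl
    · show (z.1.2 * w.1.2)⁻¹ = z.1.2⁻¹ * w.1.2⁻¹
      rw [mul_inv]
    · show z.1.1 * w.1.1 * (z.1.2 * w.1.2)⁻¹ = (z.1.1 * z.1.2⁻¹) * (w.1.1 * w.1.2⁻¹)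
      rw [mul_inv, mul_mul_mul_comm]

theorem autThree_apply (z : (C × C) × H) : autThree C H z = ((z.1.2⁻¹, z.1.1 * z.1.2⁻¹), z.2) := rfl

theorem autThree_pow_three : autThree C H ^ 3 = 1 := by
  ext z
  · simp [pow_succ, autThree_apply]
  · simp [pow_succ, autThree_apply]
  · simp [pow_succ, autThree_apply]

/-- The swap `(a, b, x) ↦ (b, a, x)`. -/
def autSwap : MulAut ((C × C) × H) := MulEquiv.prodCongr MulEquiv.prodComm (MulEquiv.refl H)

theorem autSwap_apply (z : (C × C) × H) : autSwap C H z = ((z.1.2, z.1.1), z.2) := rfl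

/-- Product automorphisms `(a, b, x) ↦ (f a, g b, x)`. -/
def autProd : MulAut C × MulAut C →* MulAut ((C × C) × H) where
  toFun fg := MulEquiv.prodCongr (MulEquiv.prodCongr fg.1 fg.2) (MulEquiv.refl H)
  map_one' := rfl
  map_mul' _ _ := rfl

theorem autProd_apply (fg : MulAut C × MulAut C) (z : (C × C) × H) :
    autProd C H fg z = ((fg.1 z.1.1, fg.2 z.1.2), z.2) := rfl

end

variable {C H : Type*} [CommGroup C] [CommGroup H]

/-- case `p = 2` -/
theorem not_aut_comm_pow_two [Finite C] [Finite H] (g : C) (hg : g ≠ 1) :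
    ¬ ∀ K : Subgroup (MulAut ((C × C) × H)), (Nat.card K).Coprime 2 →
      IsMulCommutative K ∧ ∀ h ∈ K, h ^ (2 - 1) = 1 := by
  intro hyp
  have h1 : orderOf (autThree C H) ∣ 3 := orderOf_dvd_of_pow_eq_one (autThree_pow_three C H)
  have h2 : (Nat.card (Subgroup.zpowers (autThree C H))).Coprime 2 := by
    rw [Nat.card_zpowers]
    exact Nat.Coprime.coprime_dvd_left h1 (by norm_num)
  have h3 := (hyp _ h2).2 _ (Subgroup.mem_zpowers _)
  rw [show 2 - 1 = 1 from rfl, pow_one] at h3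
  have h4 := congrArg (fun f : MulAut ((C × C) × H) => f ((g, 1), 1)) h3
  simp only [autThree_apply, MulAut.one_apply] at h4
  have h5 := congrArg (fun z : (C × C) × H => z.1.1) h4
  simp only [inv_one] at h5
  exact hg h5.symm

/-- case `p` odd -/
theorem not_aut_comm_pow_odd [Finite C] [Finite H] (p : ℕ) [hp : Fact p.Prime] (hp2 : p ≠ 2) (g : C) (hg : g ^ 2 ≠ 1) :
    ¬ ∀ K : Subgroup (MulAut ((C × C) × H)), (Nat.card K).Coprime p →
      IsMulCommutative K ∧ ∀ h ∈ K, h ^ (p - 1) = 1 := by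
  intro hyp
  have hinv2 : (MulEquiv.inv C : MulAut C) ^ 2 = 1 := by
    ext a
    simp [pow_succ]
  have hZ : ∀ f ∈ Subgroup.zpowers (MulEquiv.inv C : MulAut C), f ^ 2 = 1 := by
    rintro f ⟨k, rfl⟩
    rw [← zpow_natCast, ← zpow_mul, mul_comm, zpow_mul, zpow_natCast, hinv2, one_zpow]
  have hσ2 : autSwap C H ^ 2 = 1 := by
    ext z <;> simp [pow_succ, autSwap_apply]
  have hT : IsPGroup 2 (Subgroup.zpowers (autSwap C H)) := by
    rintro ⟨f, k, rfl⟩
    refine ⟨1, Subtype.ext ?_⟩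
    show (autSwap C H ^ k) ^ (2 ^ 1) = 1
    rw [pow_one, ← zpow_natCast, ← zpow_mul, mul_comm, zpow_mul, zpow_natCast, hσ2, one_zpow]
  have hE : IsPGroup 2 (((Subgroup.zpowers (MulEquiv.inv C : MulAut C)).prod
      (Subgroup.zpowers (MulEquiv.inv C : MulAut C))).map (autProd C H)) := by
    apply IsPGroup.map
    rintro ⟨⟨f1, f2⟩, hf⟩
    rw [Subgroup.mem_prod] at hf
    refine ⟨1, Subtype.ext ?_⟩
    show (f1, f2) ^ (2 ^ 1) = 1
    rw [pow_one, Prod.pow_mk, hZ f1 hf.1, hZ f2 hf.2]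
    rfl
  have hconj : ∀ fg : MulAut C × MulAut C,
      autSwap C H * autProd C H fg * (autSwap C H)⁻¹ = autProd C H (fg.2, fg.1) := by
    intro fg
    rw [mul_inv_eq_iff_eq_mul]
    ext z <;> rfl
  have hconj' : ∀ fg : MulAut C × MulAut C,
      autProd C H fg = (autSwap C H)⁻¹ * autProd C H (fg.2, fg.1) * autSwap C H := by
    intro fg
    rw [← hconj fg]
    group
  have hnorm : Subgroup.zpowers (autSwap C H) ≤ Subgroup.normalizer
      ((((Subgroup.zpowers (MulEquiv.inv C : MulAut C)).prod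
      (Subgroup.zpowers (MulEquiv.inv C : MulAut C))).map (autProd C H) : Subgroup _) : Set _) := by
    rw [Subgroup.zpowers_le, Subgroup.mem_normalizer_iff]
    intro h
    constructor
    · rintro ⟨fg, hfg, rfl⟩
      rw [hconj]
      rw [SetLike.mem_coe, Subgroup.mem_prod] at hfg
      exact ⟨(fg.2, fg.1), Subgroup.mem_prod.mpr ⟨hfg.2, hfg.1⟩, rfl⟩
    · rintro ⟨fg, hfg, hfgh⟩
      rw [SetLike.mem_coe, Subgroup.mem_prod] at hfg
      refine ⟨(fg.2, fg.1), Subgroup.mem_prod.mpr ⟨hfg.2, hfg.1⟩, ?_⟩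
      rw [hconj' (fg.2, fg.1), hfgh]
      group
  have hK := IsPGroup.to_sup_of_normal_right' hT hE hnorm
  obtain ⟨m, hm⟩ := hK.exists_card_eq
  have hcop : (Nat.card ((Subgroup.zpowers (autSwap C H) ⊔
      ((Subgroup.zpowers (MulEquiv.inv C : MulAut C)).prod
      (Subgroup.zpowers (MulEquiv.inv C : MulAut C))).map (autProd C H) : Subgroup _))).Coprime p := by
    rw [hm]
    apply Nat.Coprime.pow_left
    rw [Nat.coprime_primes Nat.prime_two hp.out]
    exact fun h => hp2 h.symm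
  have hcomm := (hyp _ hcop).1
  have hσ : autSwap C H ∈ (Subgroup.zpowers (autSwap C H) ⊔
      ((Subgroup.zpowers (MulEquiv.inv C : MulAut C)).prod
      (Subgroup.zpowers (MulEquiv.inv C : MulAut C))).map (autProd C H) : Subgroup _) :=
    Subgroup.mem_sup_left (Subgroup.mem_zpowers _)
  have hd : autProd C H ((MulEquiv.inv C : MulAut C), 1) ∈ (Subgroup.zpowers (autSwap C H) ⊔
      ((Subgroup.zpowers (MulEquiv.inv C : MulAut C)).prod
      (Subgroup.zpowers (MulEquiv.inv C : MulAut C))).map (autProd C H) : Subgroup _) :=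
    Subgroup.mem_sup_right ⟨_, Subgroup.mem_prod.mpr ⟨Subgroup.mem_zpowers _, Subgroup.one_mem _⟩, rfl⟩
  have h1 := hcomm.is_comm.comm ⟨_, hσ⟩ ⟨_, hd⟩
  have h2 := congrArg Subtype.val h1
  simp only [Subgroup.coe_mul] at h2
  have h3 := congrArg (fun f : MulAut ((C × C) × H) => f ((g, 1), 1)) h2
  simp only [MulAut.mul_apply, autSwap_apply, autProd_apply, MulEquiv.inv_apply, MulAut.one_apply] at h3
  have h4 := congrArg (fun z : (C × C) × H => z.1.2) h3
  simp only at h4
  apply hg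
  rw [pow_two]
  exact (inv_eq_iff_mul_eq_one.mp h4)
  
end Cfsg.Agent.Lib.Helper84
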