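/-
helper84: ASCHSP-[UNI] `realisable_of_fixes_symplectic_unitary`: an absolutely irreducible group of isometries of a
symplectic form fixing a unitary form is realisable over a proper subfield.  Direct application of helper13's
FORMKIT (`Helper13.FormKit.realisable_of_fixes_symplectic_unitary`).
-/
import Mathlib
import Cfsg.Prelude.Def_GeometricClasses
import Cfsg.Agent.Lib.Helper99.AschDefs
import Cfsg.Agent.Lib.Helper23.AschSpDefs
import Cfsg.Agent.Lib.Helper13.FormKitBilUni

set_option autoImplicit false
set_option linter.unusedSectionVars false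

namespace Cfsg.Agent.Lib.Helper23.AschSp

open Cfsg Cfsg.Geo Cfsg.Agent.Lib.Helper99.Asch
open scoped MatrixGroups Matrix Kronecker

variable {n m : ℕ} {F : Type*} [Field F] [Fintype F] {f : (Fin n → F) → (Fin n → F) → F}

/-- ASCHSP-[UNI] -/
theorem realisable_of_fixes_symplectic_unitary (hf : IsSymplecticForm f) (P : Subgroup (GL (Fin n) F))
    (hP : ActsAbsolutelyIrreducibly (matrixSet P)) (hPf : P ≤ isoGL f)
    (σ : F ≃+* F) (g : (Fin n → F) → (Fin n → F) → F) (hg : IsUnitaryForm σ g)
    (hfix : FixesForm (matrixSet P) g) :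
    ∃ F₀ : Subfield F, F₀ ≠ ⊤ ∧ RealisableOver F₀ (matrixSet P) := by
  have hbfix : FixesForm (matrixSet P) f := by
    rintro s ⟨x, hx, rfl⟩ u v
    exact mem_isoGL.mp (hPf hx) u v
  exact Cfsg.Agent.Lib.Helper13.FormKit.realisable_of_fixes_symplectic_unitary P hP hf hbfix hg hfix

end Cfsg.Agent.Lib.Helper23.AschSp
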