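import Mathlib
import Cfsg.Prelude.Def_GeometricClasses
import Cfsg.Prelude.Def_ClassicalGeometry
import Cfsg.Agent.Lib.Helper37.BHRSU.Defs
import Cfsg.Agent.Lib.Helper86.BHRSU6.Defs
import Cfsg.Agent.Lib.Helper73.Bhrsu6F3Dag

/-!
# Project BHRSU6 (helper86, S5802): a kit for the modules [F3-STRUCT], [F3-NORM]  (helper84)

`F = F_4`, `f = hermForm 6 F 2`, `dag` the adjoint, `K` an adjoint-closed cubic field of matrices,
`K₀` its self-adjoint elements.
-/

set_option autoImplicit false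
set_option linter.unusedSectionVars false

namespace Cfsg.Agent.Lib.Helper84.Bhrsu6

open Cfsg Cfsg.Geo Cfsg.Agent.Lib.Helper86.BHRSU6 Cfsg.Agent.Lib.Helper73.Bhrsu6Dag
open scoped MatrixGroups Matrix

variable {F : Type*} [Field F] [Fintype F]

/-! ## the form -/

theorem hf_add_left (u u' v : Fin 6 → F) :
    hermForm 6 F 2 (u + u') v = hermForm 6 F 2 u v + hermForm 6 F 2 u' v := by
  unfold hermForm
  rw [← Finset.sum_add_distrib]
  apply Finset.sum_congr rfl
  intro i _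
  rw [Pi.add_apply, add_mul]

theorem hf_smul_left (c : F) (u v : Fin 6 → F) :
    hermForm 6 F 2 (c • u) v = c * hermForm 6 F 2 u v := by
  unfold hermForm
  rw [Finset.mul_sum]
  apply Finset.sum_congr rfl
  intro i _
  rw [Pi.smul_apply, smul_eq_mul, mul_assoc]

theorem hf_zero_left (v : Fin 6 → F) : hermForm 6 F 2 0 v = 0 := by
  unfold hermForm
  simp

theorem hf_herm (hF : Fintype.card F = 4) (u v : Fin 6 → F) :
    hermForm 6 F 2 v u = hermForm 6 F 2 u v ^ 2 := by
  have := charP_two hF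
  have : Fact (Nat.Prime 2) := ⟨Nat.prime_two⟩
  unfold hermForm
  rw [sum_pow_char 2]
  apply Finset.sum_congr rfl
  intro i _
  rw [mul_pow, ← pow_mul, pow_four hF, mul_comm]

theorem hf_add_right (hF : Fintype.card F = 4) (u v v' : Fin 6 → F) :
    hermForm 6 F 2 u (v + v') = hermForm 6 F 2 u v + hermForm 6 F 2 u v' := by
  have := charP_two hF
  have : Fact (Nat.Prime 2) := ⟨Nat.prime_two⟩
  unfold hermForm
  rw [← Finset.sum_add_distrib]
  apply Finset.sum_congr rfl
  intro i _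
  rw [Pi.add_apply, add_pow_char, mul_add]

theorem hf_zero_right (v : Fin 6 → F) : hermForm 6 F 2 v 0 = 0 := by
  unfold hermForm
  simp

/-- the adjoint in the other slot -/
theorem hf_adj_right (hF : Fintype.card F = 4) (k : Matrix (Fin 6) (Fin 6) F) (u v : Fin 6 → F) :
    hermForm 6 F 2 u (k *ᵥ v) = hermForm 6 F 2 (dag k *ᵥ u) v := by
  rw [hermForm_mulVec_dag hF, dag_dag hF]

/-! ## algebra of `dag` -/

theorem dag_add (hF : Fintype.card F = 4) (a b : Matrix (Fin 6) (Fin 6) F) :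
    dag (a + b) = dag a + dag b := by
  have := charP_two hF
  have : Fact (Nat.Prime 2) := ⟨Nat.prime_two⟩
  ext i j
  simp only [dag, Matrix.map_apply, Matrix.transpose_apply, Matrix.add_apply]
  rw [add_pow_char]

theorem dag_zero : dag (0 : Matrix (Fin 6) (Fin 6) F) = 0 := by
  ext i j
  simp [dag]

theorem dag_one : dag (1 : Matrix (Fin 6) (Fin 6) F) = 1 := by
  ext i j
  simp only [dag, Matrix.map_apply, Matrix.transpose_apply, Matrix.one_apply]
  by_cases h : i = j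
  · subst h; simp
  · rw [if_neg (Ne.symm h), if_neg h]; simp

theorem dag_smul (c : F) (a : Matrix (Fin 6) (Fin 6) F) : dag (c • a) = c ^ 2 • dag a := by
  ext i j
  simp only [dag, Matrix.map_apply, Matrix.transpose_apply, Matrix.smul_apply, smul_eq_mul, mul_pow]

theorem dag_mul (hF : Fintype.card F = 4) (a b : Matrix (Fin 6) (Fin 6) F) :
    dag (a * b) = dag b * dag a := by
  have := charP_two hF
  have : Fact (Nat.Prime 2) := ⟨Nat.prime_two⟩
  ext i j
  simp only [dag, Matrix.map_apply, Matrix.transpose_apply, Matrix.mul_apply]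
  rw [sum_pow_char 2]
  apply Finset.sum_congr rfl
  intro l _
  rw [mul_pow, mul_comm]

theorem dag_sum (hF : Fintype.card F = 4) {ι : Type*} (s : Finset ι)
    (a : ι → Matrix (Fin 6) (Fin 6) F) : dag (∑ i ∈ s, a i) = ∑ i ∈ s, dag (a i) := by
  classical
  induction s using Finset.induction_on with
  | empty => simp [dag_zero]
  | insert i s hi ih => rw [Finset.sum_insert hi, Finset.sum_insert hi, dag_add hF, ih]

/-! ## a primitive cube root of unity -/

theorem exists_omega (hF : Fintype.card F = 4) : ∃ ω : F, ω ^ 2 + ω + 1 = 0 := by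
  have h2 : 2 < Fintype.card F := by rw [hF]; norm_num
  obtain ⟨a, b, c, hab, hac, hbc⟩ := Fintype.two_lt_card_iff.1 h2
  obtain ⟨w, hw0, hw1⟩ : ∃ w : F, w ≠ 0 ∧ w ≠ 1 := by
    by_cases ha0 : a = 0
    · by_cases hb1 : b = 1
      · refine ⟨c, ?_, ?_⟩
        · intro h; exact hac (ha0.trans h.symm)
        · intro h; exact hbc (hb1.trans h.symm)
      · refine ⟨b, ?_, hb1⟩
        intro h; exact hab (ha0.trans h.symm)
    · by_cases ha1 : a = 1
      · by_cases hb0 : b = 0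
        · refine ⟨c, ?_, ?_⟩
          · intro h; exact hbc (hb0.trans h.symm)
          · intro h; exact hac (ha1.trans h.symm)
        · refine ⟨b, hb0, ?_⟩
          intro h; exact hab (ha1.trans h.symm)
      · exact ⟨a, ha0, ha1⟩
  refine ⟨w, ?_⟩
  have h4 := pow_four hF w
  have h2 := two_eq_zero hF
  have e : w * (w - 1) * (w ^ 2 + w + 1) = 0 := by
    have : w * (w - 1) * (w ^ 2 + w + 1) = w ^ 4 - w := by ring
    rw [this, h4, sub_self]
  rcases mul_eq_zero.1 e with h | h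
  · rcases mul_eq_zero.1 h with h | h
    · exact absurd h hw0
    · exact absurd (sub_eq_zero.1 h) hw1
  · exact h


/-! ## the self-adjoint elements of an adjoint-closed field -/

/-- `k = k₁ + ω k₂` with `k₁`, `k₂` self-adjoint -/
theorem exists_decomp (hF : Fintype.card F = 4) (ω : F) (hω : ω ^ 2 + ω + 1 = 0)
    (K : Subalgebra F (Matrix (Fin 6) (Fin 6) F))
    (hadj : IsAdjointClosedFor (hermForm 6 F 2) K) (k : Matrix (Fin 6) (Fin 6) F) (hk : k ∈ K) :
    ∃ k₁ ∈ K, ∃ k₂ ∈ K, dag k₁ = k₁ ∧ dag k₂ = k₂ ∧ k = k₁ + ω • k₂ := by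
  have h2 := two_eq_zero hF
  have hdk : dag k ∈ K := dag_mem hF K hadj hk
  have hω4 : ω ^ 4 = ω := pow_four hF ω
  refine ⟨ω ^ 2 • k + ω • dag k, K.add_mem (K.smul_mem hk _) (K.smul_mem hdk _),
    k + dag k, K.add_mem hk hdk, ?_, ?_, ?_⟩
  · rw [dag_add hF, dag_smul, dag_smul, dag_dag hF, ← pow_mul, hω4, add_comm]
  · rw [dag_add hF, dag_dag hF, add_comm]
  · have e1 : ω ^ 2 + ω = 1 := by
      have : ω ^ 2 + ω = -1 := by linear_combination hω
      rw [this]
      linear_combination (-1 : F) * h2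
    have e2 : ω + ω = 0 := by linear_combination ω * h2
    calc k = (ω ^ 2 + ω) • k + (ω + ω) • dag k := by rw [e1, e2, one_smul, zero_smul, add_zero]
      _ = ω ^ 2 • k + ω • dag k + ω • (k + dag k) := by
        rw [add_smul, add_smul, smul_add]; abel

/-- a basis of `K` over `F` consisting of self-adjoint elements -/
theorem exists_K0_basis (hF : Fintype.card F = 4)
    (K : Subalgebra F (Matrix (Fin 6) (Fin 6) F)) (hK : IsFieldSubalgebra 3 K)
    (hadj : IsAdjointClosedFor (hermForm 6 F 2) K) :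
    ∃ kb : Fin 3 → Matrix (Fin 6) (Fin 6) F, (∀ i, kb i ∈ K) ∧ (∀ i, dag (kb i) = kb i) ∧
      LinearIndependent F kb ∧ (∀ k ∈ K, ∃ c : Fin 3 → F, k = ∑ i, c i • kb i) := by
  classical
  obtain ⟨ω, hω⟩ := exists_omega hF
  set S : Set K := {k : K | dag (k : Matrix (Fin 6) (Fin 6) F) = k} with hS
  have hspan : Submodule.span F S = ⊤ := by
    rw [eq_top_iff]
    intro k _
    obtain ⟨k₁, hk₁, k₂, hk₂, hd₁, hd₂, hk⟩ := exists_decomp hF ω hω K hadj k k.2
    have e : k = (⟨k₁, hk₁⟩ : K) + ω • (⟨k₂, hk₂⟩ : K) := by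
      apply Subtype.ext
      simpa using hk
    rw [e]
    apply Submodule.add_mem
    · exact Submodule.subset_span (show (⟨k₁, hk₁⟩ : K) ∈ S from hd₁)
    · exact Submodule.smul_mem _ _ (Submodule.subset_span (show (⟨k₂, hk₂⟩ : K) ∈ S from hd₂))
  obtain ⟨b, hbS, hbspan, hbli⟩ := exists_linearIndependent F S
  have hbtop : ⊤ ≤ Submodule.span F (Set.range (Subtype.val : b → K)) := by
    rw [Subtype.range_coe, hbspan, hspan]
  set B : Module.Basis b F K := Module.Basis.mk hbli hbtop with hB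
  have hcard : Nat.card b = 3 := by
    rw [← Module.finrank_eq_nat_card_basis B, hK.finrank_eq]
  have : Finite b := Nat.finite_of_card_ne_zero (by rw [hcard]; norm_num)
  set e : b ≃ Fin 3 := Finite.equivFinOfCardEq hcard with he
  set B' : Module.Basis (Fin 3) F K := B.reindex e with hB'
  refine ⟨fun i => ((B' i : K) : Matrix (Fin 6) (Fin 6) F), fun i => (B' i).2, ?_, ?_, ?_⟩
  · intro i
    have h1 : B' i = ((e.symm i : b) : K) := by
      rw [hB', Module.Basis.reindex_apply, hB, Module.Basis.mk_apply]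
    show dag ((B' i : K) : Matrix (Fin 6) (Fin 6) F) = ((B' i : K) : Matrix (Fin 6) (Fin 6) F)
    rw [h1]
    exact hbS (e.symm i).2
  · have h1 : LinearIndependent F (fun i => B' i) := B'.linearIndependent
    have h2 := h1.map' K.val.toLinearMap (by
      rw [LinearMap.ker_eq_bot]
      exact Subtype.val_injective)
    exact h2
  · intro k hk
    have h1 : ∑ i, (B'.repr ⟨k, hk⟩ i) • B' i = ⟨k, hk⟩ := B'.sum_repr ⟨k, hk⟩
    generalize (B'.repr ⟨k, hk⟩ : Fin 3 → F) = c at h1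
    refine ⟨c, ?_⟩
    have h2 := congrArg (fun z : K => (z : Matrix (Fin 6) (Fin 6) F)) h1
    simp only at h2
    rw [← h2]
    simp


/-- `dag` of a combination of self-adjoint matrices -/
theorem dag_sum_smul (hF : Fintype.card F = 4) (kb : Fin 3 → Matrix (Fin 6) (Fin 6) F)
    (hd : ∀ i, dag (kb i) = kb i) (c : Fin 3 → F) :
    dag (∑ i, c i • kb i) = ∑ i, c i ^ 2 • kb i := by
  rw [dag_sum hF]
  apply Finset.sum_congr rfl
  intro i _
  rw [dag_smul, hd]

/-- the coefficients of a self-adjoint element in a self-adjoint basis lie in `{0, 1}` -/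
theorem coeff_zero_or_one (hF : Fintype.card F = 4) (kb : Fin 3 → Matrix (Fin 6) (Fin 6) F)
    (hd : ∀ i, dag (kb i) = kb i) (hli : LinearIndependent F kb) (c : Fin 3 → F)
    (h : dag (∑ i, c i • kb i) = ∑ i, c i • kb i) : ∀ i, c i = 0 ∨ c i = 1 := by
  rw [dag_sum_smul hF kb hd] at h
  have h0 : ∑ i, (c i ^ 2 - c i) • kb i = 0 := by
    simp only [sub_smul, Finset.sum_sub_distrib]
    rw [h, sub_self]
  intro i
  have h1 := Fintype.linearIndependent_iff.1 hli _ h0 i
  have h2 : c i * (c i - 1) = 0 := by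
    rw [← h1]; ring
  rcases mul_eq_zero.1 h2 with h3 | h3
  · exact Or.inl h3
  · exact Or.inr (sub_eq_zero.1 h3)

theorem dag_sum_of_zero_or_one (hF : Fintype.card F = 4) (kb : Fin 3 → Matrix (Fin 6) (Fin 6) F)
    (hd : ∀ i, dag (kb i) = kb i) (c : Fin 3 → F) (hc : ∀ i, c i = 0 ∨ c i = 1) :
    dag (∑ i, c i • kb i) = ∑ i, c i • kb i := by
  rw [dag_sum_smul hF kb hd]
  apply Finset.sum_congr rfl
  intro i _
  rcases hc i with h | h <;> rw [h] <;> simp

/-! ## hyperbolic pairs -/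

section hyp

variable (hF : Fintype.card F = 4) (K : Subalgebra F (Matrix (Fin 6) (Fin 6) F))
  (hK : IsFieldSubalgebra 3 K) (hadj : IsAdjointClosedFor (hermForm 6 F 2) K)
  (x y : Fin 6 → F) (hxy : IsHypPair K x y)

include hF in
/-- `τ(k)² = τ(k)` for self-adjoint `k` -/
theorem tau_sq (hxy : IsHypPair K x y) (k : Matrix (Fin 6) (Fin 6) F) (hk : k ∈ K)
    (hd : dag k = k) :
    hermForm 6 F 2 (k *ᵥ x) y ^ 2 = hermForm 6 F 2 (k *ᵥ x) y := by
  rw [← hf_herm hF, hf_adj_right hF, hd, ← hxy.symm k hk]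

include hF in
theorem tau_zero_or_one (hxy : IsHypPair K x y) (k : Matrix (Fin 6) (Fin 6) F) (hk : k ∈ K)
    (hd : dag k = k) :
    hermForm 6 F 2 (k *ᵥ x) y = 0 ∨ hermForm 6 F 2 (k *ᵥ x) y = 1 := by
  have h := tau_sq hF K x y hxy k hk hd
  have h2 : hermForm 6 F 2 (k *ᵥ x) y * (hermForm 6 F 2 (k *ᵥ x) y - 1) = 0 := by
    rw [mul_sub, mul_one, ← sq, h, sub_self]
  rcases mul_eq_zero.1 h2 with h3 | h3
  · exact Or.inl h3
  · exact Or.inr (sub_eq_zero.1 h3)

include hF in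
/-- the form on `V0` -/
theorem form_V0 (hxy : IsHypPair K x y)
    (k₁ k₂ k₃ k₄ : Matrix (Fin 6) (Fin 6) F)
    (h₁ : k₁ ∈ K) (h₂ : k₂ ∈ K) (h₃ : k₃ ∈ K) (h₄ : k₄ ∈ K) (d₃ : dag k₃ = k₃) (d₄ : dag k₄ = k₄) :
    hermForm 6 F 2 (k₁ *ᵥ x + k₂ *ᵥ y) (k₃ *ᵥ x + k₄ *ᵥ y) =
      hermForm 6 F 2 ((k₄ * k₁ + k₃ * k₂) *ᵥ x) y := by
  rw [hf_add_left, hf_add_right hF, hf_add_right hF, hf_adj_right hF, hf_adj_right hF,
    hf_adj_right hF, hf_adj_right hF, d₃, d₄, Matrix.mulVec_mulVec, Matrix.mulVec_mulVec,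
    Matrix.mulVec_mulVec, Matrix.mulVec_mulVec, hxy.isoX _ (K.mul_mem h₃ h₁),
    hxy.isoY _ (K.mul_mem h₄ h₂), ← hxy.symm _ (K.mul_mem h₃ h₂), Matrix.add_mulVec, hf_add_left]
  ring

/-- `K x ∩ K y = 0` and `k ↦ k x`, `k ↦ k y` are injective -/
theorem eq_zero_of_mulVec_add (hK : IsFieldSubalgebra 3 K) (hxy : IsHypPair K x y)
    (a b : Matrix (Fin 6) (Fin 6) F) (ha : a ∈ K) (hb : b ∈ K) (h : a *ᵥ x + b *ᵥ y = 0) :
    a = 0 ∧ b = 0 := by
  obtain ⟨k₀, hk₀, hne⟩ := hxy.ne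
  have key : ∀ k ∈ K, (k * a) *ᵥ x + (k * b) *ᵥ y = 0 := by
    intro k _
    rw [← Matrix.mulVec_mulVec, ← Matrix.mulVec_mulVec, ← Matrix.mulVec_add, h, Matrix.mulVec_zero]
  have hzero : ∀ c ∈ K, (∀ k ∈ K, hermForm 6 F 2 ((k * c) *ᵥ x) y = 0) → c = 0 := by
    intro c hc hall
    by_contra hc0
    obtain ⟨c', hc', hcc⟩ := hK.inv c hc hc0
    apply hne
    have := hall (k₀ * c') (K.mul_mem hk₀ hc')
    rwa [mul_assoc, hK.comm c' hc' c hc, hcc, mul_one] at this
  constructor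
  · apply hzero a ha
    intro k hk
    have h1 := congrArg (fun v => hermForm 6 F 2 v y) (key k hk)
    simp only [hf_add_left, hf_zero_left] at h1
    rwa [hxy.isoY _ (K.mul_mem hk hb), add_zero] at h1
  · apply hzero b hb
    intro k hk
    have h1 := congrArg (fun v => hermForm 6 F 2 v x) (key k hk)
    simp only [hf_add_left, hf_zero_left] at h1
    rw [hxy.isoX _ (K.mul_mem hk ha), zero_add] at h1
    rw [hxy.symm _ (K.mul_mem hk hb)]
    exact h1

end hyp

end Cfsg.Agent.Lib.Helper84.Bhrsu6
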