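import Mathlib
import Cfsg.Agent.Lib.Helper84.Bhrsu6Kit

/-!
# Project BHRSU6 (helper86, S5802), module [F3-STRUCT]: `exists_P_of_hypPair`  (helper84, hedge)
-/

set_option autoImplicit false
set_option linter.unusedSectionVars false

namespace Cfsg.Agent.Lib.Helper84.Bhrsu6

open Cfsg Cfsg.Geo Cfsg.Agent.Lib.Helper86.BHRSU6 Cfsg.Agent.Lib.Helper73.Bhrsu6Dag
open scoped MatrixGroups Matrix

variable {F : Type*} [Field F] [Fintype F]

/-- the columns `k_i x`, `k_i y` -/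
def cols (kb : Fin 3 → Matrix (Fin 6) (Fin 6) F) (x y : Fin 6 → F) : Fin 6 → (Fin 6 → F) :=
  Fin.append (fun i : Fin 3 => kb i *ᵥ x) (fun i : Fin 3 => kb i *ᵥ y)

theorem sum_cols (kb : Fin 3 → Matrix (Fin 6) (Fin 6) F) (x y : Fin 6 → F) (u : Fin 6 → F) :
    ∑ j, u j • cols kb x y j =
      (∑ i : Fin 3, u (Fin.castAdd 3 i) • kb i) *ᵥ x + (∑ i : Fin 3, u (Fin.natAdd 3 i) • kb i) *ᵥ y := by
  have h := Fin.sum_univ_add (fun j : Fin (3 + 3) => u j • cols kb x y j)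
  rw [Matrix.sum_mulVec, Matrix.sum_mulVec]
  refine h.trans ?_
  congr 1
  · apply Finset.sum_congr rfl
    intro i _
    rw [Matrix.smul_mulVec]
    congr 1
    exact Fin.append_left _ _ i
  · apply Finset.sum_congr rfl
    intro i _
    rw [Matrix.smul_mulVec]
    congr 1
    exact Fin.append_right _ _ i

/-- the matrix with columns `cols` -/
def Pmat (kb : Fin 3 → Matrix (Fin 6) (Fin 6) F) (x y : Fin 6 → F) : Matrix (Fin 6) (Fin 6) F :=
  (Matrix.of (cols kb x y))ᵀ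

theorem Pmat_mulVec (kb : Fin 3 → Matrix (Fin 6) (Fin 6) F) (x y : Fin 6 → F) (u : Fin 6 → F) :
    Pmat kb x y *ᵥ u = ∑ j, u j • cols kb x y j := by
  rw [Pmat, Matrix.mulVec_transpose, Matrix.vecMul_eq_sum]
  rfl


theorem sum_smul_mem (K : Subalgebra F (Matrix (Fin 6) (Fin 6) F))
    (kb : Fin 3 → Matrix (Fin 6) (Fin 6) F) (hkb : ∀ i, kb i ∈ K) (c : Fin 3 → F) :
    ∑ i, c i • kb i ∈ K :=
  K.sum_mem fun i _ => K.smul_mem (hkb i) _

/-- `P` is invertible -/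
theorem isUnit_Pmat (K : Subalgebra F (Matrix (Fin 6) (Fin 6) F))
    (hK : IsFieldSubalgebra 3 K) (x y : Fin 6 → F) (hxy : IsHypPair K x y)
    (kb : Fin 3 → Matrix (Fin 6) (Fin 6) F) (hkb : ∀ i, kb i ∈ K) (hli : LinearIndependent F kb) :
    IsUnit (Pmat kb x y) := by
  rw [← Matrix.mulVec_injective_iff_isUnit]
  have hker : ∀ u : Fin 6 → F, Pmat kb x y *ᵥ u = 0 → u = 0 := by
    intro u hu
    rw [Pmat_mulVec, sum_cols] at hu
    obtain ⟨h1, h2⟩ := eq_zero_of_mulVec_add K x y hK hxy _ _ (sum_smul_mem K kb hkb _)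
      (sum_smul_mem K kb hkb _) hu
    have e1 := Fintype.linearIndependent_iff.1 hli _ h1
    have e2 := Fintype.linearIndependent_iff.1 hli _ h2
    funext j
    refine Fin.addCases (m := 3) (n := 3) (fun i => ?_) (fun i => ?_) j
    · exact e1 i
    · exact e2 i
  intro u u' huu
  have h0 : Pmat kb x y *ᵥ (u - u') = 0 := by
    rw [Matrix.mulVec_sub, huu, sub_self]
  exact sub_eq_zero.1 (hker _ h0)

end Cfsg.Agent.Lib.Helper84.Bhrsu6

namespace Cfsg.Agent.Lib.Helper86.BHRSU6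

open Cfsg Cfsg.Geo Cfsg.Agent.Lib.Helper73.Bhrsu6Dag Cfsg.Agent.Lib.Helper84.Bhrsu6
open scoped MatrixGroups Matrix

variable {F : Type*} [Field F] [Fintype F]

/-- BHRSU6-[F3-STRUCT].  The `F₂`-structure: a matrix `P` whose columns are an `F₂`-basis of `V0 K x y`. -/
theorem exists_P_of_hypPair (hF : Fintype.card F = 4)
    (K : Subalgebra F (Matrix (Fin 6) (Fin 6) F)) (hK : IsFieldSubalgebra 3 K)
    (hadj : IsAdjointClosedFor (hermForm 6 F 2) K) (x y : Fin 6 → F) (hxy : IsHypPair K x y) :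
    (∀ v ∈ V0 K x y, ∀ w ∈ V0 K x y, hermForm 6 F 2 v w = 0 ∨ hermForm 6 F 2 v w = 1) ∧
    (∀ v ∈ V0 K x y, hermForm 6 F 2 v v = 0) ∧
    ∃ P : GL (Fin 6) F, ∀ v : Fin 6 → F, v ∈ V0 K x y ↔
      ∃ u : Fin 6 → F, (∀ i, u i = 0 ∨ u i = 1) ∧ v = (P : Matrix (Fin 6) (Fin 6) F) *ᵥ u := by
  have h2 := two_eq_zero hF
  refine ⟨?_, ?_, ?_⟩
  · rintro v ⟨k₁, h₁, k₂, h₂, d₁, d₂, rfl⟩ w ⟨k₃, h₃, k₄, h₄, d₃, d₄, rfl⟩
    rw [form_V0 hF K x y hxy k₁ k₂ k₃ k₄ h₁ h₂ h₃ h₄ d₃ d₄]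
    apply tau_zero_or_one hF K x y hxy _ (K.add_mem (K.mul_mem h₄ h₁) (K.mul_mem h₃ h₂))
    rw [dag_add hF, dag_mul hF, dag_mul hF, d₁, d₂, d₃, d₄, hK.comm k₁ h₁ k₄ h₄, hK.comm k₂ h₂ k₃ h₃]
  · rintro v ⟨k₁, h₁, k₂, h₂, d₁, d₂, rfl⟩
    rw [form_V0 hF K x y hxy k₁ k₂ k₁ k₂ h₁ h₂ h₁ h₂ d₁ d₂, hK.comm k₂ h₂ k₁ h₁]
    have e : k₁ * k₂ + k₁ * k₂ = 0 := by
      rw [← two_smul F (k₁ * k₂), h2, zero_smul]
    rw [e, Matrix.zero_mulVec, hf_zero_left]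
  · obtain ⟨kb, hkb, hkd, hli, hrep⟩ := exists_K0_basis hF K hK hadj
    have hU := isUnit_Pmat K hK x y hxy kb hkb hli
    refine ⟨hU.unit, ?_⟩
    intro v
    have hP : ((hU.unit : GL (Fin 6) F) : Matrix (Fin 6) (Fin 6) F) = Pmat kb x y := hU.unit_spec
    rw [hP]
    constructor
    · rintro ⟨k₁, h₁, k₂, h₂, d₁, d₂, rfl⟩
      obtain ⟨c, hc⟩ := hrep k₁ h₁
      obtain ⟨d, hd⟩ := hrep k₂ h₂
      have hc01 : ∀ i, c i = 0 ∨ c i = 1 := by
        apply coeff_zero_or_one hF kb hkd hli c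
        rw [← hc]; exact d₁
      have hd01 : ∀ i, d i = 0 ∨ d i = 1 := by
        apply coeff_zero_or_one hF kb hkd hli d
        rw [← hd]; exact d₂
      refine ⟨Fin.append c d, ?_, ?_⟩
      · intro j
        refine Fin.addCases (m := 3) (n := 3) (fun i => ?_) (fun i => ?_) j
        · rw [Fin.append_left]; exact hc01 i
        · rw [Fin.append_right]; exact hd01 i
      · rw [Pmat_mulVec, sum_cols]
        simp only [Fin.append_left, Fin.append_right]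
        rw [← hc, ← hd]
    · rintro ⟨u, hu, rfl⟩
      rw [Pmat_mulVec, sum_cols]
      refine ⟨_, sum_smul_mem K kb hkb _, _, sum_smul_mem K kb hkb _, ?_, ?_, rfl⟩
      · exact dag_sum_of_zero_or_one hF kb hkd _ fun i => hu _
      · exact dag_sum_of_zero_or_one hF kb hkd _ fun i => hu _

end Cfsg.Agent.Lib.Helper86.BHRSU6
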