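import Mathlib
import Cfsg.Agent.Lib.Helper84.Bhrsu6Kit
import Cfsg.Agent.Lib.Helper84.Bhrsu6Struct
import Cfsg.Agent.Lib.Helper92.Bhrsu6Coef

/-!
# Project BHRSU6 (helper86, S5802), module [F3-NORM]: `exists_smul_V0`  (helper84, hedge)
-/

set_option autoImplicit false
set_option linter.unusedSectionVars false
set_option linter.style.haveILetI false

namespace Cfsg.Agent.Lib.Helper84.Bhrsu6

open Cfsg Cfsg.Geo Cfsg.Agent.Lib.Helper86.BHRSU6 Cfsg.Agent.Lib.Helper73.Bhrsu6Dag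
open scoped MatrixGroups Matrix

variable {F : Type*} [Field F] [Fintype F]

/-- [F3-COEF] transported to the field `K` of matrices -/
theorem coef_matrix (hF : Fintype.card F = 4)
    (K : Subalgebra F (Matrix (Fin 6) (Fin 6) F)) (hK : IsFieldSubalgebra 3 K)
    (hadj : IsAdjointClosedFor (hermForm 6 F 2) K)
    (a b c d : Matrix (Fin 6) (Fin 6) F) (ha : a ∈ K) (hb : b ∈ K) (hc : c ∈ K) (hd : d ∈ K)
    (h1 : dag (a * dag b) = a * dag b) (h2 : dag (c * dag d) = c * dag d)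
    (h3 : dag (a * dag d + b * dag c) = a * dag d + b * dag c) (hdet : a * d - b * c ≠ 0) :
    ∃ l ∈ K, ∃ li ∈ K, l * li = 1 ∧ ∃ a₀ ∈ K, ∃ b₀ ∈ K, ∃ c₀ ∈ K, ∃ d₀ ∈ K,
      dag a₀ = a₀ ∧ dag b₀ = b₀ ∧ dag c₀ = c₀ ∧ dag d₀ = d₀ ∧
      a = l * a₀ ∧ b = l * b₀ ∧ c = l * c₀ ∧ d = l * d₀ := by
  classical
  haveI : Nontrivial (Matrix (Fin 6) (Fin 6) F) := inferInstance
  have hfield : IsField ↥K :=
    { exists_pair_ne := ⟨0, 1, fun h => zero_ne_one (congrArg Subtype.val h)⟩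
      mul_comm := fun a b => Subtype.ext (hK.comm a.1 a.2 b.1 b.2)
      mul_inv_cancel := fun {a} ha => by
        obtain ⟨y, hyK, hy⟩ := hK.inv a.1 a.2 (fun h => ha (Subtype.ext h))
        exact ⟨⟨y, hyK⟩, Subtype.ext hy⟩ }
  letI instFld : Field ↥K := hfield.toField
  haveI hchar : CharP ↥K 2 := by
    haveI := charP_two hF
    exact charP_of_injective_algebraMap (algebraMap F ↥K).injective 2
  -- the ring endomorphism `dag`
  let s : ↥K →+* ↥K :=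
    { toFun := fun k => ⟨dag (k : Matrix (Fin 6) (Fin 6) F), dag_mem hF K hadj k.2⟩
      map_one' := Subtype.ext dag_one
      map_mul' := fun k k' => Subtype.ext (by
        show dag ((k : Matrix (Fin 6) (Fin 6) F) * (k' : Matrix (Fin 6) (Fin 6) F)) = _
        rw [dag_mul hF]
        exact hK.comm _ (dag_mem hF K hadj k'.2) _ (dag_mem hF K hadj k.2))
      map_zero' := Subtype.ext dag_zero
      map_add' := fun k k' => Subtype.ext (dag_add hF _ _) }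
  have hs : ∀ k, s (s k) = k := fun k => Subtype.ext (dag_dag hF _)
  have hsval : ∀ k : ↥K, ((s k : ↥K) : Matrix (Fin 6) (Fin 6) F) = dag (k : Matrix (Fin 6) (Fin 6) F) :=
    fun k => rfl
  obtain ⟨l, hl0, hla, hlb, hlc, hld⟩ := exists_common_factor s hs ⟨a, ha⟩ ⟨b, hb⟩ ⟨c, hc⟩ ⟨d, hd⟩
    (Subtype.ext h1) (Subtype.ext h2) (Subtype.ext h3)
    (fun h => hdet (congrArg Subtype.val h))
  refine ⟨l.1, l.2, (l⁻¹ : ↥K).1, (l⁻¹ : ↥K).2, congrArg Subtype.val (mul_inv_cancel₀ hl0),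
    ((⟨a, ha⟩ : ↥K) / l).1, ((⟨a, ha⟩ : ↥K) / l).2, ((⟨b, hb⟩ : ↥K) / l).1, ((⟨b, hb⟩ : ↥K) / l).2,
    ((⟨c, hc⟩ : ↥K) / l).1, ((⟨c, hc⟩ : ↥K) / l).2, ((⟨d, hd⟩ : ↥K) / l).1, ((⟨d, hd⟩ : ↥K) / l).2,
    congrArg Subtype.val hla, congrArg Subtype.val hlb, congrArg Subtype.val hlc,
    congrArg Subtype.val hld, ?_, ?_, ?_, ?_⟩
  · exact congrArg Subtype.val (mul_div_cancel₀ (⟨a, ha⟩ : ↥K) hl0).symm
  · exact congrArg Subtype.val (mul_div_cancel₀ (⟨b, hb⟩ : ↥K) hl0).symm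
  · exact congrArg Subtype.val (mul_div_cancel₀ (⟨c, hc⟩ : ↥K) hl0).symm
  · exact congrArg Subtype.val (mul_div_cancel₀ (⟨d, hd⟩ : ↥K) hl0).symm


section hyp

variable (hF : Fintype.card F = 4) (K : Subalgebra F (Matrix (Fin 6) (Fin 6) F))
  (hK : IsFieldSubalgebra 3 K) (hadj : IsAdjointClosedFor (hermForm 6 F 2) K)
  (x y : Fin 6 → F) (hxy : IsHypPair K x y)

/-- `τ` is non-degenerate on `K` -/
theorem tau_nondeg (hK : IsFieldSubalgebra 3 K) (hxy : IsHypPair K x y)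
    (c : Matrix (Fin 6) (Fin 6) F) (hc : c ∈ K)
    (hall : ∀ k ∈ K, hermForm 6 F 2 ((k * c) *ᵥ x) y = 0) : c = 0 := by
  obtain ⟨k₀, hk₀, hne⟩ := hxy.ne
  by_contra hc0
  obtain ⟨c', hc', hcc⟩ := hK.inv c hc hc0
  apply hne
  have := hall (k₀ * c') (K.mul_mem hk₀ hc')
  rwa [mul_assoc, hK.comm c' hc' c hc, hcc, mul_one] at this

include hF in
/-- the form on `K x + K y` -/
theorem form_gen (hadj : IsAdjointClosedFor (hermForm 6 F 2) K) (hxy : IsHypPair K x y)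
    (k₁ k₂ k₃ k₄ : Matrix (Fin 6) (Fin 6) F)
    (h₁ : k₁ ∈ K) (h₂ : k₂ ∈ K) (h₃ : k₃ ∈ K) (h₄ : k₄ ∈ K) :
    hermForm 6 F 2 (k₁ *ᵥ x + k₂ *ᵥ y) (k₃ *ᵥ x + k₄ *ᵥ y) =
      hermForm 6 F 2 ((dag k₄ * k₁ + dag k₃ * k₂) *ᵥ x) y := by
  have d₃ := dag_mem hF K hadj h₃
  have d₄ := dag_mem hF K hadj h₄
  rw [hf_add_left, hf_add_right hF, hf_add_right hF, hf_adj_right hF, hf_adj_right hF,
    hf_adj_right hF, hf_adj_right hF, Matrix.mulVec_mulVec, Matrix.mulVec_mulVec,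
    Matrix.mulVec_mulVec, Matrix.mulVec_mulVec, hxy.isoX _ (K.mul_mem d₃ h₁),
    hxy.isoY _ (K.mul_mem d₄ h₂), ← hxy.symm _ (K.mul_mem d₃ h₂), Matrix.add_mulVec, hf_add_left]
  ring

include hF in
/-- `F^6 = K x + K y` -/
theorem exists_rep (hK : IsFieldSubalgebra 3 K) (hadj : IsAdjointClosedFor (hermForm 6 F 2) K)
    (hxy : IsHypPair K x y) (v : Fin 6 → F) :
    ∃ a ∈ K, ∃ b ∈ K, v = a *ᵥ x + b *ᵥ y := by
  obtain ⟨kb, hkb, -, hli, -⟩ := exists_K0_basis hF K hK hadj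
  have hU := isUnit_Pmat K hK x y hxy kb hkb hli
  obtain ⟨u, hu⟩ := (Matrix.mulVec_surjective_iff_isUnit.2 hU) v
  rw [Pmat_mulVec, sum_cols] at hu
  exact ⟨_, sum_smul_mem K kb hkb _, _, sum_smul_mem K kb hkb _, hu.symm⟩

end hyp


section norm

variable (g : GL (Fin 6) F)

theorem G_mul_Gi : (g : Matrix (Fin 6) (Fin 6) F) * ((g⁻¹ : GL (Fin 6) F) : Matrix (Fin 6) (Fin 6) F) = 1 := by
  rw [← Units.val_mul, mul_inv_cancel, Units.val_one]

theorem Gi_mul_G : ((g⁻¹ : GL (Fin 6) F) : Matrix (Fin 6) (Fin 6) F) * (g : Matrix (Fin 6) (Fin 6) F) = 1 := by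
  rw [← Units.val_mul, inv_mul_cancel, Units.val_one]

theorem GU_apply (hgU : g ∈ GU 6 F 2) (u v : Fin 6 → F) :
    hermForm 6 F 2 ((g : Matrix (Fin 6) (Fin 6) F) *ᵥ u) ((g : Matrix (Fin 6) (Fin 6) F) *ᵥ v) =
      hermForm 6 F 2 u v := hgU u v

theorem dag_G (hF : Fintype.card F = 4) (hgU : g ∈ GU 6 F 2) :
    dag (g : Matrix (Fin 6) (Fin 6) F) = ((g⁻¹ : GL (Fin 6) F) : Matrix (Fin 6) (Fin 6) F) := by
  have h := (mem_GU_iff_dag hF g).1 hgU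
  calc dag (g : Matrix (Fin 6) (Fin 6) F)
      = dag (g : Matrix (Fin 6) (Fin 6) F) * ((g : Matrix (Fin 6) (Fin 6) F) *
          ((g⁻¹ : GL (Fin 6) F) : Matrix (Fin 6) (Fin 6) F)) := by rw [G_mul_Gi, mul_one]
    _ = ((g⁻¹ : GL (Fin 6) F) : Matrix (Fin 6) (Fin 6) F) := by rw [← mul_assoc, h, one_mul]

theorem dag_Gi (hF : Fintype.card F = 4) (hgU : g ∈ GU 6 F 2) :
    dag ((g⁻¹ : GL (Fin 6) F) : Matrix (Fin 6) (Fin 6) F) = (g : Matrix (Fin 6) (Fin 6) F) := by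
  rw [← dag_G g hF hgU, dag_dag hF]

theorem dag_conj (hF : Fintype.card F = 4) (hgU : g ∈ GU 6 F 2) (k : Matrix (Fin 6) (Fin 6) F) :
    dag ((g : Matrix (Fin 6) (Fin 6) F) * k * ((g⁻¹ : GL (Fin 6) F) : Matrix (Fin 6) (Fin 6) F)) =
      (g : Matrix (Fin 6) (Fin 6) F) * dag k * ((g⁻¹ : GL (Fin 6) F) : Matrix (Fin 6) (Fin 6) F) := by
  rw [dag_mul hF, dag_mul hF, dag_Gi g hF hgU, dag_G g hF hgU, mul_assoc]

theorem conj_inv_mem (K : Subalgebra F (Matrix (Fin 6) (Fin 6) F)) (hgK : g ∈ subalgebraNormalizer K)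
    (k : Matrix (Fin 6) (Fin 6) F) (hk : k ∈ K) :
    ((g⁻¹ : GL (Fin 6) F) : Matrix (Fin 6) (Fin 6) F) * k * (g : Matrix (Fin 6) (Fin 6) F) ∈ K := by
  rw [hgK]
  have : (g : Matrix (Fin 6) (Fin 6) F) *
      (((g⁻¹ : GL (Fin 6) F) : Matrix (Fin 6) (Fin 6) F) * k * (g : Matrix (Fin 6) (Fin 6) F)) *
      ((g⁻¹ : GL (Fin 6) F) : Matrix (Fin 6) (Fin 6) F) = k := by
    rw [mul_assoc, mul_assoc, G_mul_Gi, mul_one, ← mul_assoc, G_mul_Gi, one_mul]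
  rw [this]
  exact hk

theorem conj_mem (K : Subalgebra F (Matrix (Fin 6) (Fin 6) F)) (hgK : g ∈ subalgebraNormalizer K)
    (k : Matrix (Fin 6) (Fin 6) F) (hk : k ∈ K) :
    (g : Matrix (Fin 6) (Fin 6) F) * k * ((g⁻¹ : GL (Fin 6) F) : Matrix (Fin 6) (Fin 6) F) ∈ K :=
  (hgK k).1 hk

/-- `g (k v) = (g k g⁻¹) (g v)` -/
theorem G_mulVec_mulVec (k : Matrix (Fin 6) (Fin 6) F) (v : Fin 6 → F) :
    (g : Matrix (Fin 6) (Fin 6) F) *ᵥ (k *ᵥ v) =
      ((g : Matrix (Fin 6) (Fin 6) F) * k * ((g⁻¹ : GL (Fin 6) F) : Matrix (Fin 6) (Fin 6) F)) *ᵥ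
        ((g : Matrix (Fin 6) (Fin 6) F) *ᵥ v) := by
  rw [Matrix.mulVec_mulVec, Matrix.mulVec_mulVec, mul_assoc, mul_assoc, Gi_mul_G, mul_one]

/-- `k (g v) = g ((g⁻¹ k g) v)` -/
theorem mulVec_G_mulVec (k : Matrix (Fin 6) (Fin 6) F) (v : Fin 6 → F) :
    k *ᵥ ((g : Matrix (Fin 6) (Fin 6) F) *ᵥ v) =
      (g : Matrix (Fin 6) (Fin 6) F) *ᵥ
        ((((g⁻¹ : GL (Fin 6) F) : Matrix (Fin 6) (Fin 6) F) * k * (g : Matrix (Fin 6) (Fin 6) F)) *ᵥ v) := by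
  rw [Matrix.mulVec_mulVec, Matrix.mulVec_mulVec, ← mul_assoc, ← mul_assoc, G_mul_Gi, one_mul]

/-- the image of a hyperbolic pair under `g ∈ N(K) ∩ GU` is a hyperbolic pair -/
theorem hypPair_map (K : Subalgebra F (Matrix (Fin 6) (Fin 6) F)) (x y : Fin 6 → F)
    (hxy : IsHypPair K x y) (hgK : g ∈ subalgebraNormalizer K) (hgU : g ∈ GU 6 F 2) :
    IsHypPair K ((g : Matrix (Fin 6) (Fin 6) F) *ᵥ x) ((g : Matrix (Fin 6) (Fin 6) F) *ᵥ y) := by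
  refine ⟨?_, ?_, ?_, ?_⟩
  · intro k hk
    rw [mulVec_G_mulVec, GU_apply g hgU]
    exact hxy.isoX _ (conj_inv_mem g K hgK k hk)
  · intro k hk
    rw [mulVec_G_mulVec, GU_apply g hgU]
    exact hxy.isoY _ (conj_inv_mem g K hgK k hk)
  · intro k hk
    rw [mulVec_G_mulVec, GU_apply g hgU, mulVec_G_mulVec, GU_apply g hgU]
    exact hxy.symm _ (conj_inv_mem g K hgK k hk)
  · obtain ⟨k₀, hk₀, hne⟩ := hxy.ne
    refine ⟨_, conj_mem g K hgK k₀ hk₀, ?_⟩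
    rw [← G_mulVec_mulVec, GU_apply g hgU]
    exact hne

end norm


section coeffs

variable (hF : Fintype.card F = 4) (K : Subalgebra F (Matrix (Fin 6) (Fin 6) F))
  (hK : IsFieldSubalgebra 3 K) (hadj : IsAdjointClosedFor (hermForm 6 F 2) K)
  (x y : Fin 6 → F) (hxy : IsHypPair K x y)

include hF in
theorem add_self_matrix (m : Matrix (Fin 6) (Fin 6) F) : m + m = 0 := by
  rw [← two_smul F m, two_eq_zero hF, zero_smul]

include hF in
theorem eq_of_add_eq_zero_matrix {m₁ m₂ : Matrix (Fin 6) (Fin 6) F} (h : m₁ + m₂ = 0) : m₁ = m₂ := by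
  calc m₁ = (m₁ + m₂) + m₂ := by rw [add_assoc, add_self_matrix hF, add_zero]
    _ = m₂ := by rw [h, zero_add]

/-- `p (q r) = q (r p)` in `K` -/
theorem comm3 (hK : IsFieldSubalgebra 3 K) {p q r : Matrix (Fin 6) (Fin 6) F} (hp : p ∈ K) (hq : q ∈ K)
    (hr : r ∈ K) : p * (q * r) = q * (r * p) := by
  rw [hK.comm p hp (q * r) (K.mul_mem hq hr), mul_assoc]

include hF in
/-- the two cross terms -/
theorem cross_eq (hK : IsFieldSubalgebra 3 K) (hadj : IsAdjointClosedFor (hermForm 6 F 2) K)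
    {k a b c d : Matrix (Fin 6) (Fin 6) F} (hk : k ∈ K) (ha : a ∈ K) (hb : b ∈ K) (hc : c ∈ K)
    (hd : d ∈ K) :
    dag d * (k * a) + dag c * (k * b) = k * (a * dag d + b * dag c) := by
  rw [comm3 K hK (dag_mem hF K hadj hd) hk ha, comm3 K hK (dag_mem hF K hadj hc) hk hb, mul_add]

include hF in
/-- the coefficient conditions of [F3-COEF] for a second hyperbolic pair -/
theorem hyp_coeffs (hK : IsFieldSubalgebra 3 K) (hadj : IsAdjointClosedFor (hermForm 6 F 2) K)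
    (hxy : IsHypPair K x y)
    (a b c d : Matrix (Fin 6) (Fin 6) F) (ha : a ∈ K) (hb : b ∈ K) (hc : c ∈ K) (hd : d ∈ K)
    (hxy' : IsHypPair K (a *ᵥ x + b *ᵥ y) (c *ᵥ x + d *ᵥ y)) :
    dag (a * dag b) = a * dag b ∧ dag (c * dag d) = c * dag d ∧
    dag (a * dag d + b * dag c) = a * dag d + b * dag c ∧ a * d - b * c ≠ 0 := by
  have hda := dag_mem hF K hadj ha
  have hdb := dag_mem hF K hadj hb
  have hdc := dag_mem hF K hadj hc
  have hdd := dag_mem hF K hadj hd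
  -- `k (a x + b y) = (k a) x + (k b) y`
  have hexp : ∀ k p q : Matrix (Fin 6) (Fin 6) F, k *ᵥ (p *ᵥ x + q *ᵥ y) = (k * p) *ᵥ x + (k * q) *ᵥ y := by
    intro k p q
    rw [Matrix.mulVec_add, Matrix.mulVec_mulVec, Matrix.mulVec_mulVec]
  -- isotropy
  have hiso : ∀ p q : Matrix (Fin 6) (Fin 6) F, p ∈ K → q ∈ K →
      (∀ k ∈ K, hermForm 6 F 2 (k *ᵥ (p *ᵥ x + q *ᵥ y)) (p *ᵥ x + q *ᵥ y) = 0) →
      dag (p * dag q) = p * dag q := by
    intro p q hp hq hall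
    have hdp := dag_mem hF K hadj hp
    have hdq := dag_mem hF K hadj hq
    have hm : p * dag q + q * dag p = 0 := by
      apply tau_nondeg K x y hK hxy _ (K.add_mem (K.mul_mem hp hdq) (K.mul_mem hq hdp))
      intro k hk
      have := hall k hk
      rw [hexp, form_gen hF K x y hadj hxy _ _ _ _ (K.mul_mem hk hp) (K.mul_mem hk hq) hp hq,
        cross_eq hF K hK hadj hk hp hq hp hq] at this
      exact this
    rw [dag_mul hF, dag_dag hF]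
    exact (eq_of_add_eq_zero_matrix hF hm).symm
  refine ⟨hiso a b ha hb hxy'.isoX, hiso c d hc hd hxy'.isoY, ?_, ?_⟩
  · -- symmetry
    have hm : (a * dag d + b * dag c) + (c * dag b + d * dag a) = 0 := by
      apply tau_nondeg K x y hK hxy _ (K.add_mem (K.add_mem (K.mul_mem ha hdd) (K.mul_mem hb hdc))
        (K.add_mem (K.mul_mem hc hdb) (K.mul_mem hd hda)))
      intro k hk
      have := hxy'.symm k hk
      rw [hexp, hexp, form_gen hF K x y hadj hxy _ _ _ _ (K.mul_mem hk ha) (K.mul_mem hk hb) hc hd,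
        form_gen hF K x y hadj hxy _ _ _ _ (K.mul_mem hk hc) (K.mul_mem hk hd) ha hb,
        cross_eq hF K hK hadj hk ha hb hc hd, cross_eq hF K hK hadj hk hc hd ha hb] at this
      rw [mul_add, Matrix.add_mulVec, hf_add_left, this]
      have h2 := two_eq_zero hF
      linear_combination (hermForm 6 F 2 ((k * (c * dag b + d * dag a)) *ᵥ x) y) * h2
    rw [dag_add hF, dag_mul hF, dag_mul hF, dag_dag hF, dag_dag hF]
    have := eq_of_add_eq_zero_matrix hF hm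
    rw [this, add_comm]
  · -- determinant
    intro hdet
    have had : a * d = b * c := sub_eq_zero.1 hdet
    have e1 : d *ᵥ (a *ᵥ x + b *ᵥ y) + b *ᵥ (c *ᵥ x + d *ᵥ y) = 0 := by
      rw [hexp, hexp]
      have h1 : d * a + b * c = 0 := by rw [hK.comm d hd a ha, had, add_self_matrix hF]
      have h2 : d * b + b * d = 0 := by rw [hK.comm d hd b hb, add_self_matrix hF]
      calc (d * a) *ᵥ x + (d * b) *ᵥ y + ((b * c) *ᵥ x + (b * d) *ᵥ y)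
          = (d * a + b * c) *ᵥ x + (d * b + b * d) *ᵥ y := by
            rw [Matrix.add_mulVec, Matrix.add_mulVec]; abel
        _ = 0 := by rw [h1, h2, Matrix.zero_mulVec, Matrix.zero_mulVec, add_zero]
    have e2 : c *ᵥ (a *ᵥ x + b *ᵥ y) + a *ᵥ (c *ᵥ x + d *ᵥ y) = 0 := by
      rw [hexp, hexp]
      have h1 : c * a + a * c = 0 := by rw [hK.comm c hc a ha, add_self_matrix hF]
      have h2 : c * b + a * d = 0 := by rw [hK.comm c hc b hb, had, add_self_matrix hF]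
      calc (c * a) *ᵥ x + (c * b) *ᵥ y + ((a * c) *ᵥ x + (a * d) *ᵥ y)
          = (c * a + a * c) *ᵥ x + (c * b + a * d) *ᵥ y := by
            rw [Matrix.add_mulVec, Matrix.add_mulVec]; abel
        _ = 0 := by rw [h1, h2, Matrix.zero_mulVec, Matrix.zero_mulVec, add_zero]
    obtain ⟨-, hb0⟩ := eq_zero_of_mulVec_add K _ _ hK hxy' d b hd hb e1
    obtain ⟨-, ha0⟩ := eq_zero_of_mulVec_add K _ _ hK hxy' c a hc ha e2
    obtain ⟨k₀, -, hne⟩ := hxy'.ne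
    apply hne
    rw [ha0, hb0, Matrix.zero_mulVec, Matrix.zero_mulVec, add_zero, Matrix.mulVec_zero, hf_zero_left]

end coeffs


section main

variable (hF : Fintype.card F = 4) (K : Subalgebra F (Matrix (Fin 6) (Fin 6) F))
  (hK : IsFieldSubalgebra 3 K) (hadj : IsAdjointClosedFor (hermForm 6 F 2) K)
  (x y : Fin 6 → F) (hxy : IsHypPair K x y)

include hF in
/-- products of self-adjoint elements of `K` are self-adjoint -/
theorem dag_mul_selfadj (hK : IsFieldSubalgebra 3 K) {p q : Matrix (Fin 6) (Fin 6) F} (hp : p ∈ K)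
    (hq : q ∈ K) (dp : dag p = p) (dq : dag q = q) : dag (p * q) = p * q := by
  rw [dag_mul hF, dp, dq, hK.comm q hq p hp]

include hF in
/-- `K₀ V0 ⊆ V0` -/
theorem selfadj_mulVec_V0 (hK : IsFieldSubalgebra 3 K) {κ : Matrix (Fin 6) (Fin 6) F} (hκ : κ ∈ K)
    (dκ : dag κ = κ) {w : Fin 6 → F} (hw : w ∈ V0 K x y) : κ *ᵥ w ∈ V0 K x y := by
  obtain ⟨k₁, h₁, k₂, h₂, d₁, d₂, rfl⟩ := hw
  refine ⟨κ * k₁, K.mul_mem hκ h₁, κ * k₂, K.mul_mem hκ h₂, dag_mul_selfadj hF K hK hκ h₁ dκ d₁,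
    dag_mul_selfadj hF K hK hκ h₂ dκ d₂, ?_⟩
  rw [Matrix.mulVec_add, Matrix.mulVec_mulVec, Matrix.mulVec_mulVec]

/-- cancelling `l` -/
theorem cancel_l (hK : IsFieldSubalgebra 3 K) {l li p q : Matrix (Fin 6) (Fin 6) F} (hl : l ∈ K)
    (hli : li ∈ K) (hp : p ∈ K) (hlli : l * li = 1) : li * (p * (l * q)) = p * q := by
  rw [← mul_assoc p l q, hK.comm p hp l hl, mul_assoc l p q, ← mul_assoc li l, hK.comm li hli l hl,
    hlli, one_mul]

include hF in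
/-- Part E: `l⁻¹ g` maps `V0` into itself -/
theorem li_G_mapsTo (hK : IsFieldSubalgebra 3 K) (g : GL (Fin 6) F) (hgK : g ∈ subalgebraNormalizer K)
    (hgU : g ∈ GU 6 F 2)
    {l li a₀ b₀ c₀ d₀ : Matrix (Fin 6) (Fin 6) F} (hl : l ∈ K) (hli : li ∈ K) (hlli : l * li = 1)
    (ha₀ : a₀ ∈ K) (hb₀ : b₀ ∈ K) (hc₀ : c₀ ∈ K) (hd₀ : d₀ ∈ K)
    (da₀ : dag a₀ = a₀) (db₀ : dag b₀ = b₀) (dc₀ : dag c₀ = c₀) (dd₀ : dag d₀ = d₀)
    (hgx : (g : Matrix (Fin 6) (Fin 6) F) *ᵥ x = (l * a₀) *ᵥ x + (l * b₀) *ᵥ y)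
    (hgy : (g : Matrix (Fin 6) (Fin 6) F) *ᵥ y = (l * c₀) *ᵥ x + (l * d₀) *ᵥ y)
    {v : Fin 6 → F} (hv : v ∈ V0 K x y) :
    li *ᵥ ((g : Matrix (Fin 6) (Fin 6) F) *ᵥ v) ∈ V0 K x y := by
  obtain ⟨k₁, h₁, k₂, h₂, d₁, d₂, rfl⟩ := hv
  set α₁ := (g : Matrix (Fin 6) (Fin 6) F) * k₁ * ((g⁻¹ : GL (Fin 6) F) : Matrix (Fin 6) (Fin 6) F)
    with hα₁
  set α₂ := (g : Matrix (Fin 6) (Fin 6) F) * k₂ * ((g⁻¹ : GL (Fin 6) F) : Matrix (Fin 6) (Fin 6) F)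
    with hα₂
  have hα₁K : α₁ ∈ K := conj_mem g K hgK k₁ h₁
  have hα₂K : α₂ ∈ K := conj_mem g K hgK k₂ h₂
  have dα₁ : dag α₁ = α₁ := by rw [hα₁, dag_conj g hF hgU, d₁]
  have dα₂ : dag α₂ = α₂ := by rw [hα₂, dag_conj g hF hgU, d₂]
  refine ⟨α₁ * a₀ + α₂ * c₀, K.add_mem (K.mul_mem hα₁K ha₀) (K.mul_mem hα₂K hc₀),
    α₁ * b₀ + α₂ * d₀, K.add_mem (K.mul_mem hα₁K hb₀) (K.mul_mem hα₂K hd₀), ?_, ?_, ?_⟩
  · rw [dag_add hF, dag_mul_selfadj hF K hK hα₁K ha₀ dα₁ da₀, dag_mul_selfadj hF K hK hα₂K hc₀ dα₂ dc₀]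
  · rw [dag_add hF, dag_mul_selfadj hF K hK hα₁K hb₀ dα₁ db₀, dag_mul_selfadj hF K hK hα₂K hd₀ dα₂ dd₀]
  · rw [Matrix.mulVec_add, G_mulVec_mulVec, G_mulVec_mulVec, ← hα₁, ← hα₂, hgx, hgy]
    simp only [Matrix.mulVec_add, Matrix.mulVec_mulVec, Matrix.add_mulVec]
    rw [cancel_l K hK hl hli hα₁K hlli, cancel_l K hK hl hli hα₁K hlli,
      cancel_l K hK hl hli hα₂K hlli, cancel_l K hK hl hli hα₂K hlli]
    abel

end main


section det

/-- a matrix with entries in `{0, 1}` has determinant in `{0, 1}` -/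
theorem det_sq_of_entries (hF : Fintype.card F = 4) (N : Matrix (Fin 6) (Fin 6) F)
    (hN : ∀ i j, N i j = 0 ∨ N i j = 1) : N.det ^ 2 = N.det := by
  haveI := charP_two hF
  haveI : Fact (Nat.Prime 2) := ⟨Nat.prime_two⟩
  have h1 := RingHom.map_det (frobenius F 2) N
  have h2 : (frobenius F 2).mapMatrix N = N := by
    ext i j
    simp only [RingHom.mapMatrix_apply, Matrix.map_apply, frobenius_def]
    rcases hN i j with h | h <;> rw [h] <;> simp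
  rw [h2, frobenius_def] at h1
  exact h1

/-- Part F: a matrix mapping an `F₂`-form of `F^6` into itself has determinant in `{0, 1}` -/
theorem det_sq_of_mapsTo (hF : Fintype.card F = 4) (P : GL (Fin 6) F) (S : Set (Fin 6 → F))
    (hP : ∀ v : Fin 6 → F, v ∈ S ↔
      ∃ u : Fin 6 → F, (∀ i, u i = 0 ∨ u i = 1) ∧ v = (P : Matrix (Fin 6) (Fin 6) F) *ᵥ u)
    (h : Matrix (Fin 6) (Fin 6) F) (hh : ∀ v ∈ S, h *ᵥ v ∈ S) : h.det ^ 2 = h.det := by
  classical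
  set N : Matrix (Fin 6) (Fin 6) F :=
    ((P⁻¹ : GL (Fin 6) F) : Matrix (Fin 6) (Fin 6) F) * h * (P : Matrix (Fin 6) (Fin 6) F) with hN
  have hentries : ∀ i j, N i j = 0 ∨ N i j = 1 := by
    intro i j
    have h1 : (P : Matrix (Fin 6) (Fin 6) F) *ᵥ (Pi.single j 1) ∈ S := by
      rw [hP]
      refine ⟨Pi.single j 1, ?_, rfl⟩
      intro i'
      by_cases hij : i' = j
      · right; rw [hij, Pi.single_eq_same]
      · left; rw [Pi.single_eq_of_ne hij]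
    obtain ⟨u, hu, hu2⟩ := (hP _).1 (hh _ h1)
    have h3 : N *ᵥ (Pi.single j 1) = u := by
      rw [hN, ← Matrix.mulVec_mulVec, ← Matrix.mulVec_mulVec, hu2, Matrix.mulVec_mulVec, Gi_mul_G,
        Matrix.one_mulVec]
    have h4 : N i j = u i := by
      rw [← h3, Matrix.mulVec_single_one]
      rfl
    rw [h4]
    exact hu i
  have hdet : N.det = h.det := by
    rw [hN, Matrix.det_mul, Matrix.det_mul, mul_comm _ h.det, mul_assoc, ← Matrix.det_mul, Gi_mul_G,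
      Matrix.det_one, mul_one]
  rw [← hdet]
  exact det_sq_of_entries hF N hentries

end det


/-- [F3-NORM] with the conclusion of [F3-DET] as a hypothesis -/
theorem exists_smul_V0_of (hF : Fintype.card F = 4)
    (K : Subalgebra F (Matrix (Fin 6) (Fin 6) F)) (hK : IsFieldSubalgebra 3 K)
    (hadj : IsAdjointClosedFor (hermForm 6 F 2) K)
    (hDET : ∀ l : Matrix (Fin 6) (Fin 6) F, l ∈ K → l.det = 1 →
      ∃ (c : F) (k : Matrix (Fin 6) (Fin 6) F), c ≠ 0 ∧ k ∈ K ∧ dag k = k ∧ l = c • k)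
    (x y : Fin 6 → F) (hxy : IsHypPair K x y)
    (g : GL (Fin 6) F) (hgK : g ∈ subalgebraNormalizer K)
    (hgU : g ∈ GU 6 F 2 ⊓ specialLinear (Fin 6) F) :
    ∃ c : F, c ≠ 0 ∧ ∀ v : Fin 6 → F, v ∈ V0 K x y ↔ c • ((g : Matrix (Fin 6) (Fin 6) F) *ᵥ v) ∈ V0 K x y := by
  classical
  have hGU : g ∈ GU 6 F 2 := hgU.1
  have hdetg : (g : Matrix (Fin 6) (Fin 6) F).det = 1 := by
    have h1 : Matrix.GeneralLinearGroup.det g = 1 := hgU.2
    have h2 := congrArg (fun u : Fˣ => (u : F)) h1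
    simpa using h2
  -- the second hyperbolic pair and its coefficients
  have hxy' := hypPair_map g K x y hxy hgK hGU
  obtain ⟨a, ha, b, hb, hgx⟩ := exists_rep hF K x y hK hadj hxy ((g : Matrix (Fin 6) (Fin 6) F) *ᵥ x)
  obtain ⟨c, hc, d, hd, hgy⟩ := exists_rep hF K x y hK hadj hxy ((g : Matrix (Fin 6) (Fin 6) F) *ᵥ y)
  rw [hgx, hgy] at hxy'
  obtain ⟨h1, h2, h3, hdet⟩ := hyp_coeffs hF K x y hK hadj hxy a b c d ha hb hc hd hxy'
  obtain ⟨l, hl, li, hli, hlli, a₀, ha₀, b₀, hb₀, c₀, hc₀, d₀, hd₀, da₀, db₀, dc₀, dd₀, rfl, rfl, rfl, rfl⟩ :=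
    coef_matrix hF K hK hadj a b c d ha hb hc hd h1 h2 h3 hdet
  -- Part E
  have hE : ∀ v ∈ V0 K x y, li *ᵥ ((g : Matrix (Fin 6) (Fin 6) F) *ᵥ v) ∈ V0 K x y := fun v hv =>
    li_G_mapsTo hF K x y hK g hgK hGU hl hli hlli ha₀ hb₀ hc₀ hd₀ da₀ db₀ dc₀ dd₀ hgx hgy hv
  -- Part F
  obtain ⟨-, -, P, hP⟩ := exists_P_of_hypPair hF K hK hadj x y hxy
  have hdetl : l.det = 1 := by
    have h4 := det_sq_of_mapsTo hF P (V0 K x y) hP (li * (g : Matrix (Fin 6) (Fin 6) F)) (by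
      intro v hv
      rw [← Matrix.mulVec_mulVec]
      exact hE v hv)
    rw [Matrix.det_mul, hdetg, mul_one] at h4
    have h5 : l.det * li.det = 1 := by rw [← Matrix.det_mul, hlli, Matrix.det_one]
    have h6 : li.det ≠ 0 := right_ne_zero_of_mul_eq_one h5
    have h7 : li.det = 1 := by
      have : li.det * (li.det - 1) = 0 := by rw [mul_sub, mul_one, ← sq, h4, sub_self]
      rcases mul_eq_zero.1 this with h | h
      · exact absurd h h6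
      · exact sub_eq_zero.1 h
    rwa [h7, mul_one] at h5
  -- Part G
  obtain ⟨c, κ, hc0, hκK, hκd, hlκ⟩ := hDET l hl hdetl
  refine ⟨c⁻¹, inv_ne_zero hc0, ?_⟩
  have hfwd : ∀ v ∈ V0 K x y, c⁻¹ • ((g : Matrix (Fin 6) (Fin 6) F) *ᵥ v) ∈ V0 K x y := by
    intro v hv
    have h4 : (g : Matrix (Fin 6) (Fin 6) F) *ᵥ v =
        l *ᵥ (li *ᵥ ((g : Matrix (Fin 6) (Fin 6) F) *ᵥ v)) := by
      rw [Matrix.mulVec_mulVec, hlli, Matrix.one_mulVec]
    rw [h4, hlκ, Matrix.smul_mulVec, smul_smul, inv_mul_cancel₀ hc0, one_smul]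
    exact selfadj_mulVec_V0 hF K x y hK hκK hκd (hE v hv)
  have hinj : Function.Injective
      (fun v : Fin 6 → F => c⁻¹ • ((g : Matrix (Fin 6) (Fin 6) F) *ᵥ v)) := by
    intro v v' hvv
    have h4 : (g : Matrix (Fin 6) (Fin 6) F) *ᵥ v = (g : Matrix (Fin 6) (Fin 6) F) *ᵥ v' :=
      smul_right_injective _ (inv_ne_zero hc0) hvv
    have h5 := congrArg (fun w => ((g⁻¹ : GL (Fin 6) F) : Matrix (Fin 6) (Fin 6) F) *ᵥ w) h4
    simpa [Matrix.mulVec_mulVec, Gi_mul_G] using h5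
  have hbij := (Set.Finite.injOn_iff_bijOn_of_mapsTo (Set.toFinite (V0 K x y)) hfwd).1 hinj.injOn
  intro v
  constructor
  · exact hfwd v
  · intro hv
    obtain ⟨v', hv', hvv⟩ := hbij.surjOn hv
    have := hinj hvv
    rwa [← this]

end Cfsg.Agent.Lib.Helper84.Bhrsu6
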