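import Mathlib
import Cfsg.Agent.Lib.Helper84.Bhrsu6Norm
import Cfsg.Agent.Lib.Helper92.Bhrsu6Det

/-!
# Project BHRSU6 (helper86, S5802), module [F3-NORM]: `exists_smul_V0`, exact Skel statement
(helper84; `Bhrsu6Norm.exists_smul_V0_of` + helper92's [F3-DET])
-/

set_option autoImplicit false

namespace Cfsg.Agent.Lib.Helper86.BHRSU6

open Cfsg Cfsg.Geo Cfsg.Agent.Lib.Helper70.AschU Cfsg.Agent.Lib.Helper37.BHRSU
open scoped MatrixGroups Matrix Kronecker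

variable {F : Type*} [Field F] [Fintype F]

/-- BHRSU6-[F3-NORM].  `g ∈ N(K) ⊓ SU` maps `V0` to `c • V0`. -/
theorem exists_smul_V0 (hF : Fintype.card F = 4)
    (K : Subalgebra F (Matrix (Fin 6) (Fin 6) F)) (hK : IsFieldSubalgebra 3 K)
    (hadj : IsAdjointClosedFor (hermForm 6 F 2) K) (x y : Fin 6 → F) (hxy : IsHypPair K x y)
    (g : GL (Fin 6) F) (hgK : g ∈ subalgebraNormalizer K) (hgU : g ∈ SUg 6 F 2) :
    ∃ c : F, c ≠ 0 ∧ ∀ v : Fin 6 → F, v ∈ V0 K x y ↔ c • ((g : Matrix (Fin 6) (Fin 6) F) *ᵥ v) ∈ V0 K x y :=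
  Cfsg.Agent.Lib.Helper84.Bhrsu6.exists_smul_V0_of hF K hK hadj
    (fun l hl hdet => eq_smul_of_det_eq_one hF K hK hadj l hl hdet) x y hxy g hgK hgU

end Cfsg.Agent.Lib.Helper86.BHRSU6
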