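import Mathlib
import Cfsg.Agent.Lib.Helper84.Bhrsu6Norm
import Cfsg.Agent.Lib.Helper84.Bhrsu6NormExact
import Cfsg.Agent.Lib.Helper19.Bhrsu6PairExact
import Cfsg.Agent.Lib.Helper13.SubfieldBasic

/-!
# Project BHRSU6 (helper86, S5802), leaf [E-SU6-F3]: `field_three_le_subfield`  (helper84, hedge)

Assembly of [F3-PAIR] (helper19), [F3-STRUCT], [F3-NORM] (helper84; with [F3-COEF], [F3-DET] of helper92 and
[F3-DAG] of helper73).
-/

set_option autoImplicit false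
set_option linter.unusedSectionVars false

namespace Cfsg.Agent.Lib.Helper84.Bhrsu6

open Cfsg Cfsg.Geo Cfsg.Agent.Lib.Helper86.BHRSU6 Cfsg.Agent.Lib.Helper73.Bhrsu6Dag
open scoped MatrixGroups Matrix

variable {F : Type*} [Field F] [Fintype F]

/-- the prime field `{0, 1}` of a field of characteristic 2 -/
def primeTwo (h2 : (2 : F) = 0) : Subfield F where
  carrier := {a | a = 0 ∨ a = 1}
  mul_mem' := by
    rintro a b (rfl | rfl) (rfl | rfl) <;> simp
  one_mem' := Or.inr rfl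
  add_mem' := by
    rintro a b (rfl | rfl) (rfl | rfl)
    · left; simp
    · right; simp
    · right; simp
    · left
      rw [one_add_one_eq_two, h2]
  zero_mem' := Or.inl rfl
  neg_mem' := by
    rintro a (rfl | rfl)
    · left; simp
    · right
      have : (1 : F) + 1 = 0 := by rw [one_add_one_eq_two, h2]
      exact neg_eq_of_add_eq_zero_left this
  inv_mem' := by
    rintro a (rfl | rfl)
    · left; simp
    · right; simp

theorem mem_primeTwo (h2 : (2 : F) = 0) (a : F) : a ∈ primeTwo h2 ↔ a = 0 ∨ a = 1 := Iff.rfl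

theorem card_primeTwo (h2 : (2 : F) = 0) : Nat.card (primeTwo h2) = 2 := by
  classical
  have h : ((primeTwo h2 : Subfield F) : Set F) = {0, 1} := by
    ext a
    simp [mem_primeTwo]
  show Nat.card ((primeTwo h2 : Subfield F) : Set F) = 2
  rw [h, Nat.card_coe_set_eq, Set.ncard_pair zero_ne_one]

/-- the entries of `P⁻¹ h P` when `h` maps the `F₂`-form into itself -/
theorem entries_of_mapsTo (P : GL (Fin 6) F) (S : Set (Fin 6 → F))
    (hP : ∀ v : Fin 6 → F, v ∈ S ↔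
      ∃ u : Fin 6 → F, (∀ i, u i = 0 ∨ u i = 1) ∧ v = (P : Matrix (Fin 6) (Fin 6) F) *ᵥ u)
    (h : Matrix (Fin 6) (Fin 6) F) (hh : ∀ v ∈ S, h *ᵥ v ∈ S) (i j : Fin 6) :
    (((P⁻¹ : GL (Fin 6) F) : Matrix (Fin 6) (Fin 6) F) * h * (P : Matrix (Fin 6) (Fin 6) F)) i j = 0 ∨
    (((P⁻¹ : GL (Fin 6) F) : Matrix (Fin 6) (Fin 6) F) * h * (P : Matrix (Fin 6) (Fin 6) F)) i j = 1 := by
  classical
  have h1 : (P : Matrix (Fin 6) (Fin 6) F) *ᵥ (Pi.single j 1) ∈ S := by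
    rw [hP]
    refine ⟨Pi.single j 1, ?_, rfl⟩
    intro i'
    by_cases hij : i' = j
    · right; rw [hij, Pi.single_eq_same]
    · left; rw [Pi.single_eq_of_ne hij]
  obtain ⟨u, hu, hu2⟩ := (hP _).1 (hh _ h1)
  have h3 : (((P⁻¹ : GL (Fin 6) F) : Matrix (Fin 6) (Fin 6) F) * h * (P : Matrix (Fin 6) (Fin 6) F)) *ᵥ
      (Pi.single j 1) = u := by
    rw [← Matrix.mulVec_mulVec, ← Matrix.mulVec_mulVec, hu2, Matrix.mulVec_mulVec, Gi_mul_G,
      Matrix.one_mulVec]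
  have h4 : (((P⁻¹ : GL (Fin 6) F) : Matrix (Fin 6) (Fin 6) F) * h * (P : Matrix (Fin 6) (Fin 6) F)) i j
      = u i := by
    rw [← h3, Matrix.mulVec_single_one]
    rfl
  rw [h4]
  exact hu i

end Cfsg.Agent.Lib.Helper84.Bhrsu6

namespace Cfsg.Agent.Lib.Helper86.BHRSU6

open Cfsg Cfsg.Geo Cfsg.Agent.Lib.Helper70.AschU Cfsg.Agent.Lib.Helper37.BHRSU
open Cfsg.Agent.Lib.Helper73.Bhrsu6Dag Cfsg.Agent.Lib.Helper84.Bhrsu6
open scoped MatrixGroups Matrix Kronecker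

variable {F : Type*} [Field F] [Fintype F]

/-- BHRSU6-[E-SU6-F3].  `q = 2`: the normaliser in `SU_6(2)` of an adjoint-closed cubic field `K ≅ F_64`
(`3 × L_2(8) : 3`) lies in a subfield group of index 2 and symplectic type (`3 × Sp_6(2)`). -/
theorem field_three_le_subfield (hF : Fintype.card F = 4)
    (K : Subalgebra F (Matrix (Fin 6) (Fin 6) F)) (hK : IsFieldSubalgebra 3 K)
    (hadj : IsAdjointClosedFor (hermForm 6 F 2) K) :
    ∃ (F₀ : Subfield F) (P : GL (Fin 6) F) (ζ : F), Fintype.card F = Nat.card F₀ ^ 2 ∧ ζ ≠ 0 ∧ ζ + ζ ^ 2 = 0 ∧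
      IsFormRationalStructure (hermForm 6 F 2) F₀ ζ P ∧
      (∀ u : Fin 6 → F, (∀ i, u i ∈ F₀) →
        hermForm 6 F 2 ((P : Matrix (Fin 6) (Fin 6) F) *ᵥ u) ((P : Matrix (Fin 6) (Fin 6) F) *ᵥ u) = 0) ∧
      subalgebraNormalizer K ⊓ SUg 6 F 2 ≤ subfieldSubgroup F₀ P := by
  classical
  have h2 := two_eq_zero hF
  obtain ⟨x, y, hxy⟩ := exists_hypPair hF K hK hadj
  obtain ⟨hform, hiso, P, hP⟩ := exists_P_of_hypPair hF K hK hadj x y hxy
  have hmemV0 : ∀ u : Fin 6 → F, (∀ i, u i ∈ primeTwo h2) →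
      (P : Matrix (Fin 6) (Fin 6) F) *ᵥ u ∈ V0 K x y := fun u hu => (hP _).2 ⟨u, hu, rfl⟩
  refine ⟨primeTwo h2, P, 1, ?_, one_ne_zero, ?_, ?_, ?_, ?_⟩
  · rw [hF, card_primeTwo]; norm_num
  · rw [one_pow, one_add_one_eq_two, h2]
  · intro u v hu hv
    rw [one_mul]
    exact hform _ (hmemV0 u hu) _ (hmemV0 v hv)
  · intro u hu
    exact hiso _ (hmemV0 u hu)
  · rintro g ⟨hgK, hgU⟩
    obtain ⟨c, hc0, hc⟩ := exists_smul_V0 hF K hK hadj x y hxy g hgK hgU
    set h : Matrix (Fin 6) (Fin 6) F := c • (g : Matrix (Fin 6) (Fin 6) F) with hh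
    have hmaps : ∀ v ∈ V0 K x y, h *ᵥ v ∈ V0 K x y := by
      intro v hv
      rw [hh, Matrix.smul_mulVec]
      exact (hc v).1 hv
    set N : Matrix (Fin 6) (Fin 6) F :=
      ((P⁻¹ : GL (Fin 6) F) : Matrix (Fin 6) (Fin 6) F) * h * (P : Matrix (Fin 6) (Fin 6) F) with hN
    have hentries : ∀ i j, N i j ∈ primeTwo h2 := fun i j =>
      entries_of_mapsTo P (V0 K x y) hP h hmaps i j
    let A₀ : Matrix (Fin 6) (Fin 6) (primeTwo h2) := fun i j => ⟨N i j, hentries i j⟩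
    have hA₀ : A₀.map (primeTwo h2).subtype = N := by
      ext i j
      rfl
    have hdetN : N.det ≠ 0 := by
      rw [hN, Matrix.det_mul, Matrix.det_mul, hh, Matrix.det_smul]
      have h1 : IsUnit (((P⁻¹ : GL (Fin 6) F) : Matrix (Fin 6) (Fin 6) F)).det :=
        (Matrix.isUnit_iff_isUnit_det _).1 (P⁻¹).isUnit
      have h2' : IsUnit ((P : Matrix (Fin 6) (Fin 6) F)).det :=
        (Matrix.isUnit_iff_isUnit_det _).1 P.isUnit
      have h3 : IsUnit ((g : Matrix (Fin 6) (Fin 6) F)).det :=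
        (Matrix.isUnit_iff_isUnit_det _).1 g.isUnit
      exact mul_ne_zero (mul_ne_zero h1.ne_zero (mul_ne_zero (pow_ne_zero _ hc0) h3.ne_zero)) h2'.ne_zero
    have hdet : A₀.det ≠ 0 := by
      intro h0
      have h1 : (A₀.map (primeTwo h2).subtype).det = 0 := by
        have := congrArg (primeTwo h2).subtype h0
        rw [RingHom.map_det, map_zero] at this
        exact this
      rw [hA₀] at h1
      exact hdetN h1
    rw [Cfsg.Agent.Lib.Helper13.mem_subfieldSubgroup_iff]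
    refine ⟨Matrix.GeneralLinearGroup.mkOfDetNeZero A₀ hdet, Units.mk0 c⁻¹ (inv_ne_zero hc0), ?_⟩
    show (g : Matrix (Fin 6) (Fin 6) F) * (P : Matrix (Fin 6) (Fin 6) F) =
      c⁻¹ • ((P : Matrix (Fin 6) (Fin 6) F) * A₀.map (primeTwo h2).subtype)
    rw [hA₀, hN, hh, ← Matrix.mul_assoc, ← Matrix.mul_assoc, G_mul_Gi, Matrix.one_mul,
      Matrix.smul_mul, smul_smul, inv_mul_cancel₀ hc0, one_smul]

end Cfsg.Agent.Lib.Helper86.BHRSU6
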