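/-
helper84: BHRSU-[ROW-5820], BHRSU-[ROW-5832], `_of_max` form: the SU_8 and SU_9 rows from the conclusion of BHRSU-[MAXU]
(`maximal_eq_member`).  The exact rows are one-liners once [MAXU] is on main.
-/
import Mathlib
import Cfsg.Prelude.Def_GeometricClasses
import Cfsg.Prelude.Def_ClassicalGeometry
import Cfsg.Agent.Lib.Helper37.BHRSU.Defs
import Cfsg.Agent.Lib.Helper84.BhrsuEMax
import Cfsg.Agent.Lib.Helper81.BhrsuMinField
import Cfsg.Agent.Lib.Helper87.BhrMaxCasesOf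
import Cfsg.Agent.Lib.Helper24.BhrC3Div
import Cfsg.Agent.Lib.Helper94.TensorUnit2

set_option autoImplicit false
set_option linter.unusedVariables false

namespace Cfsg.Agent.Lib.Helper84.Bhrsu

open Cfsg Cfsg.Geo Cfsg.Agent.Lib.Helper70.AschU Cfsg.Agent.Lib.Helper37.BHRSU
open scoped MatrixGroups Matrix Kronecker

/-- BHRSU-[ROW-5820], from the conclusion of [MAXU] -/
theorem row5820_of_max {F : Type*} [Field F] [Fintype F] (q : ℕ) (hF : Fintype.card F = q ^ 2) (H : Subgroup (Matrix.GeneralLinearGroup (Fin 8) F)) (hH : Cfsg.Geo.IsMaximalIn (Cfsg.GU 8 F q ⊓ Cfsg.Geo.specialLinear (Fin 8) F) H)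
    (hmax : (∃ M : Subgroup (Matrix.GeneralLinearGroup (Fin 8) F), InUnitaryClassR 8 F q M ∧ H = M ⊓ Cfsg.Geo.specialLinear (Fin 8) F) ∨
      Cfsg.Geo.InUnitaryResidualClass H) :
    (∃ W : Submodule F (Fin 8 → F), W ≠ ⊥ ∧ Cfsg.Geo.IsTotallySingularFor (Cfsg.hermForm 8 F q) W ∧ H = Cfsg.Geo.subspaceStabilizer W ⊓ (Cfsg.GU 8 F q ⊓ Cfsg.Geo.specialLinear (Fin 8) F)) ∨
    (∃ W : Submodule F (Fin 8 → F), W ≠ ⊥ ∧ Cfsg.Geo.IsNondegenerateOn (Cfsg.hermForm 8 F q) W ∧ 2 * Module.finrank F W < 8 ∧ H = Cfsg.Geo.subspaceStabilizer W ⊓ (Cfsg.GU 8 F q ⊓ Cfsg.Geo.specialLinear (Fin 8) F)) ∨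
    (∃ D : Fin 8 → Submodule F (Fin 8 → F), Cfsg.Geo.IsNondegenerateMDecomposition (Cfsg.hermForm 8 F q) 1 D ∧ H = Cfsg.Geo.decompositionStabilizer D ⊓ (Cfsg.GU 8 F q ⊓ Cfsg.Geo.specialLinear (Fin 8) F)) ∨
    (3 ≤ q ∧ ∃ D : Fin 4 → Submodule F (Fin 8 → F), Cfsg.Geo.IsNondegenerateMDecomposition (Cfsg.hermForm 8 F q) 2 D ∧ H = Cfsg.Geo.decompositionStabilizer D ⊓ (Cfsg.GU 8 F q ⊓ Cfsg.Geo.specialLinear (Fin 8) F)) ∨
    (∃ D : Fin 2 → Submodule F (Fin 8 → F), Cfsg.Geo.IsNondegenerateMDecomposition (Cfsg.hermForm 8 F q) 4 D ∧ H = Cfsg.Geo.decompositionStabilizer D ⊓ (Cfsg.GU 8 F q ⊓ Cfsg.Geo.specialLinear (Fin 8) F)) ∨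
    (∃ D : Fin 2 → Submodule F (Fin 8 → F), Cfsg.Geo.IsMDecomposition 4 D ∧ (∀ i, Cfsg.Geo.IsTotallySingularFor (Cfsg.hermForm 8 F q) (D i)) ∧ H = Cfsg.Geo.decompositionStabilizer D ⊓ (Cfsg.GU 8 F q ⊓ Cfsg.Geo.specialLinear (Fin 8) F)) ∨
    (3 ≤ q ∧ ∃ (e : Fin 8 ≃ Fin 2 × Fin 4) (P : Matrix.GeneralLinearGroup (Fin 8) F) (f₁ : (Fin 2 → F) → (Fin 2 → F) → F) (f₂ : (Fin 4 → F) → (Fin 4 → F) → F), Cfsg.Geo.IsUnitaryFormPow q f₁ ∧ Cfsg.Geo.IsUnitaryFormPow q f₂ ∧ Cfsg.Geo.IsTensorFormStructure (fun x : F => x ^ q) (Cfsg.hermForm 8 F q) f₁ f₂ e P ∧ H = Cfsg.Geo.tensorProductSubgroup 2 4 e P ⊓ (Cfsg.GU 8 F q ⊓ Cfsg.Geo.specialLinear (Fin 8) F)) ∨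
    (∃ (F₀ : Subfield F) (r : ℕ) (P : Matrix.GeneralLinearGroup (Fin 8) F), r.Prime ∧ Odd r ∧ Fintype.card F = Nat.card F₀ ^ r ∧ Cfsg.Geo.IsFormRationalStructure (Cfsg.hermForm 8 F q) F₀ 1 P ∧ H = Cfsg.Geo.subfieldSubgroup F₀ P ⊓ (Cfsg.GU 8 F q ⊓ Cfsg.Geo.specialLinear (Fin 8) F)) ∨
    (∃ (F₀ : Subfield F) (P : Matrix.GeneralLinearGroup (Fin 8) F) (ζ : F), Fintype.card F = Nat.card F₀ ^ 2 ∧ ζ ≠ 0 ∧ ζ + ζ ^ q = 0 ∧ Cfsg.Geo.IsFormRationalStructure (Cfsg.hermForm 8 F q) F₀ ζ P ∧ (∀ u : Fin 8 → F, (∀ i, u i ∈ F₀) → (Cfsg.hermForm 8 F q) (Matrix.mulVec (P : Matrix (Fin 8) (Fin 8) F) u) (Matrix.mulVec (P : Matrix (Fin 8) (Fin 8) F) u) = 0) ∧ H = Cfsg.Geo.subfieldSubgroup F₀ P ⊓ (Cfsg.GU 8 F q ⊓ Cfsg.Geo.specialLinear (Fin 8) F)) ∨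
    (Odd q ∧ ∃ (F₀ : Subfield F) (P : Matrix.GeneralLinearGroup (Fin 8) F), Fintype.card F = Nat.card F₀ ^ 2 ∧ Cfsg.Geo.IsFormRationalStructure (Cfsg.hermForm 8 F q) F₀ 1 P ∧ H = Cfsg.Geo.subfieldSubgroup F₀ P ⊓ (Cfsg.GU 8 F q ⊓ Cfsg.Geo.specialLinear (Fin 8) F)) ∨
    (∃ (p : ℕ) (R : Subgroup (Matrix.GeneralLinearGroup (Fin 8) F)), p.Prime ∧ q = p ∧ p % 4 = 3 ∧ Cfsg.Geo.IsSymplecticTypeGroup 2 R ∧ Cfsg.Geo.ActsAbsolutelyIrreducibly (Cfsg.Geo.matrixSet R) ∧ R ≤ Cfsg.Geo.similarityGroup (Cfsg.hermForm 8 F q) ∧ Nat.card R = 256 ∧ Nat.card (Subgroup.center R) = 4 ∧ H = Cfsg.Geo.subgroupNormalizer R ⊓ (Cfsg.GU 8 F q ⊓ Cfsg.Geo.specialLinear (Fin 8) F)) ∨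
    Cfsg.Geo.InUnitaryResidualClass H := by
  have hq2 : 2 ≤ q := two_le_q hF
  rcases hmax with ⟨M, hM, hHM⟩ | hres
  swap
  · exact Or.inr (Or.inr (Or.inr (Or.inr (Or.inr (Or.inr (Or.inr (Or.inr (Or.inr (Or.inr (Or.inr hres))))))))))
  -- `q = 2` is excluded by a subgroup strictly between
  have hbetween : ∀ A : Subgroup (GL (Fin 8) F), H = A ⊓ (GU 8 F q ⊓ specialLinear (Fin 8) F) →
      (∃ K : Subgroup (GL (Fin 8) F), A ⊓ (GU 8 F q ⊓ specialLinear (Fin 8) F) < K ∧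
        K < GU 8 F q ⊓ specialLinear (Fin 8) F) → False := by
    rintro A rfl ⟨K, h1, h2⟩
    exact not_isMaximalIn_of_between h1 h2 hH
  rcases hM with hM | hM
  · dsimp only [InUnitaryClassNo6] at hM
    rcases hM with ⟨W, h1, h2, rfl⟩ | ⟨W, h1, h2, h3, rfl⟩ | ⟨t, k, D, hD, rfl⟩ | ⟨k, D, hk, hD, hts, rfl⟩ |
      ⟨F₀, r, P, hr, hodd, hc, hrat, rfl⟩ | ⟨F₀, P, hodd, hc, hrat, rfl⟩ |
      ⟨F₀, P, ζ, hev, hc, hζ, hζ2, hrat, hiso, rfl⟩ | ⟨r, K, hr, hodd, hK, hadj, rfl⟩ |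
      ⟨n₁, n₂, e, P, f₁, f₂, h1, h2, hf₁, hf₂, hT, rfl⟩ | ⟨k, t, e, P, f₁, h1, h2, h3, hf₁, hT, rfl⟩
    · exact Or.inl ⟨W, h1, h2, by rw [hHM, inf_assoc]⟩
    · exact Or.inr (Or.inl ⟨W, h1, h2, h3, by rw [hHM, inf_assoc]⟩)
    · -- non-degenerate decompositions: `t * k = 8`
      have htk : t * k = 8 := Cfsg.Agent.Lib.Helper87.BhrMaxCases.mul_eq_of_isMDecomposition D hD.decomp
      have ht2 := hD.decomp.two_le
      have hkpos := hD.decomp.pos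
      have hcases : (t = 8 ∧ k = 1) ∨ (t = 4 ∧ k = 2) ∨ (t = 2 ∧ k = 4) := by
        have hle : t ≤ 8 := Nat.le_of_dvd (by norm_num) ⟨k, htk.symm⟩
        interval_cases t <;> omega
      rcases hcases with ⟨rfl, rfl⟩ | ⟨rfl, rfl⟩ | ⟨rfl, rfl⟩
      · exact Or.inr (Or.inr (Or.inl ⟨D, hD, by rw [hHM, inf_assoc]⟩))
      · have hq3 : 3 ≤ q := by
          by_contra hlt
          obtain rfl : q = 2 := by omega
          have hF4 : Fintype.card F = 4 := by rw [hF]; norm_num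
          exact hbetween _ (by rw [hHM, inf_assoc]) (exists_between_decomp_two hF4 D hD)
        exact Or.inr (Or.inr (Or.inr (Or.inl ⟨hq3, D, hD, by rw [hHM, inf_assoc]⟩)))
      · exact Or.inr (Or.inr (Or.inr (Or.inr (Or.inl ⟨D, hD, by rw [hHM, inf_assoc]⟩))))
    · -- totally singular pairs: `2 * k = 8`
      obtain rfl : k = 4 := by omega
      exact Or.inr (Or.inr (Or.inr (Or.inr (Or.inr (Or.inl ⟨D, hD, hts, by rw [hHM, inf_assoc]⟩)))))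
    · exact Or.inr (Or.inr (Or.inr (Or.inr (Or.inr (Or.inr (Or.inr (Or.inl
        ⟨F₀, r, P, hr, hodd, hc, hrat, by rw [hHM, inf_assoc]⟩)))))))
    · exact Or.inr (Or.inr (Or.inr (Or.inr (Or.inr (Or.inr (Or.inr (Or.inr (Or.inr (Or.inl
        ⟨hodd, F₀, P, hc, hrat, by rw [hHM, inf_assoc]⟩)))))))))
    · exact Or.inr (Or.inr (Or.inr (Or.inr (Or.inr (Or.inr (Or.inr (Or.inr (Or.inl
        ⟨F₀, P, ζ, hc, hζ, hζ2, hrat, hiso, by rw [hHM, inf_assoc]⟩))))))))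
    · -- field subalgebras: `r` odd prime dividing `8`
      exfalso
      have hdvd : r ∣ 8 := Cfsg.Agent.Lib.Helper99.Asch.dvd_of_isFieldSubalgebra r K hK
      have h8 : r ∣ 2 ^ 3 := by norm_num; exact hdvd
      have hr2 : r = 2 := (Nat.prime_dvd_prime_iff_eq hr (by norm_num)).mp (hr.dvd_of_dvd_pow h8)
      subst hr2
      exact absurd hodd (by decide)
    · -- tensor products: `n₁ * n₂ = 8`, `2 ≤ n₁ < n₂`
      have hmul : n₁ * n₂ = 8 := Cfsg.Agent.Lib.Helper87.BhrMaxCases.mul_eq_of_equiv_prod e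
      have hcases : n₁ = 2 ∧ n₂ = 4 := by
        have hle : n₁ ≤ 8 := Nat.le_of_dvd (by norm_num) ⟨n₂, hmul.symm⟩
        interval_cases n₁ <;> omega
      obtain ⟨rfl, rfl⟩ := hcases
      have hq3 : 3 ≤ q := by
        by_contra hlt
        obtain rfl : q = 2 := by omega
        have hF4 : Fintype.card F = 4 := by rw [hF]; norm_num
        exact hbetween _ (by rw [hHM, inf_assoc])
          (Cfsg.Agent.Lib.Helper94.exists_between_tensor_unit2 hF4 8 (by norm_num) e P f₁ f₂ hf₁ hf₂ hT)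
      exact Or.inr (Or.inr (Or.inr (Or.inr (Or.inr (Or.inr (Or.inl
        ⟨hq3, e, P, f₁, f₂, hf₁, hf₂, hT, by rw [hHM, inf_assoc]⟩))))))
    · -- tensor powers: `k ^ t = 8`, `3 ≤ k`, `2 ≤ t`
      exfalso
      have hpow : k ^ t = 8 := Cfsg.Agent.Lib.Helper87.BhrMaxCases.pow_eq_of_equiv_fun e
      have h2' : k ^ 2 ≤ k ^ t := Nat.pow_le_pow_right (by omega) h2
      nlinarith
  · -- class 6: `8 = r ^ k`
    obtain ⟨r, R, p, e, k, hst, habs, hsim, hrp, hmin, hcase, hn, rfl⟩ := hM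
    have hrprime := hst.prime
    have hk0 : k ≠ 0 := by
      rintro rfl
      norm_num at hn
    have hr2 : r = 2 := by
      have hdvd : r ∣ 2 ^ 3 := by
        have : (2 : ℕ) ^ 3 = r ^ k := by rw [← hn]; norm_num
        rw [this]
        exact dvd_pow_self r hk0
      exact (Nat.prime_dvd_prime_iff_eq hrprime (by norm_num)).mp (hrprime.dvd_of_dvd_pow hdvd)
    subst hr2
    have hk3 : k = 3 := by
      have : (2 : ℕ) ^ k = 2 ^ 3 := by rw [← hn]; norm_num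
      exact Nat.pow_right_injective (le_refl 2) this
    subst hk3
    rcases hcase with ⟨hodd, -⟩ | ⟨-, he, hZ, hcard⟩
    · exact absurd hodd (by decide)
    · subst he
      rw [hZ] at hmin
      obtain ⟨hqp, hmod⟩ := minfield_four hmin hF
      refine Or.inr (Or.inr (Or.inr (Or.inr (Or.inr (Or.inr (Or.inr (Or.inr (Or.inr (Or.inr (Or.inl
        ⟨p, R, hmin.1, hqp, hmod, hst, habs, hsim, ?_, hZ, by rw [hHM, inf_assoc]⟩))))))))))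
      rw [hcard]
      norm_num



/-- BHRSU-[ROW-5832], from the conclusion of [MAXU] -/
theorem row5832_of_max {F : Type*} [Field F] [Fintype F] (q : ℕ) (hF : Fintype.card F = q ^ 2) (H : Subgroup (Matrix.GeneralLinearGroup (Fin 9) F)) (hH : Cfsg.Geo.IsMaximalIn (Cfsg.GU 9 F q ⊓ Cfsg.Geo.specialLinear (Fin 9) F) H)
    (hmax : (∃ M : Subgroup (Matrix.GeneralLinearGroup (Fin 9) F), InUnitaryClassR 9 F q M ∧ H = M ⊓ Cfsg.Geo.specialLinear (Fin 9) F) ∨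
      Cfsg.Geo.InUnitaryResidualClass H) :
    (∃ W : Submodule F (Fin 9 → F), W ≠ ⊥ ∧ Cfsg.Geo.IsTotallySingularFor (Cfsg.hermForm 9 F q) W ∧ H = Cfsg.Geo.subspaceStabilizer W ⊓ (Cfsg.GU 9 F q ⊓ Cfsg.Geo.specialLinear (Fin 9) F)) ∨
    (∃ W : Submodule F (Fin 9 → F), W ≠ ⊥ ∧ Cfsg.Geo.IsNondegenerateOn (Cfsg.hermForm 9 F q) W ∧ 2 * Module.finrank F W < 9 ∧ H = Cfsg.Geo.subspaceStabilizer W ⊓ (Cfsg.GU 9 F q ⊓ Cfsg.Geo.specialLinear (Fin 9) F)) ∨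
    (∃ D : Fin 9 → Submodule F (Fin 9 → F), Cfsg.Geo.IsNondegenerateMDecomposition (Cfsg.hermForm 9 F q) 1 D ∧ H = Cfsg.Geo.decompositionStabilizer D ⊓ (Cfsg.GU 9 F q ⊓ Cfsg.Geo.specialLinear (Fin 9) F)) ∨
    (∃ D : Fin 3 → Submodule F (Fin 9 → F), Cfsg.Geo.IsNondegenerateMDecomposition (Cfsg.hermForm 9 F q) 3 D ∧ H = Cfsg.Geo.decompositionStabilizer D ⊓ (Cfsg.GU 9 F q ⊓ Cfsg.Geo.specialLinear (Fin 9) F)) ∨
    (∃ K : Subalgebra F (Matrix (Fin 9) (Fin 9) F), Cfsg.Geo.IsFieldSubalgebra 3 K ∧ Cfsg.Geo.IsAdjointClosedFor (Cfsg.hermForm 9 F q) K ∧ H = Cfsg.Geo.subalgebraNormalizer K ⊓ (Cfsg.GU 9 F q ⊓ Cfsg.Geo.specialLinear (Fin 9) F)) ∨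
    (∃ (F₀ : Subfield F) (r : ℕ) (P : Matrix.GeneralLinearGroup (Fin 9) F), r.Prime ∧ Odd r ∧ Fintype.card F = Nat.card F₀ ^ r ∧ Cfsg.Geo.IsFormRationalStructure (Cfsg.hermForm 9 F q) F₀ 1 P ∧ H = Cfsg.Geo.subfieldSubgroup F₀ P ⊓ (Cfsg.GU 9 F q ⊓ Cfsg.Geo.specialLinear (Fin 9) F)) ∨
    (Odd q ∧ ∃ (F₀ : Subfield F) (P : Matrix.GeneralLinearGroup (Fin 9) F), Fintype.card F = Nat.card F₀ ^ 2 ∧ Cfsg.Geo.IsFormRationalStructure (Cfsg.hermForm 9 F q) F₀ 1 P ∧ H = Cfsg.Geo.subfieldSubgroup F₀ P ⊓ (Cfsg.GU 9 F q ⊓ Cfsg.Geo.specialLinear (Fin 9) F)) ∨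
    (∃ (p : ℕ) (R : Subgroup (Matrix.GeneralLinearGroup (Fin 9) F)), p.Prime ∧ q = p ∧ p % 3 = 2 ∧ Cfsg.Geo.IsSymplecticTypeGroup 3 R ∧ Cfsg.Geo.ActsAbsolutelyIrreducibly (Cfsg.Geo.matrixSet R) ∧ R ≤ Cfsg.Geo.similarityGroup (Cfsg.hermForm 9 F q) ∧ Nat.card R = 243 ∧ Nat.card (Subgroup.center R) = 3 ∧ H = Cfsg.Geo.subgroupNormalizer R ⊓ (Cfsg.GU 9 F q ⊓ Cfsg.Geo.specialLinear (Fin 9) F)) ∨
    (3 ≤ q ∧ ∃ (e : Fin 9 ≃ (Fin 2 → Fin 3)) (P : Matrix.GeneralLinearGroup (Fin 9) F) (f₁ : (Fin 3 → F) → (Fin 3 → F) → F), Cfsg.Geo.IsUnitaryFormPow q f₁ ∧ Cfsg.Geo.IsTensorPowerFormStructure (fun x : F => x ^ q) (Cfsg.hermForm 9 F q) f₁ e P ∧ H = Cfsg.Geo.tensorWreathSubgroup 3 2 e P ⊓ (Cfsg.GU 9 F q ⊓ Cfsg.Geo.specialLinear (Fin 9) F)) ∨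
    Cfsg.Geo.InUnitaryResidualClass H := by
  have hq2 : 2 ≤ q := two_le_q hF
  rcases hmax with ⟨M, hM, hHM⟩ | hres
  swap
  · exact Or.inr (Or.inr (Or.inr (Or.inr (Or.inr (Or.inr (Or.inr (Or.inr (Or.inr hres))))))))
  rcases hM with hM | hM
  · dsimp only [InUnitaryClassNo6] at hM
    rcases hM with ⟨W, h1, h2, rfl⟩ | ⟨W, h1, h2, h3, rfl⟩ | ⟨t, k, D, hD, rfl⟩ | ⟨k, D, hk, hD, hts, rfl⟩ |
      ⟨F₀, r, P, hr, hodd, hc, hrat, rfl⟩ | ⟨F₀, P, hodd, hc, hrat, rfl⟩ |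
      ⟨F₀, P, ζ, hev, hc, hζ, hζ2, hrat, hiso, rfl⟩ | ⟨r, K, hr, hodd, hK, hadj, rfl⟩ |
      ⟨n₁, n₂, e, P, f₁, f₂, h1, h2, hf₁, hf₂, hT, rfl⟩ | ⟨k, t, e, P, f₁, h1, h2, h3, hf₁, hT, rfl⟩
    · exact Or.inl ⟨W, h1, h2, by rw [hHM, inf_assoc]⟩
    · exact Or.inr (Or.inl ⟨W, h1, h2, h3, by rw [hHM, inf_assoc]⟩)
    · -- non-degenerate decompositions: `t * k = 9`
      have htk : t * k = 9 := Cfsg.Agent.Lib.Helper87.BhrMaxCases.mul_eq_of_isMDecomposition D hD.decomp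
      have ht2 := hD.decomp.two_le
      have hkpos := hD.decomp.pos
      have hcases : (t = 9 ∧ k = 1) ∨ (t = 3 ∧ k = 3) := by
        have hle : t ≤ 9 := Nat.le_of_dvd (by norm_num) ⟨k, htk.symm⟩
        interval_cases t <;> omega
      rcases hcases with ⟨rfl, rfl⟩ | ⟨rfl, rfl⟩
      · exact Or.inr (Or.inr (Or.inl ⟨D, hD, by rw [hHM, inf_assoc]⟩))
      · exact Or.inr (Or.inr (Or.inr (Or.inl ⟨D, hD, by rw [hHM, inf_assoc]⟩)))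
    · -- totally singular pairs: `2 * k = 9`
      exfalso
      omega
    · exact Or.inr (Or.inr (Or.inr (Or.inr (Or.inr (Or.inl
        ⟨F₀, r, P, hr, hodd, hc, hrat, by rw [hHM, inf_assoc]⟩)))))
    · exact Or.inr (Or.inr (Or.inr (Or.inr (Or.inr (Or.inr (Or.inl
        ⟨hodd, F₀, P, hc, hrat, by rw [hHM, inf_assoc]⟩))))))
    · exfalso
      exact absurd hev (by decide)
    · -- field subalgebras: `r` odd prime dividing `9`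
      have hdvd : r ∣ 9 := Cfsg.Agent.Lib.Helper99.Asch.dvd_of_isFieldSubalgebra r K hK
      have h9 : r ∣ 3 ^ 2 := by norm_num; exact hdvd
      have hr3 : r = 3 := (Nat.prime_dvd_prime_iff_eq hr (by norm_num)).mp (hr.dvd_of_dvd_pow h9)
      subst hr3
      exact Or.inr (Or.inr (Or.inr (Or.inr (Or.inl ⟨K, hK, hadj, by rw [hHM, inf_assoc]⟩))))
    · -- tensor products: `n₁ * n₂ = 9`, `2 ≤ n₁ < n₂`
      exfalso
      have hmul : n₁ * n₂ = 9 := Cfsg.Agent.Lib.Helper87.BhrMaxCases.mul_eq_of_equiv_prod e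
      have hle : n₁ ≤ 9 := Nat.le_of_dvd (by norm_num) ⟨n₂, hmul.symm⟩
      interval_cases n₁ <;> omega
    · -- tensor powers: `k ^ t = 9`, `3 ≤ k`, `2 ≤ t`
      have hpow : k ^ t = 9 := Cfsg.Agent.Lib.Helper87.BhrMaxCases.pow_eq_of_equiv_fun e
      have hkt : k = 3 ∧ t = 2 := by
        have h2' : k ^ 2 ≤ k ^ t := Nat.pow_le_pow_right (by omega) h2
        have hk3 : k = 3 := by nlinarith
        subst hk3
        refine ⟨rfl, ?_⟩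
        have : (3 : ℕ) ^ t = 3 ^ 2 := by rw [hpow]; norm_num
        exact Nat.pow_right_injective (by norm_num : 2 ≤ 3) this
      obtain ⟨rfl, rfl⟩ := hkt
      have hq3 : 3 ≤ q := by
        by_contra hlt
        exact h3 ⟨by omega, rfl⟩
      exact Or.inr (Or.inr (Or.inr (Or.inr (Or.inr (Or.inr (Or.inr (Or.inr (Or.inl
        ⟨hq3, e, P, f₁, hf₁, hT, by rw [hHM, inf_assoc]⟩))))))))
  · -- class 6: `9 = r ^ k`
    obtain ⟨r, R, p, e, k, hst, habs, hsim, hrp, hmin, hcase, hn, rfl⟩ := hM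
    have hrprime := hst.prime
    have hk0 : k ≠ 0 := by
      rintro rfl
      norm_num at hn
    have hr3 : r = 3 := by
      have hdvd : r ∣ 3 ^ 2 := by
        have : (3 : ℕ) ^ 2 = r ^ k := by rw [← hn]; norm_num
        rw [this]
        exact dvd_pow_self r hk0
      exact (Nat.prime_dvd_prime_iff_eq hrprime (by norm_num)).mp (hrprime.dvd_of_dvd_pow hdvd)
    subst hr3
    have hk2 : k = 2 := by
      have : (3 : ℕ) ^ k = 3 ^ 2 := by rw [← hn]; norm_num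
      exact Nat.pow_right_injective (by norm_num : 2 ≤ 3) this
    subst hk2
    rcases hcase with ⟨-, hZ, -, hcard⟩ | ⟨h2, -⟩
    · rw [hZ] at hmin
      obtain ⟨hqp, hmod⟩ := minfield_three hmin hF
      refine Or.inr (Or.inr (Or.inr (Or.inr (Or.inr (Or.inr (Or.inr (Or.inl
        ⟨p, R, hmin.1, hqp, hmod, hst, habs, hsim, ?_, hZ, by rw [hHM, inf_assoc]⟩)))))))
      rw [hcard]
      norm_num
    · exact absurd h2 (by norm_num)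



end Cfsg.Agent.Lib.Helper84.Bhrsu
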