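import Mathlib
import Cfsg.Agent.Lib.Helper64.CH4Defs
import Cfsg.Agent.Lib.Helper73.ConjUnion

/-!
# CH4-[EXP2] (helper84 hedge, for helper64's project CH4 = S4167)

If no class size is divisible by 4 and the centre is trivial, the Sylow 2-subgroups have exponent 2:
every `x` centralizes the squares of some conjugate of `P` (a Sylow 2-subgroup of `C_G(x)` has index at most 2
in a Sylow 2-subgroup of `G`), so by Jordan's lemma the squares of `P` are central.
-/

set_option autoImplicit false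
set_option linter.style.haveILetI false

namespace Cfsg.Agent.Lib.Helper84.CH4

open Cfsg.Agent.Lib.Helper64.CH4
open Pointwise

/-- a Sylow 2-subgroup of `C_G(x)` contains the squares of a Sylow 2-subgroup of `G` containing it,
when the class size of `x` is not divisible by 4 -/
theorem sq_mem_of_not_four_dvd {G : Type*} [Group G] [Finite G] (x : G)
    (hx : ¬ 4 ∣ (Subgroup.centralizer ({x} : Set G)).index) :
    ∃ P' : Sylow 2 G, ∀ b ∈ P', b ^ 2 * x = x * b ^ 2 := by
  haveI : Fact (Nat.Prime 2) := ⟨Nat.prime_two⟩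
  set C : Subgroup G := Subgroup.centralizer ({x} : Set G) with hC
  obtain ⟨R⟩ : Nonempty (Sylow 2 ↥C) := inferInstance
  set R' : Subgroup G := (R : Subgroup ↥C).map C.subtype with hR'
  have hR'C : R' ≤ C := by
    rintro _ ⟨r, -, rfl⟩
    exact r.2
  have hR'p : IsPGroup 2 R' := R.isPGroup'.map _
  obtain ⟨P', hP'⟩ := hR'p.exists_le_sylow
  refine ⟨P', ?_⟩
  -- the indices
  have h1 : R'.relIndex (P' : Subgroup G) * (P' : Subgroup G).index = R'.index :=
    Subgroup.relIndex_mul_index hP'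
  have h2 : R'.relIndex C * C.index = R'.index := Subgroup.relIndex_mul_index hR'C
  have h3 : R'.relIndex C = (R : Subgroup ↥C).index := by
    rw [Subgroup.relIndex, hR']
    congr 1
    exact Subgroup.comap_map_eq_self_of_injective C.subtype_injective _
  have hodd1 : ¬ 2 ∣ (R : Subgroup ↥C).index := R.not_dvd_index
  have hodd2 : ¬ 2 ∣ (P' : Subgroup G).index := P'.not_dvd_index
  have hnot4 : ¬ 4 ∣ R'.relIndex (P' : Subgroup G) := by
    intro h4
    have h5 : 4 ∣ (R : Subgroup ↥C).index * C.index := by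
      rw [← h3, h2, ← h1]
      exact Dvd.dvd.mul_right h4 _
    have hcop : Nat.Coprime 4 (R : Subgroup ↥C).index := by
      have : Nat.Coprime 2 (R : Subgroup ↥C).index :=
        (Nat.Prime.coprime_iff_not_dvd Nat.prime_two).mpr hodd1
      exact Nat.Coprime.pow_left 2 this
    exact hx (hcop.dvd_of_dvd_mul_left h5)
  obtain ⟨n, hn⟩ := IsPGroup.iff_card.mp P'.isPGroup'
  have hdvd : R'.relIndex (P' : Subgroup G) ∣ 2 ^ n := by
    rw [← hn]; exact Subgroup.relIndex_dvd_card _ _
  obtain ⟨j, -, hj⟩ := (Nat.dvd_prime_pow Nat.prime_two).mp hdvd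
  have hj1 : j = 0 ∨ j = 1 := by
    rcases Nat.lt_or_ge j 2 with hlt | hge
    · omega
    · exfalso
      apply hnot4
      rw [hj]
      exact pow_dvd_pow 2 hge
  have hsq : ∀ b ∈ P', b ^ 2 ∈ R' := by
    intro b hb
    rcases hj1 with rfl | rfl
    · rw [pow_zero, Subgroup.relIndex_eq_one] at hj
      exact R'.pow_mem (hj hb) 2
    · rw [pow_one] at hj
      have := Subgroup.sq_mem_of_index_two (H := R'.subgroupOf (P' : Subgroup G)) hj ⟨b, hb⟩
      rw [Subgroup.mem_subgroupOf] at this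
      exact this
  intro b hb
  have hbC : b ^ 2 ∈ C := hR'C (hsq b hb)
  rw [hC, Subgroup.mem_centralizer_iff] at hbC
  exact (hbC x rfl).symm

/-- [EXP2] -/
theorem sylow_exp_two {G : Type*} [Group G] [Finite G] (h : Hyp4 G)
    (hZ : Subgroup.center G = ⊥) (P : Sylow 2 G) : ∀ a ∈ P, a ^ 2 = 1 := by
  haveI : Fact (Nat.Prime 2) := ⟨Nat.prime_two⟩
  set T : Set G := {b | ∃ a ∈ (P : Subgroup G), b = a ^ 2} with hT
  set H : Subgroup G := Subgroup.centralizer T with hH
  have hHtop : H = ⊤ := by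
    by_contra hne
    obtain ⟨x, hx⟩ := Cfsg.Agent.Lib.Helper73.exists_not_mem_conj_of_ne_top H hne
    obtain ⟨P', hP'⟩ := sq_mem_of_not_four_dvd x (h x)
    obtain ⟨c, hc⟩ := MulAction.exists_smul_eq G P P'
    apply hx c
    rw [Cfsg.Agent.Lib.Helper73.mem_conj_smul_iff, hH, Subgroup.mem_centralizer_iff]
    rintro b ⟨a, ha, rfl⟩
    have hmem : c * a * c⁻¹ ∈ P' := by
      rw [← hc]
      show c * a * c⁻¹ ∈ ((c • P : Sylow 2 G) : Subgroup G)
      rw [Sylow.coe_subgroup_smul]
      exact ⟨a, ha, rfl⟩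
    have hcomm := hP' _ hmem
    have e : (c * a * c⁻¹) ^ 2 = c * a ^ 2 * c⁻¹ := by
      rw [conj_pow]
    rw [e] at hcomm
    calc a ^ 2 * (c⁻¹ * x * c) = c⁻¹ * (c * a ^ 2 * c⁻¹ * x) * c := by group
      _ = c⁻¹ * (x * (c * a ^ 2 * c⁻¹)) * c := by rw [hcomm]
      _ = c⁻¹ * x * c * a ^ 2 := by group
  intro a ha
  have hcen : a ^ 2 ∈ Subgroup.center G := by
    rw [Subgroup.mem_center_iff]
    intro g
    have hg : g ∈ H := by rw [hHtop]; exact Subgroup.mem_top g
    rw [hH, Subgroup.mem_centralizer_iff] at hg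
    exact (hg (a ^ 2) ⟨a, ha, rfl⟩).symm
  rw [hZ, Subgroup.mem_bot] at hcen
  exact hcen

end Cfsg.Agent.Lib.Helper84.CH4
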