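/-
helper84: if `G = P H` with `P` a normal `p`-subgroup and `H` abelian of exponent dividing `p - 1`, then `P` has a chain of
normal subgroups of `G` from `1` to `P` with `p`-steps (chief factors of order `p`).
The two eigenvector lemmas are adapted from helper76's `Lib/Helper76/Huppert.lean`.
All declarations live in `Cfsg.Agent.Lib.Helper84`.
-/
import Mathlib
import Cfsg.Agent.Lib.Helper58.ConjModule
import Cfsg.Agent.Lib.Helper84.PStepChain

set_option autoImplicit false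

namespace Cfsg.Agent.Lib.Helper84

open Polynomial in
/-- An endomorphism `T` of a nontrivial `ZMod p`-module with `T ^ p = T` has an eigenvector. -/
theorem exists_eigenvector_of_pow_eq' {p : ℕ} [hp : Fact p.Prime] {A : Type*} [AddCommGroup A]
    [Module (ZMod p) A] [Module.Finite (ZMod p) A] [Nontrivial A] (T : Module.End (ZMod p) A)
    (hT : T ^ p = T) : ∃ (c : ZMod p) (v : A), v ≠ 0 ∧ T v = c • v := by
  have hsplit : Splits (X ^ p - X : (ZMod p)[X]) := by
    have := FiniteField.splits_X_pow_card_sub_X (p := p) (K := ZMod p)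
    rwa [Algebra.algebraMap_self, Polynomial.map_id, ZMod.card] at this
  have hne : (X ^ p - X : (ZMod p)[X]) ≠ 0 := FiniteField.X_pow_card_sub_X_ne_zero _ hp.out.one_lt
  have hdvd : minpoly (ZMod p) T ∣ X ^ p - X := by
    apply minpoly.dvd
    simp [hT]
  have hsplit' : Splits (minpoly (ZMod p) T) := hsplit.of_dvd hne hdvd
  have hint : IsIntegral (ZMod p) T := Algebra.IsIntegral.isIntegral T
  have hdeg : degree (minpoly (ZMod p) T) ≠ 0 := (minpoly.degree_pos hint).ne'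
  obtain ⟨c, hc⟩ := hsplit'.exists_eval_eq_zero hdeg
  have hev : T.HasEigenvalue c := Module.End.hasEigenvalue_of_isRoot hc
  obtain ⟨v, hv⟩ := hev.exists_hasEigenvector
  exact ⟨c, v, hv.2, hv.apply_eq_smul⟩

/-- If `h ^ (p-1)` centralizes the normal elementary abelian `p`-subgroup `N ≠ ⊥`, then `h`
acts on some nontrivial element of `N` as a power map. -/
theorem exists_conj_eq_pow' {G : Type*} [Group G] [Finite G] (N : Subgroup G) [hN : N.Normal]
    {p : ℕ} [hp : Fact p.Prime] (hab : ∀ a b : N, a * b = b * a) (hexp : ∀ n ∈ N, n ^ p = 1)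
    (hNne : N ≠ ⊥) (h : G) (hh : ∀ n ∈ N, h ^ (p - 1) * n * (h ^ (p - 1))⁻¹ = n) :
    ∃ (c : ℕ) (n : G), n ∈ N ∧ n ≠ 1 ∧ h * n * h⁻¹ = n ^ c := by
  obtain ⟨A, iA, iM, e, Φ, hadd, hzero, hΦ⟩ :=
    Cfsg.Agent.Lib.Helper58.exists_conj_module N p hab hexp
  have : Finite A := Finite.of_equiv N e
  have : Module.Finite (ZMod p) A := Module.Finite.of_finite
  have : Nontrivial A := by
    obtain ⟨n, hn1⟩ := (Subgroup.ne_bot_iff_exists_ne_one).mp hNne
    refine ⟨⟨e n, 0, ?_⟩⟩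
    rw [← hzero]
    intro h'
    exact hn1 (e.injective h')
  have hp1 : p - 1 + 1 = p := Nat.sub_add_cancel hp.out.one_le
  have hΦ1 : Φ (h ^ (p - 1)) = 1 := by
    apply LinearMap.ext
    intro a
    obtain ⟨n, rfl⟩ := e.surjective a
    rw [hΦ, Module.End.one_apply]
    congr 1
    exact Subtype.ext (hh n n.2)
  have hT : (Φ h) ^ p = Φ h := by
    have : (Φ h) ^ (p - 1 + 1) = Φ h := by
      rw [pow_succ, ← map_pow, hΦ1, one_mul]
    rwa [hp1] at this
  obtain ⟨c, v, hv, hTv⟩ := exists_eigenvector_of_pow_eq' (Φ h) hT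
  obtain ⟨n, rfl⟩ := e.surjective v
  have hpow : ∀ k : ℕ, e (n ^ k) = k • e n := by
    intro k
    induction k with
    | zero => rw [pow_zero, hzero, zero_smul]
    | succ k ih => rw [pow_succ, hadd, ih, succ_nsmul]
  refine ⟨c.val, (n : G), n.2, ?_, ?_⟩
  · intro hn1
    apply hv
    have : n = 1 := Subtype.ext hn1
    rw [this, hzero]
  · have h1 : c • e n = e (n ^ c.val) := by
      rw [hpow, ← Nat.cast_smul_eq_nsmul (ZMod p), ZMod.natCast_zmod_val]
    rw [hΦ, h1] at hTv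
    have := congrArg Subtype.val (e.injective hTv)
    simpa using this

/-- If `G = P H` with `P ≠ 1` a normal `p`-subgroup and `H` abelian of exponent dividing `p - 1`, then `P` contains an
element `x` of order `p` generating a normal subgroup of `G`. -/
theorem exists_normal_zpowers {G : Type*} [Group G] [Finite G] {p : ℕ} [hp : Fact p.Prime]
    (P H : Subgroup G) [hPn : P.Normal] (hP : IsPGroup p P) (hPne : P ≠ ⊥)
    (hdecomp : ∀ g : G, ∃ x ∈ P, ∃ h ∈ H, g = x * h)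
    (hHab : ∀ a ∈ H, ∀ b ∈ H, a * b = b * a) (hHexp : ∀ h ∈ H, h ^ (p - 1) = 1) :
    ∃ x ∈ P, x ≠ 1 ∧ x ^ p = 1 ∧ (Subgroup.zpowers x).Normal := by
  classical
  -- `N = Ω₁(Z(P))`
  let N : Subgroup G :=
    { carrier := {y | y ∈ P ∧ (∀ z ∈ P, z * y = y * z) ∧ y ^ p = 1}
      one_mem' := ⟨P.one_mem, fun z _ => by rw [mul_one, one_mul], one_pow p⟩
      mul_mem' := by
        rintro a b ⟨ha, hac, hap⟩ ⟨hb, hbc, hbp⟩
        refine ⟨P.mul_mem ha hb, fun z hz => ?_, ?_⟩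
        · rw [← mul_assoc, hac z hz, mul_assoc, hbc z hz, ← mul_assoc]
        · have hcm : Commute a b := (hbc a ha)
          rw [hcm.mul_pow, hap, hbp, one_mul]
      inv_mem' := by
        rintro a ⟨ha, hac, hap⟩
        refine ⟨P.inv_mem ha, fun z hz => ?_, by rw [inv_pow, hap, inv_one]⟩
        have := hac z hz
        calc z * a⁻¹ = a⁻¹ * (a * z) * a⁻¹ := by group
          _ = a⁻¹ * (z * a) * a⁻¹ := by rw [this]
          _ = a⁻¹ * z := by group }
  have hNmem : ∀ y, y ∈ N ↔ y ∈ P ∧ (∀ z ∈ P, z * y = y * z) ∧ y ^ p = 1 := fun y => Iff.rfl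
  have hNn : N.Normal := by
    refine ⟨fun y hy g => ?_⟩
    obtain ⟨hyP, hyc, hyp⟩ := hy
    refine ⟨hPn.conj_mem y hyP g, fun z hz => ?_, by rw [conj_pow, hyp]; group⟩
    have hz' : g⁻¹ * z * g ∈ P := by
      have := hPn.conj_mem z hz g⁻¹
      rwa [inv_inv] at this
    have := hyc _ hz'
    calc z * (g * y * g⁻¹) = g * ((g⁻¹ * z * g) * y) * g⁻¹ := by group
      _ = g * (y * (g⁻¹ * z * g)) * g⁻¹ := by rw [this]
      _ = g * y * g⁻¹ * z := by group
  have hNP : N ≤ P := fun y hy => hy.1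
  have hNne : N ≠ ⊥ := by
    have hnt : Nontrivial P := by
      rw [Subgroup.nontrivial_iff_ne_bot]
      exact hPne
    have hcn : Nontrivial (Subgroup.center P) := hP.center_nontrivial
    have hcp : IsPGroup p (Subgroup.center P) := hP.to_subgroup _
    have hdvd : p ∣ Nat.card (Subgroup.center P) := by
      rcases hcp.card_eq_or_dvd with h1 | h1
      · exact absurd h1 (Finite.one_lt_card).ne'
      · exact h1
    obtain ⟨w, hw⟩ := exists_prime_orderOf_dvd_card' p hdvd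
    intro hbot
    have hwN : (((w : Subgroup.center P) : P) : G) ∈ N := by
      refine ⟨(w : P).2, fun z hz => ?_, ?_⟩
      · have := Subgroup.mem_center_iff.mp w.2 ⟨z, hz⟩
        exact congrArg Subtype.val this
      · have h1 : w ^ p = 1 := by rw [← hw]; exact pow_orderOf_eq_one w
        have h2 := congrArg (fun t : Subgroup.center P => ((t : P) : G)) h1
        simpa using h2
    rw [hbot, Subgroup.mem_bot] at hwN
    have hw1 : w = 1 := Subtype.ext (Subtype.ext hwN)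
    rw [hw1, orderOf_one] at hw
    exact hp.out.one_lt.ne hw
  -- conjugation by `g = x h'` on `N` is conjugation by `h'`
  have hconj : ∀ g : G, ∃ h' ∈ H, ∀ n ∈ N, g * n * g⁻¹ = h' * n * h'⁻¹ := by
    intro g
    obtain ⟨x, hx, h', hh', rfl⟩ := hdecomp g
    refine ⟨h', hh', fun n hn => ?_⟩
    have hn' : h' * n * h'⁻¹ ∈ N := hNn.conj_mem n hn h'
    have := hn'.2.1 x hx
    calc x * h' * n * (x * h')⁻¹ = x * (h' * n * h'⁻¹) * x⁻¹ := by group
      _ = (h' * n * h'⁻¹) * x * x⁻¹ := by rw [this]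
      _ = h' * n * h'⁻¹ := by group
  -- a minimal normal subgroup `W` of `G` inside `N`
  obtain ⟨W, ⟨hWn, hWne, hWN⟩, hWmin⟩ := wellFounded_lt.has_min
    {K : Subgroup G | K.Normal ∧ K ≠ ⊥ ∧ K ≤ N} ⟨N, hNn, hNne, le_rfl⟩
  have hWab : ∀ a ∈ W, ∀ b ∈ W, a * b = b * a := fun a ha b hb => (hWN hb).2.1 a (hNP (hWN ha))
  have hWexp : ∀ n ∈ W, n ^ p = 1 := fun n hn => (hWN hn).2.2
  -- every element of `H` acts on `W` as a power map
  have hpowmap : ∀ h ∈ H, ∃ c : ℕ, ∀ n ∈ W, h * n * h⁻¹ = n ^ c := by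
    intro h hh
    obtain ⟨c, n₀, hn₀, hn₀1, hc⟩ := exists_conj_eq_pow' W
      (fun a b => Subtype.ext (hWab a a.2 b b.2)) hWexp hWne h
      (by intro n _; rw [hHexp h hh]; simp)
    let E : Subgroup G :=
      { carrier := {n | n ∈ W ∧ h * n * h⁻¹ = n ^ c}
        mul_mem' := by
          rintro a b ⟨ha, ha'⟩ ⟨hb, hb'⟩
          refine ⟨W.mul_mem ha hb, ?_⟩
          have hcm : Commute a b := hWab a ha b hb
          rw [hcm.mul_pow, ← ha', ← hb']; group
        one_mem' := ⟨W.one_mem, by simp⟩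
        inv_mem' := by
          rintro a ⟨ha, ha'⟩
          refine ⟨W.inv_mem ha, ?_⟩
          rw [inv_pow, ← ha']; group }
    have hEn : E.Normal := by
      refine ⟨fun n hn g => ?_⟩
      obtain ⟨hn1, hn2⟩ := hn
      obtain ⟨h', hh', hg⟩ := hconj g
      rw [hg n (hWN hn1)]
      refine ⟨hWn.conj_mem n hn1 h', ?_⟩
      have hcm : h * h' = h' * h := hHab h hh h' hh'
      calc h * (h' * n * h'⁻¹) * h⁻¹ = (h * h') * n * (h * h')⁻¹ := by group
        _ = (h' * h) * n * (h' * h)⁻¹ := by rw [hcm]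
        _ = h' * (h * n * h⁻¹) * h'⁻¹ := by group
        _ = h' * n ^ c * h'⁻¹ := by rw [hn2]
        _ = (h' * n * h'⁻¹) ^ c := by rw [conj_pow]
    have hEne : E ≠ ⊥ := by
      intro hE
      have : n₀ ∈ E := ⟨hn₀, hc⟩
      rw [hE, Subgroup.mem_bot] at this
      exact hn₀1 this
    have hEW : E ≤ W := fun n hn => hn.1
    have hEeq : E = W := by
      by_contra hne
      exact hWmin E ⟨hEn, hEne, hEW.trans hWN⟩ (lt_of_le_of_ne hEW hne)
    refine ⟨c, fun n hn => ?_⟩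
    have : n ∈ E := by rw [hEeq]; exact hn
    exact this.2
  obtain ⟨x₀, hx₀W, hx₀1⟩ : ∃ x₀ : G, x₀ ∈ W ∧ x₀ ≠ 1 := by
    obtain ⟨w, hw⟩ := (Subgroup.ne_bot_iff_exists_ne_one).mp hWne
    exact ⟨(w : G), w.2, fun h => hw (Subtype.ext h)⟩
  have hCW : Subgroup.zpowers x₀ ≤ W := (Subgroup.zpowers_le).mpr hx₀W
  refine ⟨x₀, hNP (hWN hx₀W), hx₀1, hWexp x₀ hx₀W, ⟨fun y hy g => ?_⟩⟩
  obtain ⟨h', hh', hg⟩ := hconj g
  obtain ⟨c, hc⟩ := hpowmap h' hh'
  rw [hg y (hWN (hCW hy)), hc y (hCW hy)]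
  exact Subgroup.pow_mem _ hy c

/-- The relative version: a proper normal subgroup `D < P` extends by a `p`-step to a normal subgroup inside `P`. -/
theorem exists_normal_sup_zpowers {G : Type*} [Group G] [Finite G] {p : ℕ} [hp : Fact p.Prime]
    (P H D : Subgroup G) [hPn : P.Normal] [hDn : D.Normal] (hP : IsPGroup p P) (hDP : D < P)
    (hdecomp : ∀ g : G, ∃ x ∈ P, ∃ h ∈ H, g = x * h)
    (hHab : ∀ a ∈ H, ∀ b ∈ H, a * b = b * a) (hHexp : ∀ h ∈ H, h ^ (p - 1) = 1) :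
    ∃ x ∈ P, x ∉ D ∧ x ^ p ∈ D ∧ (D ⊔ Subgroup.zpowers x).Normal := by
  have hq : ∀ g : G, (QuotientGroup.mk' D g = 1) ↔ g ∈ D := fun g => QuotientGroup.eq_one_iff g
  have hPn' : (P.map (QuotientGroup.mk' D)).Normal := hPn.map _ (QuotientGroup.mk'_surjective D)
  have hP' : IsPGroup p (P.map (QuotientGroup.mk' D)) := hP.map _
  have hPne' : P.map (QuotientGroup.mk' D) ≠ ⊥ := by
    intro h
    rw [Subgroup.map_eq_bot_iff, QuotientGroup.ker_mk'] at h
    exact absurd (le_antisymm h hDP.le) (ne_of_gt hDP)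
  have hdecomp' : ∀ g : G ⧸ D, ∃ x ∈ P.map (QuotientGroup.mk' D), ∃ h ∈ H.map (QuotientGroup.mk' D),
      g = x * h := by
    intro g
    obtain ⟨g, rfl⟩ := QuotientGroup.mk'_surjective D g
    obtain ⟨x, hx, h, hh, rfl⟩ := hdecomp g
    exact ⟨_, ⟨x, hx, rfl⟩, _, ⟨h, hh, rfl⟩, map_mul _ _ _⟩
  have hHab' : ∀ a ∈ H.map (QuotientGroup.mk' D), ∀ b ∈ H.map (QuotientGroup.mk' D), a * b = b * a := by
    rintro _ ⟨a, ha, rfl⟩ _ ⟨b, hb, rfl⟩
    rw [← map_mul, ← map_mul, hHab a ha b hb]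
  have hHexp' : ∀ h ∈ H.map (QuotientGroup.mk' D), h ^ (p - 1) = 1 := by
    rintro _ ⟨a, ha, rfl⟩
    rw [← map_pow, hHexp a ha, map_one]
  obtain ⟨x', ⟨x, hxP, rfl⟩, hx1, hxp, hxn⟩ := exists_normal_zpowers (P.map (QuotientGroup.mk' D))
    (H.map (QuotientGroup.mk' D)) hP' hPne' hdecomp' hHab' hHexp'
  refine ⟨x, hxP, fun h => hx1 ((hq x).mpr h), ?_, ?_⟩
  · rw [← hq, map_pow]; exact hxp
  · have : D ⊔ Subgroup.zpowers x = (Subgroup.zpowers (QuotientGroup.mk' D x)).comap (QuotientGroup.mk' D) := by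
      rw [← MonoidHom.map_zpowers, Subgroup.comap_map_eq, QuotientGroup.ker_mk', sup_comm]
    rw [this]
    exact hxn.comap _

/-- If `G = P H` with `P` a normal `p`-subgroup and `H` abelian of exponent dividing `p - 1`, there is a chain of normal
subgroups of `G` from `1` to `P` with `p`-steps. -/
theorem exists_normal_pstep_seq {G : Type*} [Group G] [Finite G] {p : ℕ} [hp : Fact p.Prime]
    (P H : Subgroup G) [hPn : P.Normal] (hP : IsPGroup p P)
    (hdecomp : ∀ g : G, ∃ x ∈ P, ∃ h ∈ H, g = x * h)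
    (hHab : ∀ a ∈ H, ∀ b ∈ H, a * b = b * a) (hHexp : ∀ h ∈ H, h ^ (p - 1) = 1) :
    ∃ (n : ℕ) (d : ℕ → Subgroup G), d 0 = ⊥ ∧ (∀ k, n ≤ k → d k = P) ∧ (∀ k, (d k).Normal ∧ d k ≤ P) ∧
      ∀ k, ∃ x, d (k + 1) = d k ⊔ Subgroup.zpowers x ∧ x ^ p ∈ d k := by
  have key : ∀ D : Subgroup G, (D.Normal ∧ D ≤ P) → PChain p (fun K => K.Normal ∧ K ≤ P) D P := by
    intro D
    induction D using WellFoundedGT.induction with
    | ind D ih =>
      rintro ⟨hDn, hDP⟩
      by_cases hD : D = P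
      · rw [hD]; exact PChain.refl P ⟨hPn, le_rfl⟩
      · obtain ⟨x, hxP, hxD, hxp, hn⟩ := exists_normal_sup_zpowers P H D hP (lt_of_le_of_ne hDP hD)
          hdecomp hHab hHexp
        have hlt : D < D ⊔ Subgroup.zpowers x := by
          refine lt_of_le_of_ne le_sup_left (fun h => hxD ?_)
          rw [h]; exact Subgroup.mem_sup_right (Subgroup.mem_zpowers x)
        have hle : D ⊔ Subgroup.zpowers x ≤ P := sup_le hDP ((Subgroup.zpowers_le).mpr hxP)
        exact PChain.step D _ P ⟨hDn, hDP⟩ ⟨x, rfl, hxp⟩ (ih _ hlt ⟨hn, hle⟩)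
  exact (key ⊥ ⟨inferInstance, bot_le⟩).exists_seq

end Cfsg.Agent.Lib.Helper84
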