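/-
helper84: the transport `E^α` of a fusion system `E` over `T` along an automorphism `α` of `T`
(the maps `φ` with `α φ α⁻¹` in `E`), and the restriction homomorphism `Aut_F(R) → Aut_F(R ⊓ T)` for a strongly
closed subgroup `T`. All declarations live in `Cfsg.Agent.Lib.Helper84`.
-/
import Mathlib
import Cfsg.Agent.Lib.Helper87.FusionCore

set_option autoImplicit false

namespace Cfsg.Agent.Lib.Helper84

open Cfsg Cfsg.FusionSystem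
open Cfsg.Agent.Lib.Helper87

variable {Ω : Type*} [Group Ω]

/-- The image `α(P)` of a subgroup `P` (in use `P ≤ T`) under an automorphism `α` of `T`, as a subgroup of the ambient group. -/
abbrev imgAut {T : Subgroup Ω} (α : MulAut T) (P : Subgroup Ω) : Subgroup Ω :=
  (P.subgroupOf T).map (T.subtype.comp α.toMonoidHom)

theorem mem_imgAut {T : Subgroup Ω} {α : MulAut T} {P : Subgroup Ω} {y : Ω} :
    y ∈ imgAut α P ↔ ∃ t : T, (t : Ω) ∈ P ∧ ((α t : T) : Ω) = y := by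
  constructor
  · rintro ⟨t, ht, rfl⟩
    exact ⟨t, Subgroup.mem_subgroupOf.1 ht, rfl⟩
  · rintro ⟨t, ht, rfl⟩
    exact ⟨t, Subgroup.mem_subgroupOf.2 ht, rfl⟩

theorem apply_mem_imgAut {T : Subgroup Ω} (α : MulAut T) {P : Subgroup Ω} (hPT : P ≤ T) (x : P) :
    ((α ⟨x, hPT x.2⟩ : T) : Ω) ∈ imgAut α P :=
  mem_imgAut.2 ⟨⟨x, hPT x.2⟩, x.2, rfl⟩

theorem imgAut_le {T : Subgroup Ω} (α : MulAut T) (P : Subgroup Ω) : imgAut α P ≤ T := by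
  intro y hy
  obtain ⟨t, -, rfl⟩ := mem_imgAut.1 hy
  exact (α t).2

/-- The transport `E^α`: the maps `φ` between subgroups of `T` such that `α φ α⁻¹` is a map of `E`. -/
def twist {T : Subgroup Ω} (E : FusionSystem T) (α : MulAut T) : FusionSystem T where
  Hom P := {φ | ∃ (hPT : P ≤ T) (hφ : ∀ x : P, φ x ∈ T), ∃ χ ∈ E.Hom (imgAut α P),
    ∀ x : P, χ ⟨(α ⟨x, hPT x.2⟩ : T), apply_mem_imgAut α hPT x⟩ = ((α ⟨φ x, hφ x⟩ : T) : Ω)}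
  le_of_mem := by
    rintro P φ ⟨hPT, hφ, -⟩
    exact ⟨hPT, hφ⟩
  injective_of_mem := by
    rintro P φ ⟨hPT, hφ, χ, hχ, h⟩ x y hxy
    have h1 : χ ⟨(α ⟨x, hPT x.2⟩ : T), apply_mem_imgAut α hPT x⟩ =
        χ ⟨(α ⟨y, hPT y.2⟩ : T), apply_mem_imgAut α hPT y⟩ := by
      rw [h x, h y]
      have : (⟨φ x, hφ x⟩ : T) = ⟨φ y, hφ y⟩ := Subtype.ext hxy
      rw [this]
    have h2 := E.injective_of_mem hχ h1
    have h3 : ((α ⟨x, hPT x.2⟩ : T) : Ω) = ((α ⟨y, hPT y.2⟩ : T) : Ω) :=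
      congrArg (fun z : imgAut α P => (z : Ω)) h2
    have h4 := α.injective (Subtype.ext h3)
    exact Subtype.ext (congrArg (fun z : T => (z : Ω)) h4)
  conj_mem := by
    intro P g hPT hg
    have hφ : ∀ x : P, conjHom P g x ∈ T := fun x =>
      T.mul_mem (T.mul_mem hg (hPT x.2)) (T.inv_mem hg)
    refine ⟨hPT, hφ, conjHom (imgAut α P) ((α ⟨g, hg⟩ : T) : Ω),
      E.conj_mem (imgAut_le α P) (α ⟨g, hg⟩).2, fun x => ?_⟩
    have h1 : (⟨conjHom P g x, hφ x⟩ : T) = ⟨g, hg⟩ * ⟨x, hPT x.2⟩ * (⟨g, hg⟩ : T)⁻¹ := Subtype.ext rfl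
    rw [h1, map_mul, map_mul, map_inv]
    rfl
  comp_mem := by
    rintro P Q φ ψ ⟨hPT, hφ, χ₁, hχ₁, h1⟩ ⟨hQT, hψ, χ₂, hχ₂, h2⟩ h
    have hmaps : ∀ y : imgAut α P, χ₁ y ∈ imgAut α Q := by
      rintro ⟨y, hy⟩
      obtain ⟨t, ht, rfl⟩ := mem_imgAut.1 hy
      have := h1 ⟨t, ht⟩
      have h3 : χ₁ ⟨((α t : T) : Ω), hy⟩ = ((α ⟨φ ⟨t, ht⟩, hφ ⟨t, ht⟩⟩ : T) : Ω) := this
      rw [h3]
      exact apply_mem_imgAut α hQT ⟨φ ⟨t, ht⟩, h ⟨t, ht⟩⟩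
    refine ⟨hPT, fun x => hψ _, χ₂.comp (χ₁.codRestrict (imgAut α Q) hmaps), E.comp_mem hχ₁ hχ₂ hmaps, fun x => ?_⟩
    show χ₂ ⟨χ₁ ⟨(α ⟨x, hPT x.2⟩ : T), apply_mem_imgAut α hPT x⟩, _⟩ = _
    have h3 : (⟨χ₁ ⟨(α ⟨x, hPT x.2⟩ : T), apply_mem_imgAut α hPT x⟩, hmaps _⟩ : imgAut α Q) =
        ⟨(α ⟨(⟨φ x, h x⟩ : Q), hQT (h x)⟩ : T), apply_mem_imgAut α hQT ⟨φ x, h x⟩⟩ := Subtype.ext (h1 x)
    rw [h3, h2]
    rfl
  inv_mem := by
    rintro P φ ⟨hPT, hφ, χ, hχ, h⟩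
    obtain ⟨χ', hχ', hinv⟩ := E.inv_mem hχ
    have hinjφ : Function.Injective φ := by
      intro x y hxy
      have h1 : χ ⟨(α ⟨x, hPT x.2⟩ : T), apply_mem_imgAut α hPT x⟩ =
          χ ⟨(α ⟨y, hPT y.2⟩ : T), apply_mem_imgAut α hPT y⟩ := by
        rw [h x, h y]
        have : (⟨φ x, hφ x⟩ : T) = ⟨φ y, hφ y⟩ := Subtype.ext hxy
        rw [this]
      have h2 := E.injective_of_mem hχ h1
      have h3 : ((α ⟨x, hPT x.2⟩ : T) : Ω) = ((α ⟨y, hPT y.2⟩ : T) : Ω) :=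
        congrArg (fun z : imgAut α P => (z : Ω)) h2
      have h4 := α.injective (Subtype.ext h3)
      exact Subtype.ext (congrArg (fun z : T => (z : Ω)) h4)
    have hrT : φ.range ≤ T := by
      rintro _ ⟨x, rfl⟩
      exact hφ x
    have hle : imgAut α φ.range ≤ χ.range := by
      intro y hy
      obtain ⟨t, ⟨x, hx⟩, rfl⟩ := mem_imgAut.1 hy
      refine ⟨⟨(α ⟨x, hPT x.2⟩ : T), apply_mem_imgAut α hPT x⟩, ?_⟩
      rw [h x]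
      have : (⟨φ x, hφ x⟩ : T) = t := Subtype.ext hx
      rw [this]
    refine ⟨P.subtype.comp (MonoidHom.ofInjective hinjφ).symm.toMonoidHom,
      ⟨hrT, fun y => hPT (Subtype.coe_prop _), χ'.comp (Subgroup.inclusion hle), restrict_mem E hχ' hle, ?_⟩, ?_⟩
    · rintro ⟨_, x, rfl⟩
      have hx1 : (MonoidHom.ofInjective hinjφ).symm ⟨φ x, ⟨x, rfl⟩⟩ = x :=
        (MonoidHom.ofInjective hinjφ).symm_apply_apply x
      have h5 : (⟨((α ⟨φ x, hφ x⟩ : T) : Ω), hle (apply_mem_imgAut α hrT ⟨φ x, ⟨x, rfl⟩⟩)⟩ : χ.range) =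
          ⟨χ ⟨(α ⟨x, hPT x.2⟩ : T), apply_mem_imgAut α hPT x⟩, ⟨_, rfl⟩⟩ := Subtype.ext (h x).symm
      have h6 := hinv ⟨(α ⟨x, hPT x.2⟩ : T), apply_mem_imgAut α hPT x⟩
      have h7 : χ' ⟨((α ⟨φ x, hφ x⟩ : T) : Ω), hle (apply_mem_imgAut α hrT ⟨φ x, ⟨x, rfl⟩⟩)⟩ =
          ((α ⟨x, hPT x.2⟩ : T) : Ω) := by rw [h5]; exact h6
      have h8 : (⟨(P.subtype.comp (MonoidHom.ofInjective hinjφ).symm.toMonoidHom) ⟨φ x, ⟨x, rfl⟩⟩,
          hPT (Subtype.coe_prop _)⟩ : T) = ⟨x, hPT x.2⟩ :=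
        Subtype.ext (congrArg (fun z : P => (z : Ω)) hx1)
      refine Eq.trans ?_ (congrArg (fun z : T => ((α z : T) : Ω)) h8.symm)
      exact h7
    · intro x
      exact congrArg Subtype.val ((MonoidHom.ofInjective hinjφ).symm_apply_apply x)

theorem mem_twist_hom {T : Subgroup Ω} {E : FusionSystem T} {α : MulAut T} {P : Subgroup Ω} {φ : P →* Ω} :
    φ ∈ (twist E α).Hom P ↔ ∃ (hPT : P ≤ T) (hφ : ∀ x : P, φ x ∈ T), ∃ χ ∈ E.Hom (imgAut α P),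
      ∀ x : P, χ ⟨(α ⟨x, hPT x.2⟩ : T), apply_mem_imgAut α hPT x⟩ = ((α ⟨φ x, hφ x⟩ : T) : Ω) := Iff.rfl

section resAut

variable {S : Subgroup Ω}

/-- The restriction of `γ ∈ Aut_F(R)` to `R ⊓ T`, for `T` strongly closed in `F`. -/
def resAutFun (F : FusionSystem S) {T : Subgroup Ω} (hT : F.StronglyClosed T) {R : Subgroup Ω} (hRS : R ≤ S)
    (γ : MulAut R) (hγ : γ ∈ F.autGroup R) : MulAut ↥(R ⊓ T) where
  toFun x := ⟨γ ⟨x, x.2.1⟩, ⟨(γ ⟨x, x.2.1⟩).2,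
    hT.2 (R ⊓ T) inf_le_right _ (restrict_mem F ((mem_autGroup_iff F hRS).1 hγ) inf_le_left) x⟩⟩
  invFun x := ⟨γ⁻¹ ⟨x, x.2.1⟩, ⟨(γ⁻¹ ⟨x, x.2.1⟩).2,
    hT.2 (R ⊓ T) inf_le_right _
      (restrict_mem F ((mem_autGroup_iff F hRS).1 (Subgroup.inv_mem _ hγ)) inf_le_left) x⟩⟩
  left_inv x := by
    apply Subtype.ext
    show ((γ⁻¹ (γ ⟨x, x.2.1⟩) : R) : Ω) = x
    simp
  right_inv x := by
    apply Subtype.ext
    show ((γ (γ⁻¹ ⟨x, x.2.1⟩) : R) : Ω) = x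
    simp
  map_mul' x y := by
    apply Subtype.ext
    show ((γ (⟨x, x.2.1⟩ * ⟨y, y.2.1⟩) : R) : Ω) = _
    rw [map_mul]
    rfl

theorem resAutFun_apply (F : FusionSystem S) {T : Subgroup Ω} (hT : F.StronglyClosed T) {R : Subgroup Ω}
    (hRS : R ≤ S) (γ : MulAut R) (hγ : γ ∈ F.autGroup R) (x : ↥(R ⊓ T)) :
    ((resAutFun F hT hRS γ hγ x : ↥(R ⊓ T)) : Ω) = ((γ ⟨x, x.2.1⟩ : R) : Ω) := rfl

theorem resAutFun_mem (F : FusionSystem S) {T : Subgroup Ω} (hT : F.StronglyClosed T) {R : Subgroup Ω}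
    (hRS : R ≤ S) (γ : MulAut R) (hγ : γ ∈ F.autGroup R) :
    resAutFun F hT hRS γ hγ ∈ F.autGroup (R ⊓ T) := by
  rw [mem_autGroup_iff F (inf_le_left.trans hRS)]
  exact hom_of_eq_on F rfl (restrict_mem F ((mem_autGroup_iff F hRS).1 hγ) inf_le_left) (fun x hx _ => rfl)

/-- Restriction `Aut_F(R) → Aut_F(R ⊓ T)` as a homomorphism, for `T` strongly closed in `F`. -/
def resAut (F : FusionSystem S) {T : Subgroup Ω} (hT : F.StronglyClosed T) {R : Subgroup Ω} (hRS : R ≤ S) :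
    F.autGroup R →* F.autGroup (R ⊓ T) where
  toFun γ := ⟨resAutFun F hT hRS γ.1 γ.2, resAutFun_mem F hT hRS γ.1 γ.2⟩
  map_one' := by
    apply Subtype.ext
    ext x
    rfl
  map_mul' a b := by
    apply Subtype.ext
    ext x
    rfl

theorem resAut_apply (F : FusionSystem S) {T : Subgroup Ω} (hT : F.StronglyClosed T) {R : Subgroup Ω}
    (hRS : R ≤ S) (γ : F.autGroup R) (x : ↥(R ⊓ T)) :
    ((((resAut F hT hRS γ : F.autGroup (R ⊓ T)) : MulAut ↥(R ⊓ T)) x : ↥(R ⊓ T)) : Ω) =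
      (((γ : MulAut R) ⟨x, x.2.1⟩ : R) : Ω) := rfl

end resAut

end Cfsg.Agent.Lib.Helper84
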