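/-
helper84: for `T` strongly closed in `F` and a fusion system `E` over `T` that is stable under `Aut_F(T)`,
the fusion system over `S` of the maps of `F` whose restriction to `T` is an element of `Aut_F(T)` composed with a map of `E`
("Frattini system"). All declarations live in `Cfsg.Agent.Lib.Helper84`.
-/
import Mathlib
import Cfsg.Agent.Lib.Helper84.FusionTwist
import Cfsg.Agent.Lib.Helper87.FusionSat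

set_option autoImplicit false

namespace Cfsg.Agent.Lib.Helper84

open Cfsg Cfsg.FusionSystem
open Cfsg.Agent.Lib.Helper87

variable {Ω : Type*} [Group Ω] {S : Subgroup Ω}

/-- A strongly closed subgroup is normalized by `S`. -/
theorem le_normalizer_of_stronglyClosed' (F : FusionSystem S) {T : Subgroup Ω} (hT : F.StronglyClosed T) :
    S ≤ Subgroup.normalizer (T : Set Ω) := by
  have key : ∀ s ∈ S, ∀ t ∈ T, s * t * s⁻¹ ∈ T := fun s hs t ht =>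
    hT.2 T le_rfl (conjHom T s) (F.conj_mem hT.1 hs) ⟨t, ht⟩
  intro s hs
  rw [Subgroup.mem_normalizer_iff]
  intro h
  constructor
  · exact key s hs h
  · intro hh
    have := key s⁻¹ (S.inv_mem hs) _ hh
    have h2 : s⁻¹ * (s * h * s⁻¹) * s⁻¹⁻¹ = h := by group
    rwa [h2] at this

theorem conjAut_mem_autGroup (F : FusionSystem S) {T : Subgroup Ω} (hT : F.StronglyClosed T) {s : Ω} (hs : s ∈ S) :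
    conjAut T s (le_normalizer_of_stronglyClosed' F hT hs) ∈ F.autGroup T :=
  autInducedBy_le_autGroup F hT.1 (mem_autInducedBy_iff.2 ⟨s, hs, fun _ => rfl⟩)

/-- The maps of `F` whose restriction to `T` is an element of `Aut_F(T)` composed with a map of `E`. -/
def frattiniSystem (F : FusionSystem S) {T : Subgroup Ω} (hT : F.StronglyClosed T) (E : FusionSystem T)
    (hinv : ∀ α ∈ F.autGroup T, ∀ P : Subgroup Ω, E.Hom P ⊆ (twist E α).Hom P) : FusionSystem S where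
  Hom P := {φ | φ ∈ F.Hom P ∧ ∃ α ∈ F.autGroup T, ∃ φ₀ : ↥(P ⊓ T) →* Ω, ∃ hφ₀ : φ₀ ∈ E.Hom (P ⊓ T),
    ∀ x : ↥(P ⊓ T), φ ⟨x, x.2.1⟩ = ((α ⟨φ₀ x, (E.le_of_mem hφ₀).2 x⟩ : T) : Ω)}
  le_of_mem h := F.le_of_mem h.1
  injective_of_mem h := F.injective_of_mem h.1
  conj_mem := by
    intro P g hP hg
    refine ⟨F.conj_mem hP hg, conjAut T g (le_normalizer_of_stronglyClosed' F hT hg),
      conjAut_mem_autGroup F hT hg, (P ⊓ T).subtype, subtype_mem E inf_le_right, fun x => rfl⟩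
  comp_mem := by
    rintro P Q φ ψ ⟨hφ, α, hα, φ₀, hφ₀, h1⟩ ⟨hψ, β, hβ, ψ₀, hψ₀, h2⟩ h
    refine ⟨F.comp_mem hφ hψ h, β * α, Subgroup.mul_mem _ hβ hα, ?_⟩
    obtain ⟨hQT, hψ₀T, χ, hχ, h3⟩ := hinv α⁻¹ (Subgroup.inv_mem _ hα) (Q ⊓ T) hψ₀
    -- the image of `x ∈ P ⊓ T` in `Q ⊓ T`
    have hy : ∀ x : ↥(P ⊓ T), φ ⟨x, x.2.1⟩ ∈ Q ⊓ T := fun x =>
      ⟨h _, by rw [h1 x]; exact (α _).2⟩
    have hkey : ∀ x : ↥(P ⊓ T), ((α⁻¹ ⟨φ ⟨x, x.2.1⟩, (hy x).2⟩ : T) : Ω) = φ₀ x := by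
      intro x
      have : (⟨φ ⟨x, x.2.1⟩, (hy x).2⟩ : T) = α ⟨φ₀ x, (E.le_of_mem hφ₀).2 x⟩ := Subtype.ext (h1 x)
      rw [this]
      simp
    have hmaps : ∀ x : ↥(P ⊓ T), φ₀ x ∈ imgAut α⁻¹ (Q ⊓ T) := fun x =>
      mem_imgAut.2 ⟨⟨φ ⟨x, x.2.1⟩, (hy x).2⟩, hy x, hkey x⟩
    refine ⟨χ.comp (φ₀.codRestrict _ hmaps), E.comp_mem hφ₀ hχ hmaps, fun x => ?_⟩
    have e0 : (⟨φ₀ x, hmaps x⟩ : imgAut α⁻¹ (Q ⊓ T)) =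
        ⟨(α⁻¹ ⟨(⟨φ ⟨x, x.2.1⟩, hy x⟩ : ↥(Q ⊓ T)), hQT (hy x)⟩ : T),
          apply_mem_imgAut α⁻¹ hQT ⟨φ ⟨x, x.2.1⟩, hy x⟩⟩ := Subtype.ext (hkey x).symm
    have e1 : (⟨(χ.comp (φ₀.codRestrict _ hmaps)) x,
        (E.le_of_mem (E.comp_mem hφ₀ hχ hmaps)).2 x⟩ : T) =
        α⁻¹ ⟨ψ₀ ⟨φ ⟨x, x.2.1⟩, hy x⟩, hψ₀T _⟩ := by
      apply Subtype.ext
      show χ ⟨φ₀ x, hmaps x⟩ = _
      rw [e0, h3]
    rw [e1]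
    show ψ ⟨φ ⟨x, x.2.1⟩, h _⟩ = ((β (α (α⁻¹ ⟨ψ₀ ⟨φ ⟨x, x.2.1⟩, hy x⟩, hψ₀T _⟩)) : T) : Ω)
    rw [MulAut.apply_inv_self]
    exact h2 ⟨φ ⟨x, x.2.1⟩, hy x⟩
  inv_mem := by
    rintro P φ ⟨hφ, α, hα, φ₀, hφ₀, h1⟩
    obtain ⟨ψ, hψ, hψinv⟩ := F.inv_mem hφ
    refine ⟨ψ, ⟨hψ, α⁻¹, Subgroup.inv_mem _ hα, ?_⟩, hψinv⟩
    obtain ⟨φ₀', hφ₀', hφ₀inv⟩ := E.inv_mem hφ₀
    obtain ⟨hrT, hφ₀'T, χ, hχ, h3⟩ := hinv α hα φ₀.range hφ₀'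
    -- elements of `φ(P) ⊓ T` come from `P ⊓ T`
    have hpre : ∀ x : P, φ x ∈ T → (x : Ω) ∈ T := by
      intro x hx
      have h4 := hT.2 (φ.range ⊓ T) inf_le_right _ (restrict_mem F hψ inf_le_left) ⟨φ x, ⟨⟨x, rfl⟩, hx⟩⟩
      have h5 : ψ ⟨φ x, ⟨x, rfl⟩⟩ ∈ T := h4
      rwa [hψinv x] at h5
    have hform : ∀ (x : P) (hx : (x : Ω) ∈ T), φ x =
        ((α ⟨(⟨φ₀ ⟨x, ⟨x.2, hx⟩⟩, ⟨_, rfl⟩⟩ : φ₀.range), hrT ⟨_, rfl⟩⟩ : T) : Ω) := by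
      intro x hx
      exact h1 ⟨x, ⟨x.2, hx⟩⟩
    have hle : φ.range ⊓ T ≤ imgAut α φ₀.range := by
      rintro _ ⟨⟨x, rfl⟩, hxT⟩
      rw [hform x (hpre x hxT)]
      exact apply_mem_imgAut α hrT _
    refine ⟨χ.comp (Subgroup.inclusion hle), restrict_mem E hχ hle, ?_⟩
    rintro ⟨_, ⟨x, rfl⟩, hxT⟩
    have hx : (x : Ω) ∈ T := hpre x hxT
    have e0 : (Subgroup.inclusion hle ⟨φ x, ⟨⟨x, rfl⟩, hxT⟩⟩ : imgAut α φ₀.range) =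
        ⟨(α ⟨(⟨φ₀ ⟨x, ⟨x.2, hx⟩⟩, ⟨_, rfl⟩⟩ : φ₀.range), hrT ⟨_, rfl⟩⟩ : T),
          apply_mem_imgAut α hrT _⟩ := Subtype.ext (hform x hx)
    have e1 : (⟨(χ.comp (Subgroup.inclusion hle)) ⟨φ x, ⟨⟨x, rfl⟩, hxT⟩⟩,
        (E.le_of_mem (restrict_mem E hχ hle)).2 _⟩ : T) = α ⟨x, hx⟩ := by
      apply Subtype.ext
      show χ (Subgroup.inclusion hle ⟨φ x, ⟨⟨x, rfl⟩, hxT⟩⟩) = _
      rw [e0, h3]
      congr 2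
      apply Subtype.ext
      exact hφ₀inv ⟨x, ⟨x.2, hx⟩⟩
    rw [e1]
    show ψ ⟨φ x, ⟨x, rfl⟩⟩ = ((α⁻¹ (α ⟨x, hx⟩) : T) : Ω)
    rw [MulAut.inv_apply_self]
    exact hψinv x

theorem mem_frattiniSystem_hom (F : FusionSystem S) {T : Subgroup Ω} (hT : F.StronglyClosed T) (E : FusionSystem T)
    (hinv : ∀ α ∈ F.autGroup T, ∀ P : Subgroup Ω, E.Hom P ⊆ (twist E α).Hom P) {P : Subgroup Ω} {φ : P →* Ω} :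
    φ ∈ (frattiniSystem F hT E hinv).Hom P ↔ φ ∈ F.Hom P ∧ ∃ α ∈ F.autGroup T, ∃ φ₀ : ↥(P ⊓ T) →* Ω,
      ∃ hφ₀ : φ₀ ∈ E.Hom (P ⊓ T),
        ∀ x : ↥(P ⊓ T), φ ⟨x, x.2.1⟩ = ((α ⟨φ₀ x, (E.le_of_mem hφ₀).2 x⟩ : T) : Ω) := Iff.rfl

end Cfsg.Agent.Lib.Helper84
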