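/-
helper84: "small abelian subgroups control fusion" (Benson-Grodal-Henke, Theorem B), general form with a strongly closed subgroup
`H` containing all `[R, ρ]`, `ρ` a `p'`-element of `Aut_F(R)`: if `E ≤ F` are saturated fusion systems over `S` and every
isomorphism of `F` between abelian subgroups of small exponent of `H` lies in `E`, then `F ≤ E`.
All declarations live in `Cfsg.Agent.Lib.Helper84`.
-/
import Cfsg.Agent.Lib.Helper84.FusionSmallControl2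
import Cfsg.Agent.Lib.Helper88.FusionAlperinCR

set_option autoImplicit false

namespace Cfsg.Agent.Lib.Helper84
open Cfsg Cfsg.FusionSystem Cfsg.Agent.Lib.Helper87 Cfsg.Agent.Lib.Helper29

variable {Ω : Type*} [Group Ω] {S : Subgroup Ω}

/-- `A` is an abelian subgroup of small exponent of `H`. -/
def IsSmallSub (p : ℕ) (H A : Subgroup Ω) : Prop :=
  A ≤ H ∧ (∀ a ∈ A, ∀ b ∈ A, a * b = b * a) ∧ ∀ a ∈ A, a ^ smallExp p = 1

theorem IsSmallSub.of_isIso {p : ℕ} {F : FusionSystem S} {H A A' : Subgroup Ω} (hA : IsSmallSub p H A)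
    (hH : F.StronglyClosed H) (e : A ≃* A') (he : IsIso F e) : IsSmallSub p H A' := by
  obtain ⟨h1, h2, h3⟩ := hA
  have hsurj : ∀ y ∈ A', ∃ x : A, ((e x : A') : Ω) = y := fun y hy =>
    ⟨e.symm ⟨y, hy⟩, by rw [MulEquiv.apply_symm_apply]⟩
  refine ⟨fun y hy => ?_, fun y hy z hz => ?_, fun y hy => ?_⟩
  · obtain ⟨x, rfl⟩ := hsurj y hy
    exact IsIso.apply_mem_of_stronglyClosed hH he x (h1 x.2)
  · obtain ⟨x, rfl⟩ := hsurj y hy
    obtain ⟨x', rfl⟩ := hsurj z hz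
    have h : x * x' = x' * x := Subtype.ext (h2 x x.2 x' x'.2)
    have := congrArg (fun t => ((e t : A') : Ω)) h
    simpa using this
  · obtain ⟨x, rfl⟩ := hsurj y hy
    have h : x ^ smallExp p = 1 := Subtype.ext (by simpa using h3 x x.2)
    have := congrArg (fun t => ((e t : A') : Ω)) h
    simpa using this

/-- The image in `Ω` of a normal abelian subgroup of small exponent of `R`. -/
theorem IsSmallNormalIn.isSmallSub {p : ℕ} {H R : Subgroup Ω} {C : Subgroup ↥R} (hC : IsSmallNormalIn p H R C) :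
    IsSmallSub p H (C.map R.subtype) := by
  obtain ⟨-, h2, h3, h4⟩ := hC
  refine ⟨?_, ?_, ?_⟩
  · rintro _ ⟨c, hc, rfl⟩
    exact h4 c hc
  · rintro _ ⟨c, hc, rfl⟩ _ ⟨d, hd, rfl⟩
    have := congrArg Subtype.val (h2 c hc d hd)
    simpa using this
  · rintro _ ⟨c, hc, rfl⟩
    have := congrArg Subtype.val (h3 c hc)
    simpa using this

theorem IsSmallNormalIn.le_normalizerIn {p : ℕ} {H R : Subgroup Ω} {C : Subgroup ↥R} (hC : IsSmallNormalIn p H R C)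
    (hRS : R ≤ S) : R ≤ normalizerIn S (C.map R.subtype) := by
  intro g hg
  refine ⟨hRS hg, ?_⟩
  have hn := hC.1
  show g ∈ Subgroup.normalizer ((C.map R.subtype : Subgroup Ω) : Set Ω)
  rw [Subgroup.mem_normalizer_iff]
  intro x
  constructor
  · rintro ⟨c, hc, rfl⟩
    exact ⟨⟨g, hg⟩ * c * ⟨g, hg⟩⁻¹, hn.conj_mem c hc ⟨g, hg⟩, rfl⟩
  · rintro ⟨c, hc, hcx⟩
    refine ⟨⟨g, hg⟩⁻¹ * c * ⟨g, hg⟩, ?_, ?_⟩
    · have := hn.conj_mem c hc ⟨g, hg⟩⁻¹
      simpa using this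
    · show g⁻¹ * (c : Ω) * g = x
      have h1 : (c : Ω) = g * x * g⁻¹ := hcx
      rw [h1]
      group

theorem mem_map_subtype_iff {R : Subgroup Ω} (C : Subgroup ↥R) (r : R) : (r : Ω) ∈ C.map R.subtype ↔ r ∈ C := by
  constructor
  · rintro ⟨c, hc, hcr⟩
    have : c = r := Subtype.ext hcr
    rwa [← this]
  · intro h
    exact ⟨r, h, rfl⟩

/-- An extension `ψ` of `e : P ≃* Q` to `N_S(P)` maps exactly `P` into `Q`. -/
theorem extension_mem_iff (E : FusionSystem S) {P Q : Subgroup Ω} (hPS : P ≤ S) {ψ : normalizerIn S P →* Ω}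
    (hψ : ψ ∈ E.Hom (normalizerIn S P)) (e : P ≃* Q)
    (hψe : ∀ (x : Ω) (hx : x ∈ P) (hx' : x ∈ normalizerIn S P), ψ ⟨x, hx'⟩ = e ⟨x, hx⟩)
    (g : normalizerIn S P) : ψ g ∈ Q ↔ (g : Ω) ∈ P := by
  constructor
  · intro h
    set a : P := e.symm ⟨ψ g, h⟩ with ha
    have ha' : (a : Ω) ∈ normalizerIn S P := le_normalizerIn hPS a.2
    have h1 : ψ ⟨(a : Ω), ha'⟩ = ψ g := by
      rw [hψe (a : Ω) a.2 ha']
      have : (⟨(a : Ω), a.2⟩ : P) = a := Subtype.ext rfl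
      rw [this, ha, MulEquiv.apply_symm_apply]
    have h2 := E.injective_of_mem hψ h1
    rw [← h2]
    exact a.2
  · intro hg
    have := hψe (g : Ω) hg g.2
    have h1 : (⟨(g : Ω), g.2⟩ : normalizerIn S P) = g := Subtype.ext rfl
    rw [h1] at this
    rw [this]
    exact (e _).2

/-- Conjugacy in a subsystem implies conjugacy in the system. -/
theorem isConj_of_sub {F E : FusionSystem S} (hEF : ∀ P : Subgroup Ω, E.Hom P ⊆ F.Hom P) {P Q : Subgroup Ω}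
    (h : E.IsConj P Q) : F.IsConj P Q := by
  obtain ⟨φ, hφ, hr⟩ := h
  exact ⟨φ, hEF P hφ, hr⟩

/-- **Main step.** Under the control hypothesis, if all maps of `F` on subgroups larger than `R` lie in `E`, so does `Aut_F(R)`. -/
theorem aut_isIso_of_small (F E : FusionSystem S) [Finite S] (p : ℕ) [Fact p.Prime] (hS : IsPGroup p S)
    (hF : F.IsSaturated p) (hE : E.IsSaturated p) (hEF : ∀ P : Subgroup Ω, E.Hom P ⊆ F.Hom P)
    (H : Subgroup Ω) (hHsc : F.StronglyClosed H)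
    (hHfoc : ∀ R₀ : Subgroup Ω, R₀ ≤ S → ∀ ρ ∈ F.autGroup R₀, (orderOf ρ).Coprime p →
      ∀ x : R₀, ((x⁻¹ * ρ x : R₀) : Ω) ∈ H)
    (hsm : ∀ A B : Subgroup Ω, IsSmallSub p H A → IsSmallSub p H B → ∀ f : A ≃* B, IsIso F f → IsIso E f)
    (R : Subgroup Ω) (hRS : R ≤ S) (IH : ∀ P' : Subgroup Ω, Nat.card R < Nat.card P' → F.Hom P' ⊆ E.Hom P')
    (φ : MulAut R) (hφ : φ ∈ F.autGroup R) : IsIso E (φ : R ≃* R) := by
  have hfinR : Finite R := finite_of_le hRS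
  have hφF : IsIso F (φ : R ≃* R) := (mem_autGroup_iff F hRS).1 hφ
  obtain ⟨A₀, hA₀, hA₀max⟩ := exists_max_isSmallNormalIn p H R
  have hB₀ : IsSmallNormalIn p H R (A₀.map (φ : R ≃* R).toMonoidHom) :=
    hA₀.map φ (fun x hx => StronglyClosed_aut_mem hHsc hRS hφ hx)
  set B₀ : Subgroup ↥R := A₀.map (φ : R ≃* R).toMonoidHom with hB₀def
  set A : Subgroup Ω := A₀.map R.subtype with hA
  set B : Subgroup Ω := B₀.map R.subtype with hB
  have hAsm : IsSmallSub p H A := hA₀.isSmallSub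
  have hBsm : IsSmallSub p H B := hB₀.isSmallSub
  have hAR : A ≤ R := Subgroup.map_subtype_le _
  have hBR : B ≤ R := Subgroup.map_subtype_le _
  have hAS : A ≤ S := hAR.trans hRS
  have hBS : B ≤ S := hBR.trans hRS
  have hRNA : R ≤ normalizerIn S A := hA₀.le_normalizerIn hRS
  have hRNB : R ≤ normalizerIn S B := hB₀.le_normalizerIn hRS
  have hmemA : ∀ r : R, (r : Ω) ∈ A ↔ r ∈ A₀ := mem_map_subtype_iff A₀
  have hmemB : ∀ r : R, ((φ r : R) : Ω) ∈ B ↔ r ∈ A₀ := by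
    intro r
    rw [hB, mem_map_subtype_iff]
    constructor
    · rintro ⟨a, ha, har⟩
      have : a = r := φ.injective har
      rwa [← this]
    · intro h
      exact ⟨r, h, rfl⟩
  -- the fully normalized conjugate `A'`
  obtain ⟨A', hAA', hA'a, hA'r⟩ := hF A hAS
  have hA'fn : F.IsFullyNormalized A' :=
    Cfsg.Agent.Lib.Helper88.isFullyNormalized_of_fullyAutomized_receptive F hS hA'a hA'r
  have hA'S : A' ≤ S := hA'fn.1
  obtain ⟨e₀, he₀⟩ := (isConj_iff F).1 hAA'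
  have hA'sm : IsSmallSub p H A' := hAsm.of_isIso hHsc e₀ he₀
  -- `A'` in `E`
  have hA'Efn : E.IsFullyNormalized A' := ⟨hA'S, fun Q hQ => hA'fn.2 Q (isConj_of_sub hEF hQ)⟩
  obtain ⟨hA'Ea, hA'Er⟩ := fullyAutomized_receptive_of_fullyNormalized E hS hE hA'Efn
  have hAA'E : E.IsConj A A' := (isConj_iff E).2 ⟨e₀, hsm A A' hAsm hA'sm e₀ he₀⟩
  have hAB : F.IsConj A B := by
    refine ⟨(R.subtype.comp (φ : R ≃* R).toMonoidHom).comp (Subgroup.inclusion hAR), restrict_mem F hφF hAR, ?_⟩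
    ext y
    constructor
    · rintro ⟨a, rfl⟩
      show ((φ (Subgroup.inclusion hAR a) : R) : Ω) ∈ B
      rw [hmemB, ← hmemA]
      exact a.2
    · rintro ⟨b, ⟨a, ha, rfl⟩, rfl⟩
      exact ⟨⟨(a : Ω), (hmemA a).2 ha⟩, rfl⟩
  obtain ⟨f₀, hf₀⟩ := (isConj_iff F).1 (IsConj_trans (IsConj_symm hAB) hAA')
  have hBA'E : E.IsConj B A' := (isConj_iff E).2 ⟨f₀, hsm B A' hBsm hA'sm f₀ hf₀⟩
  obtain ⟨ψA, eA, hψA, heA, hψAe⟩ := exists_extension E hS hA'Ea hA'Er hAA'E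
  obtain ⟨ψB, eB, hψB, heB, hψBe⟩ := exists_extension E hS hA'Ea hA'Er hBA'E
  -- the two maps out of `R`
  set α₀ : R →* Ω := ψA.comp (Subgroup.inclusion hRNA) with hα₀
  have hα₀E : α₀ ∈ E.Hom R := restrict_mem E hψA hRNA
  set aR : R ≃* α₀.range := MonoidHom.ofInjective (E.injective_of_mem hα₀E) with haR
  have haRE : IsIso E aR := isIso_ofInjective E hα₀E
  set β₀ : R →* Ω := ψB.comp (Subgroup.inclusion hRNB) with hβ₀
  have hβ₀E : β₀ ∈ E.Hom R := restrict_mem E hψB hRNB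
  set bR : R ≃* β₀.range := MonoidHom.ofInjective (E.injective_of_mem hβ₀E) with hbR
  have hbRE : IsIso E bR := isIso_ofInjective E hβ₀E
  have haRapp : ∀ r : R, ((aR r : α₀.range) : Ω) = ψA ⟨(r : Ω), hRNA r.2⟩ := fun r => rfl
  have hbRapp : ∀ r : R, ((bR r : β₀.range) : Ω) = ψB ⟨(r : Ω), hRNB r.2⟩ := fun r => rfl
  set χ : α₀.range ≃* β₀.range := aR.symm.trans ((φ : R ≃* R).trans bR) with hχ
  have hχF : IsIso F χ := (IsIso.symm (F := F) (hEF R haRE)).trans (hφF.trans (hEF R hbRE))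
  have hRX : F.IsConj R α₀.range := (isConj_iff F).2 ⟨aR, hEF R haRE⟩
  have hA'X : A' ≤ α₀.range := by
    intro y hy
    set a : A := eA.symm ⟨y, hy⟩ with ha
    refine ⟨⟨(a : Ω), hAR a.2⟩, ?_⟩
    show ψA ⟨(a : Ω), hRNA (hAR a.2)⟩ = y
    rw [hψAe (a : Ω) a.2]
    have : (⟨(a : Ω), a.2⟩ : A) = a := Subtype.ext rfl
    rw [this, ha, MulEquiv.apply_symm_apply]
  have hA'Y : A' ≤ β₀.range := by
    intro y hy
    set b : B := eB.symm ⟨y, hy⟩ with hb
    refine ⟨⟨(b : Ω), hBR b.2⟩, ?_⟩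
    show ψB ⟨(b : Ω), hRNB (hBR b.2)⟩ = y
    rw [hψBe (b : Ω) b.2]
    have : (⟨(b : Ω), b.2⟩ : B) = b := Subtype.ext rfl
    rw [this, hb, MulEquiv.apply_symm_apply]
  have hXN : α₀.range ≤ normalizerIn S A' := by
    rintro _ ⟨r, rfl⟩
    exact map_mem_normalizerIn E hAS hψA eA hψAe ⟨(r : Ω), hRNA r.2⟩
  have hYN : β₀.range ≤ normalizerIn S A' := by
    rintro _ ⟨r, rfl⟩
    exact map_mem_normalizerIn E hBS hψB eB hψBe ⟨(r : Ω), hRNB r.2⟩
  have hstab : ∀ x : α₀.range, (x : Ω) ∈ A' ↔ ((χ x : β₀.range) : Ω) ∈ A' := by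
    intro x
    set r : R := aR.symm x with hr
    have hx : x = aR r := by rw [hr, MulEquiv.apply_symm_apply]
    have h1 : (x : Ω) = ψA ⟨(r : Ω), hRNA r.2⟩ := by rw [hx]; rfl
    have h2 : ((χ x : β₀.range) : Ω) = ψB ⟨((φ r : R) : Ω), hRNB (φ r).2⟩ := by
      rw [hχ]
      show ((bR (φ (aR.symm x)) : β₀.range) : Ω) = _
      rfl
    rw [h1, h2, extension_mem_iff E hAS hψA eA hψAe, extension_mem_iff E hBS hψB eB hψBe]
    show (r : Ω) ∈ A ↔ ((φ r : R) : Ω) ∈ B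
    rw [hmemA, hmemB]
  have hkey : ∀ R₀ : Subgroup Ω, F.IsConj R R₀ → A' ≤ R₀ → R₀ ≤ normalizerIn S A' → ∀ ρ ∈ F.autGroup R₀,
      (orderOf ρ).Coprime p → (∀ a : R₀, (a : Ω) ∈ A' → ρ a = a) → ρ = 1 := by
    intro R₀ hconj hA'R₀ hR₀N ρ hρ hcop hfix
    refine aut_eq_one_of_fixes_max_small F p hS H hHsc hHfoc A₀ hA₀max hconj (A'.subgroupOf R₀) ?_ ?_ ρ hρ hcop
      (fun a ha => hfix a (Subgroup.mem_subgroupOf.1 ha))
    · refine ⟨Subgroup.normal_subgroupOf_of_le_normalizer (hR₀N.trans inf_le_right), ?_, ?_, ?_⟩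
      · intro a ha b hb
        exact Subtype.ext (hA'sm.2.1 _ (Subgroup.mem_subgroupOf.1 ha) _ (Subgroup.mem_subgroupOf.1 hb))
      · intro b hb
        apply Subtype.ext
        have := hA'sm.2.2 _ (Subgroup.mem_subgroupOf.1 hb)
        simpa using this
      · intro b hb
        exact hA'sm.1 (Subgroup.mem_subgroupOf.1 hb)
    · rw [Nat.card_congr (Subgroup.subgroupOfEquivOfLe hA'R₀).toEquiv, ← Nat.card_congr e₀.toEquiv, hA]
      exact Subgroup.card_map_of_injective R.subtype_injective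
  have hχE : IsIso E χ := isIso_of_stabilizes F E p hS hF hEF R IH A' hA'fn hA'Er
    (fun ω hω => hsm A' A' hA'sm hA'sm ω hω) hkey χ hχF hRX hA'X hA'Y hXN hYN hstab
  have hφeq : (φ : R ≃* R) = aR.trans (χ.trans bR.symm) := by
    ext r
    simp [hχ]
  rw [hφeq]
  exact haRE.trans (hχE.trans hbRE.symm)

/-- **Small abelian subgroups control fusion** (Benson-Grodal-Henke). -/
theorem le_of_small_control (F E : FusionSystem S) [Finite S] (p : ℕ) [Fact p.Prime] (hS : IsPGroup p S)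
    (hF : F.IsSaturated p) (hE : E.IsSaturated p) (hEF : ∀ P : Subgroup Ω, E.Hom P ⊆ F.Hom P)
    (H : Subgroup Ω) (hHsc : F.StronglyClosed H)
    (hHfoc : ∀ R₀ : Subgroup Ω, R₀ ≤ S → ∀ ρ ∈ F.autGroup R₀, (orderOf ρ).Coprime p →
      ∀ x : R₀, ((x⁻¹ * ρ x : R₀) : Ω) ∈ H)
    (hsm : ∀ A B : Subgroup Ω, IsSmallSub p H A → IsSmallSub p H B → ∀ f : A ≃* B, IsIso F f → IsIso E f) :
    ∀ P : Subgroup Ω, F.Hom P ⊆ E.Hom P := by
  apply alperin_weak F E hS hF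
  intro R hRa _ IH φ hφ
  exact aut_isIso_of_small F E p hS hF hE hEF H hHsc hHfoc hsm R hRa.1 IH φ hφ

end Cfsg.Agent.Lib.Helper84
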