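/-
helper84: `MulAut` form of `coprime_centralizes_of_small_chain`.
All declarations live in `Cfsg.Agent.Lib.Helper84`.
-/
import Mathlib
import Cfsg.Agent.Lib.Helper84.InvariantOmega

set_option autoImplicit false

namespace Cfsg.Agent.Lib.Helper84

open Cfsg.Agent.Lib.Helper29

variable {H : Type*} [Group H] [Finite H]

local notation "Γ" => SemidirectProduct H (MulAut H) (MonoidHom.id (MulAut H))

/-- **Main lemma, `MulAut` form.** A group `A` of automorphisms of the finite `p`-group `H` leaves `K ≤ H` invariant and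
preserves the chain `Z i` on the elements of `K` of small order; the elements of `T ⊆ A` act trivially on the factors of the
chain.  Then the `p'`-elements of the normal closure of `T` in `A` fix `K` elementwise. -/
theorem mulAut_coprime_fixes_of_small_chain (p : ℕ) [hp : Fact p.Prime] (hH : IsPGroup p H)
    (A : Subgroup (MulAut H)) (T : Set (MulAut H)) (hTA : T ⊆ A)
    (K : Subgroup H) (hAK : ∀ a ∈ A, ∀ x ∈ K, a x ∈ K)
    (Z : ℕ → Subgroup H) (n : ℕ) (hZ0 : K ⊓ Z 0 = ⊥) (hZn : K ≤ Z n)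
    (hi : ∀ c ∈ A, ∀ i, ∀ x ∈ K, (x ^ p = 1 ∨ (p = 2 ∧ x ^ 4 = 1)) → x ∈ Z i → c x ∈ Z i)
    (hii : ∀ t ∈ T, ∀ i, ∀ x ∈ K, x ∈ Z (i + 1) → x⁻¹ * t x ∈ Z i) :
    ∀ a ∈ Subgroup.closure {g : MulAut H | ∃ c ∈ A, ∃ t ∈ T, g = c * t * c⁻¹}, (orderOf a).Coprime p →
      ∀ x ∈ K, a x = x := by
  have := finite_holomorph (H := H)
  have hinl : Function.Injective (SemidirectProduct.inl : H →* Γ) := SemidirectProduct.inl_injective
  have hinr : Function.Injective (SemidirectProduct.inr : MulAut H →* Γ) := SemidirectProduct.inr_injective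
  have key := coprime_centralizes_of_small_chain (G := Γ) p (A.map (SemidirectProduct.inr : MulAut H →* Γ))
    ((SemidirectProduct.inr : MulAut H →* Γ) '' T)
    (by
      rintro _ ⟨t, ht, rfl⟩
      exact ⟨t, hTA ht, rfl⟩)
    (K.map (SemidirectProduct.inl : H →* Γ)) ((hH.to_subgroup K).map _)
    (by
      rintro _ ⟨α, hα, rfl⟩
      exact inr_mem_normalizer_map α K (hAK α hα))
    (fun i => (Z i).map (SemidirectProduct.inl : H →* Γ)) n
    (by
      rw [eq_bot_iff]
      rintro _ ⟨⟨x, hx, rfl⟩, ⟨z, hz, hzx⟩⟩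
      have hxz : z = x := hinl hzx
      have : x ∈ K ⊓ Z 0 := ⟨hx, hxz ▸ hz⟩
      rw [hZ0, Subgroup.mem_bot] at this
      rw [this, map_one]
      exact Subgroup.one_mem _)
    (Subgroup.map_mono hZn)
    (by
      rintro _ ⟨γ, hγ, rfl⟩ i _ ⟨x, hx, rfl⟩ hsmall ⟨z, hz, hzx⟩
      have hxz : z = x := hinl hzx
      have hxZ : x ∈ Z i := hxz ▸ hz
      have hsm : x ^ p = 1 ∨ (p = 2 ∧ x ^ 4 = 1) := by
        rcases hsmall with h | ⟨h2, h⟩
        · left
          apply hinl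
          rw [map_pow, h, map_one]
        · right
          refine ⟨h2, ?_⟩
          apply hinl
          rw [map_pow, h, map_one]
      rw [inl_aut']
      exact ⟨γ x, hi γ hγ i x hx hsm hxZ, rfl⟩)
    (by
      rintro _ ⟨t, ht, rfl⟩ i _ ⟨x, hx, rfl⟩ ⟨z, hz, hzx⟩
      have hxz : z = x := hinl hzx
      have hxZ : x ∈ Z (i + 1) := hxz ▸ hz
      rw [inl_aut', ← map_inv, ← map_mul]
      exact ⟨_, hii t ht i x hx hxZ, rfl⟩)
  intro a ha hcop x hx
  have hmem : (SemidirectProduct.inr a : Γ) ∈ Subgroup.closure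
      {g : Γ | ∃ c ∈ A.map (SemidirectProduct.inr : MulAut H →* Γ),
        ∃ t ∈ (SemidirectProduct.inr : MulAut H →* Γ) '' T, g = c * t * c⁻¹} := by
    have h1 : (SemidirectProduct.inr a : Γ) ∈
        (Subgroup.closure {g : MulAut H | ∃ c ∈ A, ∃ t ∈ T, g = c * t * c⁻¹}).map
          (SemidirectProduct.inr : MulAut H →* Γ) := ⟨a, ha, rfl⟩
    rw [MonoidHom.map_closure] at h1
    refine Subgroup.closure_mono ?_ h1
    rintro _ ⟨_, ⟨c, hc, t, ht, rfl⟩, rfl⟩
    exact ⟨SemidirectProduct.inr c, ⟨c, hc, rfl⟩, SemidirectProduct.inr t, ⟨t, ht, rfl⟩, by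
      rw [map_mul, map_mul, map_inv]⟩
  have hord : orderOf (SemidirectProduct.inr a : Γ) = orderOf a := orderOf_injective _ hinr a
  have := key _ hmem (hord ▸ hcop) _ ⟨x, hx, rfl⟩
  exact (inr_comm_iff a x).mp this

end Cfsg.Agent.Lib.Helper84
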