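/-
helper84: basic tools for the Kessar-Linckelmann ZJ-theorem for fusion systems: Alperin's theorem in centric-radical form with
induction hypothesis, normality of a subgroup `X` in terms of the normalizer system of `X`, the normalizer system as a system
over `S` when `S` normalizes `X`.
All declarations live in `Cfsg.Agent.Lib.Helper84.KL`.
-/
import Mathlib
import Cfsg.Prelude.Def_FusionSystem
import Cfsg.Agent.Lib.Helper84.ModelNormalizer
import Cfsg.Agent.Lib.Helper88.FusionNilpSub

set_option autoImplicit false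

namespace Cfsg.Agent.Lib.Helper84.KL

open Cfsg Cfsg.FusionSystem Cfsg.Agent.Lib.Helper87 Cfsg.Agent.Lib.Helper88 Cfsg.Agent.Lib.Helper84.Model

universe u v w

variable {Ω : Type u} [Group Ω] {S : Subgroup Ω}

/-- **Alperin's fusion theorem, centric-radical form with induction hypothesis.** -/
theorem alperin_cr_weak (F E : FusionSystem S) [Finite S] {p : ℕ} [Fact p.Prime] (hS : IsPGroup p S)
    (hF : F.IsSaturated p)
    (h : ∀ R : Subgroup Ω, F.IsFullyNormalized R → F.IsCentric R → F.IsRadical p R →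
      F.IsFullyAutomized p R → F.IsReceptive R →
      (∀ P' : Subgroup Ω, Nat.card R < Nat.card P' → F.Hom P' ⊆ E.Hom P') →
      ∀ α : MulAut R, α ∈ F.autGroup R → IsIso E (α : R ≃* R)) :
    ∀ P : Subgroup Ω, F.Hom P ⊆ E.Hom P := by
  apply alperin_weak F E hS hF
  intro R hRa hRr IH α hα
  rcases extender_proper_or F hS hRa hRr α hα with ⟨g, hgN, hgR⟩ | ⟨hc, hr, hn⟩
  · have hRS : R ≤ S := hRa.1
    have hφ : R.subtype.comp α.toMonoidHom ∈ F.Hom R := (Cfsg.Agent.Lib.Helper87.mem_autGroup_iff F hRS).1 hα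
    have hφr : (R.subtype.comp α.toMonoidHom).range = R := range_subtype_comp α
    obtain ⟨ψ, hψ, hψe⟩ := hRr.2 R _ hφ hφr
    have hRN : R ≤ extender S R (R.subtype.comp α.toMonoidHom) := by
      intro r hr
      have hrC : r ∈ S := hRS hr
      rw [Cfsg.Agent.Lib.Helper85.mem_extender_iff]
      refine ⟨hrC, ?_, (α ⟨r, hr⟩ : Ω), hRS (α ⟨r, hr⟩).2, ?_⟩
      · rw [Subgroup.mem_normalizer_iff]
        intro h
        constructor
        · intro hh; exact R.mul_mem (R.mul_mem hr hh) (R.inv_mem hr)
        · intro hh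
          have : h = r⁻¹ * (r * h * r⁻¹) * r := by group
          rw [this]
          exact R.mul_mem (R.mul_mem (R.inv_mem hr) hh) hr
      · intro x hx
        have : (⟨r * (x : Ω) * r⁻¹, hx⟩ : R) = ⟨r, hr⟩ * x * ⟨r, hr⟩⁻¹ := Subtype.ext rfl
        rw [this]
        simp
    have hNS : extender S R (R.subtype.comp α.toMonoidHom) ≤ S :=
      (extender_le S R _).trans (normalizerIn_le S R)
    have hfinN : Finite (extender S R (R.subtype.comp α.toMonoidHom)) := finite_of_le hNS
    have hlt : Nat.card R < Nat.card (extender S R (R.subtype.comp α.toMonoidHom)) := by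
      by_contra hle
      have heq := Subgroup.eq_of_le_of_card_ge hRN (not_lt.mp hle)
      exact hgR (heq ▸ hgN)
    have hψE : ψ ∈ E.Hom (extender S R (R.subtype.comp α.toMonoidHom)) := IH _ hlt hψ
    refine restrict_mem' E hψE hRN ?_
    intro x
    exact (hψe x.1 x.2 (hRN x.2)).symm
  · exact h R hn hc hr hRa hRr IH α hα

/-- `X` is normal in `F` as soon as every map of `F` is a map of the normalizer system of `X` -/
theorem isNormal_of_hom_subset (F : FusionSystem S) {X : Subgroup Ω} (hXS : X ≤ S)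
    (h : ∀ P : Subgroup Ω, F.Hom P ⊆ F.normalizerHom X P) : F.IsNormal X := by
  refine ⟨hXS, fun P φ hφ => ?_⟩
  obtain ⟨-, -, -, ψ, hψ, hψe, hψX⟩ := h P hφ
  exact ⟨ψ, hψ, hψe, hψX⟩

/-- if `X` is normal in `F` then every map of `F` is a map of the normalizer system of `X` -/
theorem hom_subset_of_isNormal (F : FusionSystem S) {X : Subgroup Ω} (hX : F.IsNormal X)
    (P : Subgroup Ω) : F.Hom P ⊆ F.normalizerHom X P := by
  intro φ hφ
  have hPS : P ≤ S := hom_le F hφ
  have hSN := le_normalizer_of_isNormal F hX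
  obtain ⟨ψ, hψ, hψe, hψX⟩ := hX.2 P φ hφ
  exact ⟨hφ, fun x hx => ⟨hPS hx, hSN (hPS hx)⟩, fun x => ⟨hom_map_mem F hφ x, hSN (hom_map_mem F hφ x)⟩,
    ψ, hψ, hψe, hψX⟩

/-- the normalizer system of `X` as a system over `S`, when `S` normalizes `X` -/
def normSysS (F : FusionSystem S) (X : Subgroup Ω) (hXS : X ≤ S) (hNX : normalizerIn S X = S) : FusionSystem S :=
  Cfsg.Agent.Lib.Helper88.NilpRed.castSystem hNX (normalizerSystem F X hXS)

theorem normSysS_hom (F : FusionSystem S) (X : Subgroup Ω) (hXS : X ≤ S) (hNX : normalizerIn S X = S)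
    (P : Subgroup Ω) : (normSysS F X hXS hNX).Hom P = F.normalizerHom X P := by
  unfold normSysS
  rw [Cfsg.Agent.Lib.Helper88.NilpRed.castSystem_hom]
  rfl

theorem normalizerIn_eq_of_le_normalizer {X : Subgroup Ω} (h : S ≤ Subgroup.normalizer (X : Set Ω)) :
    normalizerIn S X = S :=
  inf_of_le_left h

/-- `X` is normal in `F` iff `F` is contained in the normalizer system of `X` over `S` -/
theorem isNormal_of_le_normSysS (F : FusionSystem S) {X : Subgroup Ω} (hXS : X ≤ S) (hNX : normalizerIn S X = S)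
    (h : ∀ P : Subgroup Ω, F.Hom P ⊆ (normSysS F X hXS hNX).Hom P) : F.IsNormal X :=
  isNormal_of_hom_subset F hXS (fun P => by rw [← normSysS_hom F X hXS hNX P]; exact h P)

end Cfsg.Agent.Lib.Helper84.KL
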