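/-
helper84: for `Q` normal in a saturated fusion system `F`: the subgroup `Q C_S(Q)` is weakly closed, and every map `φ` of `F` whose
source `A` contains `Q` agrees on `Q` with a map defined on `A (Q C_S(Q))` that normalizes `Q C_S(Q)` (Kessar-Linckelmann,
`F = ⟨S C_F(Q), N_F(Q C_S(Q))⟩`).
All declarations live in `Cfsg.Agent.Lib.Helper84.KL`.
-/
import Mathlib
import Cfsg.Prelude.Def_FusionSystem
import Cfsg.Agent.Lib.Helper84.KLBasic
import Cfsg.Agent.Lib.Helper84.FusionKNormSys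
import Cfsg.Agent.Lib.Helper84.Alperin2

set_option autoImplicit false

namespace Cfsg.Agent.Lib.Helper84.KL

open Cfsg Cfsg.FusionSystem Cfsg.Agent.Lib.Helper87 Cfsg.Agent.Lib.Helper88 Cfsg.Agent.Lib.Helper84.Model

universe u

variable {Ω : Type u} [Group Ω] {S : Subgroup Ω}

/-- a subgroup normal in the system is fully normalized -/
theorem isFullyNormalized_of_isNormal (F : FusionSystem S) {Q : Subgroup Ω} (hQ : F.IsNormal Q) :
    F.IsFullyNormalized Q := by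
  refine ⟨hQ.1, fun Q' hQQ' => ?_⟩
  obtain ⟨φ, hφ, rfl⟩ := hQQ'
  rw [isNormal_range_eq F hQ hφ]

/-- `Q C_S(Q)` -/
abbrev QC (S Q : Subgroup Ω) : Subgroup Ω := Q ⊔ centralizerIn S Q

theorem QC_le {Q : Subgroup Ω} (hQS : Q ≤ S) : QC S Q ≤ S := sup_le hQS inf_le_left

theorem le_QC (S Q : Subgroup Ω) : Q ≤ QC S Q := le_sup_left

theorem centralizerIn_le_QC (S Q : Subgroup Ω) : centralizerIn S Q ≤ QC S Q := le_sup_right

/-- for `Q` normal in `F`, the subgroup `Q C_S(Q)` is weakly closed -/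
theorem QC_weaklyClosed [Finite S] (F : FusionSystem S) {Q : Subgroup Ω} (hQ : F.IsNormal Q) :
    F.WeaklyClosed (QC S Q) := by
  have hQS : Q ≤ S := hQ.1
  have hRS : QC S Q ≤ S := QC_le hQS
  have hsc := Cfsg.Agent.Lib.Helper84.stronglyClosed_of_isNormal F hQ
  refine ⟨hRS, fun φ hφ => ?_⟩
  have hφQ : φ.comp (Subgroup.inclusion (le_QC S Q)) ∈ F.Hom Q :=
    Cfsg.Agent.Lib.Helper87.restrict_mem F hφ (le_QC S Q)
  have hQr := isNormal_range_eq F hQ hφQ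
  have hval : ∀ x : ↥(Q ⊔ centralizerIn S Q), φ x ∈ QC S Q := by
    apply hom_sup_mem φ (QC S Q)
    · intro x
      exact le_QC S Q (hsc.2 Q le_rfl _ hφQ x)
    · intro c
      apply centralizerIn_le_QC S Q
      refine ⟨hom_map_mem F hφ _, ?_⟩
      show _ ∈ Subgroup.centralizer _
      rw [Subgroup.mem_centralizer_iff]
      intro q hq
      have hq' : q ∈ (φ.comp (Subgroup.inclusion (le_QC S Q))).range := by rw [hQr]; exact hq
      obtain ⟨q', rfl⟩ := hq'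
      show φ (Subgroup.inclusion (le_QC S Q) q') * φ (Subgroup.inclusion le_sup_right c) =
        φ (Subgroup.inclusion le_sup_right c) * φ (Subgroup.inclusion (le_QC S Q) q')
      rw [← map_mul, ← map_mul]
      congr 1
      apply Subtype.ext
      exact Subgroup.mem_centralizer_iff.1 c.2.2 q' q'.2
  have hle : φ.range ≤ QC S Q := by
    rintro _ ⟨x, rfl⟩
    exact hval x
  have : Finite (QC S Q) := finite_of_le hRS
  have hcard : Nat.card (QC S Q) ≤ Nat.card φ.range :=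
    le_of_eq (Nat.card_congr (MonoidHom.ofInjective (F.injective_of_mem hφ)).toEquiv)
  exact Subgroup.eq_of_le_of_card_ge hle hcard

/-- **Decomposition.** For `Q` normal in the saturated system `F` and `φ` a map with source `A ⊇ Q`, some map of `F` defined on
`A (Q C_S(Q))` normalizes `Q C_S(Q)` and agrees with `φ` on `Q`. -/
theorem exists_decomp [Finite S] {p : ℕ} [Fact p.Prime] (hS : IsPGroup p S) (F : FusionSystem S)
    (hF : F.IsSaturated p) {Q : Subgroup Ω} (hQ : F.IsNormal Q) {A : Subgroup Ω} (hQA : Q ≤ A)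
    {φ : A →* Ω} (hφ : φ ∈ F.Hom A) :
    ∃ γ ∈ F.Hom (A ⊔ QC S Q), ((QC S Q).subgroupOf (A ⊔ QC S Q)).map γ = QC S Q ∧
      ∀ u : Q, γ ⟨u, (le_sup_left : A ≤ A ⊔ QC S Q) (hQA u.2)⟩ = φ ⟨u, hQA u.2⟩ := by
  have hQS : Q ≤ S := hQ.1
  have hAS : A ≤ S := hom_le F hφ
  have hQn := isFullyNormalized_of_isNormal F hQ
  have hSN := le_normalizer_of_isNormal F hQ
  have hmax := isMaxK_autInducedBy_of_fullyNormalized F hQn
  have hφQ : φ.comp (Subgroup.inclusion hQA) ∈ F.Hom Q := Cfsg.Agent.Lib.Helper87.restrict_mem F hφ hQA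
  obtain ⟨β, hβ, hβφ⟩ := exists_aut_of_range_eq F hφQ (isNormal_range_eq F hQ hφQ)
  have hβφ' : ∀ x : Q, ((β x : Q) : Ω) = φ ⟨x, hQA x.2⟩ := hβφ
  have hβsymm : IsIso F ((β.symm : Q ≃* Q)) :=
    ((Cfsg.Agent.Lib.Helper87.mem_autGroup_iff F hQS).1 hβ).symm
  obtain ⟨a, ha, ρ, hρ, hρa⟩ := hmax.exists_extension F hS hF hQS (β.symm : Q ≃* Q) hβsymm
  obtain ⟨s, hs, hsa⟩ := mem_autInducedBy_iff.1 ha.1
  -- `A ≤ N_S^K(Q)`
  have hA : A ≤ nK S (autInducedBy S Q) (β.symm : Q ≃* Q) := by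
    intro a' ha'
    have hφa'S : φ ⟨a', ha'⟩ ∈ S := hom_map_mem F hφ _
    have hφa'N : φ ⟨a', ha'⟩ ∈ Subgroup.normalizer (Q : Set Ω) := hSN hφa'S
    refine ⟨hAS ha', conjAut Q (φ ⟨a', ha'⟩) hφa'N,
      mem_autInducedBy_iff.2 ⟨φ ⟨a', ha'⟩, hφa'S, fun x => conjAut_apply Q _ hφa'N x⟩, fun u => ?_⟩
    have hconjQ : a' * ((β.symm u : Q) : Ω) * a'⁻¹ ∈ Q :=
      (Subgroup.mem_normalizer_iff.1 (hSN (hAS ha')) _).1 (β.symm u).2
    have h1 : β.symm (conjAut Q (φ ⟨a', ha'⟩) hφa'N u) = ⟨a' * ((β.symm u : Q) : Ω) * a'⁻¹, hconjQ⟩ := by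
      apply β.injective
      rw [MulEquiv.apply_symm_apply]
      apply Subtype.ext
      rw [hβφ', conjAut_apply]
      have h2 : (⟨a' * ((β.symm u : Q) : Ω) * a'⁻¹, hQA hconjQ⟩ : A) =
          ⟨a', ha'⟩ * ⟨((β.symm u : Q) : Ω), hQA (β.symm u).2⟩ * ⟨a', ha'⟩⁻¹ := rfl
      rw [h2, map_mul, map_mul, map_inv, ← hβφ' (β.symm u), MulEquiv.apply_symm_apply]
    exact congrArg Subtype.val h1
  have hC : centralizerIn S Q ≤ nK S (autInducedBy S Q) (β.symm : Q ≃* Q) :=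
    centralizerIn_le_nK _ _
  have hle : A ⊔ QC S Q ≤ nK S (autInducedBy S Q) (β.symm : Q ≃* Q) ⊔ Q :=
    sup_le (hA.trans le_sup_left) (sup_le le_sup_right (hC.trans le_sup_left))
  have hρ' : ρ.comp (Subgroup.inclusion hle) ∈ F.Hom (A ⊔ QC S Q) :=
    Cfsg.Agent.Lib.Helper87.restrict_mem F hρ hle
  have hρ'S : ∀ x : ↥(A ⊔ QC S Q), (ρ.comp (Subgroup.inclusion hle)) x ∈ S := hom_map_mem F hρ'
  have hconj : conjHom S s⁻¹ ∈ F.Hom S := F.conj_mem le_rfl (S.inv_mem hs)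
  have hγ := F.comp_mem hρ' hconj hρ'S
  have hRwc := QC_weaklyClosed F hQ
  refine ⟨_, hγ, ?_, ?_⟩
  · have hres := Cfsg.Agent.Lib.Helper87.restrict_mem F hγ (le_sup_right : QC S Q ≤ A ⊔ QC S Q)
    have hrange := hRwc.2 _ hres
    rw [map_subgroupOf_eq_iff]
    constructor
    · intro x hx
      have h1 : (((conjHom S s⁻¹).comp ((ρ.comp (Subgroup.inclusion hle)).codRestrict S hρ'S)).comp
          (Subgroup.inclusion (le_sup_right : QC S Q ≤ A ⊔ QC S Q))) ⟨x, hx⟩ ∈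
          (((conjHom S s⁻¹).comp ((ρ.comp (Subgroup.inclusion hle)).codRestrict S hρ'S)).comp
          (Subgroup.inclusion (le_sup_right : QC S Q ≤ A ⊔ QC S Q))).range := ⟨⟨x, hx⟩, rfl⟩
      rw [hrange] at h1
      exact h1
    · intro r hr
      have h1 : r ∈ (((conjHom S s⁻¹).comp ((ρ.comp (Subgroup.inclusion hle)).codRestrict S hρ'S)).comp
          (Subgroup.inclusion (le_sup_right : QC S Q ≤ A ⊔ QC S Q))).range := by
        rw [hrange]
        exact hr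
      obtain ⟨x, rfl⟩ := h1
      exact ⟨Subgroup.inclusion le_sup_right x, x.2, rfl⟩
  · intro u
    show s⁻¹ * ρ ⟨(u : Ω), _⟩ * s⁻¹⁻¹ = φ ⟨u, hQA u.2⟩
    have h1 := hρa (β u)
    have h2 : ((β.symm (β u) : Q) : Ω) = (u : Ω) := by rw [MulEquiv.symm_apply_apply]
    have h3 : ρ ⟨(u : Ω), hle ((le_sup_left : A ≤ A ⊔ QC S Q) (hQA u.2))⟩ = ((a (β u) : Q) : Ω) := by
      rw [← h1]
      congr 1
      exact Subtype.ext h2.symm
    rw [h3, hsa, hβφ']
    group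

end Cfsg.Agent.Lib.Helper84.KL
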