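/-
helper84: automorphisms of `B ⊇ Q` acting trivially on `B/Q` and acting on `Q` through a `p`-group `K` of automorphisms
form a `p`-group, normalized by every automorphism acting on `Q` through `K`.
All declarations live in `Cfsg.Agent.Lib.Helper84.KL`.
-/
import Mathlib
import Cfsg.Agent.Lib.Helper88.FusionCentricExt

set_option autoImplicit false

namespace Cfsg.Agent.Lib.Helper84.KL

open Cfsg.Agent.Lib.Helper88

universe u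

variable {Ω : Type u} [Group Ω] {B Q : Subgroup Ω} (hQB : Q ≤ B) (K : Subgroup (MulAut Q))

/-- automorphisms of `B` acting trivially on `B/Q` -/
def trivSub (B Q : Subgroup Ω) : Subgroup (MulAut B) where
  carrier := {β | ∀ b : B, (b : Ω)⁻¹ * ((β b : B) : Ω) ∈ Q}
  one_mem' := fun b => by simp
  mul_mem' := by
    intro β β' h1 h1' b
    have e : (b : Ω)⁻¹ * (((β * β') b : B) : Ω) =
        ((b : Ω)⁻¹ * ((β' b : B) : Ω)) * (((β' b : B) : Ω)⁻¹ * ((β (β' b) : B) : Ω)) := by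
      rw [MulAut.mul_apply]
      group
    rw [e]
    exact Q.mul_mem (h1' b) (h1 (β' b))
  inv_mem' := by
    intro β h1 b
    have h := h1 (β⁻¹ b)
    have e : β (β⁻¹ b) = b := by simp
    rw [e] at h
    have e2 : (b : Ω)⁻¹ * ((β⁻¹ b : B) : Ω) = (((β⁻¹ b : B) : Ω)⁻¹ * (b : Ω))⁻¹ := by group
    rw [e2]
    exact Q.inv_mem h

theorem mem_trivSub_iff {β : MulAut B} : β ∈ trivSub B Q ↔ ∀ b : B, (b : Ω)⁻¹ * ((β b : B) : Ω) ∈ Q := Iff.rfl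

/-- automorphisms of `B` acting on `Q` as an element of `K` -/
def actSub : Subgroup (MulAut B) where
  carrier := {β | ∃ κ ∈ K, ∀ u : Q, ((β ⟨u, hQB u.2⟩ : B) : Ω) = ((κ u : Q) : Ω)}
  one_mem' := ⟨1, K.one_mem, fun u => rfl⟩
  mul_mem' := by
    rintro β β' ⟨κ, hκ, h2⟩ ⟨κ', hκ', h2'⟩
    refine ⟨κ * κ', K.mul_mem hκ hκ', fun u => ?_⟩
    rw [MulAut.mul_apply]
    have e : β' ⟨u, hQB u.2⟩ = ⟨κ' u, hQB (κ' u).2⟩ := Subtype.ext (h2' u)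
    rw [e, h2 (κ' u)]
    rfl
  inv_mem' := by
    rintro β ⟨κ, hκ, h2⟩
    refine ⟨κ⁻¹, K.inv_mem hκ, fun u => ?_⟩
    have h := h2 (κ⁻¹ u)
    have e : κ (κ⁻¹ u) = u := by simp
    rw [e] at h
    have e3 : β ⟨(κ⁻¹ u : Q), hQB (κ⁻¹ u).2⟩ = ⟨u, hQB u.2⟩ := Subtype.ext h
    rw [← e3]
    simp

theorem mem_actSub_iff {β : MulAut B} : β ∈ actSub hQB K ↔
    ∃ κ ∈ K, ∀ u : Q, ((β ⟨u, hQB u.2⟩ : B) : Ω) = ((κ u : Q) : Ω) := Iff.rfl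

theorem actSub_map_mem {β : MulAut B} (hβ : β ∈ actSub hQB K) (x : B) (hx : (x : Ω) ∈ Q) :
    ((β x : B) : Ω) ∈ Q := by
  obtain ⟨κ, -, h2⟩ := hβ
  have h := h2 ⟨x, hx⟩
  have e : (⟨((⟨(x : Ω), hx⟩ : Q) : Ω), hQB hx⟩ : B) = x := Subtype.ext rfl
  rw [e] at h
  rw [h]
  exact (κ ⟨x, hx⟩).2

theorem pow_apply_of_act (β : MulAut B) (κ : MulAut Q)
    (h2 : ∀ u : Q, ((β ⟨u, hQB u.2⟩ : B) : Ω) = ((κ u : Q) : Ω)) (j : ℕ) (u : Q) :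
    (((β ^ j) ⟨u, hQB u.2⟩ : B) : Ω) = (((κ ^ j) u : Q) : Ω) := by
  induction j generalizing u with
  | zero => rfl
  | succ j ih =>
    rw [pow_succ, MulAut.mul_apply, pow_succ, MulAut.mul_apply]
    have e : β ⟨u, hQB u.2⟩ = ⟨κ u, hQB (κ u).2⟩ := Subtype.ext (h2 u)
    rw [e, ih]

/-- every element of `trivSub ⊓ actSub` has `p`-power order -/
theorem exists_pow_eq_one_of_mem [Finite Q] {p : ℕ} [Fact p.Prime] (hQ : IsPGroup p Q) (hK : IsPGroup p K)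
    {β : MulAut B} (hβ₁ : β ∈ trivSub B Q) (hβ₂ : β ∈ actSub hQB K) : ∃ n : ℕ, β ^ (p ^ n) = 1 := by
  obtain ⟨κ, hκ, h2⟩ := hβ₂
  obtain ⟨a, ha⟩ := hK ⟨κ, hκ⟩
  have ha' : κ ^ (p ^ a) = 1 := by
    have := congrArg Subtype.val ha
    simpa using this
  obtain ⟨c, hc⟩ := IsPGroup.iff_card.1 hQ
  refine ⟨a + c, ?_⟩
  rw [pow_add, pow_mul]
  have hγmem : β ^ (p ^ a) ∈ trivSub B Q := (trivSub B Q).pow_mem hβ₁ _
  have hγQ : ∀ u : Q, (β ^ (p ^ a)) ⟨u, hQB u.2⟩ = ⟨u, hQB u.2⟩ := by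
    intro u
    apply Subtype.ext
    rw [pow_apply_of_act hQB β κ h2, ha']
    rfl
  refine MulEquiv.ext fun b => ?_
  have hq : (b : Ω)⁻¹ * (((β ^ (p ^ a)) b : B) : Ω) ∈ Q := hγmem b
  have hx : (β ^ (p ^ a)) b = b * (b⁻¹ * (β ^ (p ^ a)) b) := by group
  have hb' : (β ^ (p ^ a)) (b⁻¹ * (β ^ (p ^ a)) b) = b⁻¹ * (β ^ (p ^ a)) b := hγQ ⟨_, hq⟩
  have h3 := aut_pow_apply_mul_pow (β ^ (p ^ a)) b (b⁻¹ * (β ^ (p ^ a)) b) hx hb' (p ^ c)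
  rw [h3]
  have h4 : (b⁻¹ * (β ^ (p ^ a)) b) ^ (p ^ c) = 1 := by
    have h5 : (⟨_, hq⟩ : Q) ^ (Nat.card Q) = 1 := pow_card_eq_one'
    rw [hc] at h5
    apply Subtype.ext
    have h6 := congrArg Subtype.val h5
    simpa using h6
  rw [h4, mul_one]
  rfl

/-- `trivSub` is normalized by every subgroup acting on `Q` through `K` -/
theorem trivSub_normal (A : Subgroup (MulAut B)) (hA : A ≤ actSub hQB K) :
    ((trivSub B Q).subgroupOf A).Normal := by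
  constructor
  rintro ⟨β, hβA⟩ hβ ⟨δ, hδA⟩
  rw [Subgroup.mem_subgroupOf] at hβ ⊢
  show δ * β * δ⁻¹ ∈ trivSub B Q
  have h1 : ∀ b : B, (b : Ω)⁻¹ * ((β b : B) : Ω) ∈ Q := hβ
  intro b
  have hb : δ (δ⁻¹ b) = b := by simp
  have e : (b : Ω)⁻¹ * (((δ * β * δ⁻¹) b : B) : Ω) = ((δ ((δ⁻¹ b)⁻¹ * β (δ⁻¹ b)) : B) : Ω) := by
    rw [MulAut.mul_apply, MulAut.mul_apply, map_mul, map_inv, hb]
    rfl
  rw [e]
  exact actSub_map_mem hQB K (hA hδA) _ (h1 (δ⁻¹ b))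

/-- `trivSub ⊓ A` is a `p`-group when `A` acts on `Q` through the `p`-group `K` -/
theorem trivSub_isPGroup [Finite Q] {p : ℕ} [Fact p.Prime] (hQ : IsPGroup p Q) (hK : IsPGroup p K)
    (A : Subgroup (MulAut B)) (hA : A ≤ actSub hQB K) : IsPGroup p ((trivSub B Q).subgroupOf A) := by
  rintro ⟨⟨β, hβA⟩, hβ⟩
  obtain ⟨n, hn⟩ := exists_pow_eq_one_of_mem hQB K hQ hK (Subgroup.mem_subgroupOf.1 hβ) (hA hβA)
  refine ⟨n, ?_⟩
  apply Subtype.ext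
  apply Subtype.ext
  exact hn

end Cfsg.Agent.Lib.Helper84.KL
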