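/-
helper84: lifting normal subgroups from a factor system.  Let `Q` be normal in the saturated system `F` such that every map
of `F` defined on a subgroup containing `Q` acts on `Q` as an element of `Aut_S(Q)` (i.e. `F = S C_F(Q)`), and let `E` be a factor
system `F/Q`.  Then the full preimage of a subgroup normal in `E` is normal in `F`.
All declarations live in `Cfsg.Agent.Lib.Helper84.KL`.
-/
import Mathlib
import Cfsg.Prelude.Def_FusionSystem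
import Cfsg.Prelude.Def_FusionComponents
import Cfsg.Agent.Lib.Helper84.KLStab
import Cfsg.Agent.Lib.Helper84.KLBasic
import Cfsg.Agent.Lib.Helper84.Alperin2
import Cfsg.Agent.Lib.Helper84.FusionNormCentric
import Cfsg.Agent.Lib.Helper85.FusionFactor
import Cfsg.Agent.Lib.Helper85.QuotModelReal
import Cfsg.Agent.Lib.Helper87.FusionLift
import Cfsg.Agent.Lib.Helper88.FusionAlperinCR

set_option autoImplicit false

namespace Cfsg.Agent.Lib.Helper84.KL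

open Cfsg Cfsg.FusionSystem Cfsg.Agent.Lib.Helper87 Cfsg.Agent.Lib.Helper88 Cfsg.Agent.Lib.Helper84.Model

universe u v

variable {Ω : Type u} [Group Ω] {S : Subgroup Ω}

/-- **Lifting normal subgroups from `F/Q` when `F = S C_F(Q)`.** -/
theorem isNormal_preimageAlong_of_isNormal [Finite S] {p : ℕ} [Fact p.Prime] (hS : IsPGroup p S)
    (F : FusionSystem S) (hF : F.IsSaturated p) {Q : Subgroup Ω} (hQ : F.IsNormal Q)
    (hact : ∀ (B : Subgroup Ω) (hQB : Q ≤ B) (χ : B →* Ω), χ ∈ F.Hom B →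
      ∃ κ ∈ autInducedBy S Q, ∀ u : Q, χ ⟨u, hQB u.2⟩ = ((κ u : Q) : Ω))
    {Ω' : Type v} [Group Ω'] {S' : Subgroup Ω'} (θ : S →* Ω') (E : FusionSystem S')
    (hE : F.IsFactorSystem Q θ E) {U' : Subgroup Ω'} (hU' : E.IsNormal U') :
    F.IsNormal (preimageAlong θ U') := by
  have hE' := hE
  obtain ⟨hQS, hker, hrange, hHom⟩ := hE
  have hsc := Cfsg.Agent.Lib.Helper84.stronglyClosed_of_isNormal F hQ
  have hUS : preimageAlong θ U' ≤ S := Cfsg.Agent.Lib.Helper85.preimageAlong_le θ U'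
  have hS'N : S' ≤ Subgroup.normalizer (U' : Set Ω') := le_normalizer_of_isNormal E hU'
  have hconjU : ∀ s ∈ S, ∀ x ∈ preimageAlong θ U', s * x * s⁻¹ ∈ preimageAlong θ U' := by
    intro s hs x hx
    obtain ⟨hxS, hxU⟩ := (Cfsg.Agent.Lib.Helper85.mem_preimageAlong_iff θ U' x).1 hx
    refine (Cfsg.Agent.Lib.Helper85.mem_preimageAlong_iff θ U' _).2
      ⟨S.mul_mem (S.mul_mem hs hxS) (S.inv_mem hs), ?_⟩
    have e : (⟨s * x * s⁻¹, S.mul_mem (S.mul_mem hs hxS) (S.inv_mem hs)⟩ : S) =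
        ⟨s, hs⟩ * ⟨x, hxS⟩ * ⟨s, hs⟩⁻¹ := rfl
    rw [e, map_mul, map_mul, map_inv]
    have hθs : θ ⟨s, hs⟩ ∈ S' := hrange ▸ ⟨_, rfl⟩
    exact (Subgroup.mem_normalizer_iff.1 (hS'N hθs) _).1 hxU
  have hUfin : Finite (preimageAlong θ U') := finite_of_le hUS
  have hQfin : Finite Q := finite_of_le hQS
  have hSU : S ≤ Subgroup.normalizer ((preimageAlong θ U' : Subgroup Ω) : Set Ω) := fun s hs =>
    Cfsg.Agent.Lib.Helper85.mem_normalizer_of_conj_le_of_finite (fun x hx => hconjU s hs x hx)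
  have hNU : normalizerIn S (preimageAlong θ U') = S := normalizerIn_eq_of_le_normalizer hSU
  apply isNormal_of_le_normSysS F hUS hNU
  apply alperin_cr F _ hS hF
  intro B hBn hBc hBr hBa hBrec α hα
  have hBS : B ≤ S := hBc.1
  have hQB : Q ≤ B := Cfsg.Agent.Lib.Helper84.Model.le_of_isNormal_of_centric_radical hS F hQ hBc hBr
  have hαF : B.subtype.comp (α : B ≃* B).toMonoidHom ∈ F.Hom B :=
    (Cfsg.Agent.Lib.Helper87.mem_autGroup_iff F hBS).1 hα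
  -- the induced map on the image of `B`
  obtain ⟨α', hα'E, hBS', hαS, hαB', hαind⟩ :=
    exists_induced_of_isFactorSystem F hS hF hsc θ E hE' hαF
  obtain ⟨ψ', hψ'E, hψ'e, hψ'U⟩ := hU'.2 _ α' hα'E
  rw [map_subgroupOf_eq_iff] at hψ'U
  obtain ⟨-, ψ₀, hψ₀, hψ₀S, hψ₀val, hψ₀θ, hψ₀ind⟩ := (hHom _ ψ').1 hψ'E
  have hle : B ⊔ preimageAlong θ U' ≤ preimageAlong θ (imageAlong θ B ⊔ U') := by
    apply sup_le
    · intro x hx
      refine (Cfsg.Agent.Lib.Helper85.mem_preimageAlong_iff θ _ x).2 ⟨hBS hx, ?_⟩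
      exact le_sup_left (b := U') ⟨⟨x, hBS hx⟩, Subgroup.mem_subgroupOf.2 hx, rfl⟩
    · exact Cfsg.Agent.Lib.Helper85.preimageAlong_mono θ le_sup_right
  have hBUS : B ⊔ preimageAlong θ U' ≤ S := sup_le hBS hUS
  have hψ₁ : ψ₀.comp (Subgroup.inclusion hle) ∈ F.Hom (B ⊔ preimageAlong θ U') :=
    Cfsg.Agent.Lib.Helper87.restrict_mem F hψ₀ hle
  have hkey : ∀ x : ↥(B ⊔ preimageAlong θ U'),
      θ ⟨ψ₀ (Subgroup.inclusion hle x), hψ₀val _⟩ =
        ψ' ⟨θ ⟨x, hBUS x.2⟩, hψ₀θ (Subgroup.inclusion hle x)⟩ :=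
    fun x => (hψ₀ind (Subgroup.inclusion hle x)).symm
  -- `ψ₁` maps `U` into `U`
  have hψ₁U : ∀ x : ↥(B ⊔ preimageAlong θ U'), (x : Ω) ∈ preimageAlong θ U' →
      ψ₀ (Subgroup.inclusion hle x) ∈ preimageAlong θ U' := by
    intro x hx
    obtain ⟨hxS, hxU'⟩ := (Cfsg.Agent.Lib.Helper85.mem_preimageAlong_iff θ U' x).1 hx
    refine (Cfsg.Agent.Lib.Helper85.mem_preimageAlong_iff θ U' _).2 ⟨hψ₀val _, ?_⟩
    rw [hkey x]
    exact hψ'U.1 _ hxU'
  -- `ψ₁` agrees with `α` on `B` modulo `Q`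
  have hg : ∀ b : B, θ ⟨ψ₀ (Subgroup.inclusion hle (Subgroup.inclusion le_sup_left b)), hψ₀val _⟩ =
      θ ⟨((α b : B) : Ω), hBS (α b).2⟩ := by
    intro b
    rw [hkey]
    have h1 := hψ'e ⟨θ ⟨b, hBS' b.2⟩, hαB' b⟩
    exact h1.trans (hαind b)
  have hmod : ∀ b : B, ((α b : B) : Ω)⁻¹ *
      ψ₀ (Subgroup.inclusion hle (Subgroup.inclusion le_sup_left b)) ∈ Q := by
    intro b
    apply (hker ⟨_, S.mul_mem (S.inv_mem (hBS (α b).2)) (hψ₀val _)⟩).1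
    have e : (⟨((α b : B) : Ω)⁻¹ * ψ₀ (Subgroup.inclusion hle (Subgroup.inclusion le_sup_left b)),
        S.mul_mem (S.inv_mem (hBS (α b).2)) (hψ₀val _)⟩ : S) =
        ⟨((α b : B) : Ω), hBS (α b).2⟩⁻¹ *
          ⟨ψ₀ (Subgroup.inclusion hle (Subgroup.inclusion le_sup_left b)), hψ₀val _⟩ := rfl
    rw [e, map_mul, map_inv, hg b, inv_mul_cancel]
  have hψ₁B : ∀ b : B, (ψ₀.comp (Subgroup.inclusion hle)).comp (Subgroup.inclusion le_sup_left) b ∈ B := by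
    intro b
    have e : (ψ₀.comp (Subgroup.inclusion hle)).comp (Subgroup.inclusion le_sup_left) b =
        ((α b : B) : Ω) * (((α b : B) : Ω)⁻¹ *
          ψ₀ (Subgroup.inclusion hle (Subgroup.inclusion le_sup_left b))) := by
      show ψ₀ (Subgroup.inclusion hle (Subgroup.inclusion le_sup_left b)) = _
      group
    rw [e]
    exact B.mul_mem (α b).2 (hQB (hmod b))
  have hψ₁BF : (ψ₀.comp (Subgroup.inclusion hle)).comp (Subgroup.inclusion le_sup_left) ∈ F.Hom B :=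
    Cfsg.Agent.Lib.Helper87.restrict_mem F hψ₁ le_sup_left
  obtain ⟨β₁, hβ₁, hβ₁x⟩ := exists_aut_of_maps_into F hψ₁BF hψ₁B
  have hmod' : ∀ x : B, ((α x : B) : Ω)⁻¹ * ((β₁ x : B) : Ω) ∈ Q := by
    intro x
    rw [hβ₁x x]
    exact hmod x
  -- `Aut_F(B)` acts on `Q` through `Aut_S(Q)`
  have hA : F.autGroup B ≤ actSub hQB (autInducedBy S Q) := by
    intro δ hδ
    have hδF : B.subtype.comp (δ : B ≃* B).toMonoidHom ∈ F.Hom B :=
      (Cfsg.Agent.Lib.Helper87.mem_autGroup_iff F hBS).1 hδ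
    obtain ⟨κ, hκ, hκu⟩ := hact B hQB _ hδF
    exact ⟨κ, hκ, fun u => hκu u⟩
  have hβF : β₁⁻¹ * α ∈ F.autGroup B := Subgroup.mul_mem _ (Subgroup.inv_mem _ hβ₁) hα
  have hβT : β₁⁻¹ * α ∈ trivSub B Q := by
    intro b
    have h := hmod' ((β₁⁻¹ * α) b)
    have e1 : β₁ ((β₁⁻¹ * α) b) = α b := by
      rw [MulAut.mul_apply]
      simp
    rw [e1] at h
    have e2 : ((α ((β₁⁻¹ * α) b) : B) : Ω)⁻¹ * ((α b : B) : Ω) =
        (B.subtype.comp (α : B ≃* B).toMonoidHom) (((β₁⁻¹ * α) b)⁻¹ * b) := by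
      show _ = ((α (((β₁⁻¹ * α) b)⁻¹ * b) : B) : Ω)
      rw [map_mul, map_inv]
      rfl
    rw [e2] at h
    have h3 := (Cfsg.Agent.Lib.Helper85.stronglyClosed_apply_mem_iff F hsc hαF _).1 h
    have e3 : (b : Ω)⁻¹ * (((β₁⁻¹ * α) b : B) : Ω) = ((((β₁⁻¹ * α) b)⁻¹ * b : B) : Ω)⁻¹ := by
      show _ = ((((β₁⁻¹ * α) b : B) : Ω)⁻¹ * (b : Ω))⁻¹
      group
    rw [e3]
    exact Q.inv_mem h3
  have hKp : IsPGroup p (autInducedBy S Q) := autInducedBy_isPGroup hS Q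
  have hQp : IsPGroup p Q := isPGroup_of_le hS hQS
  have hTn := trivSub_normal hQB (autInducedBy S Q) (F.autGroup B) hA
  have hTp := trivSub_isPGroup hQB (autInducedBy S Q) hQp hKp (F.autGroup B) hA
  have hcore := Helper1.le_pCore hTn hTp
  have hInn : β₁⁻¹ * α ∈ Inn B := by
    rw [← hBr.2]
    exact ⟨⟨β₁⁻¹ * α, hβF⟩, hcore (Subgroup.mem_subgroupOf.2 hβT), rfl⟩
  obtain ⟨y, hy⟩ := hInn
  have hαeq : ∀ x : B, α x = β₁ (y * x * y⁻¹) := by
    intro x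
    have h1 : (β₁⁻¹ * α) x = y * x * y⁻¹ := by
      rw [← hy]
      rfl
    rw [← h1, MulAut.mul_apply]
    simp
  -- the extension
  have hyBU : (y : Ω) ∈ B ⊔ preimageAlong θ U' := le_sup_left (b := preimageAlong θ U') y.2
  have hcval : ∀ x : ↥(B ⊔ preimageAlong θ U'),
      conjHom (B ⊔ preimageAlong θ U') (y : Ω) x ∈ B ⊔ preimageAlong θ U' := by
    intro x
    show (y : Ω) * x * (y : Ω)⁻¹ ∈ _
    exact Subgroup.mul_mem _ (Subgroup.mul_mem _ hyBU x.2) (Subgroup.inv_mem _ hyBU)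
  have hψ := F.comp_mem (F.conj_mem hBUS (hBS y.2)) hψ₁ hcval
  show B.subtype.comp (α : B ≃* B).toMonoidHom ∈ _
  rw [normSysS_hom]
  refine ⟨hαF, hBS.trans (le_of_eq hNU.symm), fun x => (le_of_eq hNU.symm) (hom_map_mem F hαF x), _, hψ,
    fun x => ?_, ?_⟩
  · show ψ₀ (Subgroup.inclusion hle ⟨(y : Ω) * x * (y : Ω)⁻¹, _⟩) = ((α x : B) : Ω)
    rw [hαeq x, hβ₁x]
    rfl
  · apply Cfsg.Agent.Lib.Helper85.map_subgroupOf_eq_of_mapsTo le_sup_right _ (F.injective_of_mem hψ)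
    intro x hx
    show ψ₀ (Subgroup.inclusion hle ⟨(y : Ω) * x * (y : Ω)⁻¹, _⟩) ∈ _
    exact hψ₁U ⟨(y : Ω) * x * (y : Ω)⁻¹, hcval x⟩ (hconjU y (hBS y.2) x hx)

end Cfsg.Agent.Lib.Helper84.KL
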