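/-
helper84: the local-to-global principle for characteristic functors in saturated fusion systems (Kessar-Linckelmann):
if `W(N_S(Q))` is normal in `N_F(Q)` for every nontrivial fully normalized `Q`, then `W(S)` is normal in `F`.
All declarations live in `Cfsg.Agent.Lib.Helper84.KL`.
-/
import Mathlib
import Cfsg.Prelude.Def_FusionSystem
import Cfsg.Agent.Lib.Helper84.KLBasic
import Cfsg.Agent.Lib.Helper88.FusionNilpFunctor

set_option autoImplicit false

namespace Cfsg.Agent.Lib.Helper84.KL

open Cfsg Cfsg.FusionSystem Cfsg.Agent.Lib.Helper87 Cfsg.Agent.Lib.Helper88 Cfsg.Agent.Lib.Helper84.Model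
open Cfsg.Agent.Lib.Helper88.NilpRed

universe u

variable {Ω : Type u} [Group Ω] {S : Subgroup Ω} {W : ∀ (Q : Type u) [Group Q], Subgroup Q} {p : ℕ}

/-- `N_S(T)` normalizes `W(T)` -/
theorem normalizerIn_le_normalizerIn_inducedFunctor [Finite S] (hW : IsCharPFunctor p W) (hS : IsPGroup p S)
    {T : Subgroup Ω} (hTS : T ≤ S) : normalizerIn S T ≤ normalizerIn S (inducedFunctor W T) := by
  have : Finite T := finite_of_le hTS
  intro g hg
  exact ⟨hg.1, inducedFunctor_normalizer hW (isPGroup_of_le hS hTS) hg.2⟩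

theorem le_normalizerIn_inducedFunctor [Finite S] (hW : IsCharPFunctor p W) (hS : IsPGroup p S)
    {T : Subgroup Ω} (hTS : T ≤ S) : T ≤ normalizerIn S (inducedFunctor W T) :=
  (le_normalizerIn hTS).trans (normalizerIn_le_normalizerIn_inducedFunctor hW hS hTS)

theorem map_self_eq {R : Subgroup Ω} (α : MulAut R) :
    (R.subgroupOf R).map (R.subtype.comp (α : R ≃* R).toMonoidHom) = R := by
  rw [map_subgroupOf_eq_iff]
  constructor
  · intro x _
    exact (α x).2
  · intro q hq
    refine ⟨α.symm ⟨q, hq⟩, (α.symm ⟨q, hq⟩).2, ?_⟩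
    show ((α (α.symm ⟨q, hq⟩) : R) : Ω) = q
    rw [MulEquiv.apply_symm_apply]

section LG

variable [Finite S] [Fact p.Prime] (hS : IsPGroup p S) (F : FusionSystem S) (hF : F.IsSaturated p)
  (hW : IsCharPFunctor p W)
  (H : ∀ (Q : Subgroup Ω) (hQ : F.IsFullyNormalized Q), Q ≠ ⊥ →
    (normalizerSystem F Q hQ.1).IsNormal (inducedFunctor W (normalizerIn S Q)))
  (hXS : inducedFunctor W S ≤ S) (hNX : normalizerIn S (inducedFunctor W S) = S)

include hS hF hW H in
/-- climbing along the chain `T ↦ N_S(W(T))` -/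
theorem climb (r : ℕ) (hr : 1 ≤ r)
    (IH : ∀ P' : Subgroup Ω, r < Nat.card P' → F.Hom P' ⊆ (normSysS F (inducedFunctor W S) hXS hNX).Hom P') :
    ∀ (n : ℕ) (T : Subgroup Ω), T ≤ S → Nat.card S - Nat.card T ≤ n → r < Nat.card T →
      ∀ (A : Subgroup Ω) (ψ : A →* Ω), ψ ∈ F.Hom A → A ≤ normalizerIn S (inducedFunctor W T) →
        inducedFunctor W T ≤ A → ((inducedFunctor W T).subgroupOf A).map ψ = inducedFunctor W T →
        ψ ∈ (normSysS F (inducedFunctor W S) hXS hNX).Hom A := by
  intro n
  induction n with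
  | zero =>
    intro T hTS hn hrT A ψ hψ hAN hVA hψV
    have hTS' : T = S := by
      have h1 : Nat.card T ≤ Nat.card S := Subgroup.card_le_of_le hTS
      exact Subgroup.eq_of_le_of_card_ge hTS (by omega)
    subst hTS'
    rw [normSysS_hom]
    have : Finite (inducedFunctor W T) := finite_of_le hXS
    exact Cfsg.Agent.S5126.mem_normalizerHom_of_map_eq F hVA hAN hψ hψV
  | succ n ih =>
    intro T hTS hn hrT A ψ hψ hAN hVA hψV
    by_cases hTS' : T = S
    · subst hTS'
      rw [normSysS_hom]
      have : Finite (inducedFunctor W T) := finite_of_le hXS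
      exact Cfsg.Agent.S5126.mem_normalizerHom_of_map_eq F hVA hAN hψ hψV
    · have hTfin : Finite T := finite_of_le hTS
      have hTp : IsPGroup p T := isPGroup_of_le hS hTS
      have hTne : T ≠ ⊥ := by
        rintro rfl
        rw [Subgroup.card_bot] at hrT
        omega
      have hVT : inducedFunctor W T ≤ T := inducedFunctor_le W T
      have hVS : inducedFunctor W T ≤ S := hVT.trans hTS
      have hVne : inducedFunctor W T ≠ ⊥ := inducedFunctor_ne_bot hW hTp hTne
      have hVfin : Finite (inducedFunctor W T) := finite_of_le hVS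
      have hVT₂ : inducedFunctor W T ≤ normalizerIn S (inducedFunctor W T) := le_normalizerIn hVS
      have hT₂S : normalizerIn S (inducedFunctor W T) ≤ S := normalizerIn_le S _
      have hT₂fin : Finite (normalizerIn S (inducedFunctor W T)) := finite_of_le hT₂S
      -- `|N_S(W(T))| > |T|`
      have hcardT₂ : Nat.card T < Nat.card (normalizerIn S (inducedFunctor W T)) := by
        have h1 := card_lt_card_normalizerIn hS hTS hTS'
        have h2 : Nat.card (normalizerIn S T) ≤ Nat.card (normalizerIn S (inducedFunctor W T)) :=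
          Subgroup.card_le_of_le (normalizerIn_le_normalizerIn_inducedFunctor hW hS hTS)
        omega
      obtain ⟨V', ρ, hV'n, hconj, hρ, hρT, hρV, hV'ρ⟩ :=
        exists_fullyNormalized_transport hS F hF hVS hVT₂ le_rfl
      have hV'S : V' ≤ S := hV'n.1
      have hV'fin : Finite V' := finite_of_le hV'S
      have hV'ne : V' ≠ ⊥ := by
        rintro rfl
        apply hVne
        apply Subgroup.eq_bot_of_card_eq
        rw [IsConj_card_eq hconj, Subgroup.card_bot]
      have hρE : ρ ∈ (normSysS F (inducedFunctor W S) hXS hNX).Hom (normalizerIn S (inducedFunctor W T)) :=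
        IH _ (by omega) hρ
      have hN₂ := H V' hV'n hV'ne
      have hS₂S : normalizerIn S V' ≤ S := normalizerIn_le S V'
      have hS₂fin : Finite (normalizerIn S V') := finite_of_le hS₂S
      -- `ψ` has values in `N_S(W(T))`
      have hψN := Cfsg.Agent.S5126.mem_normalizerHom_of_map_eq F hVA hAN hψ hψV
      have hψT₂ : ∀ x : A, ψ x ∈ normalizerIn S (inducedFunctor W T) := hψN.2.2.1
      rw [map_subgroupOf_eq_iff] at hψV
      obtain ⟨D', ψ', hmemD', hψ', hD'surj, hkey⟩ := exists_transport_hom F hρ hAN hψ hψT₂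
      have hD'T : D' ≤ normalizerIn S V' := by
        intro y hy
        obtain ⟨x, rfl⟩ := hD'surj y hy
        exact hρT _
      have hV'D' : V' ≤ D' := by
        intro v hv
        obtain ⟨x, hx, rfl⟩ := hV'ρ v hv
        exact hmemD' ⟨x, hVA hx⟩
      have hψ'V' : (V'.subgroupOf D').map ψ' = V' := by
        rw [map_subgroupOf_eq_iff]
        constructor
        · rintro ⟨y, hy⟩ hyV
          obtain ⟨x, rfl⟩ := hD'surj y hy
          have hx₀ : (x : Ω) ∈ inducedFunctor W T := by
            obtain ⟨x', hx', hxx'⟩ := hV'ρ _ hyV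
            have h2 : (⟨x, hAN x.2⟩ : normalizerIn S (inducedFunctor W T)) = x' :=
              (F.injective_of_mem hρ hxx').symm
            have h3 : (x : Ω) = x' := congrArg (fun z : normalizerIn S (inducedFunctor W T) => (z : Ω)) h2
            rw [h3]
            exact hx'
          rw [hkey x]
          exact hρV _ (hψV.1 x hx₀)
        · intro v hv
          obtain ⟨x, hx, rfl⟩ := hV'ρ v hv
          obtain ⟨x₁, hx₁, hx₁x⟩ := hψV.2 x hx
          refine ⟨⟨ρ ⟨x₁, hAN x₁.2⟩, hmemD' x₁⟩, hρV _ hx₁, ?_⟩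
          rw [hkey x₁]
          congr 1
          exact Subtype.ext hx₁x
      have hψ'N₂ : ψ' ∈ (normalizerSystem F V' hV'S).Hom D' :=
        Cfsg.Agent.S5126.mem_normalizerHom_of_map_eq F hV'D' hD'T hψ' hψ'V'
      obtain ⟨ψ'', hψ''N, hψ''e, hψ''W⟩ := hN₂.2 D' ψ' hψ'N₂
      have hψ''F : ψ'' ∈ F.Hom (D' ⊔ inducedFunctor W (normalizerIn S V')) := hψ''N.1
      have hW₂S₂ : inducedFunctor W (normalizerIn S V') ≤ normalizerIn S V' := inducedFunctor_le W _
      have hcardS₂ : Nat.card (normalizerIn S (inducedFunctor W T)) ≤ Nat.card (normalizerIn S V') :=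
        hV'n.2 _ (IsConj_symm hconj)
      have hS₂le : Nat.card (normalizerIn S V') ≤ Nat.card S := Subgroup.card_le_of_le hS₂S
      have hψ''E := ih (normalizerIn S V') hS₂S (by omega) (by omega) _ ψ'' hψ''F
        (sup_le (hD'T.trans (le_normalizerIn_inducedFunctor hW hS hS₂S))
          (hW₂S₂.trans (le_normalizerIn_inducedFunctor hW hS hS₂S))) le_sup_right hψ''W
      have hψ'E : ψ' ∈ (normSysS F (inducedFunctor W S) hXS hNX).Hom D' :=
        restrict_mem' _ hψ''E le_sup_left (fun x => (hψ''e x).symm)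
      have hval : ∀ x : A, ∃ a : normalizerIn S (inducedFunctor W T),
          ρ a = ψ' ⟨ρ ⟨x, hAN x.2⟩, hmemD' x⟩ := fun x => ⟨⟨ψ x, hψT₂ x⟩, (hkey x).symm⟩
      obtain ⟨χt, hχt, hχtρ⟩ := exists_pullback_hom _ hρE hAN hmemD' hψ'E hval
      have hχψ : χt = ψ := by
        ext x
        obtain ⟨h, h1⟩ := hχtρ x
        rw [hkey x] at h1
        exact congrArg Subtype.val (F.injective_of_mem hρ h1)
      rw [← hχψ]
      exact hχt

include hS hF hW H in
/-- **Local-to-global.** If `W(N_S(Q))` is normal in `N_F(Q)` for every nontrivial fully normalized `Q`, then `W(S)` is normal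
in `F`. -/
theorem isNormal_inducedFunctor_of_local : F.IsNormal (inducedFunctor W S) := by
  have hXS : inducedFunctor W S ≤ S := inducedFunctor_le W S
  have hNX : normalizerIn S (inducedFunctor W S) = S :=
    le_antisymm (normalizerIn_le S _) (le_normalizerIn_inducedFunctor hW hS le_rfl)
  have hXfin : Finite (inducedFunctor W S) := finite_of_le hXS
  apply isNormal_of_le_normSysS F hXS hNX
  apply alperin_cr_weak F _ hS hF
  intro R hRn hRc hRr hRa hRrec IH α hα
  have hRS : R ≤ S := hRn.1
  have hRfin : Finite R := finite_of_le hRS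
  have hαF : R.subtype.comp (α : R ≃* R).toMonoidHom ∈ F.Hom R :=
    (Cfsg.Agent.Lib.Helper87.mem_autGroup_iff F hRS).1 hα
  show R.subtype.comp (α : R ≃* R).toMonoidHom ∈ (normSysS F (inducedFunctor W S) hXS hNX).Hom R
  by_cases hRS' : R = S
  · subst hRS'
    rw [normSysS_hom]
    apply Cfsg.Agent.S5126.mem_normalizerHom_of_map_eq F hXS (le_of_eq hNX.symm) hαF
    rw [map_subgroupOf_eq_iff]
    constructor
    · intro x hx
      exact (inducedFunctor_equiv hW hS (α : R ≃* R) x).1 hx
    · intro q hq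
      refine ⟨α.symm ⟨q, hXS hq⟩, ?_, ?_⟩
      · rw [inducedFunctor_equiv hW hS (α : R ≃* R)]
        show ((α (α.symm ⟨q, hXS hq⟩) : R) : Ω) ∈ _
        rw [MulEquiv.apply_symm_apply]
        exact hq
      · show ((α (α.symm ⟨q, hXS hq⟩) : R) : Ω) = q
        rw [MulEquiv.apply_symm_apply]
  · have hRne : R ≠ ⊥ := by
      rintro rfl
      apply hRS'
      have h1 : centralizerIn S (⊥ : Subgroup Ω) ≤ ⊥ := hRc.2 ⊥ (isConj_refl F bot_le)
      apply le_antisymm bot_le
      intro s hs
      apply h1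
      refine ⟨hs, ?_⟩
      show s ∈ Subgroup.centralizer _
      rw [Subgroup.mem_centralizer_iff]
      intro y hy
      rw [Subgroup.coe_bot, Set.mem_singleton_iff] at hy
      rw [hy, one_mul, mul_one]
    have hT₁S : normalizerIn S R ≤ S := normalizerIn_le S R
    have hT₁fin : Finite (normalizerIn S R) := finite_of_le hT₁S
    have hcard := card_lt_card_normalizerIn hS hRS hRS'
    have hN₁ := H R hRn hRne
    have hαN₁ : R.subtype.comp (α : R ≃* R).toMonoidHom ∈ (normalizerSystem F R hRS).Hom R :=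
      Cfsg.Agent.S5126.mem_normalizerHom_of_map_eq F le_rfl (le_normalizerIn hRS) hαF (map_self_eq α)
    obtain ⟨α₁, hα₁N, hα₁e, hα₁W⟩ := hN₁.2 R _ hαN₁
    have hα₁F : α₁ ∈ F.Hom (R ⊔ inducedFunctor W (normalizerIn S R)) := hα₁N.1
    have hW₁T₁ : inducedFunctor W (normalizerIn S R) ≤ normalizerIn S R := inducedFunctor_le W _
    have hr1 : 1 ≤ Nat.card R := Nat.one_le_iff_ne_zero.2 (Nat.card_pos).ne'
    have hα₁E := climb hS F hF hW H hXS hNX (Nat.card R) hr1 IH _ (normalizerIn S R) hT₁S le_rfl hcard _ α₁ hα₁F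
      (sup_le ((le_normalizerIn hRS).trans (le_normalizerIn_inducedFunctor hW hS hT₁S))
        (hW₁T₁.trans (le_normalizerIn_inducedFunctor hW hS hT₁S))) le_sup_right hα₁W
    exact restrict_mem' _ hα₁E le_sup_left (fun x => (hα₁e x).symm)

end LG

end Cfsg.Agent.Lib.Helper84.KL
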