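/-
helper84: the constrained case of the Kessar-Linckelmann theorem: if `W(P)` is normal in a model `L` of `F` (`P` the Sylow
subgroup of `L`), then `W(S)` is normal in `F`.
All declarations live in `Cfsg.Agent.Lib.Helper84.KL`.
-/
import Mathlib
import Cfsg.Prelude.Def_FusionSystem
import Cfsg.Agent.Lib.Helper84.KLBasic
import Cfsg.Agent.Lib.Helper88.FusionNilpFunctor

set_option autoImplicit false

namespace Cfsg.Agent.Lib.Helper84.KL

open Cfsg Cfsg.FusionSystem Cfsg.Agent.Lib.Helper87 Cfsg.Agent.Lib.Helper88 Cfsg.Agent.Lib.Helper84.Model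
open Cfsg.Agent.Lib.Helper88.NilpRed

universe u

variable {Ω : Type u} [Group Ω] {S : Subgroup Ω} {W : ∀ (Q : Type u) [Group Q], Subgroup Q} {p : ℕ}

/-- if `W` of the Sylow subgroup is normal in a model, then `W(S)` is normal in the system -/
theorem isNormal_inducedFunctor_of_model [Finite S] [Fact p.Prime] (hW : IsCharPFunctor p W) (hS : IsPGroup p S)
    (F : FusionSystem S) {L : Type u} [Group L] {ι : S →* L} (hM : F.IsModel p L ι)
    (hWL : ∀ P : Sylow p L, ((W ↥(P : Subgroup L)).map (P : Subgroup L).subtype).Normal) :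
    F.IsNormal (inducedFunctor W S) := by
  obtain ⟨hfin, hr, ⟨T, hT⟩, -⟩ := hM
  have hinj : Function.Injective ι := hr.1
  have hYn : (inducedFunctor W ι.range).Normal := by
    have h1 := hWL T
    rw [hT] at h1
    exact h1
  have hXS : inducedFunctor W S ≤ S := inducedFunctor_le W S
  have hYr : inducedFunctor W ι.range ≤ ι.range := inducedFunctor_le W _
  -- `ι x ∈ W(ι S) ↔ x ∈ W(S)`
  have hiff : ∀ x : S, (x : Ω) ∈ inducedFunctor W S ↔ ι x ∈ inducedFunctor W ι.range :=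
    fun x => inducedFunctor_equiv hW hS (MonoidHom.ofInjective hinj) x
  refine ⟨hXS, fun P φ hφ => ?_⟩
  have hPS : P ≤ S := hom_le F hφ
  have hφS : ∀ x : P, φ x ∈ S := hom_map_mem F hφ
  obtain ⟨g, hg⟩ := (hr.2 P hPS φ hφS).1 hφ
  have hPX : P ⊔ inducedFunctor W S ≤ S := sup_le hPS hXS
  have hrange : ∀ x : ↥(P ⊔ inducedFunctor W S), g * ι ⟨x, hPX x.2⟩ * g⁻¹ ∈ ι.range := by
    intro x
    exact hom_sup_mem ((MulAut.conj g).toMonoidHom.comp (ι.comp (Subgroup.inclusion hPX))) ι.range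
      (fun y => ⟨⟨φ y, hφS y⟩, hg y⟩)
      (fun y => hYr (hYn.conj_mem _ ((hiff ⟨y, hXS y.2⟩).1 y.2) g)) x
  obtain ⟨ψ, hψS, hψ, hψι⟩ := exists_hom_of_conj hr hPX g hrange
  refine ⟨ψ, hψ, fun x => ?_, ?_⟩
  · have h1 := hψι (Subgroup.inclusion le_sup_left x)
    have h2 : ι ⟨ψ (Subgroup.inclusion le_sup_left x), hψS _⟩ = ι ⟨φ x, hφS x⟩ := by
      rw [h1, hg x]
      rfl
    exact congrArg Subtype.val (hinj h2)
  · rw [map_subgroupOf_eq_iff]
    constructor
    · intro x hx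
      have h1 := hψι x
      have h2 : ι ⟨ψ x, hψS x⟩ ∈ inducedFunctor W ι.range := by
        rw [h1]
        exact hYn.conj_mem _ ((hiff ⟨x, hPX x.2⟩).1 hx) g
      exact (hiff ⟨ψ x, hψS x⟩).2 h2
    · intro q hq
      have h1 : g⁻¹ * ι ⟨q, hXS hq⟩ * g⁻¹⁻¹ ∈ inducedFunctor W ι.range :=
        hYn.conj_mem _ ((hiff ⟨q, hXS hq⟩).1 hq) g⁻¹
      obtain ⟨s, hs⟩ := hYr h1
      have hsX : (s : Ω) ∈ inducedFunctor W S := by
        rw [hiff s, hs]
        exact h1
      refine ⟨⟨s, le_sup_right (a := P) hsX⟩, hsX, ?_⟩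
      have h2 := hψι ⟨s, le_sup_right (a := P) hsX⟩
      have h3 : ι ⟨ψ ⟨s, le_sup_right (a := P) hsX⟩, hψS _⟩ = ι ⟨q, hXS hq⟩ := by
        rw [h2]
        have h4 : (⟨((⟨(s : Ω), le_sup_right (a := P) hsX⟩ : ↥(P ⊔ inducedFunctor W S)) : Ω),
            hPX (le_sup_right (a := P) hsX)⟩ : S) = s := rfl
        rw [h4, hs]
        group
      exact congrArg Subtype.val (hinj h3)

end Cfsg.Agent.Lib.Helper84.KL
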