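/-
helper84: the subsystem `S C_F(Q)` of a saturated fusion system `F` for `Q` normal in `F`: existence, saturation, basic
properties; a subgroup normal in `S C_F(Q)` and in `N_F(Q C_S(Q))` is normal in `F`; subgroups containing `Q` that are
centric in `S C_F(Q)` are centric in `F`.
All declarations live in `Cfsg.Agent.Lib.Helper84.KL`.
-/
import Mathlib
import Cfsg.Prelude.Def_FusionSystem
import Cfsg.Agent.Lib.Helper84.KLDecomp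

set_option autoImplicit false

namespace Cfsg.Agent.Lib.Helper84.KL

open Cfsg Cfsg.FusionSystem Cfsg.Agent.Lib.Helper87 Cfsg.Agent.Lib.Helper88 Cfsg.Agent.Lib.Helper84.Model

universe u

variable {Ω : Type u} [Group Ω] {S : Subgroup Ω}

/-- `F₀` is the system `S C_F(Q) = N_F^{Aut_S(Q)}(Q)`, over `S` -/
def IsSC (F : FusionSystem S) (Q : Subgroup Ω) (F₀ : FusionSystem S) : Prop :=
  IsKNormalizerSystem F Q (autInducedBy S Q) S F₀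

theorem nK_autInducedBy_eq_of_isNormal (F : FusionSystem S) {Q : Subgroup Ω} (hQ : F.IsNormal Q) :
    nK S (autInducedBy S Q) (MulEquiv.refl Q) = S := by
  rw [Cfsg.Agent.Lib.Helper84.nK_autInducedBy]
  exact normalizerIn_eq_of_le_normalizer (le_normalizer_of_isNormal F hQ)

/-- the system `S C_F(Q)` exists -/
theorem exists_isSC (F : FusionSystem S) {Q : Subgroup Ω} (hQ : F.IsNormal Q) :
    ∃ F₀ : FusionSystem S, IsSC F Q F₀ := by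
  have h := nK_autInducedBy_eq_of_isNormal F hQ
  refine ⟨Cfsg.Agent.Lib.Helper88.NilpRed.castSystem h
    (Cfsg.Agent.Lib.Helper84.kNormalizerSystem F Q (autInducedBy S Q) hQ.1), ?_, ?_⟩
  · intro g
    rw [h]
  · intro P φ
    rw [Cfsg.Agent.Lib.Helper88.NilpRed.castSystem_hom]
    constructor
    · rintro ⟨h1, h2, h3, h4⟩
      exact ⟨h1, h2.trans (le_of_eq h), fun x => (le_of_eq h) (h3 x), h4⟩
    · rintro ⟨h1, h2, h3, h4⟩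
      exact ⟨h1, h2.trans (le_of_eq h.symm), fun x => (le_of_eq h.symm) (h3 x), h4⟩

section SC

variable {F : FusionSystem S} {Q : Subgroup Ω} {F₀ : FusionSystem S} (hSC : IsSC F Q F₀)

include hSC

theorem IsSC.mem_iff {D : Subgroup Ω} {χ : D →* Ω} : χ ∈ F₀.Hom D ↔ χ ∈ F.Hom D ∧
    ∃ ψ ∈ F.Hom (D ⊔ Q), (∀ x : D, ψ (Subgroup.inclusion le_sup_left x) = χ x) ∧
      ∃ κ ∈ autInducedBy S Q, ∀ u : Q, ψ (Subgroup.inclusion le_sup_right u) = ((κ u : Q) : Ω) := by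
  rw [hSC.2 D χ]
  constructor
  · rintro ⟨h1, -, -, h4⟩
    exact ⟨h1, h4⟩
  · rintro ⟨h1, h4⟩
    exact ⟨h1, hom_le F h1, hom_map_mem F h1, h4⟩

theorem IsSC.hom_subset (D : Subgroup Ω) : F₀.Hom D ⊆ F.Hom D := fun _ h => ((hSC.mem_iff).1 h).1

/-- maps of `F` that are the identity on `Q` are maps of `S C_F(Q)` -/
theorem IsSC.mem_of_eq_on {D : Subgroup Ω} (hQD : Q ≤ D) {χ : D →* Ω} (hχ : χ ∈ F.Hom D)
    (hid : ∀ u : Q, χ ⟨u, hQD u.2⟩ = u) : χ ∈ F₀.Hom D := by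
  rw [hSC.mem_iff]
  have hle : D ⊔ Q ≤ D := sup_le le_rfl hQD
  refine ⟨hχ, χ.comp (Subgroup.inclusion hle), Cfsg.Agent.Lib.Helper87.restrict_mem F hχ hle, fun x => rfl, 1,
    Subgroup.one_mem _, fun u => ?_⟩
  exact hid u

/-- `Q` is normal in `S C_F(Q)` -/
theorem IsSC.isNormal (hQS : Q ≤ S) : F₀.IsNormal Q := by
  refine ⟨hQS, fun P φ hφ => ?_⟩
  obtain ⟨hφF, ψ, hψ, hψe, κ, hκ, hψκ⟩ := (hSC.mem_iff).1 hφ
  have hle : (P ⊔ Q) ⊔ Q ≤ P ⊔ Q := sup_le le_rfl le_sup_right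
  refine ⟨ψ, ?_, hψe, ?_⟩
  · rw [hSC.mem_iff]
    exact ⟨hψ, ψ.comp (Subgroup.inclusion hle), Cfsg.Agent.Lib.Helper87.restrict_mem F hψ hle, fun x => rfl, κ, hκ,
      fun u => hψκ u⟩
  · rw [map_subgroupOf_eq_iff]
    constructor
    · intro x hx
      have h1 := hψκ ⟨x, hx⟩
      have h2 : (Subgroup.inclusion (le_sup_right : Q ≤ P ⊔ Q) ⟨(x : Ω), hx⟩) = x := Subtype.ext rfl
      rw [h2] at h1
      rw [h1]
      exact (κ ⟨x, hx⟩).2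
    · intro q hq
      refine ⟨Subgroup.inclusion le_sup_right (κ.symm ⟨q, hq⟩), (κ.symm ⟨q, hq⟩).2, ?_⟩
      rw [hψκ, MulEquiv.apply_symm_apply]

/-- `S C_F(Q)` is saturated -/
theorem IsSC.isSaturated [Finite S] {p : ℕ} [Fact p.Prime] (hS : IsPGroup p S) (hF : F.IsSaturated p)
    (hQ : F.IsNormal Q) : F₀.IsSaturated p :=
  IsKNormalizerSystem.isSaturated F hS hF hSC hQ.1
    (Cfsg.Agent.Lib.Helper84.isMaxK_autInducedBy_of_fullyNormalized F (isFullyNormalized_of_isNormal F hQ))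

/-- if `F = S C_F(Q)`, every automorphism in `Aut_F(B)`, `B ⊇ Q`, acts on `Q` as an element of `S` -/
theorem IsSC.exists_conj_of_eq (heq : ∀ P : Subgroup Ω, F₀.Hom P = F.Hom P) {B : Subgroup Ω} (hQB : Q ≤ B)
    {χ : B →* Ω} (hχ : χ ∈ F.Hom B) : ∃ s ∈ S, ∀ u : Q, χ ⟨u, hQB u.2⟩ = s * u * s⁻¹ := by
  rw [← heq B] at hχ
  obtain ⟨-, ψ, -, hψe, κ, hκ, hψκ⟩ := (hSC.mem_iff).1 hχ
  obtain ⟨s, hs, hsκ⟩ := mem_autInducedBy_iff.1 hκ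
  refine ⟨s, hs, fun u => ?_⟩
  rw [← hsκ u, ← hψκ u, ← hψe ⟨u, hQB u.2⟩]
  congr 1

end SC

section Use1

variable [Finite S] {p : ℕ} [Fact p.Prime] (hS : IsPGroup p S) (F : FusionSystem S) (hF : F.IsSaturated p)
  {Q : Subgroup Ω} (hQ : F.IsNormal Q) {F₀ : FusionSystem S} (hSC : IsSC F Q F₀)
  (hRS : QC S Q ≤ S) (hNR : normalizerIn S (QC S Q) = S)

include hS hF hQ hSC in
/-- a subgroup normal in `S C_F(Q)` and in `N_F(Q C_S(Q))` is normal in `F` -/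
theorem isNormal_of_isNormal_SC_of_isNormal_normSys {X : Subgroup Ω} (hX₀ : F₀.IsNormal X)
    (hX₁ : (normSysS F (QC S Q) hRS hNR).IsNormal X) : F.IsNormal X := by
  have hQS : Q ≤ S := hQ.1
  have hXS : X ≤ S := hX₀.1
  have hRfin : Finite (QC S Q) := finite_of_le hRS
  refine ⟨hXS, fun P φ hφ => ?_⟩
  have hPS : P ≤ S := hom_le F hφ
  obtain ⟨φ₁, hφ₁, hφ₁e, hφ₁Q⟩ := hQ.2 P φ hφ
  rw [map_subgroupOf_eq_iff] at hφ₁Q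
  have hQA : Q ≤ P ⊔ Q := le_sup_right
  have hAS : P ⊔ Q ≤ S := sup_le hPS hQS
  obtain ⟨γ, hγ, hγR, hγQ⟩ := exists_decomp hS F hF hQ hQA hφ₁
  -- `γ₁ = γ|_A` is a map of `N_F(R)`
  obtain ⟨γ₁, hγ₁F, hγ₁ext⟩ : ∃ γ₁ : ↥(P ⊔ Q) →* Ω, γ₁ ∈ F.Hom (P ⊔ Q) ∧
      ∀ x : ↥(P ⊔ Q), γ (Subgroup.inclusion le_sup_left x) = γ₁ x :=
    ⟨_, Cfsg.Agent.Lib.Helper87.restrict_mem F hγ le_sup_left, fun x => rfl⟩
  have hγ₁N : γ₁ ∈ (normSysS F (QC S Q) hRS hNR).Hom (P ⊔ Q) := by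
    rw [normSysS_hom]
    exact ⟨hγ₁F, hAS.trans (le_of_eq hNR.symm), fun x => (le_of_eq hNR.symm) (hom_map_mem F hγ₁F x), γ, hγ,
      hγ₁ext, hγR⟩
  obtain ⟨γ₂, hγ₂, hγ₂e, hγ₂X⟩ := hX₁.2 (P ⊔ Q) _ hγ₁N
  have hγ₂F : γ₂ ∈ F.Hom ((P ⊔ Q) ⊔ X) := by
    rw [normSysS_hom] at hγ₂
    exact hγ₂.1
  -- the inverse of `γ₁`
  obtain ⟨ρ, hρ, hρinv⟩ := F.inv_mem hγ₁F
  have hρA : ∀ y : γ₁.range, ρ y ∈ P ⊔ Q := by
    rintro ⟨_, x, rfl⟩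
    rw [hρinv x]
    exact x.2
  have hχF := F.comp_mem hρ hφ₁ hρA
  -- `Q ≤ B`
  have hγ₁Q : ∀ u : Q, γ₁ ⟨u, hQA u.2⟩ = φ₁ ⟨u, hQA u.2⟩ := fun u => by
    rw [← hγ₁ext]
    exact hγQ u
  have hQB : Q ≤ γ₁.range := by
    intro q hq
    obtain ⟨x, hx, hxq⟩ := hφ₁Q.2 q hq
    refine ⟨x, ?_⟩
    rw [← hxq]
    exact hγ₁Q ⟨x, hx⟩
  have hχid : ∀ u : Q, (φ₁.comp (ρ.codRestrict (P ⊔ Q) hρA)) ⟨u, hQB u.2⟩ = u := by
    intro u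
    obtain ⟨x, hx, hxq⟩ := hφ₁Q.2 u u.2
    have h1 : (⟨(u : Ω), hQB u.2⟩ : γ₁.range) = ⟨γ₁ x, ⟨x, rfl⟩⟩ := by
      apply Subtype.ext
      rw [← hxq]
      exact (hγ₁Q ⟨x, hx⟩).symm
    have hkey : ρ ⟨(u : Ω), hQB u.2⟩ = (x : Ω) := by rw [h1, hρinv x]
    have h2 : (⟨ρ ⟨(u : Ω), hQB u.2⟩, hρA _⟩ : ↥(P ⊔ Q)) = x := Subtype.ext hkey
    show φ₁ ⟨ρ ⟨(u : Ω), hQB u.2⟩, hρA _⟩ = u
    rw [h2]
    exact hxq
  have hχ₀ := hSC.mem_of_eq_on hQB hχF hχid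
  obtain ⟨χ₂, hχ₂, hχ₂e, hχ₂X⟩ := hX₀.2 _ _ hχ₀
  have hχ₂F := hSC.hom_subset _ hχ₂
  rw [map_subgroupOf_eq_iff] at hγ₂X hχ₂X
  -- `γ₂` has values in `B ⊔ X`
  have hγ₂val : ∀ x : ↥((P ⊔ Q) ⊔ X), γ₂ x ∈ γ₁.range ⊔ X := by
    apply hom_sup_mem γ₂
    · intro x
      rw [hγ₂e x]
      exact (le_sup_left : γ₁.range ≤ γ₁.range ⊔ X) ⟨x, rfl⟩
    · intro x
      exact (le_sup_right : X ≤ γ₁.range ⊔ X) (hγ₂X.1 _ x.2)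
  have hψ := F.comp_mem hγ₂F hχ₂F hγ₂val
  have hle : P ⊔ X ≤ (P ⊔ Q) ⊔ X := sup_le_sup_right le_sup_left X
  refine ⟨_, Cfsg.Agent.Lib.Helper87.restrict_mem F hψ hle, fun x => ?_, ?_⟩
  · show χ₂ ⟨γ₂ ⟨(x : Ω), _⟩, _⟩ = φ x
    have h1 : γ₂ ⟨(x : Ω), hle ((le_sup_left : P ≤ P ⊔ X) x.2)⟩ =
        γ₁ (Subgroup.inclusion (le_sup_left : P ≤ P ⊔ Q) x) :=
      hγ₂e (Subgroup.inclusion (le_sup_left : P ≤ P ⊔ Q) x)
    have h2 : (⟨γ₂ ⟨(x : Ω), hle ((le_sup_left : P ≤ P ⊔ X) x.2)⟩, hγ₂val _⟩ : ↥(γ₁.range ⊔ X)) =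
        Subgroup.inclusion (le_sup_left : γ₁.range ≤ γ₁.range ⊔ X)
          (⟨γ₁ (Subgroup.inclusion (le_sup_left : P ≤ P ⊔ Q) x), ⟨_, rfl⟩⟩ : γ₁.range) := Subtype.ext h1
    rw [h2, hχ₂e]
    show φ₁ ⟨ρ ⟨_, _⟩, _⟩ = φ x
    rw [← hφ₁e x]
    congr 1
    apply Subtype.ext
    exact hρinv _
  · rw [map_subgroupOf_eq_iff]
    constructor
    · intro x hx
      show χ₂ ⟨γ₂ ⟨(x : Ω), _⟩, _⟩ ∈ X
      exact hχ₂X.1 _ (hγ₂X.1 ⟨(x : Ω), hle x.2⟩ hx)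
    · intro q hq
      obtain ⟨y, hy, hyq⟩ := hχ₂X.2 q hq
      obtain ⟨x, hx, hxy⟩ := hγ₂X.2 (y : Ω) hy
      refine ⟨⟨(x : Ω), (le_sup_right : X ≤ P ⊔ X) hx⟩, hx, ?_⟩
      show χ₂ ⟨γ₂ ⟨(x : Ω), _⟩, _⟩ = q
      rw [← hyq]
      congr 1
      apply Subtype.ext
      exact hxy

end Use1

end Cfsg.Agent.Lib.Helper84.KL
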