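/-
helper84: subgroups containing `Q` that are centric in `S C_F(Q)` (for `Q` normal in the saturated system `F`) are
centric in `F`.
All declarations live in `Cfsg.Agent.Lib.Helper84.KL`.
-/
import Mathlib
import Cfsg.Prelude.Def_FusionSystem
import Cfsg.Agent.Lib.Helper84.KLSC
import Cfsg.Agent.Lib.Helper84.Alperin2
import Cfsg.Agent.Lib.Helper85.FusionFactor

set_option autoImplicit false

namespace Cfsg.Agent.Lib.Helper84.KL

open Cfsg Cfsg.FusionSystem Cfsg.Agent.Lib.Helper87 Cfsg.Agent.Lib.Helper88 Cfsg.Agent.Lib.Helper84.Model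

universe u

variable {Ω : Type u} [Group Ω] {S : Subgroup Ω}

/-- subgroups containing `Q` that are centric in `S C_F(Q)` are centric in `F` -/
theorem IsSC.isCentric_of_isCentric [Finite S] {p : ℕ} [Fact p.Prime] (hS : IsPGroup p S) {F : FusionSystem S}
    (hF : F.IsSaturated p) {Q : Subgroup Ω} (hQ : F.IsNormal Q) {F₀ : FusionSystem S} (hSC : IsSC F Q F₀)
    {P : Subgroup Ω} (hQP : Q ≤ P) (hPc : F₀.IsCentric P) : F.IsCentric P := by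
  have hQS : Q ≤ S := hQ.1
  have hPS : P ≤ S := hPc.1
  have hsc := Cfsg.Agent.Lib.Helper84.stronglyClosed_of_isNormal F hQ
  refine ⟨hPS, ?_⟩
  rintro P₂ ⟨φ', hφ', rfl⟩
  obtain ⟨ρ, hρ, hρinv⟩ := F.inv_mem hφ'
  have hQP₂ : Q ≤ φ'.range := by
    intro q hq
    obtain ⟨x, -, hxq⟩ := Cfsg.Agent.Lib.Helper85.stronglyClosed_surj F hsc hφ' hQP q hq
    exact ⟨x, hxq⟩
  obtain ⟨γ, hγ, hγR, hγQ⟩ := exists_decomp hS F hF hQ hQP₂ hρ
  rw [map_subgroupOf_eq_iff] at hγR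
  -- the map `χ = γ ∘ φ'` is the identity on `Q`
  have hval : ∀ x : P, φ' x ∈ φ'.range ⊔ QC S Q := fun x => le_sup_left (b := QC S Q) ⟨x, rfl⟩
  have hχF := F.comp_mem hφ' hγ hval
  have hχid : ∀ u : Q, (γ.comp (φ'.codRestrict _ hval)) ⟨u, hQP u.2⟩ = u := by
    intro u
    have hφu : φ' ⟨u, hQP u.2⟩ ∈ Q :=
      (Cfsg.Agent.Lib.Helper85.stronglyClosed_apply_mem_iff F hsc hφ' ⟨u, hQP u.2⟩).2 u.2
    have h1 := hγQ ⟨φ' ⟨u, hQP u.2⟩, hφu⟩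
    show γ ⟨φ' ⟨u, hQP u.2⟩, _⟩ = u
    exact h1.trans (hρinv ⟨u, hQP u.2⟩)
  have hχ₀ := hSC.mem_of_eq_on hQP hχF hχid
  have hcen := hPc.2 _ ⟨_, hχ₀, rfl⟩
  intro c hc
  have hcR : c ∈ QC S Q := by
    apply centralizerIn_le_QC S Q
    refine ⟨hc.1, ?_⟩
    have h2 : c ∈ Subgroup.centralizer ((φ'.range : Subgroup Ω) : Set Ω) := hc.2
    show c ∈ Subgroup.centralizer ((Q : Subgroup Ω) : Set Ω)
    rw [Subgroup.mem_centralizer_iff] at h2 ⊢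
    intro q hq
    exact h2 q (hQP₂ hq)
  have hcA : c ∈ φ'.range ⊔ QC S Q := le_sup_right (a := φ'.range) hcR
  have hγc : γ ⟨c, hcA⟩ ∈ centralizerIn S (γ.comp (φ'.codRestrict _ hval)).range := by
    refine ⟨hom_map_mem F hγ _, ?_⟩
    show _ ∈ Subgroup.centralizer _
    rw [Subgroup.mem_centralizer_iff]
    rintro _ ⟨x, rfl⟩
    show γ ⟨φ' x, hval x⟩ * γ ⟨c, hcA⟩ = γ ⟨c, hcA⟩ * γ ⟨φ' x, hval x⟩
    rw [← map_mul, ← map_mul]
    congr 1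
    apply Subtype.ext
    have h2 : c ∈ Subgroup.centralizer ((φ'.range : Subgroup Ω) : Set Ω) := hc.2
    rw [Subgroup.mem_centralizer_iff] at h2
    exact h2 (φ' x) ⟨x, rfl⟩
  obtain ⟨x, hx⟩ := hcen hγc
  have h3 : γ ⟨φ' x, hval x⟩ = γ ⟨c, hcA⟩ := hx
  have h4 := F.injective_of_mem hγ h3
  have h5 : φ' x = c := congrArg Subtype.val h4
  exact ⟨x, h5⟩

end Cfsg.Agent.Lib.Helper84.KL
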