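/-
helper84: sub-models, abstract version.  Let `P ≤ A ≤ S`, let `N'` be a fusion system over `A` whose maps are the maps of `F`
between subgroups of `A` that extend to `D ⊔ P` normalizing `P` and satisfying a condition `𝒞`, let `φ ∈ Hom_F(A, N_S(R))` carry
`P` onto `R`, let `L` be a model of `N_F(R)` and `M ≤ L` a subgroup containing `ιφ(A)` that matches the condition `𝒞`.
Then `M`, with `ι ∘ φ`, is a model of `N'` (provided `P` is normal centric in the saturated system `N'`).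
All declarations live in `Cfsg.Agent.Lib.Helper84.Model`.
-/
import Mathlib
import Cfsg.Prelude.Def_FusionSystem
import Cfsg.Agent.Lib.Helper84.ModelSub2

set_option autoImplicit false

namespace Cfsg.Agent.Lib.Helper84.Model

open Cfsg Cfsg.FusionSystem Cfsg.Agent.Lib.Helper87 Cfsg.Agent.Lib.Helper88 Cfsg.Agent.S5328

universe u v w

variable {Ω : Type u} [Group Ω] {S : Subgroup Ω}

section Sub3Main

variable [Finite S] {p : ℕ} [Fact p.Prime] (F : FusionSystem S)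
  {P A R : Subgroup Ω} (hPA : P ≤ A) (hAS : A ≤ S)
  {N' : FusionSystem A}
  (𝒞 : ∀ D : Subgroup Ω, (↥(D ⊔ P) →* Ω) → Prop)
  (hchar : ∀ (D : Subgroup Ω) (χ : D →* Ω), χ ∈ N'.Hom D ↔
    D ≤ A ∧ (∀ x : D, χ x ∈ A) ∧ ∃ ψ ∈ F.Hom (D ⊔ P),
      (∀ x : D, ψ (Subgroup.inclusion le_sup_left x) = χ x) ∧
      (P.subgroupOf (D ⊔ P)).map ψ = P ∧ 𝒞 D ψ)
  {φ : A →* Ω} (hφ : φ ∈ F.Hom A) (hφT : ∀ a, φ a ∈ normalizerIn S R)
  (hφR : ∀ x : A, (x : Ω) ∈ P → φ x ∈ R)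
  (hRφ : ∀ r ∈ R, ∃ x : A, (x : Ω) ∈ P ∧ φ x = r)
  {E : FusionSystem (normalizerIn S R)} (hE : F.IsNormalizerSystem R E)
  {L : Type v} [Group L] [Finite L] {ιR : normalizerIn S R →* L} (MR : MCtx E R p L ιR)
  (M : Subgroup L) (hAM : ∀ a : A, gι₀ hφT ιR a ∈ M)
  (hfwd : ∀ (D : Subgroup Ω) (hDA : D ⊔ P ≤ A) (ψ : ↥(D ⊔ P) →* Ω) (hψA : ∀ x, ψ x ∈ A),
    ψ ∈ F.Hom (D ⊔ P) → 𝒞 D ψ → ∀ g : L,
      (∀ x : ↥(D ⊔ P), gι₀ hφT ιR ⟨ψ x, hψA x⟩ = g * gι₀ hφT ιR ⟨x, hDA x.2⟩ * g⁻¹) → g ∈ M)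
  (hbwd : ∀ (D : Subgroup Ω) (hDA : D ⊔ P ≤ A) (ψ : ↥(D ⊔ P) →* Ω) (hψA : ∀ x, ψ x ∈ A),
    ψ ∈ F.Hom (D ⊔ P) → ∀ g ∈ M,
      (∀ x : ↥(D ⊔ P), gι₀ hφT ιR ⟨ψ x, hψA x⟩ = g * gι₀ hφT ιR ⟨x, hDA x.2⟩ * g⁻¹) → 𝒞 D ψ)

omit [Fact p.Prime] [Finite L] in
include hPA hchar hφ hφR hRφ hE MR hfwd in
theorem sub3_realized_forward {D : Subgroup Ω} (hD : D ≤ A) {χ : D →* Ω}
    (hχ : ∀ x : D, χ x ∈ A) (hχN : χ ∈ N'.Hom D) :
    ∃ g : M, ∀ x : D,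
      (gι₀ hφT ιR).codRestrict M hAM ⟨χ x, hχ x⟩ =
        g * (gι₀ hφT ιR).codRestrict M hAM ⟨x, hD x.2⟩ * g⁻¹ := by
  have hRS : R ≤ S := MR.C.hQS.trans (normalizerIn_le S R)
  have : Finite R := finite_of_le hRS
  obtain ⟨-, -, ψ, hψF, hψD, hψP, hψC⟩ := (hchar D χ).1 hχN
  have hDA : D ⊔ P ≤ A := sup_le hD hPA
  rw [map_subgroupOf_eq_iff] at hψP
  have hψA : ∀ x : ↥(D ⊔ P), ψ x ∈ A := hom_sup_mem ψ A
    (fun x => by rw [hψD x]; exact hχ x)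
    (fun x => hPA (hψP.1 _ x.2))
  -- transport to `φ(D ⊔ P)`
  obtain ⟨D', χ', hmemD', hχ', hD'surj, hkey⟩ := exists_transport_hom F hφ hDA hψF hψA
  have hD'T : D' ≤ normalizerIn S R := by
    intro y hy
    obtain ⟨x, rfl⟩ := hD'surj y hy
    exact hφT _
  have hRD' : R ≤ D' := by
    intro r hr'
    obtain ⟨x, hx, rfl⟩ := hRφ r hr'
    exact hmemD' ⟨x, le_sup_right (a := D) hx⟩
  have hχ'R : (R.subgroupOf D').map χ' = R := by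
    rw [map_subgroupOf_eq_iff]
    constructor
    · rintro ⟨y, hy⟩ hyR
      obtain ⟨x, rfl⟩ := hD'surj y hy
      have hx₀ : (x : Ω) ∈ P := by
        obtain ⟨x', hx', hxx'⟩ := hRφ _ hyR
        have h2 : (⟨x, hDA x.2⟩ : A) = x' := (F.injective_of_mem hφ hxx').symm
        have h3 : (x : Ω) = x' := congrArg (fun z : A => (z : Ω)) h2
        rw [h3]
        exact hx'
      rw [hkey x]
      exact hφR _ (hψP.1 x hx₀)
    · intro r hr'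
      obtain ⟨x, hx, rfl⟩ := hRφ r hr'
      obtain ⟨x₁, hx₁, hx₁x⟩ := hψP.2 x hx
      refine ⟨⟨φ ⟨x₁, hDA x₁.2⟩, hmemD' x₁⟩, hφR _ hx₁, ?_⟩
      rw [hkey x₁]
      congr 1
      exact Subtype.ext hx₁x
  have hχ'E : χ' ∈ E.Hom D' := by
    rw [hE D']
    exact Cfsg.Agent.S5126.mem_normalizerHom_of_map_eq F hRD' hD'T hχ' hχ'R
  have hχ'T : ∀ y : D', χ' y ∈ normalizerIn S R := hom_map_mem E hχ'E
  obtain ⟨g, hg⟩ := (MR.hr.2 D' hD'T χ' hχ'T).1 hχ'E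
  -- the formula for `g`
  have hgx : ∀ x : ↥(D ⊔ P), gι₀ hφT ιR ⟨ψ x, hψA x⟩ = g * gι₀ hφT ιR ⟨x, hDA x.2⟩ * g⁻¹ := by
    intro x
    have h2 := hg ⟨φ ⟨x, hDA x.2⟩, hmemD' x⟩
    rw [gι₀_apply, gι₀_apply, ← h2]
    congr 1
    apply Subtype.ext
    exact (hkey x).symm
  have hgM : g ∈ M := hfwd D hDA ψ hψA hψF hψC g hgx
  refine ⟨⟨g, hgM⟩, fun x => ?_⟩
  apply Subtype.ext
  have h2 := hgx (Subgroup.inclusion le_sup_left x)
  show gι₀ hφT ιR ⟨χ x, hχ x⟩ = g * gι₀ hφT ιR ⟨x, hD x.2⟩ * g⁻¹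
  have h3 : (⟨χ x, hχ x⟩ : A) =
      ⟨ψ (Subgroup.inclusion le_sup_left x), hψA _⟩ := Subtype.ext (hψD x).symm
  rw [h3]
  exact h2

omit [Finite S] [Fact p.Prime] [Finite L] in
include hPA hAS hchar hφ hφR hRφ hE MR hbwd in
theorem sub3_realized_backward {D : Subgroup Ω} (hD : D ≤ A) {χ : D →* Ω}
    (hχ : ∀ x : D, χ x ∈ A) (g : M)
    (hg : ∀ x : D, (gι₀ hφT ιR).codRestrict M hAM ⟨χ x, hχ x⟩ =
      g * (gι₀ hφT ιR).codRestrict M hAM ⟨x, hD x.2⟩ * g⁻¹) :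
    χ ∈ N'.Hom D := by
  have hDA : D ⊔ P ≤ A := sup_le hD hPA
  have hinj : Function.Injective (gι₀ hφT ιR) := by
    intro a b hab
    have h1 : (⟨φ a, hφT a⟩ : normalizerIn S R) = ⟨φ b, hφT b⟩ := MR.hinj hab
    exact F.injective_of_mem hφ (congrArg Subtype.val h1)
  have hg₀ : ∀ x : D, gι₀ hφT ιR ⟨χ x, hχ x⟩ = (g : L) * gι₀ hφT ιR ⟨x, hD x.2⟩ * (g : L)⁻¹ :=
    fun x => congrArg Subtype.val (hg x)
  -- conjugation preserves the image of `P`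
  have hconjP : ∀ (k : L) (x : A), (x : Ω) ∈ P →
      ∃ a : A, (a : Ω) ∈ P ∧ gι₀ hφT ιR a = k * gι₀ hφT ιR x * k⁻¹ := by
    intro k x hx
    have hxR : φ x ∈ R := hφR x hx
    obtain ⟨y', hy'⟩ := MR.conj_Q k ⟨⟨φ x, hφT x⟩, Subgroup.mem_subgroupOf.2 hxR⟩
    have hy'R : ((y' : normalizerIn S R) : Ω) ∈ R := Subgroup.mem_subgroupOf.1 y'.2
    obtain ⟨a, ha, haφ⟩ := hRφ _ hy'R
    refine ⟨a, ha, ?_⟩
    rw [gι₀_apply, gι₀_apply]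
    have h1 : (⟨φ a, hφT a⟩ : normalizerIn S R) = (y' : normalizerIn S R) := Subtype.ext haφ
    rw [h1, ← hy']
  -- conjugation by `g` maps the image of `D ⊔ P` into the image of `A`
  have hclaim : ∀ x : ↥(D ⊔ P), ∃ a : A,
      gι₀ hφT ιR a = (g : L) * gι₀ hφT ιR ⟨x, hDA x.2⟩ * (g : L)⁻¹ := by
    intro x
    have := hom_sup_mem ((MulAut.conj (g : L)).toMonoidHom.comp
      ((gι₀ hφT ιR).comp (Subgroup.inclusion hDA))) (gι₀ hφT ιR).range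
      (fun y => ⟨⟨χ y, hχ y⟩, hg₀ y⟩)
      (fun y => by
        obtain ⟨a, -, ha⟩ := hconjP (g : L) ⟨y, hPA y.2⟩ y.2
        exact ⟨a, ha⟩) x
    exact this
  -- the map of `N_F(R)` induced by `g`
  obtain ⟨D', χ₀, hmemD', -, hD'surj, -⟩ := exists_transport_hom F hφ hDA
    (subtype_mem F (hDA.trans hAS)) (fun x => hDA x.2)
  have hD'T : D' ≤ normalizerIn S R := by
    intro y hy
    obtain ⟨x, rfl⟩ := hD'surj y hy
    exact hφT _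
  obtain ⟨χ', hχ'T, hχ'E, hχ'g⟩ := exists_hom_of_conj MR.hr hD'T (g : L) (by
    rintro ⟨y, hy⟩
    obtain ⟨x, rfl⟩ := hD'surj y hy
    obtain ⟨a, ha⟩ := hclaim x
    exact ⟨⟨φ a, hφT a⟩, ha⟩)
  have hχ'F : χ' ∈ F.Hom D' := by
    rw [hE D'] at hχ'E
    exact hχ'E.1
  have hval : ∀ x : ↥(D ⊔ P), ∃ a : A, φ a = χ' ⟨φ ⟨x, hDA x.2⟩, hmemD' x⟩ := by
    intro x
    obtain ⟨a, ha⟩ := hclaim x
    refine ⟨a, ?_⟩
    have h1 := hχ'g ⟨φ ⟨x, hDA x.2⟩, hmemD' x⟩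
    have h2 : ιR ⟨φ a, hφT a⟩ = ιR ⟨χ' ⟨φ ⟨x, hDA x.2⟩, hmemD' x⟩, hχ'T _⟩ := by
      rw [h1]
      exact ha
    exact congrArg Subtype.val (MR.hinj h2)
  obtain ⟨χt, hχt, hχtφ⟩ := exists_pullback_hom F hφ hDA hmemD' hχ'F hval
  have hχtA : ∀ x : ↥(D ⊔ P), χt x ∈ A := fun x => (hχtφ x).1
  -- the key property of `χt`
  have hχtg : ∀ x : ↥(D ⊔ P),
      gι₀ hφT ιR ⟨χt x, hχtA x⟩ = (g : L) * gι₀ hφT ιR ⟨x, hDA x.2⟩ * (g : L)⁻¹ := by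
    intro x
    obtain ⟨h, h1⟩ := hχtφ x
    have h2 := hχ'g ⟨φ ⟨x, hDA x.2⟩, hmemD' x⟩
    rw [gι₀_apply, gι₀_apply]
    refine Eq.trans ?_ h2
    congr 1
    exact Subtype.ext h1
  rw [hchar D χ]
  refine ⟨hD, hχ, χt, hχt, ?_, ?_, hbwd D hDA χt hχtA hχt (g : L) g.2 hχtg⟩
  · intro x
    have h1 := hχtg (Subgroup.inclusion le_sup_left x)
    have h2 : gι₀ hφT ιR ⟨χt (Subgroup.inclusion le_sup_left x), hχtA _⟩ = gι₀ hφT ιR ⟨χ x, hχ x⟩ := by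
      rw [h1, hg₀ x]
      rfl
    exact congrArg Subtype.val (hinj h2)
  · rw [map_subgroupOf_eq_iff]
    constructor
    · intro x hx
      have h1 := hχtg x
      obtain ⟨a, ha, haa⟩ := hconjP (g : L) ⟨x, hDA x.2⟩ hx
      have h2 : gι₀ hφT ιR ⟨χt x, hχtA x⟩ = gι₀ hφT ιR a := by rw [h1, haa]
      have h3 := congrArg Subtype.val (hinj h2)
      rw [show χt x = (a : Ω) from h3]
      exact ha
    · intro q hq
      obtain ⟨a, ha, haa⟩ := hconjP (g : L)⁻¹ ⟨q, hPA hq⟩ hq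
      refine ⟨⟨a, le_sup_right (a := D) ha⟩, ha, ?_⟩
      have h1 := hχtg ⟨a, le_sup_right (a := D) ha⟩
      have h3 : gι₀ hφT ιR ⟨χt ⟨a, le_sup_right (a := D) ha⟩, hχtA _⟩ = gι₀ hφT ιR ⟨q, hPA hq⟩ := by
        rw [h1]
        have h4 : (⟨((⟨(a : Ω), le_sup_right (a := D) ha⟩ : ↥(D ⊔ P)) : Ω), hDA (le_sup_right (a := D) ha)⟩ :
            A) = a := rfl
        rw [h4, haa]
        group
      exact congrArg Subtype.val (hinj h3)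

include hPA hAS hchar hφ hφR hRφ hE MR hfwd hbwd in
/-- the subgroup `M` of a model of `N_F(R)` is a pre-model of `N'` -/
theorem sub3_preM (C : Ctx N' P p) : PreM N' P p ↥M ((gι₀ hφT ιR).codRestrict M hAM) := by
  have hinj : Function.Injective ((gι₀ hφT ιR).codRestrict M hAM) := by
    intro a b hab
    have h0 : ιR ⟨φ a, hφT a⟩ = ιR ⟨φ b, hφT b⟩ := congrArg Subtype.val hab
    have h1 : (⟨φ a, hφT a⟩ : normalizerIn S R) = ⟨φ b, hφT b⟩ := MR.hinj h0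
    exact F.injective_of_mem hφ (congrArg Subtype.val h1)
  refine ⟨C, inferInstance, ⟨hinj, ?_⟩, ?_, ?_⟩
  · intro D hD χ hχ
    constructor
    · intro hχN
      exact sub3_realized_forward F hPA 𝒞 hchar hφ hφT hφR hRφ hE MR M hAM hfwd hD hχ hχN
    · rintro ⟨g, hg⟩
      exact sub3_realized_backward F hPA hAS 𝒞 hchar hφ hφT hφR hRφ hE MR M hAM hbwd hD hχ g hg
  · intro g y
    have hy : (((y : A)) : Ω) ∈ P := Subgroup.mem_subgroupOf.1 y.2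
    have hxR : φ (y : A) ∈ R := hφR _ hy
    obtain ⟨y', hy'⟩ := MR.conj_Q (g : L) ⟨⟨φ (y : A), hφT _⟩, Subgroup.mem_subgroupOf.2 hxR⟩
    have hy'R : ((y' : normalizerIn S R) : Ω) ∈ R := Subgroup.mem_subgroupOf.1 y'.2
    obtain ⟨a, ha, haφ⟩ := hRφ _ hy'R
    refine ⟨⟨a, Subgroup.mem_subgroupOf.2 ha⟩, ?_⟩
    apply Subtype.ext
    show (g : L) * ιR ⟨φ (y : A), hφT _⟩ * (g : L)⁻¹ = ιR ⟨φ a, hφT a⟩
    have h1 : (⟨φ a, hφT a⟩ : normalizerIn S R) = (y' : normalizerIn S R) := Subtype.ext haφ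
    rw [h1, ← hy']
  · intro g hg
    have hcomm : ∀ y : ↥(R.subgroupOf (normalizerIn S R)),
        (g : L) * ιR (y : normalizerIn S R) = ιR (y : normalizerIn S R) * (g : L) := by
      intro y
      have hyR : ((y : normalizerIn S R) : Ω) ∈ R := Subgroup.mem_subgroupOf.1 y.2
      obtain ⟨a, ha, haφ⟩ := hRφ _ hyR
      have h0 : (g : L) * ιR ⟨φ a, hφT a⟩ = ιR ⟨φ a, hφT a⟩ * (g : L) :=
        congrArg Subtype.val (hg ⟨a, Subgroup.mem_subgroupOf.2 ha⟩)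
      have h1 : (⟨φ a, hφT a⟩ : normalizerIn S R) = (y : normalizerIn S R) := Subtype.ext haφ
      rw [← h1]
      exact h0
    have : Finite (normalizerIn S R) := finite_of_le (normalizerIn_le S R)
    have hRn : (R.subgroupOf (normalizerIn S R)).Normal := MR.C.Qs_normal
    obtain ⟨z, hz, hgz⟩ := MR.cent_Q _ hcomm
    have hzR : (z : Ω) ∈ R := Subgroup.mem_subgroupOf.1 (ker_le E MR.C.hQS MR.C.hcen z hz)
    obtain ⟨a, ha, haφ⟩ := hRφ _ hzR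
    refine ⟨a, Subtype.ext ?_⟩
    show (g : L) = ιR ⟨φ a, hφT a⟩
    have h1 : (⟨φ a, hφT a⟩ : normalizerIn S R) = z := Subtype.ext haφ
    rw [h1]
    exact hgz

include hPA hAS hchar hφ hφR hRφ hE MR hfwd hbwd in
/-- the subgroup `M` of a model of `N_F(R)` is a model of `N'` -/
theorem sub3_isModel (C : Ctx N' P p) : N'.IsModel p ↥M ((gι₀ hφT ιR).codRestrict M hAM) := by
  have : Finite A := finite_of_le hAS
  exact (sub3_preM F hPA hAS 𝒞 hchar hφ hφT hφR hRφ hE MR M hAM hfwd hbwd C).isModel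

end Sub3Main

end Cfsg.Agent.Lib.Helper84.Model
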