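/-
helper84: the subsystem `S C_F(Q)` of a saturated `H`-free fusion system `F` (`Q` normal in `F`) is `H`-free.
All declarations live in `Cfsg.Agent.Lib.Helper84.KL`.
-/
import Mathlib
import Cfsg.Prelude.Def_FusionSystem
import Cfsg.Prelude.Def_FusionReduction
import Cfsg.Agent.Lib.Helper84.KLSCCentric
import Cfsg.Agent.Lib.Helper84.ModelSub3
import Cfsg.Agent.Lib.Helper84.ModelRadical
import Cfsg.Agent.Lib.Helper84.FusionNormCentric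
import Cfsg.Agent.Lib.Helper88.Involves

set_option autoImplicit false

namespace Cfsg.Agent.Lib.Helper84.KL

open Cfsg Cfsg.FusionSystem Cfsg.Agent.Lib.Helper87 Cfsg.Agent.Lib.Helper88 Cfsg.Agent.Lib.Helper84.Model
  Cfsg.Agent.S5328

universe u v

variable {Ω : Type u} [Group Ω] {S : Subgroup Ω}

section scM

variable {A : Subgroup Ω} {L : Type v} [Group L] (j : A →* L) (Q : Subgroup Ω) (hQA : Q ≤ A)
  (K : Subgroup (MulAut Q))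

/-- the elements of `L` acting on the image of `Q` as an element of `K` -/
def scM : Subgroup L where
  carrier := {g | ∃ κ ∈ K, ∀ u : Q, g * j ⟨u, hQA u.2⟩ * g⁻¹ = j ⟨κ u, hQA (κ u).2⟩}
  one_mem' := ⟨1, K.one_mem, fun u => by simp⟩
  mul_mem' := by
    rintro g h ⟨κ, hκ, hg⟩ ⟨κ', hκ', hh⟩
    refine ⟨κ * κ', K.mul_mem hκ hκ', fun u => ?_⟩
    have h1 : g * h * j ⟨u, hQA u.2⟩ * (g * h)⁻¹ = g * (h * j ⟨u, hQA u.2⟩ * h⁻¹) * g⁻¹ := by group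
    rw [h1, hh u, hg (κ' u)]
    rfl
  inv_mem' := by
    rintro g ⟨κ, hκ, hg⟩
    refine ⟨κ⁻¹, K.inv_mem hκ, fun u => ?_⟩
    have h1 := hg (κ⁻¹ u)
    have h2 : j ⟨(κ (κ⁻¹ u) : Q), hQA (κ (κ⁻¹ u)).2⟩ = j ⟨u, hQA u.2⟩ := by
      congr 2
      simp
    rw [h2] at h1
    rw [← h1]
    group

theorem mem_scM_iff (g : L) : g ∈ scM j Q hQA K ↔
    ∃ κ ∈ K, ∀ u : Q, g * j ⟨u, hQA u.2⟩ * g⁻¹ = j ⟨κ u, hQA (κ u).2⟩ := Iff.rfl

end scM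

/-- **`S C_F(Q)` is `H`-free when `F` is.** -/
theorem IsSC.isSectionFree [Finite S] {p : ℕ} [Fact p.Prime] (hS : IsPGroup p S) {F : FusionSystem S}
    (hF : F.IsSaturated p) {Q : Subgroup Ω} (hQ : F.IsNormal Q) {F₀ : FusionSystem S} (hSC : IsSC F Q F₀)
    {H : Type*} [Group H] (hfree : F.IsSectionFree p H) : F₀.IsSectionFree p H := by
  intro P₀ hP₀n hP₀c N₀ hN₀ L₀ _ ι₀ hM₀ hinv
  have hQS : Q ≤ S := hQ.1
  have hF₀ : F₀.IsSaturated p := hSC.isSaturated hS hF hQ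
  have hQ₀ : F₀.IsNormal Q := hSC.isNormal hQS
  obtain ⟨P, hPn, hPc, hPr, hall⟩ := exists_radical_embedding hS F₀ hF₀ hP₀n hP₀c hN₀ hM₀
  have hQP : Q ≤ P := Cfsg.Agent.Lib.Helper84.Model.le_of_isNormal_of_centric_radical hS F₀ hQ₀ hPc hPr
  have hPcF : F.IsCentric P := hSC.isCentric_of_isCentric hS hF hQ hQP hPc
  have hPS : P ≤ S := hPc.1
  have hPA : P ≤ normalizerIn S P := le_normalizerIn hPS
  have hAS : normalizerIn S P ≤ S := normalizerIn_le S P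
  have hQA : Q ≤ normalizerIn S P := hQP.trans hPA
  obtain ⟨R, φ, hRn, hconj, hφ, hφT, hφR, hRφ⟩ :=
    exists_fullyNormalized_transport hS F hF hPS hPA (le_refl (normalizerIn S P))
  have hRc : F.IsCentric R := isCentric_of_isConj F hPcF hconj
  have hE := isNormalizerSystem_normalizerSystem F R hRn.1
  have hRfin : Finite (normalizerIn S R) := finite_of_le (normalizerIn_le S R)
  have hAfin : Finite (normalizerIn S P) := finite_of_le (normalizerIn_le S P)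
  have C := ctx_of_isNormalizerSystem hS F hF hRn hRc hE
  obtain ⟨L, hL, ι, hM⟩ := C.exists_isModel
  have MR : MCtx (normalizerSystem F R hRn.1) R p L ι := ⟨C, hM⟩
  have : Finite L := MR.finite
  have hN' := isNormalizerSystem_normalizerSystem F₀ P hPS
  have C' : Ctx (normalizerSystem F₀ P hPS) P p := ctx_of_isNormalizerSystem hS F₀ hF₀ hPn hPc hN'
  have hinj : Function.Injective (gι₀ hφT ι) := by
    intro a b hab
    have h0 : ι ⟨φ a, hφT a⟩ = ι ⟨φ b, hφT b⟩ := hab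
    have h1 : (⟨φ a, hφT a⟩ : normalizerIn S R) = ⟨φ b, hφT b⟩ := MR.hinj h0
    exact F.injective_of_mem hφ (congrArg Subtype.val h1)
  -- the condition on extensions
  let 𝒞 : ∀ D : Subgroup Ω, (↥(D ⊔ P) →* Ω) → Prop := fun D ψ =>
    ∃ κ ∈ autInducedBy S Q, ∀ u : Q, ψ ⟨u, (hQP.trans (le_sup_right : P ≤ D ⊔ P)) u.2⟩ = ((κ u : Q) : Ω)
  have hchar : ∀ (D : Subgroup Ω) (χ : D →* Ω), χ ∈ (normalizerSystem F₀ P hPS).Hom D ↔
      D ≤ normalizerIn S P ∧ (∀ x : D, χ x ∈ normalizerIn S P) ∧ ∃ ψ ∈ F.Hom (D ⊔ P),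
        (∀ x : D, ψ (Subgroup.inclusion le_sup_left x) = χ x) ∧
        (P.subgroupOf (D ⊔ P)).map ψ = P ∧ 𝒞 D ψ := by
    intro D χ
    rw [hN' D]
    constructor
    · rintro ⟨-, hDA, hχA, ψ, hψ₀, hψD, hψP⟩
      obtain ⟨hψF, ψ', hψ', hψ'e, κ, hκ, hψ'κ⟩ := (hSC.mem_iff).1 hψ₀
      refine ⟨hDA, hχA, ψ, hψF, hψD, hψP, κ, hκ, fun u => ?_⟩
      rw [← hψ'κ u, ← hψ'e]
      rfl
    · rintro ⟨hDA, hχA, ψ, hψF, hψD, hψP, κ, hκ, hψκ⟩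
      have hle : (D ⊔ P) ⊔ Q ≤ D ⊔ P := sup_le le_rfl (hQP.trans le_sup_right)
      have hψ₀ : ψ ∈ F₀.Hom (D ⊔ P) := by
        rw [hSC.mem_iff]
        exact ⟨hψF, ψ.comp (Subgroup.inclusion hle), Cfsg.Agent.Lib.Helper87.restrict_mem F hψF hle,
          fun x => rfl, κ, hκ, fun u => hψκ u⟩
      have hχ₀ : χ ∈ F₀.Hom D := restrict_mem' F₀ hψ₀ le_sup_left (fun x => (hψD x).symm)
      exact ⟨hχ₀, hDA, hχA, ψ, hψ₀, hψD, hψP⟩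
  -- the subgroup `M`
  have hSQ : S ≤ Subgroup.normalizer (Q : Set Ω) := le_normalizer_of_isNormal F hQ
  have hAM : ∀ a : normalizerIn S P, gι₀ hφT ι a ∈ scM (gι₀ hφT ι) Q hQA (autInducedBy S Q) := by
    intro a
    have haN : (a : Ω) ∈ Subgroup.normalizer (Q : Set Ω) := hSQ (hAS a.2)
    refine ⟨conjAut Q a haN, mem_autInducedBy_iff.2 ⟨a, hAS a.2, fun x => conjAut_apply Q a haN x⟩, fun u => ?_⟩
    rw [← map_inv, ← map_mul, ← map_mul]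
    congr 1
  have hfwd : ∀ (D : Subgroup Ω) (hDA : D ⊔ P ≤ normalizerIn S P) (ψ : ↥(D ⊔ P) →* Ω)
      (hψA : ∀ x, ψ x ∈ normalizerIn S P), ψ ∈ F.Hom (D ⊔ P) → 𝒞 D ψ → ∀ g : L,
      (∀ x : ↥(D ⊔ P), gι₀ hφT ι ⟨ψ x, hψA x⟩ = g * gι₀ hφT ι ⟨x, hDA x.2⟩ * g⁻¹) →
        g ∈ scM (gι₀ hφT ι) Q hQA (autInducedBy S Q) := by
    rintro D hDA ψ hψA - ⟨κ, hκ, hψκ⟩ g hg
    refine ⟨κ, hκ, fun u => ?_⟩
    have h1 := hg ⟨u, (hQP.trans (le_sup_right : P ≤ D ⊔ P)) u.2⟩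
    have h2 : (⟨ψ ⟨u, (hQP.trans (le_sup_right : P ≤ D ⊔ P)) u.2⟩, hψA _⟩ : normalizerIn S P) =
        ⟨κ u, hQA (κ u).2⟩ := Subtype.ext (hψκ u)
    rw [h2] at h1
    exact h1.symm
  have hbwd : ∀ (D : Subgroup Ω) (hDA : D ⊔ P ≤ normalizerIn S P) (ψ : ↥(D ⊔ P) →* Ω)
      (hψA : ∀ x, ψ x ∈ normalizerIn S P), ψ ∈ F.Hom (D ⊔ P) →
      ∀ g ∈ scM (gι₀ hφT ι) Q hQA (autInducedBy S Q),
      (∀ x : ↥(D ⊔ P), gι₀ hφT ι ⟨ψ x, hψA x⟩ = g * gι₀ hφT ι ⟨x, hDA x.2⟩ * g⁻¹) → 𝒞 D ψ := by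
    rintro D hDA ψ hψA - g ⟨κ, hκ, hgκ⟩ hg
    refine ⟨κ, hκ, fun u => ?_⟩
    have h1 := hg ⟨u, (hQP.trans (le_sup_right : P ≤ D ⊔ P)) u.2⟩
    have h2 := hgκ u
    have h3 : gι₀ hφT ι ⟨ψ ⟨u, (hQP.trans (le_sup_right : P ≤ D ⊔ P)) u.2⟩, hψA _⟩ =
        gι₀ hφT ι ⟨κ u, hQA (κ u).2⟩ := h1.trans h2
    exact congrArg Subtype.val (hinj h3)
  have hMM := sub3_isModel F hPA hAS 𝒞 hchar hφ hφT hφR hRφ hE MR
    (scM (gι₀ hφT ι) Q hQA (autInducedBy S Q)) hAM hfwd hbwd C'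
  obtain ⟨f, hf⟩ := hall _ hN' _ _ hMM
  exact hfree R hRn hRc _ hE L ι hM
    (Cfsg.Agent.Lib.Helper88.Involves.of_subgroup _ (Cfsg.Agent.Lib.Helper88.Involves.of_injective f hf hinv))

end Cfsg.Agent.Lib.Helper84.KL
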