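/-
helper84: the Kessar-Linckelmann theorem: for a Glauberman functor `W` (odd `p`) and a saturated `Qd(p)`-free fusion system `F`
over `S`, the subgroup `W(S)` is normal in `F`.
All declarations live in `Cfsg.Agent.Lib.Helper84.KL`.
-/
import Mathlib
import Cfsg.Prelude.Def_FusionSystem
import Cfsg.Prelude.Def_FusionReduction
import Cfsg.Prelude.Def_FusionComponents
import Cfsg.Agent.Lib.Helper84.KLLocalGlobal
import Cfsg.Agent.Lib.Helper84.KLModel
import Cfsg.Agent.Lib.Helper84.KLSCFree
import Cfsg.Agent.Lib.Helper84.KLLift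
import Cfsg.Agent.Lib.Helper85.QuotModelFree
import Cfsg.Agent.Lib.Helper88.FusionNilpSub
import Cfsg.Agent.S5240

set_option autoImplicit false

namespace Cfsg.Agent.Lib.Helper84.KL

open Cfsg Cfsg.FusionSystem Cfsg.Agent.Lib.Helper87 Cfsg.Agent.Lib.Helper88 Cfsg.Agent.Lib.Helper84.Model
open Cfsg.Agent.Lib.Helper88.NilpRed

universe u

variable {W : ∀ (Q : Type u) [Group Q], Subgroup Q} {p : ℕ}

section small

variable {Ω : Type u} [Group Ω] {S : Subgroup Ω}

theorem castSystem_isNormal_inducedFunctor {T T' : Subgroup Ω} (h : T = T') (E : FusionSystem T) :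
    (castSystem h E).IsNormal (inducedFunctor W T') ↔ E.IsNormal (inducedFunctor W T) := by
  subst h
  rfl

theorem castSystem_isSectionFree {T T' : Subgroup Ω} (h : T = T') (E : FusionSystem T) (p : ℕ)
    (H : Type*) [Group H] : (castSystem h E).IsSectionFree p H ↔ E.IsSectionFree p H := by
  subst h
  rfl

theorem isNormal_of_hom_eq {F F' : FusionSystem S} (h : ∀ P : Subgroup Ω, F'.Hom P = F.Hom P)
    {X : Subgroup Ω} (hX : F'.IsNormal X) : F.IsNormal X := by
  refine ⟨hX.1, fun P φ hφ => ?_⟩
  obtain ⟨ψ, hψ, h1, h2⟩ := hX.2 P φ (by rw [h P]; exact hφ)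
  exact ⟨ψ, by rw [← h _]; exact hψ, h1, h2⟩

theorem le_normalizer_of_weaklyClosed [Finite S] (F : FusionSystem S) {R : Subgroup Ω}
    (hR : F.WeaklyClosed R) : S ≤ Subgroup.normalizer (R : Set Ω) := by
  intro s hs
  have : Finite R := finite_of_le hR.1
  apply Cfsg.Agent.Lib.Helper85.mem_normalizer_of_conj_le_of_finite
  intro x hx
  have h1 := hR.2 _ (F.conj_mem hR.1 hs)
  have h2 : conjHom R s ⟨x, hx⟩ ∈ (conjHom R s).range := ⟨_, rfl⟩
  rw [h1] at h2
  exact h2

theorem isFullyNormalized_of_normalizerIn_eq [Finite S] (F : FusionSystem S) {R : Subgroup Ω} (hRS : R ≤ S)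
    (hNR : normalizerIn S R = S) : F.IsFullyNormalized R := by
  refine ⟨hRS, fun R' _ => ?_⟩
  rw [hNR]
  exact Subgroup.card_le_of_le (normalizerIn_le S R')

theorem isCentric_of_isNormal (F : FusionSystem S) {Q : Subgroup Ω} (hQ : F.IsNormal Q)
    (h : centralizerIn S Q ≤ Q) : F.IsCentric Q := by
  refine ⟨hQ.1, fun Q' hQQ' => ?_⟩
  obtain ⟨φ, hφ, rfl⟩ := hQQ'
  rw [isNormal_range_eq F hQ hφ]
  exact h

end small

/-- the hypothesis on `W` in groups of characteristic `p` not involving `Qd(p)` -/
def GlaubermanHyp (p : ℕ) (W : ∀ (Q : Type u) [Group Q], Subgroup Q) : Prop :=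
  ∀ (L : Type u) [Group L] [Finite L] (P : Sylow p L),
    Subgroup.centralizer ((Cfsg.pCore p L : Subgroup L) : Set L) =
      Cfsg.pCore p L ⊓ Subgroup.centralizer ((Cfsg.pCore p L : Subgroup L) : Set L) →
    ¬ Cfsg.Involves ↥(Cfsg.qd p) L →
      (((W ↥(P : Subgroup L)).map (P : Subgroup L).subtype : Subgroup L)).Normal

/-- the induction step -/
theorem kl_step [Fact p.Prime] (hW : IsCharPFunctor p W) (hW3 : GlaubermanHyp p W)
    {Ω : Type u} [Group Ω] {S : Subgroup Ω} [Finite S] (hS : IsPGroup p S)
    (IH1 : ∀ (Ω' : Type u) [Group Ω'] (S' : Subgroup Ω') [Finite S'], Nat.card S' < Nat.card S →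
      IsPGroup p S' → ∀ F' : FusionSystem S', F'.IsSaturated p → F'.IsSectionFree p ↥(Cfsg.qd p) →
        F'.IsNormal (inducedFunctor W S'))
    (F : FusionSystem S)
    (IH2 : ∀ F' : FusionSystem S, morCount F' < morCount F → F'.IsSaturated p →
      F'.IsSectionFree p ↥(Cfsg.qd p) → F'.IsNormal (inducedFunctor W S))
    (hF : F.IsSaturated p) (hfree : F.IsSectionFree p ↥(Cfsg.qd p)) :
    F.IsNormal (inducedFunctor W S) := by
  classical
  by_cases hex : ∃ Q : Subgroup Ω, F.IsNormal Q ∧ Q ≠ ⊥
  swap
  · -- no nontrivial normal subgroup: local-to-global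
    apply isNormal_inducedFunctor_of_local hS F hF hW
    intro X hXn hXne
    have hXS : X ≤ S := hXn.1
    have hN := isNormalizerSystem_normalizerSystem F X hXS
    have hTle : normalizerIn S X ≤ S := normalizerIn_le S X
    have hTfin : Finite (normalizerIn S X) := finite_of_le hTle
    have hTp : IsPGroup p (normalizerIn S X) := isPGroup_of_le hS hTle
    have hNsat := isSaturated_of_isNormalizerSystem F hS hF hXn hN
    have hNfree := Cfsg.Agent.S5240.result p hS F hF hfree X hXn _ hN
    by_cases hlt : Nat.card (normalizerIn S X) < Nat.card S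
    · exact IH1 Ω (normalizerIn S X) hlt hTp _ hNsat hNfree
    · have hNX : normalizerIn S X = S := Subgroup.eq_of_le_of_card_ge hTle (not_lt.1 hlt)
      rw [← castSystem_isNormal_inducedFunctor hNX]
      apply IH2
      · apply morCount_lt
        · intro P
          rw [castSystem_hom, hN P]
          intro φ hφ
          exact hφ.1
        · by_contra hall0
          have hall : ∀ P : Subgroup Ω, (castSystem hNX (normalizerSystem F X hXS)).Hom P = F.Hom P :=
            fun P => by
              by_contra h
              exact hall0 ⟨P, h⟩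
          apply hex
          refine ⟨X, ?_, hXne⟩
          apply isNormal_of_le_normSysS F hXS hNX
          intro P
          unfold normSysS
          rw [hall P]
      · rw [castSystem_isSaturated]
        exact hNsat
      · rw [castSystem_isSectionFree]
        exact hNfree
  · -- a nontrivial normal subgroup of maximal order
    have hfin : {U : Subgroup Ω | F.IsNormal U ∧ U ≠ ⊥}.Finite :=
      (Cfsg.Agent.Lib.Helper85.finite_subgroups_le S).subset (fun U hU => hU.1.1)
    obtain ⟨Q, ⟨hQ, hQne⟩, hmax⟩ := Set.exists_max_image _ (fun U : Subgroup Ω => Nat.card U) hfin hex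
    have hQS : Q ≤ S := hQ.1
    have hQfin : Finite Q := finite_of_le hQS
    have hQn := isFullyNormalized_of_isNormal F hQ
    have hSQ : S ≤ Subgroup.normalizer (Q : Set Ω) := le_normalizer_of_isNormal F hQ
    have hNQ : normalizerIn S Q = S := normalizerIn_eq_of_le_normalizer hSQ
    by_cases hcen : centralizerIn S Q ≤ Q
    · -- `Q` is centric: the constrained case
      have hQc := isCentric_of_isNormal F hQ hcen
      have hN := isNormalizerSystem_normalizerSystem F Q hQS
      have hTle : normalizerIn S Q ≤ S := normalizerIn_le S Q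
      have hTfin : Finite (normalizerIn S Q) := finite_of_le hTle
      have hTp : IsPGroup p (normalizerIn S Q) := isPGroup_of_le hS hTle
      have C := ctx_of_isNormalizerSystem hS F hF hQn hQc hN
      obtain ⟨L, hL, ι, hM⟩ := C.exists_isModel
      have hninv := hfree Q hQn hQc _ hN L ι hM
      have hLfin : Finite L := hM.1
      have hWL : ∀ P : Sylow p L, ((W ↥(P : Subgroup L)).map (P : Subgroup L).subtype).Normal :=
        fun P => hW3 L P (inf_of_le_right hM.2.2.2).symm hninv
      have h1 := isNormal_inducedFunctor_of_model hW hTp _ hM hWL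
      rw [← castSystem_isNormal_inducedFunctor hNQ] at h1
      apply isNormal_of_hom_eq _ h1
      intro P
      rw [castSystem_hom, hN P]
      apply Set.Subset.antisymm
      · intro φ hφ
        exact hφ.1
      · intro φ hφ
        exact hom_subset_of_isNormal F hQ P hφ
    · -- `Q` is not centric
      have hRS : QC S Q ≤ S := QC_le hQS
      have hRfin : Finite (QC S Q) := finite_of_le hRS
      have hRwc := QC_weaklyClosed F hQ
      have hSR := le_normalizer_of_weaklyClosed F hRwc
      have hNR : normalizerIn S (QC S Q) = S := normalizerIn_eq_of_le_normalizer hSR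
      have hRn : F.IsFullyNormalized (QC S Q) := isFullyNormalized_of_normalizerIn_eq F hRS hNR
      have hQR : Nat.card Q < Nat.card (QC S Q) := by
        apply lt_of_le_of_ne (Subgroup.card_le_of_le (le_QC S Q))
        intro heq
        have h2 := Subgroup.eq_of_le_of_card_ge (le_QC S Q) (le_of_eq heq.symm)
        apply hcen
        intro c hc
        rw [h2]
        exact centralizerIn_le_QC S Q hc
      have hN₁ := isNormalizerSystem_normalizerSystem F (QC S Q) hRS
      have hX₁ : (normSysS F (QC S Q) hRS hNR).IsNormal (inducedFunctor W S) := by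
        apply IH2
        · apply morCount_lt
          · intro P
            rw [normSysS_hom]
            exact fun φ hφ => hφ.1
          · by_contra hall0
            have hall : ∀ P : Subgroup Ω, (normSysS F (QC S Q) hRS hNR).Hom P = F.Hom P :=
              fun P => by
                by_contra h
                exact hall0 ⟨P, h⟩
            have hRnorm : F.IsNormal (QC S Q) :=
              isNormal_of_le_normSysS F hRS hNR (fun P => by rw [hall P])
            have hRne : QC S Q ≠ ⊥ := fun h => hQne (eq_bot_iff.2 (h ▸ le_QC S Q))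
            have h3 := hmax (QC S Q) ⟨hRnorm, hRne⟩
            have h4 : Nat.card (QC S Q) ≤ Nat.card Q := h3
            omega
        · unfold normSysS
          rw [castSystem_isSaturated]
          exact isSaturated_of_isNormalizerSystem F hS hF hRn hN₁
        · unfold normSysS
          rw [castSystem_isSectionFree]
          exact Cfsg.Agent.S5240.result p hS F hF hfree _ hRn _ hN₁
      obtain ⟨F₀, hSC⟩ := exists_isSC F hQ
      by_cases heq : ∀ P : Subgroup Ω, F₀.Hom P = F.Hom P
      · -- `F = S C_F(Q)`: pass to `F/Q`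
        exfalso
        have hsc := Cfsg.Agent.Lib.Helper84.stronglyClosed_of_isNormal F hQ
        have hQnorm : (Q.subgroupOf S).Normal := Subgroup.normal_subgroupOf_of_le_normalizer hSQ
        have hker : ∀ s : S, (QuotientGroup.mk' (Q.subgroupOf S)) s = 1 ↔ (s : Ω) ∈ Q := fun s => by
          rw [QuotientGroup.mk'_apply, QuotientGroup.eq_one_iff]
          exact Subgroup.mem_subgroupOf
        have hrange : (QuotientGroup.mk' (Q.subgroupOf S)).range = ⊤ :=
          MonoidHom.range_eq_top.2 (QuotientGroup.mk'_surjective _)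
        have hE := Cfsg.Agent.Lib.Helper85.isFactorSystem_factorSystem F Q hsc
          (QuotientGroup.mk' (Q.subgroupOf S)) hker hrange
        have hS'p : IsPGroup p (⊤ : Subgroup (S ⧸ Q.subgroupOf S)) :=
          (hS.to_quotient (Q.subgroupOf S)).to_subgroup _
        have hcardlt : Nat.card (⊤ : Subgroup (S ⧸ Q.subgroupOf S)) < Nat.card S := by
          rw [Subgroup.card_top, Subgroup.card_eq_card_quotient_mul_card_subgroup (Q.subgroupOf S)]
          have h1 : Nat.card (Q.subgroupOf S) = Nat.card Q :=
            Nat.card_congr (Subgroup.subgroupOfEquivOfLe hQS).toEquiv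
          have h2 : 1 < Nat.card Q := by
            rw [Subgroup.one_lt_card_iff_ne_bot]
            exact hQne
          have h3 : 0 < Nat.card (S ⧸ Q.subgroupOf S) := Nat.card_pos
          rw [h1]
          nlinarith
        have hEsat := Cfsg.Agent.Lib.Helper85.isSaturated_of_isFactorSystem hS F hF hsc _ _ hE
        have hEfree := Cfsg.Agent.Lib.Helper85.isSectionFree_of_isFactorSystem p hS F hF Q hQ _ hfree _ _ hE
        have hEn := IH1 (S ⧸ Q.subgroupOf S) ⊤ hcardlt hS'p _ hEsat hEfree
        have hS'ne : (⊤ : Subgroup (S ⧸ Q.subgroupOf S)) ≠ ⊥ := by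
          intro htop
          apply hcen
          intro c hc
          have h1 : (QuotientGroup.mk' (Q.subgroupOf S)) ⟨c, hc.1⟩ ∈ (⊤ : Subgroup (S ⧸ Q.subgroupOf S)) :=
            Subgroup.mem_top _
          rw [htop, Subgroup.mem_bot] at h1
          exact (hker _).1 h1
        have hU'ne := inducedFunctor_ne_bot hW hS'p hS'ne
        have hact : ∀ (B : Subgroup Ω) (hQB : Q ≤ B) (χ : B →* Ω), χ ∈ F.Hom B →
            ∃ κ ∈ autInducedBy S Q, ∀ u : Q, χ ⟨u, hQB u.2⟩ = ((κ u : Q) : Ω) := by
          intro B hQB χ hχ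
          rw [← heq B] at hχ
          obtain ⟨-, ψ, -, hψe, κ, hκ, hψκ⟩ := (hSC.mem_iff).1 hχ
          refine ⟨κ, hκ, fun u => ?_⟩
          rw [← hψκ u, ← hψe ⟨u, hQB u.2⟩]
          congr 1
        have hUn := isNormal_preimageAlong_of_isNormal hS F hF hQ hact _ _ hE hEn
        have hQU : Q ≤ preimageAlong (QuotientGroup.mk' (Q.subgroupOf S))
            (inducedFunctor W (⊤ : Subgroup (S ⧸ Q.subgroupOf S))) := by
          intro x hx
          refine (Cfsg.Agent.Lib.Helper85.mem_preimageAlong_iff _ _ x).2 ⟨hQS hx, ?_⟩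
          rw [(hker ⟨x, hQS hx⟩).2 hx]
          exact Subgroup.one_mem _
        have hUne : preimageAlong (QuotientGroup.mk' (Q.subgroupOf S))
            (inducedFunctor W (⊤ : Subgroup (S ⧸ Q.subgroupOf S))) ≠ ⊥ :=
          fun h => hQne (eq_bot_iff.2 (h ▸ hQU))
        have h1 : Nat.card ↥(preimageAlong (QuotientGroup.mk' (Q.subgroupOf S))
            (inducedFunctor W (⊤ : Subgroup (S ⧸ Q.subgroupOf S)))) ≤ Nat.card Q := hmax _ ⟨hUn, hUne⟩
        have hUfin : Finite ↥(preimageAlong (QuotientGroup.mk' (Q.subgroupOf S))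
            (inducedFunctor W (⊤ : Subgroup (S ⧸ Q.subgroupOf S)))) := finite_of_le hUn.1
        have hUQ := Subgroup.eq_of_le_of_card_ge hQU h1
        apply hU'ne
        rw [eq_bot_iff]
        intro y hy
        obtain ⟨s, rfl⟩ := QuotientGroup.mk'_surjective (Q.subgroupOf S) y
        have hsU : (s : Ω) ∈ preimageAlong (QuotientGroup.mk' (Q.subgroupOf S))
            (inducedFunctor W (⊤ : Subgroup (S ⧸ Q.subgroupOf S))) :=
          (Cfsg.Agent.Lib.Helper85.mem_preimageAlong_iff _ _ _).2 ⟨s.2, hy⟩
        rw [← hUQ] at hsU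
        rw [Subgroup.mem_bot]
        exact (hker s).2 hsU
      · have heq := not_forall.1 heq
        have hX₀ : F₀.IsNormal (inducedFunctor W S) := by
          apply IH2
          · exact morCount_lt (fun P => hSC.hom_subset P) heq
          · exact hSC.isSaturated hS hF hQ
          · exact hSC.isSectionFree hS hF hQ hfree
        exact isNormal_of_isNormal_SC_of_isNormal_normSys hS F hF hQ hSC hRS hNR hX₀ hX₁

/-- **Kessar-Linckelmann.** `W(S)` is normal in every saturated `Qd(p)`-free fusion system over `S`. -/
theorem kl_isNormal [Fact p.Prime] (hW : IsCharPFunctor p W) (hW3 : GlaubermanHyp p W) :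
    ∀ (n : ℕ) (Ω : Type u) [Group Ω] (S : Subgroup Ω) [Finite S], Nat.card S = n → IsPGroup p S →
      ∀ F : FusionSystem S, F.IsSaturated p → F.IsSectionFree p ↥(Cfsg.qd p) →
        F.IsNormal (inducedFunctor W S) := by
  intro n
  induction n using Nat.strong_induction_on with
  | _ n IHn =>
    intro Ω _ S _ hn hS
    have key : ∀ (k : ℕ) (F : FusionSystem S), morCount F = k → F.IsSaturated p →
        F.IsSectionFree p ↥(Cfsg.qd p) → F.IsNormal (inducedFunctor W S) := by
      intro k
      induction k using Nat.strong_induction_on with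
      | _ k IHk =>
        intro F hk hF hfree
        apply kl_step hW hW3 hS _ F _ hF hfree
        · intro Ω' _ S' _ hlt hS' F' hF' hfree'
          exact IHn (Nat.card S') (hn ▸ hlt) Ω' S' rfl hS' F' hF' hfree'
        · intro F' hlt hF' hfree'
          exact IHk (morCount F') (hk ▸ hlt) F' rfl hF' hfree'
    exact fun F => key _ F rfl

end Cfsg.Agent.Lib.Helper84.KL
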