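/-
helper84: a metacyclic `p`-group of the form `(C_{p^n} × C_{p^n}) × H` (`n ≥ 1`) has `H = 1`.
All declarations live in `Cfsg.Agent.Lib.Helper84`.
-/
import Mathlib
import Cfsg.Agent.Lib.Helper73.MetaRank

set_option autoImplicit false

namespace Cfsg.Agent.Lib.Helper84

open Cfsg

theorem orderOf_zmod_gen (m : ℕ) : orderOf (Multiplicative.ofAdd (1 : ZMod m)) = m := by
  rw [orderOf_ofAdd_eq_addOrderOf, ZMod.addOrderOf_one]

/-- In `C_{p^n}`, `n ≥ 1`, there is an element of order `p`. -/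
theorem exists_orderOf_eq_prime_zmod (p : ℕ) [hp : Fact p.Prime] {n : ℕ} (hn : 0 < n) :
    ∃ g : Multiplicative (ZMod (p ^ n)), orderOf g = p := by
  refine ⟨Multiplicative.ofAdd (1 : ZMod (p ^ n)) ^ (p ^ (n - 1)), ?_⟩
  have hpos : 0 < p := hp.1.pos
  rw [orderOf_pow' _ (by positivity), orderOf_zmod_gen, Nat.gcd_eq_right (pow_dvd_pow p (by omega))]
  have : p ^ n = p ^ (n - 1) * p := by
    rw [← pow_succ]; congr 1; omega
  rw [this, Nat.mul_div_cancel_left _ (by positivity)]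

/-- A metacyclic group `(C × C) × H` with `C` of order `p^n`, `n ≥ 1`, and `H` a finite `p`-group has `H` trivial. -/
theorem subsingleton_of_isMetacyclic_prod (p : ℕ) [hp : Fact p.Prime] {n : ℕ} (hn : 0 < n) {H : Type*}
    [Group H] [Finite H] (hH : IsPGroup p H)
    (hm : IsMetacyclic ((Multiplicative (ZMod (p ^ n)) × Multiplicative (ZMod (p ^ n))) × H)) :
    Subsingleton H := by
  by_contra hns
  rw [not_subsingleton_iff_nontrivial] at hns
  have hpos : 0 < p := hp.1.pos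
  -- an element of order `p` in `H`
  obtain ⟨j, hj⟩ := IsPGroup.iff_card.1 hH
  have hj0 : j ≠ 0 := by
    rintro rfl
    rw [pow_zero] at hj
    have := (Nat.card_eq_one_iff_unique.1 hj).1
    exact not_subsingleton H this
  have hdvd : p ∣ Nat.card H := by rw [hj]; exact dvd_pow_self p hj0
  obtain ⟨h, hh⟩ := exists_prime_orderOf_dvd_card' p hdvd
  obtain ⟨g, hg⟩ := exists_orderOf_eq_prime_zmod p hn
  -- the elementary abelian subgroup of order `p³`
  let B : Subgroup ((Multiplicative (ZMod (p ^ n)) × Multiplicative (ZMod (p ^ n))) × H) :=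
    ((Subgroup.zpowers g).prod (Subgroup.zpowers g)).prod (Subgroup.zpowers h)
  have hcard : Nat.card B = p * p * p := by
    rw [Nat.card_congr (Subgroup.prodEquiv _ _).toEquiv, Nat.card_prod,
      Nat.card_congr (Subgroup.prodEquiv _ _).toEquiv, Nat.card_prod, Nat.card_zpowers, Nat.card_zpowers, hg, hh]
  have hgp : g ^ p = 1 := by
    have := pow_orderOf_eq_one g
    rwa [hg] at this
  have hhp : h ^ p = 1 := by
    have := pow_orderOf_eq_one h
    rwa [hh] at this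
  have hexp : ∀ b ∈ B, b ^ p = 1 := by
    rintro ⟨⟨b₁, b₂⟩, b₃⟩ ⟨⟨h1, h2⟩, h3⟩
    have e1 : b₁ ^ p = 1 := by
      obtain ⟨i, rfl⟩ := Subgroup.mem_zpowers_iff.1 h1
      rw [← zpow_natCast, ← zpow_mul, mul_comm, zpow_mul, zpow_natCast, hgp, one_zpow]
    have e2 : b₂ ^ p = 1 := by
      obtain ⟨i, rfl⟩ := Subgroup.mem_zpowers_iff.1 h2
      rw [← zpow_natCast, ← zpow_mul, mul_comm, zpow_mul, zpow_natCast, hgp, one_zpow]
    have e3 : b₃ ^ p = 1 := by
      obtain ⟨i, rfl⟩ := Subgroup.mem_zpowers_iff.1 h3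
      rw [← zpow_natCast, ← zpow_mul, mul_comm, zpow_mul, zpow_natCast, hhp, one_zpow]
    show ((b₁ ^ p, b₂ ^ p), b₃ ^ p) = ((1, 1), 1)
    rw [e1, e2, e3]
  have hcomm : IsMulCommutative B := by
    refine ⟨⟨fun a b => Subtype.ext ?_⟩⟩
    obtain ⟨⟨⟨a₁, a₂⟩, a₃⟩, ⟨⟨ha1, ha2⟩, ha3⟩⟩ := a
    obtain ⟨⟨⟨b₁, b₂⟩, b₃⟩, ⟨⟨hb1, hb2⟩, hb3⟩⟩ := b
    have e3 : a₃ * b₃ = b₃ * a₃ := by
      obtain ⟨i, rfl⟩ := Subgroup.mem_zpowers_iff.1 ha3
      obtain ⟨k, rfl⟩ := Subgroup.mem_zpowers_iff.1 hb3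
      rw [← zpow_add, ← zpow_add, add_comm]
    show ((a₁ * b₁, a₂ * b₂), a₃ * b₃) = ((b₁ * a₁, b₂ * a₂), b₃ * a₃)
    rw [mul_comm a₁, mul_comm a₂, e3]
  have hle := Cfsg.Agent.Lib.Helper73.pRankLE_two_of_isMetacyclic p hpos hm B hcomm hexp
  rw [hcard] at hle
  have h2 : 2 ≤ p := hp.1.two_le
  nlinarith [Nat.mul_le_mul h2 (Nat.mul_le_mul hpos hpos)]

/-- A metacyclic finite `p`-group isomorphic to `(C_{p^n} × C_{p^n}) × H`, `n ≥ 1`, is isomorphic to
`C_{p^n} × C_{p^n}`. -/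
theorem nonempty_equiv_homocyclic_of_isMetacyclic (p : ℕ) [hp : Fact p.Prime] {P : Type*} [Group P] [Finite P]
    (hP : IsPGroup p P) (hm : IsMetacyclic P) {n : ℕ} (hn : 0 < n) {H : Type*} [Group H]
    (ε : P ≃* (Multiplicative (ZMod (p ^ n)) × Multiplicative (ZMod (p ^ n))) × H) :
    Nonempty (P ≃* Multiplicative (ZMod (p ^ n)) × Multiplicative (ZMod (p ^ n))) := by
  have hfin : Finite ((Multiplicative (ZMod (p ^ n)) × Multiplicative (ZMod (p ^ n))) × H) :=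
    Finite.of_equiv P ε.toEquiv
  have hfinH : Finite H := Finite.prod_right (Multiplicative (ZMod (p ^ n)) × Multiplicative (ZMod (p ^ n)))
  have hH : IsPGroup p H := by
    have h1 : IsPGroup p ((Multiplicative (ZMod (p ^ n)) × Multiplicative (ZMod (p ^ n))) × H) :=
      hP.of_surjective ε.toMonoidHom ε.surjective
    exact h1.of_surjective (MonoidHom.snd _ H) (fun h => ⟨(1, h), rfl⟩)
  have hm' : IsMetacyclic ((Multiplicative (ZMod (p ^ n)) × Multiplicative (ZMod (p ^ n))) × H) :=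
    Cfsg.Agent.Lib.Helper73.isMetacyclic_of_surjective ε.toMonoidHom ε.surjective hm
  have hsub := subsingleton_of_isMetacyclic_prod p hn hH hm'
  have : Unique H := ⟨⟨1⟩, fun a => Subsingleton.elim _ _⟩
  exact ⟨ε.trans MulEquiv.prodUnique⟩

end Cfsg.Agent.Lib.Helper84
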