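/-
helper84: for a non-abelian metacyclic `p`-group `P`, `p` odd, every subgroup of `Aut(P)` of order prime to `p` is abelian
of exponent dividing `p - 1` (it acts faithfully on the cyclic group `[P, H]`, by S1447).
All declarations live in `Cfsg.Agent.Lib.Helper84`.
-/
import Mathlib
import Cfsg.Agent.S1447
import Cfsg.Agent.Lib.Helper73.MetaRank

set_option autoImplicit false

namespace Cfsg.Agent.Lib.Helper84

open Cfsg
open scoped commutatorElement

/-- A group of automorphisms of order prime to `p` acting faithfully on an invariant cyclic `p`-subgroup is abelian of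
exponent dividing `p - 1`. -/
theorem comm_pow_of_faithful_on_cyclic {P : Type*} [Group P] [Finite P] (p : ℕ) [hp : Fact p.Prime]
    (H : Subgroup (MulAut P)) (hH : (Nat.card H).Coprime p) (T : Subgroup P) [hTc : IsCyclic T]
    (hT : IsPGroup p T) (hinv : ∀ h ∈ H, ∀ t ∈ T, h t ∈ T)
    (hfaith : ∀ h ∈ H, (∀ t ∈ T, h t = t) → h = 1) :
    IsMulCommutative H ∧ ∀ h ∈ H, h ^ (p - 1) = 1 := by
  classical
  let ρ : H →* MulAut T :=
    { toFun := fun h =>
        { toFun := fun t => ⟨(h : MulAut P) t, hinv h h.2 t t.2⟩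
          invFun := fun t => ⟨((h⁻¹ : H) : MulAut P) t, hinv _ (h⁻¹).2 t t.2⟩
          left_inv := fun t => Subtype.ext (by simp)
          right_inv := fun t => Subtype.ext (by simp)
          map_mul' := fun s t => Subtype.ext (by simp) }
      map_one' := by ext t; simp
      map_mul' := fun a b => by ext t; simp }
  have hρ : ∀ (h : H) (t : T), ((ρ h t : T) : P) = (h : MulAut P) t := fun h t => rfl
  have hinj : Function.Injective ρ := by
    rw [injective_iff_map_eq_one]
    intro h hh
    apply Subtype.ext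
    apply hfaith h h.2
    intro t ht
    have := hρ h ⟨t, ht⟩
    rw [hh] at this
    exact this.symm
  have hcommT : ∀ a b : MulAut T, a * b = b * a := by
    intro a b
    apply (IsCyclic.mulAutMulEquiv T).injective
    rw [map_mul, map_mul, mul_comm]
  refine ⟨⟨⟨fun a b => hinj ?_⟩⟩, ?_⟩
  · rw [map_mul, map_mul]
    exact hcommT _ _
  · intro h hh
    obtain ⟨t, ht⟩ := IsPGroup.iff_card.1 hT
    have h1 : (ρ ⟨h, hh⟩) ^ (Nat.totient (p ^ t)) = 1 := by
      rw [← ht, ← IsCyclic.card_mulAut T]
      exact pow_card_eq_one'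
    have h2 : (⟨h, hh⟩ : H) ^ (Nat.totient (p ^ t)) = 1 := hinj (by rw [map_pow, h1, map_one])
    have h3 : orderOf (⟨h, hh⟩ : H) ∣ Nat.totient (p ^ t) := orderOf_dvd_of_pow_eq_one h2
    have h4 : orderOf (⟨h, hh⟩ : H) ∣ Nat.card H := orderOf_dvd_natCard _
    have h5 : (orderOf (⟨h, hh⟩ : H)).Coprime p := Nat.Coprime.coprime_dvd_left h4 hH
    have h6 : orderOf (⟨h, hh⟩ : H) ∣ p - 1 := by
      rcases Nat.eq_zero_or_pos t with rfl | ht0
      · rw [pow_zero, Nat.totient_one] at h3
        exact h3.trans (one_dvd _)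
      · rw [Nat.totient_prime_pow hp.1 ht0] at h3
        exact (Nat.Coprime.pow_right _ h5).dvd_of_dvd_mul_left h3
    have h7 : (⟨h, hh⟩ : H) ^ (p - 1) = 1 := orderOf_dvd_iff_pow_eq_one.1 h6
    exact congrArg Subtype.val h7

/-- **Subgroups of order prime to `p` of the automorphism group of a non-abelian metacyclic `p`-group, `p` odd.** -/
theorem aut_comm_pow_of_isMetacyclic {P : Type*} [Group P] [Finite P] (p : ℕ) [hp : Fact p.Prime] (hp2 : p ≠ 2)
    (hP : IsPGroup p P) (hm : IsMetacyclic P) (hna : ¬ IsMulCommutative P)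
    (H : Subgroup (MulAut P)) (hH : (Nat.card H).Coprime p) :
    IsMulCommutative H ∧ ∀ h ∈ H, h ^ (p - 1) = 1 := by
  classical
  by_cases hbot : H = ⊥
  · subst hbot
    refine ⟨⟨⟨fun a b => Subsingleton.elim _ _⟩⟩, fun h hh => ?_⟩
    rw [Subgroup.mem_bot] at hh
    rw [hh, one_pow]
  let G := P ⋊[H.subtype] H
  have hfinG : Finite G := Finite.of_equiv _ SemidirectProduct.equivProd.symm
  let inl : P →* G := SemidirectProduct.inl
  let inr : H →* G := SemidirectProduct.inr
  have hinl : Function.Injective inl := SemidirectProduct.inl_injective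
  have hinr : Function.Injective inr := SemidirectProduct.inr_injective
  set R : Subgroup G := inl.range with hRdef
  set A : Subgroup G := inr.range with hAdef
  have hRn : R.Normal := by
    rw [hRdef, SemidirectProduct.range_inl_eq_ker_rightHom]
    infer_instance
  have hconj : ∀ (h : H) (s : P), inr h * inl s * (inr h)⁻¹ = inl ((h : MulAut P) s) := by
    intro h s
    have := SemidirectProduct.inl_aut (φ := H.subtype) h s
    rw [map_inv] at this
    exact this.symm
  have hR : IsPGroup p R := hP.of_surjective inl.rangeRestrict inl.rangeRestrict_surjective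
  have hRm : IsMetacyclic R :=
    Cfsg.Agent.Lib.Helper73.isMetacyclic_of_surjective inl.rangeRestrict inl.rangeRestrict_surjective hm
  have hA : A ≤ Subgroup.normalizer (R : Set G) := by
    rw [Subgroup.normalizer_eq_top]
    exact le_top
  have hcop : (Nat.card A).Coprime p := by
    rw [← Nat.card_congr (MonoidHom.ofInjective hinr).toEquiv]
    exact hH
  obtain ⟨-, hsup, -, hmain⟩ := Cfsg.Agent.S1447.result p hp2 R A hR hRm hA hcop
  have hRna : ¬ IsMulCommutative R := by
    intro hc
    apply hna
    refine ⟨⟨fun a b => hinl ?_⟩⟩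
    rw [map_mul, map_mul]
    have := hc.is_comm.comm (⟨inl a, ⟨a, rfl⟩⟩ : R) ⟨inl b, ⟨b, rfl⟩⟩
    exact congrArg Subtype.val this
  have hAc : ¬ A ≤ Subgroup.centralizer (R : Set G) := by
    intro hle
    apply hbot
    rw [eq_bot_iff]
    intro h hh
    rw [Subgroup.mem_bot]
    ext s
    have h1 : inr ⟨h, hh⟩ ∈ Subgroup.centralizer (R : Set G) := hle ⟨_, rfl⟩
    have h2 := (Subgroup.mem_centralizer_iff.1 h1) (inl s) ⟨s, rfl⟩
    have h3 := hconj ⟨h, hh⟩ s
    rw [← h2, mul_inv_cancel_right] at h3
    exact (hinl h3).symm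
  obtain ⟨-, hTcyc, -, -, -⟩ := hmain hRna hAc
  set T : Subgroup G := ⁅R, A⁆ with hTdef
  set C : Subgroup G := R ⊓ Subgroup.centralizer (A : Set G) with hCdef
  have hTR : T ≤ R := Subgroup.commutator_le_left R A
  -- `A` normalizes `T`
  have hAT : ∀ a ∈ A, ∀ u ∈ T, a * u * a⁻¹ ∈ T := by
    intro a ha
    have hle : T ≤ T.comap (MulAut.conj a).toMonoidHom := by
      rw [hTdef, Subgroup.commutator_le]
      intro r hr b hb
      show (MulAut.conj a) ⁅r, b⁆ ∈ ⁅R, A⁆
      rw [map_commutatorElement]
      apply Subgroup.commutator_mem_commutator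
      · exact hRn.conj_mem r hr a
      · exact A.mul_mem (A.mul_mem ha hb) (A.inv_mem ha)
    exact fun u hu => hle hu
  let T' : Subgroup P := T.comap inl
  have hT'c : IsCyclic T' := by
    let f : T' →* T := (inl.comp T'.subtype).codRestrict T (fun t => t.2)
    have hf : Function.Injective f := by
      intro a b hab
      have := congrArg Subtype.val hab
      exact Subtype.ext (hinl this)
    exact isCyclic_of_injective f hf
  refine comm_pow_of_faithful_on_cyclic p H hH T' (hP.to_subgroup T') ?_ ?_
  · intro h hh t ht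
    show inl (h t) ∈ T
    rw [← hconj ⟨h, hh⟩ t]
    exact hAT _ ⟨_, rfl⟩ _ ht
  · intro h hh hfix
    ext s
    set a : G := inr ⟨h, hh⟩ with ha
    have hle : R ≤ Subgroup.centralizer ({a} : Set G) := by
      rw [← hsup]
      apply sup_le
      · intro u hu
        obtain ⟨t, rfl⟩ := hTR hu
        rw [Subgroup.mem_centralizer_iff]
        intro y hy
        rw [Set.mem_singleton_iff] at hy
        rw [hy]
        have h3 := hconj ⟨h, hh⟩ t
        have h4 : (h : MulAut P) t = t := hfix t hu
        rw [show ((⟨h, hh⟩ : H) : MulAut P) t = t from h4] at h3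
        calc a * inl t = a * inl t * a⁻¹ * a := by rw [inv_mul_cancel_right]
          _ = inl t * a := by rw [ha, h3]
      · intro u hu
        rw [Subgroup.mem_centralizer_iff]
        intro y hy
        rw [Set.mem_singleton_iff] at hy
        rw [hy]
        exact (Subgroup.mem_centralizer_iff.1 hu.2) a ⟨_, rfl⟩
    have h1 := (Subgroup.mem_centralizer_iff.1 (hle ⟨s, rfl⟩)) a (Set.mem_singleton a)
    have h3 := hconj ⟨h, hh⟩ s
    rw [h1, mul_inv_cancel_right] at h3
    exact (hinl h3).symm

end Cfsg.Agent.Lib.Helper84
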