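/-
helper84: the inner fusion system of a metacyclic group has a chain of strongly closed subgroups with two cyclic steps.
All declarations live in `Cfsg.Agent.Lib.Helper84`.
-/
import Mathlib
import Cfsg.Prelude.Def_OddOrderLocal
import Cfsg.Agent.Lib.Helper84.SSChain

set_option autoImplicit false

namespace Cfsg.Agent.Lib.Helper84

open Cfsg Cfsg.FusionSystem

theorem hasSSChain_of_inner_of_isMetacyclic {Ω : Type*} [Group Ω] {S : Subgroup Ω} (F : FusionSystem S)
    (hF : ∀ P : Subgroup Ω, F.Hom P = (innerFusionSystem S).Hom P) (hm : IsMetacyclic S) : HasSSChain F := by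
  obtain ⟨N, hNn, hNc, hQc⟩ := hm
  obtain ⟨g₀, hg₀⟩ := IsCyclic.exists_generator (α := N)
  obtain ⟨q, hq⟩ := IsCyclic.exists_generator (α := S ⧸ N)
  obtain ⟨x₂, rfl⟩ := QuotientGroup.mk_surjective q
  have hN1 : N = Subgroup.zpowers (g₀ : S) := by
    ext s
    constructor
    · intro hs
      obtain ⟨k, hk⟩ := Subgroup.mem_zpowers_iff.1 (hg₀ ⟨s, hs⟩)
      refine Subgroup.mem_zpowers_iff.2 ⟨k, ?_⟩
      have := congrArg Subtype.val hk
      simpa using this
    · intro hs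
      obtain ⟨k, rfl⟩ := Subgroup.mem_zpowers_iff.1 hs
      exact N.zpow_mem g₀.2 k
  have hN2 : N.map S.subtype = Subgroup.zpowers (((g₀ : S)) : Ω) := by
    conv_lhs => rw [hN1]
    rw [MonoidHom.map_zpowers]
    rfl
  have hsc : F.StronglyClosed (N.map S.subtype) := by
    refine ⟨Subgroup.map_subtype_le _, fun R hR φ hφ x => ?_⟩
    rw [hF] at hφ
    obtain ⟨-, g, hg, hgx⟩ := hφ
    rw [hgx x]
    obtain ⟨n, hn, hnx⟩ := hR x.2
    refine ⟨⟨g, hg⟩ * n * ⟨g, hg⟩⁻¹, hNn.conj_mem n hn ⟨g, hg⟩, ?_⟩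
    rw [← hnx]
    rfl
  have hS2 : S = N.map S.subtype ⊔ Subgroup.zpowers ((x₂ : S) : Ω) := by
    apply le_antisymm
    · intro s hs
      obtain ⟨k, hk⟩ := Subgroup.mem_zpowers_iff.1 (hq (QuotientGroup.mk ⟨s, hs⟩))
      rw [← QuotientGroup.mk_zpow, QuotientGroup.eq] at hk
      have h1 : s = ((x₂ ^ k : S) : Ω) * (((x₂ ^ k)⁻¹ * ⟨s, hs⟩ : S) : Ω) := by
        rw [← Subgroup.coe_mul, mul_inv_cancel_left]
      rw [h1]
      apply Subgroup.mul_mem
      · apply Subgroup.mem_sup_right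
        rw [Subgroup.coe_zpow]
        exact Subgroup.zpow_mem _ (Subgroup.mem_zpowers _) k
      · apply Subgroup.mem_sup_left
        exact ⟨_, hk, rfl⟩
    · apply sup_le (Subgroup.map_subtype_le _)
      rw [Subgroup.zpowers_le]
      exact x₂.2
  exact hasSSChain_of_two_step F (N.map S.subtype) hsc _ _ (g₀ : S).2 x₂.2 hN2 hS2

end Cfsg.Agent.Lib.Helper84
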