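/-
helper84: intersections of fusion systems, and the smallest fusion system `O^{p'}_*(F)` over `S` containing
`O^{p'}(Aut_F(P))` for all `F`-centric subgroups `P`; it is stable under `Aut_F(S)`.
All declarations live in `Cfsg.Agent.Lib.Helper84`.
-/
import Cfsg.Agent.Lib.Helper88.FusionCore
import Cfsg.Agent.Lib.Helper84.FusionTwist

set_option autoImplicit false

namespace Cfsg.Agent.Lib.Helper84

open Cfsg Cfsg.FusionSystem
open Cfsg.Agent.Lib.Helper87

variable {Ω : Type*} [Group Ω] {S : Subgroup Ω}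

/-- The maps of `F` lying in every system of the family `𝒟`. -/
def interSystem (F : FusionSystem S) (𝒟 : Set (FusionSystem S)) : FusionSystem S where
  Hom P := {φ | φ ∈ F.Hom P ∧ ∀ D ∈ 𝒟, φ ∈ D.Hom P}
  le_of_mem h := F.le_of_mem h.1
  injective_of_mem h := F.injective_of_mem h.1
  conj_mem hP hg := ⟨F.conj_mem hP hg, fun D _ => D.conj_mem hP hg⟩
  comp_mem h1 h2 h := ⟨F.comp_mem h1.1 h2.1 h, fun D hD => D.comp_mem (h1.2 D hD) (h2.2 D hD) h⟩
  inv_mem := by
    intro P φ hφ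
    obtain ⟨ψ, hψ, hinv⟩ := F.inv_mem hφ.1
    refine ⟨ψ, ⟨hψ, fun D hD => ?_⟩, hinv⟩
    obtain ⟨ψ', hψ', hinv'⟩ := D.inv_mem (hφ.2 D hD)
    have : ψ' = ψ := by
      ext ⟨_, x, rfl⟩
      rw [hinv', hinv]
    rwa [← this]

theorem mem_interSystem_hom {F : FusionSystem S} {𝒟 : Set (FusionSystem S)} {P : Subgroup Ω} {φ : P →* Ω} :
    φ ∈ (interSystem F 𝒟).Hom P ↔ φ ∈ F.Hom P ∧ ∀ D ∈ 𝒟, φ ∈ D.Hom P := Iff.rfl

/-- `D` contains `O^{p'}(Aut_F(P))` for every `F`-centric subgroup `P`. -/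
def ContainsPGens (F : FusionSystem S) (p : ℕ) (D : FusionSystem S) : Prop :=
  ∀ P : Subgroup Ω, F.IsCentric P →
    (Subgroup.closure {α : ↥(F.autGroup P) | ∃ k : ℕ, orderOf α = p ^ k}).map (F.autGroup P).subtype ≤
      D.autGroup P

/-- `O^{p'}_*(F)`: the smallest fusion system over `S` containing `O^{p'}(Aut_F(P))` for all `F`-centric `P`. -/
def opPrimeStar (F : FusionSystem S) (p : ℕ) : FusionSystem S :=
  interSystem F {D | ContainsPGens F p D}

theorem opPrimeStar_le (F : FusionSystem S) (p : ℕ) (P : Subgroup Ω) :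
    (opPrimeStar F p).Hom P ⊆ F.Hom P := fun _ h => h.1

theorem opPrimeStar_le_of (F : FusionSystem S) (p : ℕ) {D : FusionSystem S} (hD : ContainsPGens F p D)
    (P : Subgroup Ω) : (opPrimeStar F p).Hom P ⊆ D.Hom P := fun _ h => h.2 D hD

theorem containsPGens_opPrimeStar (F : FusionSystem S) (p : ℕ) : ContainsPGens F p (opPrimeStar F p) := by
  intro P hP
  have hPS := hP.1
  rw [Subgroup.map_le_iff_le_comap, Subgroup.closure_le]
  rintro α ⟨k, hk⟩
  show (α : MulAut P) ∈ (opPrimeStar F p).autGroup P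
  rw [mem_autGroup_iff _ hPS]
  refine ⟨(mem_autGroup_iff F hPS).1 α.2, fun D hD => ?_⟩
  exact (mem_autGroup_iff D hPS).1 (hD P hP (Subgroup.mem_map_of_mem _ (Subgroup.subset_closure ⟨k, hk⟩)))

theorem containsPGens_of_le (F : FusionSystem S) (p : ℕ) {D D' : FusionSystem S} (hD : ContainsPGens F p D)
    (hDD' : ∀ P : Subgroup Ω, F.IsCentric P → D.Hom P ⊆ D'.Hom P) : ContainsPGens F p D' := by
  intro P hP
  refine (hD P hP).trans ?_
  exact Subgroup.closure_mono (fun α hα => hDD' P hP hα)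

/-- `O^{p'}_*(F)` is stable under `Aut_F(S)` (twist form). -/
theorem opPrimeStar_twist (F : FusionSystem S) (p : ℕ) {α : MulAut S} (hα : α ∈ F.autGroup S) (P : Subgroup Ω) :
    (opPrimeStar F p).Hom P ⊆ (twist (opPrimeStar F p) α).Hom P := by
  intro φ hφ
  have hcore : ContainsPGens F p (Cfsg.Agent.Lib.Helper88.Core.coreSystem (opPrimeStar F p) F) :=
    fun P hP => Cfsg.Agent.Lib.Helper88.Core.aut_mem_core (opPrimeStar F p) F (containsPGens_opPrimeStar F p) hP
  have h1 := opPrimeStar_le_of F p hcore P hφ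
  obtain ⟨χ, hχ, hχe⟩ := h1.2 α hα
  have hPS : P ≤ S := ((opPrimeStar F p).le_of_mem hφ).1
  have hφS : ∀ x : P, φ x ∈ S := ((opPrimeStar F p).le_of_mem hφ).2
  exact ⟨hPS, hφS, χ, hχ, fun x => hχe x (hPS x.2) (hφS x) (apply_mem_imgAut α hPS x)⟩

end Cfsg.Agent.Lib.Helper84
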