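/-
helper84: `O^{p'}_*(F)` is generated by the groups `O^{p'}(Aut_F(P))` for `P` in any family `ℋ` of centric subgroups closed under
conjugacy in `F` and such that outside `ℋ` the fully automized receptive centric subgroups `R` "escape" (some `g ∈ N_S(R) ∖ R`
induces an element of a normal `p`-subgroup of `Aut_F(R)`); e.g. `ℋ ⊇` centric radical subgroups.
All declarations live in `Cfsg.Agent.Lib.Helper84`.
-/
import Cfsg.Agent.Lib.Helper84.PPrimeInter

set_option autoImplicit false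

namespace Cfsg.Agent.Lib.Helper84

open Cfsg Cfsg.FusionSystem
open Cfsg.Agent.Lib.Helper87 Cfsg.Agent.Lib.Helper88
open Cfsg.Agent.Lib.Helper88.Invariance Cfsg.Agent.Lib.Helper88.Core

variable {Ω : Type*} [Group Ω] {S : Subgroup Ω}

/-- `D` contains `O^{p'}(Aut_F(P))` for every `P ∈ ℋ`. -/
def ContainsPGensOn (F : FusionSystem S) (p : ℕ) (ℋ : Set (Subgroup Ω)) (D : FusionSystem S) : Prop :=
  ∀ P ∈ ℋ, (Subgroup.closure {α : ↥(F.autGroup P) | ∃ k : ℕ, orderOf α = p ^ k}).map (F.autGroup P).subtype ≤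
    D.autGroup P

/-- Some `g ∈ N_S(R) ∖ R` induces on `R` an element of a normal `p`-subgroup of `Aut_F(R)`. -/
def Escapes (F : FusionSystem S) (p : ℕ) (R : Subgroup Ω) : Prop :=
  ∃ (g : Ω) (hg : g ∈ normalizerIn S R), g ∉ R ∧ ∃ K : Subgroup (MulAut R),
    K ≤ F.autGroup R ∧ (∀ β ∈ F.autGroup R, ∀ κ ∈ K, β * κ * β⁻¹ ∈ K) ∧ IsPGroup p K ∧ conjAut R g hg.2 ∈ K

/-- A family of centric subgroups, closed under conjugacy, outside of which fully automized receptive centric subgroups escape. -/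
structure GoodFamily (F : FusionSystem S) (p : ℕ) (ℋ : Set (Subgroup Ω)) : Prop where
  centric : ∀ P ∈ ℋ, F.IsCentric P
  conj : ∀ P ∈ ℋ, ∀ Q, F.IsConj P Q → Q ∈ ℋ
  escapes : ∀ R, F.IsCentric R → R ∉ ℋ → F.IsFullyAutomized p R → F.IsReceptive R → Escapes F p R

/-- A normal `p`-subgroup of `Aut_F(R)`, `R` fully automized, lies in `Aut_S(R)`. -/
theorem le_autInducedBy_of_normal_pGroup (F : FusionSystem S) [Finite S] {p : ℕ} [Fact p.Prime] {R : Subgroup Ω}
    (hRa : F.IsFullyAutomized p R) {K : Subgroup (MulAut R)} (hKF : K ≤ F.autGroup R)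
    (hKn : ∀ β ∈ F.autGroup R, ∀ κ ∈ K, β * κ * β⁻¹ ∈ K) (hKp : IsPGroup p K) : K ≤ autInducedBy S R := by
  obtain ⟨hRS, Rsyl, hRsyl⟩ := hRa
  have hfinR : Finite R := finite_of_le hRS
  have hfinA : Finite (F.autGroup R) := inferInstance
  have hH : IsPGroup p (K.subgroupOf (F.autGroup R)) := hKp.comap_subtype
  obtain ⟨c, hc⟩ := exists_conj_mem_sylow Rsyl hH
  intro κ hκ
  have h1 : (c : MulAut R)⁻¹ * κ * ((c : MulAut R)⁻¹)⁻¹ ∈ K := hKn _ (Subgroup.inv_mem _ c.2) κ hκ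
  have h2 : (⟨(c : MulAut R)⁻¹ * κ * ((c : MulAut R)⁻¹)⁻¹, hKF h1⟩ : F.autGroup R) ∈ K.subgroupOf (F.autGroup R) :=
    Subgroup.mem_subgroupOf.2 h1
  have h3 := hc _ h2
  have h3' : c * (⟨(c : MulAut R)⁻¹ * κ * ((c : MulAut R)⁻¹)⁻¹, hKF h1⟩ : F.autGroup R) * c⁻¹ ∈
      (Rsyl : Subgroup (F.autGroup R)) := h3
  rw [hRsyl, Subgroup.mem_subgroupOf] at h3'
  have h4 : ((c * (⟨(c : MulAut R)⁻¹ * κ * ((c : MulAut R)⁻¹)⁻¹, hKF h1⟩ : F.autGroup R) * c⁻¹ : F.autGroup R) :
      MulAut R) = κ := by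
    show (c : MulAut R) * ((c : MulAut R)⁻¹ * κ * ((c : MulAut R)⁻¹)⁻¹) * (c : MulAut R)⁻¹ = κ
    group
  rw [h4] at h3'
  exact h3'

/-- for `P ∈ ℋ`, the core contains the `p`-elements of `Aut_F(P)` -/
theorem aut_mem_core_on {p : ℕ} (E F : FusionSystem S) {ℋ : Set (Subgroup Ω)}
    (hconj : ∀ P ∈ ℋ, ∀ Q, F.IsConj P Q → Q ∈ ℋ) (hcen : ∀ P ∈ ℋ, F.IsCentric P)
    (h : ContainsPGensOn F p ℋ E) {P : Subgroup Ω} (hP : P ∈ ℋ) :
    (Subgroup.closure {α : ↥(F.autGroup P) | ∃ k : ℕ, orderOf α = p ^ k}).map (F.autGroup P).subtype ≤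
      (coreSystem E F).autGroup P := by
  have hPS := (hcen P hP).1
  rw [Subgroup.map_le_iff_le_comap, Subgroup.closure_le]
  rintro α ⟨k, hk⟩
  show (α : MulAut P) ∈ (coreSystem E F).autGroup P
  rw [mem_autGroup_iff _ hPS]
  have hαE : (α : MulAut P) ∈ E.autGroup P :=
    h P hP (Subgroup.mem_map_of_mem _ (Subgroup.subset_closure ⟨k, hk⟩))
  refine ⟨(mem_autGroup_iff E hPS).1 hαE, fun β hβ => ?_⟩
  have he : IsIso F (Invariance.resAut β P hPS) := isIso_resAut F hβ hPS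
  have hα' : MulAut.congr (Invariance.resAut β P hPS) (α : MulAut P) ∈ F.autGroup (Invariance.resHom β P hPS).range :=
    congr_mem_autGroup F he α.2
  have hmem : (Invariance.resHom β P hPS).range ∈ ℋ :=
    hconj P hP _ (show F.IsConj P (Invariance.resHom β P hPS).range from ⟨_, he, range_subtype_comp _⟩)
  have hcen' : F.IsCentric (Invariance.resHom β P hPS).range := hcen _ hmem
  have hord : orderOf (⟨_, hα'⟩ : F.autGroup (Invariance.resHom β P hPS).range) = p ^ k := by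
    rw [← hk, ← Subgroup.orderOf_coe, ← Subgroup.orderOf_coe]
    exact MulEquiv.orderOf_eq (MulAut.congr (Invariance.resAut β P hPS)) _
  have hE' : MulAut.congr (Invariance.resAut β P hPS) (α : MulAut P) ∈ E.autGroup (Invariance.resHom β P hPS).range :=
    h _ hmem (Subgroup.mem_map_of_mem (F.autGroup _).subtype (Subgroup.subset_closure
      (show (⟨_, hα'⟩ : F.autGroup (Invariance.resHom β P hPS).range) ∈
        {α : ↥(F.autGroup (Invariance.resHom β P hPS).range) | ∃ k : ℕ, orderOf α = p ^ k} from ⟨k, hord⟩)))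
  have hiso := (mem_autGroup_iff E hcen'.1).1 hE'
  have hrg := resHom_range β hPS
  refine ⟨((Invariance.resHom β P hPS).range.subtype.comp
      ((MulAut.congr (Invariance.resAut β P hPS) (α : MulAut P) : MulAut _) : _ ≃* _).toMonoidHom).comp
      (Subgroup.inclusion hrg.ge), hom_of_eq_on E hrg hiso (fun _ _ _ => rfl), fun x hx hφx hαx => ?_⟩
  have hx' : (Invariance.resAut β P hPS).symm ⟨((β ⟨x, hx⟩ : S) : Ω), hrg.ge hαx⟩ = x := by
    rw [MulEquiv.symm_apply_eq]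
    rfl
  show (((Invariance.resAut β P hPS) ((α : MulAut P) ((Invariance.resAut β P hPS).symm ⟨((β ⟨x, hx⟩ : S) : Ω), hrg.ge hαx⟩)) :
    (Invariance.resHom β P hPS).range) : Ω) = _
  rw [hx']
  rfl

/-- **Local step** for the core system, relative to a good family `ℋ`. -/
theorem local_step_on (E F : FusionSystem S) [Finite S] {p : ℕ} [Fact p.Prime] (hS : IsPGroup p S)
    {ℋ : Set (Subgroup Ω)} (hℋ : GoodFamily F p ℋ) (h : ContainsPGensOn F p ℋ E)
    (R : Subgroup Ω) (hRS : R ≤ S) (hne : R ≠ S) (hRa : F.IsFullyAutomized p R) (hRr : F.IsReceptive R)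
    (IH : ∀ P' : Subgroup Ω, P' ≤ S → Nat.card R < Nat.card P' → ∀ φ' ∈ F.Hom P',
      InG (coreSystem E F) F φ')
    (β : MulAut R) (hβ : β ∈ F.autGroup R) : GI (coreSystem E F) F (β : R ≃* R) := by
  have hT : F.StronglyClosed S := ⟨le_rfl, fun _ _ _ hφ x => (F.le_of_mem hφ).2 x⟩
  have hfinR : Finite R := finite_of_le hRS
  have hI := invClause_core E F
  by_cases hC : centralizerIn S R ≤ R
  · have hcen : F.IsCentric R := isCentric_of_centralizerIn_le F hS hRa hRr hC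
    by_cases hRℋ : R ∈ ℋ
    · -- Frattini argument
      have hfinA : Finite (F.autGroup R) := inferInstance
      obtain ⟨-, Rsyl, hRsyl⟩ := hRa
      have hnormal : (Subgroup.closure {α : ↥(F.autGroup R) | ∃ k : ℕ, orderOf α = p ^ k}).Normal :=
        closure_pElements_normal p
      have hle : (Rsyl : Subgroup (F.autGroup R)) ≤
          Subgroup.closure {α : ↥(F.autGroup R) | ∃ k : ℕ, orderOf α = p ^ k} := by
        intro x hx
        apply Subgroup.subset_closure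
        obtain ⟨k, hk⟩ := (IsPGroup.iff_orderOf.1 Rsyl.isPGroup') ⟨x, hx⟩
        refine ⟨k, ?_⟩
        rw [← hk]
        exact Subgroup.orderOf_coe (⟨x, hx⟩ : (Rsyl : Subgroup (F.autGroup R)))
      obtain ⟨hh, hhn, n, hn, hβeq⟩ := frattini_inf Rsyl
        (Subgroup.closure {α : ↥(F.autGroup R) | ∃ k : ℕ, orderOf α = p ^ k}) (⟨β, hβ⟩ : F.autGroup R)
      rw [inf_eq_left.2 hle] at hhn
      have hγ : GI (coreSystem E F) F ((hh : MulAut R) : R ≃* R) := by
        refine GI_of_normalizes (coreSystem E F) F hS hT hRS hne hRr IH _ hh.2 (fun t htN _ => ?_)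
        have hcS : conjAut R t htN.2 ∈ autInducedBy S R := mem_autInducedBy_iff.2 ⟨t, htN.1, fun _ => rfl⟩
        have hcF : conjAut R t htN.2 ∈ F.autGroup R :=
          Cfsg.Agent.Lib.Helper87.autInducedBy_le_autGroup F hRS hcS
        have hSig : (⟨conjAut R t htN.2, hcF⟩ : F.autGroup R) ∈ (Rsyl : Subgroup (F.autGroup R)) := by
          rw [hRsyl]
          exact Subgroup.mem_subgroupOf.2 hcS
        have h3 := (Subgroup.mem_normalizer_iff.mp hhn _).mp hSig
        rw [hRsyl] at h3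
        exact Subgroup.mem_subgroupOf.1 h3
      have hε : GI (coreSystem E F) F ((n : MulAut R) : R ≃* R) := by
        refine GI_of_E (coreSystem E F) F ((mem_autGroup_iff (coreSystem E F) hRS).1 ?_)
        exact aut_mem_core_on E F hℋ.conj hℋ.centric h hRℋ (Subgroup.mem_map_of_mem _ hn)
      have h5 := GI_trans (coreSystem E F) F hI hε hγ
      have h6 : (β : R ≃* R) = ((n : MulAut R) : R ≃* R).trans ((hh : MulAut R) : R ≃* R) := by
        have : β = (hh : MulAut R) * (n : MulAut R) := congrArg (fun z : F.autGroup R => (z : MulAut R)) hβeq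
        rw [this]
        rfl
      rw [h6]
      exact h5
    · -- `R` escapes: `β` extends to a subgroup containing `g ∉ R`
      obtain ⟨g, hg, hgR, K, hKF, hKn, hKp, hgK⟩ := hℋ.escapes R hcen hRℋ hRa hRr
      have hKS : K ≤ autInducedBy S R := le_autInducedBy_of_normal_pGroup F hRa hKF hKn hKp
      obtain ⟨X, ψ, hψ, hRX, hXN, hψβ, hXg⟩ := exists_extension_aut F hRS hRr β hβ
      have hgX : g ∈ X := hXg g hg (hKS (hKn β hβ _ hgK))
      have hXS : X ≤ S := hXN.trans (normalizerIn_le S R)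
      have hfinX : Finite X := finite_of_le hXS
      have hcard : Nat.card R < Nat.card X := by
        by_contra hlt
        push Not at hlt
        have := Subgroup.eq_of_le_of_card_ge hRX hlt
        exact hgR (this ▸ hgX)
      have h1 := IH _ hXS hcard _ hψ
      have h2 := InG_restrict (coreSystem E F) F hRX h1
      refine GI_of_InG (coreSystem E F) F _ h2 (fun x => ?_)
      exact (hψβ x x.2 (hRX x.2)).symm
  · -- `β` extends to `R C_S(R) > R`
    have hβF : R.subtype.comp (β : R ≃* R).toMonoidHom ∈ F.Hom R := (mem_autGroup_iff F hRS).1 hβ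
    have hr : (R.subtype.comp (β : R ≃* R).toMonoidHom).range = R := range_subtype_comp _
    obtain ⟨ψ, hψ, hψe⟩ := hRr.2 R _ hβF hr
    have hRN : R ≤ extender S R (R.subtype.comp (β : R ≃* R).toMonoidHom) := le_extender_of_mem F hβF
    have hCN : centralizerIn S R ≤ extender S R (R.subtype.comp (β : R ≃* R).toMonoidHom) :=
      centralizerIn_le_extender _
    have hNS : extender S R (R.subtype.comp (β : R ≃* R).toMonoidHom) ≤ S :=
      (extender_le S R _).trans inf_le_left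
    have hfinN : Finite (extender S R (R.subtype.comp (β : R ≃* R).toMonoidHom)) := finite_of_le hNS
    have hcard : Nat.card R < Nat.card (extender S R (R.subtype.comp (β : R ≃* R).toMonoidHom)) := by
      by_contra hlt
      push Not at hlt
      have := Subgroup.eq_of_le_of_card_ge hRN hlt
      exact hC (hCN.trans this.ge)
    have h1 := IH _ hNS hcard _ hψ
    have h2 := InG_restrict (coreSystem E F) F hRN h1
    refine GI_of_InG (coreSystem E F) F _ h2 (fun x => ?_)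
    exact (hψe x x.2 (hRN x.2)).symm

/-- **Generation on a good family.** A subsystem of `F` containing `O^{p'}(Aut_F(P))` for all `P` in a good family contains
`O^{p'}(Aut_F(P))` for all `P ≤ S`. -/
theorem autGroup_pElements_le_of_on [Finite S] {p : ℕ} [Fact p.Prime] (hS : IsPGroup p S) (F : FusionSystem S)
    (hF : F.IsSaturated p) (E : FusionSystem S) {ℋ : Set (Subgroup Ω)} (hℋ : GoodFamily F p ℋ)
    (h : ContainsPGensOn F p ℋ E) (P : Subgroup Ω) (hP : P ≤ S) :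
    (Subgroup.closure {α : ↥(F.autGroup P) | ∃ k : ℕ, orderOf α = p ^ k}).map (F.autGroup P).subtype ≤
      E.autGroup P := by
  have hT : F.StronglyClosed S := ⟨le_rfl, fun _ _ _ hφ x => (F.le_of_mem hφ).2 x⟩
  have key : ∀ (P : Subgroup Ω), P ≤ S → ∀ (φ : P →* Ω), φ ∈ F.Hom P → InG (coreSystem E F) F φ :=
    frattini_of_local (coreSystem E F) F hS hF hT (invClause_core E F)
      (fun R hRS hne hRa hRr IH β hβ => local_step_on E F hS hℋ h R hRS hne hRa hRr IH β hβ)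
  have hfinP : Finite P := finite_of_le hP
  rw [Subgroup.map_le_iff_le_comap, Subgroup.closure_le]
  rintro α ⟨k, hk⟩
  show (α : MulAut P) ∈ E.autGroup P
  rw [mem_autGroup_iff E hP]
  obtain ⟨Q, hPQ, hQa, hQr⟩ := hF P hP
  obtain ⟨e₀, he₀⟩ := (isConj_iff F).1 hPQ
  have hQS : Q ≤ S := he₀.le_right
  have hfinQ : Finite Q := finite_of_le hQS
  have hfinA : Finite (F.autGroup Q) := inferInstance
  have hα' : MulAut.congr e₀ (α : MulAut P) ∈ F.autGroup Q := congr_mem_autGroup F he₀ α.2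
  obtain ⟨-, Rsyl, hRsyl⟩ := hQa
  have hord : orderOf (⟨_, hα'⟩ : F.autGroup Q) = p ^ k := by
    rw [← hk, ← Subgroup.orderOf_coe, ← Subgroup.orderOf_coe]
    exact MulEquiv.orderOf_eq (MulAut.congr e₀) _
  have hH : IsPGroup p (Subgroup.zpowers (⟨_, hα'⟩ : F.autGroup Q)) :=
    IsPGroup.of_card (n := k) (by rw [Nat.card_zpowers, hord])
  obtain ⟨c, hc⟩ := exists_conj_mem_sylow Rsyl hH
  have h1 := hc _ (Subgroup.mem_zpowers _)
  have h1' : c * (⟨_, hα'⟩ : F.autGroup Q) * c⁻¹ ∈ (Rsyl : Subgroup (F.autGroup Q)) := h1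
  rw [hRsyl, Subgroup.mem_subgroupOf] at h1'
  obtain ⟨s, hs, hse⟩ := mem_autInducedBy_iff.1 h1'
  have hcF : IsIso F ((c : MulAut Q) : Q ≃* Q) := (mem_autGroup_iff F hQS).1 c.2
  have hψ : IsIso F (e₀.trans ((c : MulAut Q) : Q ≃* Q)) := he₀.trans hcF
  obtain ⟨β, hβ, ψ₀, hψ₀, hψe⟩ := key P hP _ hψ
  have hψ₀E : ψ₀ ∈ E.Hom P := hψ₀.1
  have hψ₀S : ∀ x : P, ψ₀ x ∈ S := (E.le_of_mem hψ₀E).2
  have h2 : ∀ x : P, (((c : MulAut Q) (e₀ ((α : MulAut P) x)) : Q) : Ω) =
      s * (((c : MulAut Q) (e₀ x) : Q) : Ω) * s⁻¹ := by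
    intro x
    rw [← hse]
    show _ = ((((c : MulAut Q) * MulAut.congr e₀ (α : MulAut P) * (c : MulAut Q)⁻¹)
      ((c : MulAut Q) (e₀ x)) : Q) : Ω)
    rw [MulAut.mul_apply, MulAut.mul_apply, MulAut.inv_apply_self]
    show _ = (((c : MulAut Q) (e₀ ((α : MulAut P) (e₀.symm (e₀ x)))) : Q) : Ω)
    rw [MulEquiv.symm_apply_apply]
  have h3 : ∀ x : P, ψ₀ ((α : MulAut P) x) =
      ((β⁻¹ ⟨s, hs⟩ : S) : Ω) * ψ₀ x * ((β⁻¹ ⟨s, hs⟩ : S) : Ω)⁻¹ := by
    intro x
    have e1 := hψe ((α : MulAut P) x) (hψ₀S _)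
    have e2 := hψe x (hψ₀S _)
    have e3 : ((β ⟨ψ₀ ((α : MulAut P) x), hψ₀S _⟩ : S) : Ω) =
        s * ((β ⟨ψ₀ x, hψ₀S _⟩ : S) : Ω) * s⁻¹ := by
      rw [← e1, ← e2]
      exact h2 x
    have e4 : β ⟨ψ₀ ((α : MulAut P) x), hψ₀S _⟩ = ⟨s, hs⟩ * β ⟨ψ₀ x, hψ₀S _⟩ * ⟨s, hs⟩⁻¹ :=
      Subtype.ext e3
    have e5 := congrArg (DFunLike.coe (β⁻¹ : MulAut S)) e4
    rw [MulAut.inv_apply_self, map_mul, map_mul, map_inv, MulAut.inv_apply_self] at e5
    exact congrArg (fun z : S => (z : Ω)) e5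
  have he₁ : IsIso E (MonoidHom.ofInjective (E.injective_of_mem hψ₀E)) := isIso_ofInjective E hψ₀E
  have hrS : ψ₀.range ≤ S := hom_range_le E hψ₀E
  have hθ₁ : (conjHom ψ₀.range ((β⁻¹ ⟨s, hs⟩ : S) : Ω)).comp
      (MonoidHom.ofInjective (E.injective_of_mem hψ₀E)).toMonoidHom ∈ E.Hom P :=
    comp_mem' E he₁ (E.conj_mem hrS (β⁻¹ ⟨s, hs⟩ : S).2)
      (fun x => ((MonoidHom.ofInjective (E.injective_of_mem hψ₀E)) x).2) (fun x => rfl)
  have hval : ∀ x : P, ((conjHom ψ₀.range ((β⁻¹ ⟨s, hs⟩ : S) : Ω)).comp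
      (MonoidHom.ofInjective (E.injective_of_mem hψ₀E)).toMonoidHom) x ∈ ψ₀.range := by
    intro x
    refine ⟨(α : MulAut P) x, ?_⟩
    rw [h3 x]
    rfl
  refine comp_mem' E hθ₁ he₁.symm hval (fun x => ?_)
  show (((α : MulAut P) x : P) : Ω) = _
  have : (⟨_, hval x⟩ : ψ₀.range) = (MonoidHom.ofInjective (E.injective_of_mem hψ₀E)) ((α : MulAut P) x) := by
    apply Subtype.ext
    show ((β⁻¹ ⟨s, hs⟩ : S) : Ω) * ψ₀ x * ((β⁻¹ ⟨s, hs⟩ : S) : Ω)⁻¹ = ψ₀ ((α : MulAut P) x)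
    exact (h3 x).symm
  rw [this]
  simp

/-- **`O^{p'}_*(F)` is generated on a good family**: a fusion system over `S` containing `O^{p'}(Aut_F(P))` for all `P` in a
good family contains `O^{p'}_*(F)`. -/
theorem opPrimeStar_le_of_on [Finite S] {p : ℕ} [Fact p.Prime] (hS : IsPGroup p S) (F : FusionSystem S)
    (hF : F.IsSaturated p) {ℋ : Set (Subgroup Ω)} (hℋ : GoodFamily F p ℋ) (D : FusionSystem S)
    (h : ContainsPGensOn F p ℋ D) (P : Subgroup Ω) : (opPrimeStar F p).Hom P ⊆ D.Hom P := by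
  -- pass to `D ∩ F`
  have h' : ContainsPGensOn F p ℋ (interSystem F {D}) := by
    intro Q hQ
    have hQS := (hℋ.centric Q hQ).1
    rw [Subgroup.map_le_iff_le_comap, Subgroup.closure_le]
    rintro α ⟨k, hk⟩
    show (α : MulAut Q) ∈ (interSystem F {D}).autGroup Q
    rw [mem_autGroup_iff _ hQS]
    refine ⟨(mem_autGroup_iff F hQS).1 α.2, fun D' hD' => ?_⟩
    rw [Set.mem_singleton_iff.1 hD']
    exact (mem_autGroup_iff D hQS).1 (h Q hQ (Subgroup.mem_map_of_mem _ (Subgroup.subset_closure ⟨k, hk⟩)))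
  have h2 : ContainsPGens F p (interSystem F {D}) :=
    fun Q hQ => autGroup_pElements_le_of_on hS F hF _ hℋ h' Q hQ.1
  intro φ hφ
  exact (opPrimeStar_le_of F p h2 P hφ).2 D rfl

end Cfsg.Agent.Lib.Helper84
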