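/-
helper84: for `T` strongly closed in a saturated fusion system `F` over `S`: the family of the `F`-centric subgroups `P` all of whose
`F`-conjugates `Q` satisfy `C_T(Q ⊓ T) ≤ Q ⊓ T` is a good family (in the sense of `GoodFamily`), and `R ⊓ T` is centric in every
subsystem `E ≤ F` over `T` for `R` in this family.
All declarations live in `Cfsg.Agent.Lib.Helper84`.
-/
import Cfsg.Agent.Lib.Helper84.PPrimeOn
import Cfsg.Agent.Lib.Helper84.FusionFrattiniSys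
import Cfsg.Agent.Lib.Helper85.FusionRS
import Cfsg.Agent.Lib.Helper87.FusionFully
import Cfsg.Agent.Lib.Helper88.FusionCentricExt

set_option autoImplicit false

namespace Cfsg.Agent.Lib.Helper84

open Cfsg Cfsg.FusionSystem
open Cfsg.Agent.Lib.Helper87

variable {Ω : Type*} [Group Ω] {S : Subgroup Ω}

/-- The `F`-centric subgroups `P` all of whose `F`-conjugates `Q` satisfy `C_T(Q ⊓ T) ≤ Q ⊓ T`. -/
def famH (F : FusionSystem S) (T : Subgroup Ω) : Set (Subgroup Ω) :=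
  {P | F.IsCentric P ∧ ∀ Q, F.IsConj P Q → centralizerIn T (Q ⊓ T) ≤ Q ⊓ T}

/-- maps of `F` carry elements of a strongly closed subgroup into it -/
theorem map_mem_stronglyClosed (F : FusionSystem S) {T : Subgroup Ω} (hT : F.StronglyClosed T) {P : Subgroup Ω}
    {φ : P →* Ω} (hφ : φ ∈ F.Hom P) (x : P) (hx : (x : Ω) ∈ T) : φ x ∈ T :=
  hT.2 (P ⊓ T) inf_le_right _ (restrict_mem F hφ inf_le_left) ⟨x, ⟨x.2, hx⟩⟩

/-- an element mapped into a strongly closed subgroup by a map of `F` lies in it -/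
theorem mem_of_map_mem_stronglyClosed (F : FusionSystem S) {T : Subgroup Ω} (hT : F.StronglyClosed T) {P : Subgroup Ω}
    {φ : P →* Ω} (hφ : φ ∈ F.Hom P) (x : P) (hx : φ x ∈ T) : (x : Ω) ∈ T := by
  obtain ⟨ψ, hψ, hinv⟩ := F.inv_mem hφ
  have h1 := map_mem_stronglyClosed F hT hψ ⟨φ x, ⟨x, rfl⟩⟩ hx
  rwa [hinv x] at h1

/-- the product `Q C` of a subgroup `Q` and a subgroup `C` normalized by `Q` -/
def mulSub (Q C : Subgroup Ω) (hn : ∀ q ∈ Q, ∀ c ∈ C, q * c * q⁻¹ ∈ C) : Subgroup Ω where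
  carrier := {x | ∃ q ∈ Q, ∃ c ∈ C, x = q * c}
  one_mem' := ⟨1, Q.one_mem, 1, C.one_mem, by simp⟩
  mul_mem' := by
    rintro _ _ ⟨q, hq, c, hc, rfl⟩ ⟨q', hq', c', hc', rfl⟩
    refine ⟨q * q', Q.mul_mem hq hq', (q'⁻¹ * c * q'⁻¹⁻¹) * c',
      C.mul_mem (hn _ (Q.inv_mem hq') _ hc) hc', by group⟩
  inv_mem' := by
    rintro _ ⟨q, hq, c, hc, rfl⟩
    exact ⟨q⁻¹, Q.inv_mem hq, q * c⁻¹ * q⁻¹, hn _ hq _ (C.inv_mem hc), by group⟩

/-- In a finite `p`-group `S`: if `Q` normalizes `C` and `C ≰ Q` then some element of `C ∖ Q` normalizes `Q`. -/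
theorem exists_mem_normalizerIn_not_mem_of_normalizes [Finite S] {p : ℕ} [Fact p.Prime] (hS : IsPGroup p S)
    {Q C : Subgroup Ω} (hQS : Q ≤ S) (hCS : C ≤ S) (hn : ∀ q ∈ Q, ∀ c ∈ C, q * c * q⁻¹ ∈ C) (hCQ : ¬ C ≤ Q) :
    ∃ y ∈ C, y ∈ normalizerIn S Q ∧ y ∉ Q := by
  have hQH : Q ≤ mulSub Q C hn := fun q hq => ⟨q, hq, 1, C.one_mem, by simp⟩
  have hCH : C ≤ mulSub Q C hn := fun c hc => ⟨1, Q.one_mem, c, hc, by simp⟩
  have hHS : mulSub Q C hn ≤ S := by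
    rintro _ ⟨q, hq, c, hc, rfl⟩
    exact S.mul_mem (hQS hq) (hCS hc)
  have hfinH : Finite (mulSub Q C hn) := finite_of_le hHS
  have hHp : IsPGroup p (mulSub Q C hn) := Cfsg.Agent.Lib.Helper88.isPGroup_of_le hS hHS
  have hne : Q ≠ mulSub Q C hn := fun h => hCQ (h ▸ hCH)
  obtain ⟨x, hxN, hxQ⟩ := exists_mem_normalizerIn_not_mem hHp hQH hne
  obtain ⟨q, hq, c, hc, rfl⟩ := hxN.1
  refine ⟨c, hc, ⟨hCS hc, ?_⟩, fun hcQ => hxQ (Q.mul_mem hq hcQ)⟩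
  have h1 : q⁻¹ ∈ Subgroup.normalizer (Q : Set Ω) := Subgroup.le_normalizer (Q.inv_mem hq)
  have h2 := (Subgroup.normalizer (Q : Set Ω)).mul_mem h1 hxN.2
  have h3 : q⁻¹ * (q * c) = c := by group
  rwa [h3] at h2

/-- the automorphisms in `Aut_F(R)` that are trivial on `R ⊓ T` and on `R/(R ⊓ T)` -/
def kSub (F : FusionSystem S) (T R : Subgroup Ω) : Subgroup (MulAut R) where
  carrier := {γ | γ ∈ F.autGroup R ∧ (∀ v : R, (v : Ω) ∈ T → γ v = v) ∧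
    ∀ x : R, (x : Ω)⁻¹ * ((γ x : R) : Ω) ∈ T}
  one_mem' := ⟨Subgroup.one_mem _, fun v _ => rfl, fun x => by simp [T.one_mem]⟩
  mul_mem' := by
    rintro γ₁ γ₂ ⟨h1, h1v, h1x⟩ ⟨h2, h2v, h2x⟩
    refine ⟨Subgroup.mul_mem _ h1 h2, fun v hv => ?_, fun x => ?_⟩
    · rw [MulAut.mul_apply, h2v v hv, h1v v hv]
    · rw [MulAut.mul_apply]
      have h3 : (x : Ω)⁻¹ * ((γ₁ (γ₂ x) : R) : Ω) =
          ((x : Ω)⁻¹ * ((γ₂ x : R) : Ω)) * (((γ₂ x : R) : Ω)⁻¹ * ((γ₁ (γ₂ x) : R) : Ω)) := by group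
      rw [h3]
      exact T.mul_mem (h2x x) (h1x _)
  inv_mem' := by
    rintro γ ⟨h1, h1v, h1x⟩
    refine ⟨Subgroup.inv_mem _ h1, fun v hv => ?_, fun x => ?_⟩
    · have h2 := h1v v hv
      calc γ⁻¹ v = γ⁻¹ (γ v) := by rw [h2]
        _ = v := MulAut.inv_apply_self _ _ _
    · have h2 := h1x (γ⁻¹ x)
      rw [MulAut.apply_inv_self] at h2
      have h3 : (x : Ω)⁻¹ * ((γ⁻¹ x : R) : Ω) = (((γ⁻¹ x : R) : Ω)⁻¹ * (x : Ω))⁻¹ := by group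
      rw [h3]
      exact T.inv_mem h2

theorem kSub_le (F : FusionSystem S) (T R : Subgroup Ω) : kSub F T R ≤ F.autGroup R := fun _ h => h.1

theorem kSub_normal (F : FusionSystem S) {T : Subgroup Ω} (hT : F.StronglyClosed T) {R : Subgroup Ω} (hRS : R ≤ S) :
    ∀ β ∈ F.autGroup R, ∀ κ ∈ kSub F T R, β * κ * β⁻¹ ∈ kSub F T R := by
  rintro β hβ κ ⟨hκ, hκv, hκx⟩
  have hβF : R.subtype.comp (β : R ≃* R).toMonoidHom ∈ F.Hom R := (mem_autGroup_iff F hRS).1 hβ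
  have hβi : R.subtype.comp ((β⁻¹ : MulAut R) : R ≃* R).toMonoidHom ∈ F.Hom R :=
    (mem_autGroup_iff F hRS).1 (Subgroup.inv_mem _ hβ)
  refine ⟨Subgroup.mul_mem _ (Subgroup.mul_mem _ hβ hκ) (Subgroup.inv_mem _ hβ), fun v hv => ?_, fun x => ?_⟩
  · have h1 : ((β⁻¹ v : R) : Ω) ∈ T := map_mem_stronglyClosed F hT hβi v hv
    rw [MulAut.mul_apply, MulAut.mul_apply, hκv _ h1, MulAut.apply_inv_self]
  · rw [MulAut.mul_apply, MulAut.mul_apply]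
    have h1 : ((β⁻¹ x)⁻¹ * κ (β⁻¹ x) : R) = ⟨((β⁻¹ x : R) : Ω)⁻¹ * ((κ (β⁻¹ x) : R) : Ω),
        R.mul_mem (R.inv_mem (β⁻¹ x).2) (κ (β⁻¹ x)).2⟩ := Subtype.ext rfl
    have h2 : ((β ((β⁻¹ x)⁻¹ * κ (β⁻¹ x)) : R) : Ω) ∈ T :=
      map_mem_stronglyClosed F hT hβF _ (by rw [h1]; exact hκx (β⁻¹ x))
    rw [map_mul, map_inv, MulAut.apply_inv_self] at h2
    exact h2

theorem kSub_isPGroup (F : FusionSystem S) [Finite S] {p : ℕ} [Fact p.Prime] (hS : IsPGroup p S)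
    (T : Subgroup Ω) {R : Subgroup Ω} (hRS : R ≤ S) : IsPGroup p (kSub F T R) := by
  have hfinR : Finite R := finite_of_le hRS
  obtain ⟨k, hk⟩ := IsPGroup.iff_card.1 (Cfsg.Agent.Lib.Helper88.isPGroup_of_le hS hRS)
  rintro ⟨κ, hκ, hκv, hκx⟩
  refine ⟨k, Subtype.ext ?_⟩
  show κ ^ (p ^ k) = 1
  apply MulEquiv.ext
  intro x
  have hx : κ x = x * (x⁻¹ * κ x) := by group
  have hb : κ (x⁻¹ * κ x) = x⁻¹ * κ x := hκv _ (hκx x)
  rw [Cfsg.Agent.Lib.Helper88.aut_pow_apply_mul_pow κ x (x⁻¹ * κ x) hx hb (p ^ k), ← hk, pow_card_eq_one', mul_one]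
  rfl

/-- **The family is good.** -/
theorem goodFamily_famH [Finite S] {p : ℕ} [Fact p.Prime] (hS : IsPGroup p S) (F : FusionSystem S)
    {T : Subgroup Ω} (hT : F.StronglyClosed T) : GoodFamily F p (famH F T) where
  centric := fun P hP => hP.1
  conj := fun P hP Q hPQ =>
    ⟨Cfsg.Agent.Lib.Helper88.isCentric_of_isConj F hP.1 hPQ, fun Q' hQQ' => hP.2 Q' (IsConj_trans hPQ hQQ')⟩
  escapes := by
    intro R hRc hRn hRa hRr
    have hTS : T ≤ S := hT.1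
    have hRS : R ≤ S := hRc.1
    have hex : ∃ Q, F.IsConj R Q ∧ ¬ centralizerIn T (Q ⊓ T) ≤ Q ⊓ T := by
      by_contra hcon
      apply hRn
      refine ⟨hRc, fun Q hQ => ?_⟩
      by_contra h2
      exact hcon ⟨Q, hQ, h2⟩
    obtain ⟨Q, hRQ, hQ⟩ := hex
    have hQS : Q ≤ S := IsConj_le_right hRQ
    have hnormT : ∀ s ∈ S, ∀ t ∈ T, s * t * s⁻¹ ∈ T := fun s hs t ht =>
      (Subgroup.mem_normalizer_iff.1 (le_normalizer_of_stronglyClosed' F hT hs) t).1 ht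
    have hCS : centralizerIn T (Q ⊓ T) ≤ S := inf_le_left.trans hTS
    have hn : ∀ q ∈ Q, ∀ c ∈ centralizerIn T (Q ⊓ T), q * c * q⁻¹ ∈ centralizerIn T (Q ⊓ T) := by
      intro q hq c hc
      refine ⟨hnormT q (hQS hq) c hc.1, ?_⟩
      show q * c * q⁻¹ ∈ Subgroup.centralizer ((Q ⊓ T : Subgroup Ω) : Set Ω)
      rw [Subgroup.mem_centralizer_iff]
      intro w hw
      have hw' : q⁻¹ * w * q⁻¹⁻¹ ∈ Q ⊓ T :=
        ⟨Q.mul_mem (Q.mul_mem (Q.inv_mem hq) hw.1) (Q.inv_mem (Q.inv_mem hq)),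
          hnormT q⁻¹ (S.inv_mem (hQS hq)) w hw.2⟩
      have h1 := (Subgroup.mem_centralizer_iff.1 hc.2) _ hw'
      calc w * (q * c * q⁻¹) = q * ((q⁻¹ * w * q⁻¹⁻¹) * c) * q⁻¹ := by group
        _ = q * (c * (q⁻¹ * w * q⁻¹⁻¹)) * q⁻¹ := by rw [h1]
        _ = q * c * q⁻¹ * w := by group
    have hCQ : ¬ centralizerIn T (Q ⊓ T) ≤ Q := fun hle => hQ (le_inf hle inf_le_left)
    obtain ⟨y, hyC, hyN, hyQ⟩ := exists_mem_normalizerIn_not_mem_of_normalizes hS hQS hCS hn hCQ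
    obtain ⟨ψ, e, hψ, he, hψe⟩ := exists_extension F hS hRa hRr (IsConj_symm hRQ)
    have hg : ψ ⟨y, hyN⟩ ∈ normalizerIn S R := map_mem_normalizerIn F hQS hψ e hψe ⟨y, hyN⟩
    have hQN : Q ≤ normalizerIn S Q := le_normalizerIn hQS
    have hgR : ψ ⟨y, hyN⟩ ∉ R := by
      intro hmem
      have h1 : ψ ⟨(e.symm ⟨_, hmem⟩ : Q), hQN (e.symm ⟨_, hmem⟩).2⟩ = ψ ⟨y, hyN⟩ := by
        rw [hψe _ (e.symm ⟨_, hmem⟩).2]
        simp
      have h2 := F.injective_of_mem hψ h1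
      have h3 : ((e.symm ⟨_, hmem⟩ : Q) : Ω) = y := congrArg Subtype.val h2
      exact hyQ (h3 ▸ (e.symm ⟨_, hmem⟩).2)
    have hgT : ψ ⟨y, hyN⟩ ∈ T := map_mem_stronglyClosed F hT hψ ⟨y, hyN⟩ hyC.1
    have hgcent : ∀ v : R, (v : Ω) ∈ T → ψ ⟨y, hyN⟩ * v = v * ψ ⟨y, hyN⟩ := by
      intro v hv
      have h1 : ψ ⟨(e.symm v : Q), hQN (e.symm v).2⟩ = v := by
        rw [hψe _ (e.symm v).2]
        simp
      have hqT : ((e.symm v : Q) : Ω) ∈ T :=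
        mem_of_map_mem_stronglyClosed F hT hψ ⟨(e.symm v : Q), hQN (e.symm v).2⟩ (by rw [h1]; exact hv)
      have h2 := (Subgroup.mem_centralizer_iff.1 hyC.2) _ (show ((e.symm v : Q) : Ω) ∈ Q ⊓ T from ⟨(e.symm v).2, hqT⟩)
      have h3 : (⟨y, hyN⟩ : normalizerIn S Q) * ⟨(e.symm v : Q), hQN (e.symm v).2⟩ =
          ⟨(e.symm v : Q), hQN (e.symm v).2⟩ * ⟨y, hyN⟩ := Subtype.ext h2.symm
      have h4 := congrArg ψ h3
      rw [map_mul, map_mul, h1] at h4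
      exact h4
    refine ⟨ψ ⟨y, hyN⟩, hg, hgR, kSub F T R, kSub_le F T R, kSub_normal F hT hRS, kSub_isPGroup F hS T hRS, ?_⟩
    refine ⟨autInducedBy_le_autGroup F hRS (mem_autInducedBy_iff.2 ⟨_, hg.1, fun _ => rfl⟩), fun v hv => ?_,
      fun x => ?_⟩
    · apply Subtype.ext
      show ψ ⟨y, hyN⟩ * v * (ψ ⟨y, hyN⟩)⁻¹ = v
      rw [hgcent v hv]
      group
    · show (x : Ω)⁻¹ * (ψ ⟨y, hyN⟩ * x * (ψ ⟨y, hyN⟩)⁻¹) ∈ T
      have h1 := hnormT (x : Ω)⁻¹ (S.inv_mem (hRS x.2)) _ hgT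
      have h2 : (x : Ω)⁻¹ * (ψ ⟨y, hyN⟩ * x * (ψ ⟨y, hyN⟩)⁻¹) =
          ((x : Ω)⁻¹ * ψ ⟨y, hyN⟩ * (x : Ω)⁻¹⁻¹) * (ψ ⟨y, hyN⟩)⁻¹ := by group
      rw [h2]
      exact T.mul_mem h1 (T.inv_mem hgT)

/-- a subgroup of `S` normalizes its intersection with a strongly closed subgroup -/
theorem le_normalizerIn_inf (F : FusionSystem S) {T : Subgroup Ω} (hT : F.StronglyClosed T) {R : Subgroup Ω}
    (hRS : R ≤ S) : R ≤ normalizerIn S (R ⊓ T) := by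
  intro r hr
  refine ⟨hRS hr, ?_⟩
  show r ∈ Subgroup.normalizer ((R ⊓ T : Subgroup Ω) : Set Ω)
  rw [Subgroup.mem_normalizer_iff]
  intro n
  have hrT := le_normalizer_of_stronglyClosed' F hT (hRS hr)
  rw [Subgroup.mem_normalizer_iff] at hrT
  constructor
  · rintro ⟨hnR, hnT⟩
    exact ⟨R.mul_mem (R.mul_mem hr hnR) (R.inv_mem hr), (hrT n).1 hnT⟩
  · rintro ⟨hnR, hnT⟩
    refine ⟨?_, (hrT n).2 hnT⟩
    have h1 : n = r⁻¹ * (r * n * r⁻¹) * r := by group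
    rw [h1]
    exact R.mul_mem (R.mul_mem (R.inv_mem hr) hnR) hr

/-- for `R` in the family, `R ⊓ T` is centric in every subsystem of `F` over `T` -/
theorem isCentric_inf_of_mem_famH [Finite S] {p : ℕ} [Fact p.Prime] (hS : IsPGroup p S) (F : FusionSystem S)
    (hF : F.IsSaturated p) {T : Subgroup Ω} (hT : F.StronglyClosed T) (E : FusionSystem T)
    (hEF : E.IsSubsystemOf F) {R : Subgroup Ω} (hR : R ∈ famH F T) : E.IsCentric (R ⊓ T) := by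
  refine ⟨inf_le_right, fun V' hVV' => ?_⟩
  by_contra hcon
  have hRS : R ≤ S := hR.1.1
  have hVS : R ⊓ T ≤ S := inf_le_left.trans hRS
  have hFconj : F.IsConj (R ⊓ T) V' := by
    obtain ⟨φ, hφ, hr⟩ := hVV'
    exact ⟨φ, hEF _ hφ, hr⟩
  obtain ⟨V'', hVV'', hfn⟩ := Cfsg.Agent.Lib.Helper85.exists_fullyNormalized_conj F hVS
  obtain ⟨hV''a, hV''r⟩ := fullyAutomized_receptive_of_fullyNormalized F hS hF hfn
  have hV''T : V'' ≤ T := by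
    obtain ⟨φ, hφ, hr⟩ := hVV''
    rw [← hr]
    rintro _ ⟨x, rfl⟩
    exact hT.2 _ inf_le_right φ hφ x
  obtain ⟨ν, eν, hν, heν, hνe⟩ := exists_extension F hS hV''a hV''r (IsConj_trans (IsConj_symm hFconj) hVV'')
  have hV'S : V' ≤ S := IsConj_le_right hFconj
  have h1 : ¬ centralizerIn T V'' ≤ V'' := by
    intro hle
    apply hcon
    intro c hc
    have hcN : c ∈ normalizerIn S V' := centralizerIn_le_normalizerIn S V' ⟨hT.1 hc.1, hc.2⟩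
    have hνc : ν ⟨c, hcN⟩ ∈ centralizerIn T V'' := by
      have h2 := map_mem_centralizerIn F hV'S hν eν hνe ⟨c, hcN⟩ ⟨hT.1 hc.1, hc.2⟩
      exact ⟨map_mem_stronglyClosed F hT hν ⟨c, hcN⟩ hc.1, h2.2⟩
    have h2 := hle hνc
    have h3 : ν ⟨(eν.symm ⟨_, h2⟩ : V'), le_normalizerIn hV'S (eν.symm ⟨_, h2⟩).2⟩ = ν ⟨c, hcN⟩ := by
      rw [hνe _ (eν.symm ⟨_, h2⟩).2]
      simp
    have h4 := F.injective_of_mem hν h3
    have h5 : ((eν.symm ⟨_, h2⟩ : V') : Ω) = c := congrArg Subtype.val h4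
    exact h5 ▸ (eν.symm ⟨_, h2⟩).2
  obtain ⟨μ, eμ, hμ, heμ, hμe⟩ := exists_extension F hS hV''a hV''r hVV''
  have hRN : R ≤ normalizerIn S (R ⊓ T) := le_normalizerIn_inf F hT hRS
  have hμR : μ.comp (Subgroup.inclusion hRN) ∈ F.Hom R := restrict_mem F hμ hRN
  have hRQ : F.IsConj R (μ.comp (Subgroup.inclusion hRN)).range := ⟨_, hμR, rfl⟩
  have hQT : (μ.comp (Subgroup.inclusion hRN)).range ⊓ T = V'' := by
    ext y
    constructor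
    · rintro ⟨⟨r, rfl⟩, hyT⟩
      have hrT : (r : Ω) ∈ T := mem_of_map_mem_stronglyClosed F hT hμR r hyT
      have h2 : (μ.comp (Subgroup.inclusion hRN)) r = eμ ⟨r, ⟨r.2, hrT⟩⟩ := hμe r ⟨r.2, hrT⟩ (hRN r.2)
      rw [h2]
      exact (eμ _).2
    · intro hy
      obtain ⟨v, hv⟩ := eμ.surjective ⟨y, hy⟩
      have h2 : (μ.comp (Subgroup.inclusion hRN)) ⟨v, v.2.1⟩ = y := by
        have h3 := hμe v v.2 (hRN v.2.1)
        rw [hv] at h3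
        exact h3
      exact ⟨⟨⟨v, v.2.1⟩, h2⟩, hV''T hy⟩
  have h2 := hR.2 _ hRQ
  rw [hQT] at h2
  exact h1 h2

end Cfsg.Agent.Lib.Helper84
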