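/-
helper84: the key claim of `NormalPPrimeKey` for an ambient fusion system `F` that is not assumed saturated: for `E` saturated over `T`
and invariant in `F`, and `A ⊴ Aut_F(T)` containing `Aut_E(T)` with `Aut_F(T)/A` of order prime to `p`, an element of `Aut_F(T)` whose
restriction to some `E`-centric subgroup is a map of `A ∘ E` lies in `A`.
All declarations live in `Cfsg.Agent.Lib.Helper84`.
-/
import Cfsg.Agent.Lib.Helper84.NormalPPrimeKey

set_option autoImplicit false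

namespace Cfsg.Agent.Lib.Helper84

open Cfsg Cfsg.FusionSystem
open Cfsg.Agent.Lib.Helper87
open Cfsg.Agent.Lib.Helper88.Invariance (resHom InvClause)

variable {Ω : Type*} [Group Ω]

/-- The data: `E` saturated over `T` and invariant in `F` (not assumed saturated), `A ⊴ Aut_F(T)` containing `Aut_E(T)` with
`Aut_F(T)/A` a `p'`-group. -/
structure TData0 {S : Subgroup Ω} (F : FusionSystem S) (p : ℕ) {T : Subgroup Ω} (E : FusionSystem T)
    (A : Subgroup (MulAut T)) : Prop where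
  esat : E.IsSaturated p
  inv : E.IsInvariantIn F
  le : A ≤ F.autGroup T
  normal : ∀ β ∈ F.autGroup T, ∀ a ∈ A, β * a * β⁻¹ ∈ A
  autE : E.autGroup T ≤ A
  pprime : ∀ β ∈ F.autGroup T, ∀ k : ℕ, β ^ (p ^ k) ∈ A → β ∈ A

namespace TData0

variable {S : Subgroup Ω} {F : FusionSystem S} {p : ℕ} {T : Subgroup Ω} {E : FusionSystem T} {A : Subgroup (MulAut T)}

theorem invClause (h : TData0 F p E A) : InvClause E F := h.inv.2.2.1

theorem stronglyClosed (h : TData0 F p E A) : F.StronglyClosed T := h.inv.2.1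

theorem subsystem (h : TData0 F p E A) : E.IsSubsystemOf F := h.inv.1

theorem frattini (h : TData0 F p E A) : ∀ (P : Subgroup Ω), P ≤ T → ∀ (φ : P →* Ω), φ ∈ F.Hom P →
      ∃ α ∈ F.autGroup T, ∃ φ₀ ∈ E.Hom P, ∀ (x : P) (hx : φ₀ x ∈ T), φ x = ((α ⟨φ₀ x, hx⟩ : T) : Ω) :=
  h.inv.2.2.2

theorem twistF (h : TData0 F p E A) {α : MulAut T} (hα : α ∈ F.autGroup T) (P : Subgroup Ω) :
    E.Hom P ⊆ (twist E α).Hom P := twist_of_invClause E F h.invClause hα P

/-- the fusion system `A ∘ E` over `T` -/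
def tSys (h : TData0 F p E A) : FusionSystem T :=
  prodSystem E A (fun _ ha P => h.twistF (h.le ha) P)

theorem mem_tSys (h : TData0 F p E A) {P : Subgroup Ω} {φ : P →* Ω} :
    φ ∈ h.tSys.Hom P ↔ ∃ a ∈ A, Fac E a φ := Iff.rfl

theorem le_tSys (h : TData0 F p E A) (P : Subgroup Ω) : E.Hom P ⊆ h.tSys.Hom P :=
  le_prodSystem E A _ P

theorem tSys_le (h : TData0 F p E A) (P : Subgroup Ω) : h.tSys.Hom P ⊆ F.Hom P := by
  rintro φ ⟨a, ha, φ₀, hφ₀, hfac⟩
  have hPT : P ≤ T := (E.le_of_mem hφ₀).1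
  have haF : T.subtype.comp (a : T ≃* T).toMonoidHom ∈ F.Hom T :=
    (mem_autGroup_iff F h.stronglyClosed.1).1 (h.le ha)
  exact comp_mem' F (h.subsystem P hφ₀) haF (E.le_of_mem hφ₀).2 (fun x => hfac x)


/-- powers of a factorized automorphism -/
theorem fac_pow (h : TData0 F p E A) {U₁ : Subgroup Ω} {ω : MulAut U₁} {α : MulAut T} (hα : α ∈ F.autGroup T)
    (hω : Fac E α (U₁.subtype.comp (ω : U₁ ≃* U₁).toMonoidHom)) (hU₁T : U₁ ≤ T) (m : ℕ) :
    Fac E (α ^ m) (U₁.subtype.comp ((ω ^ m : MulAut U₁) : U₁ ≃* U₁).toMonoidHom) := by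
  induction m with
  | zero =>
    simp only [pow_zero]
    exact fac_of_mem E (subtype_mem E hU₁T)
  | succ m ih =>
    have hval : ∀ x : U₁, (U₁.subtype.comp (ω : U₁ ≃* U₁).toMonoidHom) x ∈ U₁ := fun x => (ω x).2
    have hc := fac_comp E (fun P => h.twistF (Subgroup.inv_mem _ hα) P) hω ih hval
    rw [pow_succ, pow_succ]
    obtain ⟨φ₀, hφ₀, hfac⟩ := hc
    exact ⟨φ₀, hφ₀, fun x => hfac x⟩

/-- **Key claim.** An element of `Aut_F(T)` whose restriction to some `E`-centric subgroup is a map of `A ∘ E` lies in `A`. -/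
theorem key_claim [Finite S] [Fact p.Prime] (h : TData0 F p E A) (hS : IsPGroup p S) :
    ∀ (U : Subgroup Ω) (hU : U ≤ T), E.IsCentric U → ∀ β ∈ F.autGroup T,
      resHom β U hU ∈ h.tSys.Hom U → β ∈ A := by
  have hT := h.stronglyClosed
  have hTS : T ≤ S := hT.1
  have hfinT : Finite T := finite_of_le hTS
  have hTp : IsPGroup p T := Cfsg.Agent.Lib.Helper88.isPGroup_of_le hS hTS
  have hEsat : E.IsSaturated p := h.esat
  intro U
  induction' hn : Nat.card T - Nat.card U using Nat.strong_induction_on with n ih generalizing U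
  intro hU hUc β hβ hres
  have hfinU : Finite U := finite_of_le (hU.trans hTS)
  -- the main case: the restriction is a map of `E`
  have main : ∀ β' ∈ F.autGroup T, resHom β' U hU ∈ E.Hom U → β' ∈ A := by
    intro β' hβ' hε'
    by_cases hUT : U = T
    · have h1 : T.subtype.comp (β' : T ≃* T).toMonoidHom ∈ E.Hom T :=
        hom_of_eq_on E hUT hε' (fun x hx hx' => rfl)
      exact h.autE ((mem_autGroup_iff E le_rfl).2 h1)
    have hlt : Nat.card U < Nat.card (normalizerIn T U) := card_lt_card_normalizerIn hTp hU hUT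
    have hUU₁ : U ≤ normalizerIn T U := le_normalizerIn hU
    have hU₁T : normalizerIn T U ≤ T := normalizerIn_le T U
    have hfinU₁ : Finite (normalizerIn T U) := finite_of_le (hU₁T.trans hTS)
    have hWT : (resHom β' U hU).range ≤ T := hom_range_le E hε'
    obtain ⟨W', hWW', hW'a, hW'r⟩ := hEsat _ hWT
    obtain ⟨ν, eν, hν, heν, hνe⟩ := exists_extension E hTp hW'a hW'r hWW'
    have hW'T : W' ≤ T := hW'a.1
    -- the restriction of β' to U₁, and μ = ν ∘ β'|U₁
    have hb₁F : resHom β' (normalizerIn T U) hU₁T ∈ F.Hom (normalizerIn T U) :=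
      restrict_mem F ((mem_autGroup_iff F hTS).1 hβ') hU₁T
    have hb₁N : ∀ g : normalizerIn T U,
        resHom β' (normalizerIn T U) hU₁T g ∈ normalizerIn T (resHom β' U hU).range :=
      fun g => aut_apply_mem_normalizerIn β' hU ⟨g, hU₁T g.2⟩ g.2
    have hμF : ν.comp ((resHom β' (normalizerIn T U) hU₁T).codRestrict _ hb₁N) ∈ F.Hom (normalizerIn T U) :=
      F.comp_mem hb₁F (h.subsystem _ hν) hb₁N
    set μ : normalizerIn T U →* Ω := ν.comp ((resHom β' (normalizerIn T U) hU₁T).codRestrict _ hb₁N) with hμdef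
    -- ρ = μ|U is a map of E with image W'
    have hεN : ∀ x : U, resHom β' U hU x ∈ normalizerIn T (resHom β' U hU).range :=
      fun x => le_normalizerIn hWT ⟨x, rfl⟩
    have hρ : ν.comp ((resHom β' U hU).codRestrict _ hεN) ∈ E.Hom U := E.comp_mem hε' hν hεN
    set ρ : U →* Ω := ν.comp ((resHom β' U hU).codRestrict _ hεN) with hρdef
    have hρμ : ∀ x : U, ρ x = μ (Subgroup.inclusion hUU₁ x) := fun x => rfl
    have hρe : ∀ x : U, ρ x = ((eν ⟨resHom β' U hU x, ⟨x, rfl⟩⟩ : W') : Ω) :=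
      fun x => hνe _ ⟨x, rfl⟩ (hεN x)
    have hρr : ρ.range = W' := by
      ext y
      constructor
      · rintro ⟨x, rfl⟩
        rw [hρe]
        exact (eν _).2
      · intro hy
        obtain ⟨⟨_, x, rfl⟩, hw⟩ := eν.surjective ⟨y, hy⟩
        refine ⟨x, ?_⟩
        rw [hρe, hw]
    -- extend ρ inside E to U₁
    obtain ⟨ρ', hρ', hρ'e⟩ := hW'r.2 U ρ hρ hρr
    have hU₁ext : normalizerIn T U ≤ extender T U ρ := by
      intro g hg
      rw [Cfsg.Agent.Lib.Helper85.mem_extender_iff]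
      refine ⟨hg.1, hg.2, μ ⟨g, hg⟩, hom_map_mem E hν _, ?_⟩
      · intro x hx
        rw [hρμ, hρμ, ← map_inv, ← map_mul, ← map_mul]
        rfl
    have hε'₁ : ρ'.comp (Subgroup.inclusion hU₁ext) ∈ E.Hom (normalizerIn T U) := restrict_mem E hρ' hU₁ext
    set ε₁ : normalizerIn T U →* Ω := ρ'.comp (Subgroup.inclusion hU₁ext) with hε₁def
    have hε₁ρ : ∀ x : U, ε₁ (Subgroup.inclusion hUU₁ x) = ρ x :=
      fun x => hρ'e x.1 x.2 (hU₁ext (hUU₁ x.2))
    have hW'c : E.IsCentric W' := Cfsg.Agent.Lib.Helper88.isCentric_of_isConj E hUc ⟨ρ, hρ, hρr⟩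
    have hdiff : ∀ g : normalizerIn T U, (μ g)⁻¹ * ε₁ g ∈ W' := by
      intro g
      apply hW'c.2 W' (isConj_refl E hW'T)
      refine ⟨T.mul_mem (T.inv_mem (hom_map_mem E hν _)) (hom_map_mem E hε'₁ g), ?_⟩
      show _ ∈ Subgroup.centralizer (W' : Set Ω)
      rw [Subgroup.mem_centralizer_iff]
      intro w hw
      rw [← hρr] at hw
      obtain ⟨u, rfl⟩ := hw
      have hgu : (g : Ω) * u * (g : Ω)⁻¹ ∈ U := (Subgroup.mem_normalizer_iff.1 g.2.2 u).1 u.2
      have e1 : μ g * ρ u * (μ g)⁻¹ = ρ ⟨(g : Ω) * u * (g : Ω)⁻¹, hgu⟩ := by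
        rw [hρμ, hρμ, ← map_inv, ← map_mul, ← map_mul]
        rfl
      have e2 : ε₁ g * ρ u * (ε₁ g)⁻¹ = ρ ⟨(g : Ω) * u * (g : Ω)⁻¹, hgu⟩ := by
        rw [← hε₁ρ, ← hε₁ρ, ← map_inv, ← map_mul, ← map_mul]
        rfl
      have e3 : μ g * ρ u * (μ g)⁻¹ = ε₁ g * ρ u * (ε₁ g)⁻¹ := e1.trans e2.symm
      calc ρ u * ((μ g)⁻¹ * ε₁ g) = (μ g)⁻¹ * (μ g * ρ u * (μ g)⁻¹) * ε₁ g := by group
        _ = (μ g)⁻¹ * (ε₁ g * ρ u * (ε₁ g)⁻¹) * ε₁ g := by rw [e3]
        _ = (μ g)⁻¹ * ε₁ g * ρ u := by group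
    have hrange_le : ε₁.range ≤ μ.range := by
      rintro _ ⟨g, rfl⟩
      have h1 := hdiff g
      rw [← hρr] at h1
      obtain ⟨u, hu⟩ := h1
      have h2 : ε₁ g = μ (g * Subgroup.inclusion hUU₁ u) := by
        rw [map_mul, ← hρμ, hu]
        group
      rw [h2]
      exact ⟨_, rfl⟩
    have hfinμ : Finite μ.range := finite_of_le (hom_range_le F hμF)
    have hrange : ε₁.range = μ.range := by
      apply Subgroup.eq_of_le_of_card_ge hrange_le
      rw [← Nat.card_congr (MonoidHom.ofInjective (F.injective_of_mem hμF)).toEquiv,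
        ← Nat.card_congr (MonoidHom.ofInjective (E.injective_of_mem hε'₁)).toEquiv]
    -- ω = ε₁⁻¹ ∘ μ
    have hU₁S : normalizerIn T U ≤ S := hU₁T.trans hTS
    have heμ : IsIso F (MonoidHom.ofInjective (F.injective_of_mem hμF)) := isIso_ofInjective F hμF
    have heε : IsIso F (MonoidHom.ofInjective (E.injective_of_mem hε'₁)) := h.subsystem _ (isIso_ofInjective E hε'₁)
    have hcongr : IsIso F (MulEquiv.subgroupCongr hrange.symm) :=
      hom_of_eq_on F rfl (subtype_mem F (hom_range_le F hμF)) (fun x hx _ => rfl)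
    set ω : MulAut (normalizerIn T U) := (MonoidHom.ofInjective (F.injective_of_mem hμF)).trans
      ((MulEquiv.subgroupCongr hrange.symm).trans (MonoidHom.ofInjective (E.injective_of_mem hε'₁)).symm) with hωdef
    have hωF : ω ∈ F.autGroup (normalizerIn T U) := by
      rw [mem_autGroup_iff F hU₁S]
      exact heμ.trans (hcongr.trans heε.symm)
    have hεω : ∀ g : normalizerIn T U, ε₁ (ω g) = μ g := by
      intro g
      have h1 : (MonoidHom.ofInjective (E.injective_of_mem hε'₁)) (ω g) =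
          MulEquiv.subgroupCongr hrange.symm ((MonoidHom.ofInjective (F.injective_of_mem hμF)) g) :=
        (MonoidHom.ofInjective (E.injective_of_mem hε'₁)).apply_symm_apply _
      exact congrArg (fun z : ε₁.range => (z : Ω)) h1
    have hωU : ∀ u : U, ω (Subgroup.inclusion hUU₁ u) = Subgroup.inclusion hUU₁ u := by
      intro u
      apply E.injective_of_mem hε'₁
      rw [hεω, ← hρμ, hε₁ρ]
    -- ω has p-power order
    have hωpow : ω ^ Nat.card U = 1 := by
      apply MulEquiv.ext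
      intro g
      have hcomm : ∀ u : U, (Subgroup.inclusion hUU₁ u) * (g⁻¹ * ω g) = (g⁻¹ * ω g) * Subgroup.inclusion hUU₁ u := by
        intro u
        have hgu : (g : Ω) * u * (g : Ω)⁻¹ ∈ U := (Subgroup.mem_normalizer_iff.1 g.2.2 u).1 u.2
        have e1 : g * Subgroup.inclusion hUU₁ u * g⁻¹ = Subgroup.inclusion hUU₁ ⟨(g : Ω) * u * (g : Ω)⁻¹, hgu⟩ :=
          Subtype.ext rfl
        have e2 : ω (g * Subgroup.inclusion hUU₁ u * g⁻¹) = g * Subgroup.inclusion hUU₁ u * g⁻¹ := by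
          rw [e1, hωU]
        rw [map_mul, map_mul, map_inv, hωU] at e2
        calc Subgroup.inclusion hUU₁ u * (g⁻¹ * ω g)
            = g⁻¹ * (g * Subgroup.inclusion hUU₁ u * g⁻¹) * ω g := by group
          _ = g⁻¹ * (ω g * Subgroup.inclusion hUU₁ u * (ω g)⁻¹) * ω g := by rw [e2]
          _ = g⁻¹ * ω g * Subgroup.inclusion hUU₁ u := by group
      have hb : ((g⁻¹ * ω g : normalizerIn T U) : Ω) ∈ U := by
        apply hUc.2 U (isConj_refl E hU)
        refine ⟨hU₁T (g⁻¹ * ω g).2, ?_⟩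
        show _ ∈ Subgroup.centralizer (U : Set Ω)
        rw [Subgroup.mem_centralizer_iff]
        intro u hu
        exact congrArg (fun z : normalizerIn T U => (z : Ω)) (hcomm ⟨u, hu⟩)
      have hx : ω g = g * (g⁻¹ * ω g) := by group
      have hbfix : ω (g⁻¹ * ω g) = g⁻¹ * ω g := hωU ⟨_, hb⟩
      rw [Cfsg.Agent.Lib.Helper88.aut_pow_apply_mul_pow ω g (g⁻¹ * ω g) hx hbfix (Nat.card U)]
      have hb1 : (g⁻¹ * ω g) ^ Nat.card U = 1 := by
        have h1 : (⟨_, hb⟩ : U) ^ Nat.card U = 1 := pow_card_eq_one'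
        apply Subtype.ext
        have h2 : (((⟨_, hb⟩ : U) ^ Nat.card U : U) : Ω) = 1 := by rw [h1]; rfl
        rw [Subgroup.coe_pow] at h2
        rw [Subgroup.coe_pow]
        exact h2
      rw [hb1, mul_one]
      rfl
    -- ω is a map of `A ∘ E`
    obtain ⟨α, hα, φ₀, hφ₀, hfacω⟩ := h.frattini _ hU₁T _ ((mem_autGroup_iff F hU₁S).1 hωF)
    have hFacω : Fac E α ((normalizerIn T U).subtype.comp (ω : _ ≃* _).toMonoidHom) :=
      ⟨φ₀, hφ₀, fun x => hfacω x _⟩
    have hUp : IsPGroup p U := Cfsg.Agent.Lib.Helper88.isPGroup_of_le hS (hU.trans hTS)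
    obtain ⟨k, hk⟩ := IsPGroup.iff_card.1 hUp
    have hpow := h.fac_pow hα hFacω hU₁T (Nat.card U)
    rw [hωpow] at hpow
    obtain ⟨φm, hφm, hfacm⟩ := hpow
    have hU₁c : E.IsCentric (normalizerIn T U) := Cfsg.Agent.Lib.Helper88.isCentric_of_le E hUc hUU₁ hU₁T
    have hU''c : E.IsCentric φm.range := Cfsg.Agent.Lib.Helper88.isCentric_of_isConj E hU₁c ⟨φm, hφm, rfl⟩
    have hU''T : φm.range ≤ T := hU''c.1
    obtain ⟨ι, hι, hιinv⟩ := E.inv_mem hφm
    have hres'' : resHom (α ^ Nat.card U) φm.range hU''T ∈ h.tSys.Hom φm.range := by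
      apply h.le_tSys
      refine hom_of_eq_on E rfl hι ?_
      rintro _ ⟨x, rfl⟩ _
      show (((α ^ Nat.card U) ⟨φm x, _⟩ : T) : Ω) = ι ⟨φm x, _⟩
      rw [hιinv]
      exact (hfacm x).symm
    have hcardU₁ : Nat.card (normalizerIn T U) ≤ Nat.card T := Subgroup.card_le_of_le hU₁T
    have hcard'' : Nat.card φm.range = Nat.card (normalizerIn T U) :=
      (Nat.card_congr (MonoidHom.ofInjective (E.injective_of_mem hφm)).toEquiv).symm
    have hαm : α ^ Nat.card U ∈ A :=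
      ih (Nat.card T - Nat.card φm.range) (by omega) φm.range rfl hU''T hU''c _
        (Subgroup.pow_mem _ hα _) hres''
    have hαA : α ∈ A := h.pprime α hα k (hk ▸ hαm)
    have hω_t : (normalizerIn T U).subtype.comp (ω : _ ≃* _).toMonoidHom ∈ h.tSys.Hom (normalizerIn T U) :=
      ⟨α, hαA, φ₀, hφ₀, fun x => hfacω x _⟩
    -- μ = ε₁ ∘ ω is a map of `A ∘ E`
    have hμ_t : μ ∈ h.tSys.Hom (normalizerIn T U) := by
      have h1 := h.tSys.comp_mem hω_t (h.le_tSys _ hε'₁) (fun x => (ω x).2)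
      refine hom_of_eq_on _ rfl h1 (fun x hx _ => ?_)
      exact (hεω ⟨x, hx⟩).symm
    -- β'|U₁ = ν⁻¹ ∘ μ
    obtain ⟨νi, hνi, hνinv⟩ := E.inv_mem hν
    have hμν : ∀ g : normalizerIn T U, μ g ∈ ν.range := fun g => ⟨_, rfl⟩
    have hb₁_t : resHom β' (normalizerIn T U) hU₁T ∈ h.tSys.Hom (normalizerIn T U) := by
      have h1 := h.tSys.comp_mem hμ_t (h.le_tSys _ hνi) hμν
      refine hom_of_eq_on _ rfl h1 (fun x hx _ => ?_)
      exact (hνinv ⟨resHom β' (normalizerIn T U) hU₁T ⟨x, hx⟩, hb₁N ⟨x, hx⟩⟩).symm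
    exact ih (Nat.card T - Nat.card (normalizerIn T U)) (by omega) (normalizerIn T U) rfl hU₁T hU₁c β' hβ' hb₁_t
  obtain ⟨a, ha, ε, hε, hfac⟩ := hres
  have hβ' : a⁻¹ * β ∈ F.autGroup T := Subgroup.mul_mem _ (Subgroup.inv_mem _ (h.le ha)) hβ
  have hε' : resHom (a⁻¹ * β) U hU ∈ E.Hom U := by
    refine hom_of_eq_on E rfl hε (fun x hx _ => ?_)
    show (((a⁻¹ * β) ⟨x, hU hx⟩ : T) : Ω) = ε ⟨x, hx⟩
    have h1 : β ⟨x, hU hx⟩ = a ⟨ε ⟨x, hx⟩, (E.le_of_mem hε).2 ⟨x, hx⟩⟩ := Subtype.ext (hfac ⟨x, hx⟩)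
    rw [MulAut.mul_apply, h1, MulAut.inv_apply_self]
  have h1 := main _ hβ' hε'
  have h2 : β = a * (a⁻¹ * β) := by group
  rw [h2]
  exact A.mul_mem ha h1

end TData0

end Cfsg.Agent.Lib.Helper84
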