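/-
helper84: for a fusion system `E` over `S` and a group `A` of automorphisms of `S` stabilizing `E`, the fusion system
`A ∘ E` over `S` of the maps `α ∘ φ₀` with `α ∈ A` and `φ₀` a map of `E`.
All declarations live in `Cfsg.Agent.Lib.Helper84`.
-/
import Cfsg.Agent.Lib.Helper84.FusionTwist

set_option autoImplicit false

namespace Cfsg.Agent.Lib.Helper84

open Cfsg Cfsg.FusionSystem
open Cfsg.Agent.Lib.Helper87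

variable {Ω : Type*} [Group Ω] {S : Subgroup Ω}

/-- The maps `α ∘ φ₀`, `α ∈ A`, `φ₀` a map of `E`, for a group `A` of automorphisms of `S` stabilizing `E`. -/
def prodSystem (E : FusionSystem S) (A : Subgroup (MulAut S))
    (hinv : ∀ α ∈ A, ∀ P : Subgroup Ω, E.Hom P ⊆ (twist E α).Hom P) : FusionSystem S where
  Hom P := {φ | ∃ α ∈ A, ∃ φ₀ : P →* Ω, ∃ hφ₀ : φ₀ ∈ E.Hom P,
    ∀ x : P, φ x = ((α ⟨φ₀ x, (E.le_of_mem hφ₀).2 x⟩ : S) : Ω)}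
  le_of_mem := by
    rintro P φ ⟨α, -, φ₀, hφ₀, h⟩
    refine ⟨(E.le_of_mem hφ₀).1, fun x => ?_⟩
    rw [h x]
    exact (α _).2
  injective_of_mem := by
    rintro P φ ⟨α, -, φ₀, hφ₀, h⟩ x y hxy
    rw [h x, h y] at hxy
    have h1 := α.injective (Subtype.ext hxy)
    exact E.injective_of_mem hφ₀ (congrArg Subtype.val h1)
  conj_mem := by
    intro P g hP hg
    exact ⟨1, A.one_mem, conjHom P g, E.conj_mem hP hg, fun x => rfl⟩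
  comp_mem := by
    rintro P Q φ ψ ⟨α, hα, φ₀, hφ₀, h1⟩ ⟨β, hβ, ψ₀, hψ₀, h2⟩ h
    refine ⟨β * α, A.mul_mem hβ hα, ?_⟩
    obtain ⟨hQS, hψ₀S, χ, hχ, h3⟩ := hinv α⁻¹ (A.inv_mem hα) Q hψ₀
    have hφ₀S : ∀ x : P, φ₀ x ∈ S := (E.le_of_mem hφ₀).2
    have hkey : ∀ x : P, ((α⁻¹ ⟨φ x, hQS (h x)⟩ : S) : Ω) = φ₀ x := by
      intro x
      have : (⟨φ x, hQS (h x)⟩ : S) = α ⟨φ₀ x, hφ₀S x⟩ := Subtype.ext (h1 x)
      rw [this]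
      simp
    have hmaps : ∀ x : P, φ₀ x ∈ imgAut α⁻¹ Q := fun x =>
      mem_imgAut.2 ⟨⟨φ x, hQS (h x)⟩, h x, hkey x⟩
    refine ⟨χ.comp (φ₀.codRestrict _ hmaps), E.comp_mem hφ₀ hχ hmaps, fun x => ?_⟩
    have e0 : (⟨φ₀ x, hmaps x⟩ : imgAut α⁻¹ Q) =
        ⟨(α⁻¹ ⟨((⟨φ x, h x⟩ : Q) : Ω), hQS (h x)⟩ : S), apply_mem_imgAut α⁻¹ hQS ⟨φ x, h x⟩⟩ :=
      Subtype.ext (hkey x).symm
    have e1 : (⟨(χ.comp (φ₀.codRestrict _ hmaps)) x,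
        (E.le_of_mem (E.comp_mem hφ₀ hχ hmaps)).2 x⟩ : S) = α⁻¹ ⟨ψ₀ ⟨φ x, h x⟩, hψ₀S _⟩ := by
      apply Subtype.ext
      show χ ⟨φ₀ x, hmaps x⟩ = _
      rw [e0, h3]
    rw [e1]
    show ψ ⟨φ x, h x⟩ = ((β (α (α⁻¹ ⟨ψ₀ ⟨φ x, h x⟩, hψ₀S _⟩)) : S) : Ω)
    rw [MulAut.apply_inv_self]
    exact h2 ⟨φ x, h x⟩
  inv_mem := by
    rintro P φ ⟨α, hα, φ₀, hφ₀, h1⟩
    have hPS : P ≤ S := (E.le_of_mem hφ₀).1
    have hφ₀S : ∀ x : P, φ₀ x ∈ S := (E.le_of_mem hφ₀).2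
    obtain ⟨φ₀', hφ₀', hφ₀inv⟩ := E.inv_mem hφ₀
    obtain ⟨hrS, hφ₀'S, χ, hχ, h3⟩ := hinv α hα φ₀.range hφ₀'
    have hle : φ.range ≤ imgAut α φ₀.range := by
      rintro _ ⟨x, rfl⟩
      rw [h1 x]
      exact apply_mem_imgAut α hrS ⟨φ₀ x, ⟨x, rfl⟩⟩
    have hψ₀ : χ.comp (Subgroup.inclusion hle) ∈ E.Hom φ.range := restrict_mem E hχ hle
    have hψ₀S : ∀ y : φ.range, (χ.comp (Subgroup.inclusion hle)) y ∈ S := (E.le_of_mem hψ₀).2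
    have hval : ∀ x : P, (χ.comp (Subgroup.inclusion hle)) ⟨φ x, ⟨x, rfl⟩⟩ = ((α ⟨x, hPS x.2⟩ : S) : Ω) := by
      intro x
      have e0 : (Subgroup.inclusion hle ⟨φ x, ⟨x, rfl⟩⟩ : imgAut α φ₀.range) =
          ⟨(α ⟨((⟨φ₀ x, ⟨x, rfl⟩⟩ : φ₀.range) : Ω), hrS ⟨x, rfl⟩⟩ : S),
            apply_mem_imgAut α hrS ⟨φ₀ x, ⟨x, rfl⟩⟩⟩ := Subtype.ext (h1 x)
      show χ (Subgroup.inclusion hle ⟨φ x, ⟨x, rfl⟩⟩) = _
      rw [e0, h3]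
      congr 2
      apply Subtype.ext
      exact hφ₀inv x
    refine ⟨(S.subtype.comp (α⁻¹ : MulAut S).toMonoidHom).comp
        ((χ.comp (Subgroup.inclusion hle)).codRestrict S hψ₀S),
      ⟨α⁻¹, A.inv_mem hα, χ.comp (Subgroup.inclusion hle), hψ₀, fun y => rfl⟩, fun x => ?_⟩
    show ((α⁻¹ ⟨(χ.comp (Subgroup.inclusion hle)) ⟨φ x, ⟨x, rfl⟩⟩, hψ₀S _⟩ : S) : Ω) = x
    have e2 : (⟨(χ.comp (Subgroup.inclusion hle)) ⟨φ x, ⟨x, rfl⟩⟩, hψ₀S _⟩ : S) = α ⟨x, hPS x.2⟩ :=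
      Subtype.ext (hval x)
    rw [e2, MulAut.inv_apply_self]

theorem mem_prodSystem_hom {E : FusionSystem S} {A : Subgroup (MulAut S)}
    {hinv : ∀ α ∈ A, ∀ P : Subgroup Ω, E.Hom P ⊆ (twist E α).Hom P} {P : Subgroup Ω} {φ : P →* Ω} :
    φ ∈ (prodSystem E A hinv).Hom P ↔ ∃ α ∈ A, ∃ φ₀ : P →* Ω, ∃ hφ₀ : φ₀ ∈ E.Hom P,
      ∀ x : P, φ x = ((α ⟨φ₀ x, (E.le_of_mem hφ₀).2 x⟩ : S) : Ω) := Iff.rfl

/-- `E ≤ A ∘ E`. -/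
theorem le_prodSystem (E : FusionSystem S) (A : Subgroup (MulAut S))
    (hinv : ∀ α ∈ A, ∀ P : Subgroup Ω, E.Hom P ⊆ (twist E α).Hom P) (P : Subgroup Ω) :
    E.Hom P ⊆ (prodSystem E A hinv).Hom P :=
  fun φ hφ => ⟨1, A.one_mem, φ, hφ, fun _ => rfl⟩

/-- The restriction of `α ∈ A` to `P ≤ S` is a map of `A ∘ E`. -/
theorem res_mem_prodSystem (E : FusionSystem S) (A : Subgroup (MulAut S))
    (hinv : ∀ α ∈ A, ∀ P : Subgroup Ω, E.Hom P ⊆ (twist E α).Hom P) {α : MulAut S} (hα : α ∈ A)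
    {P : Subgroup Ω} (hP : P ≤ S) :
    (S.subtype.comp α.toMonoidHom).comp (Subgroup.inclusion hP) ∈ (prodSystem E A hinv).Hom P :=
  ⟨α, hα, P.subtype, subtype_mem E hP, fun _ => rfl⟩

/-- `A ∘ E ≤ F` when `E ≤ F` and `A ≤ Aut_F(S)`. -/
theorem prodSystem_le (E F : FusionSystem S) (A : Subgroup (MulAut S))
    (hinv : ∀ α ∈ A, ∀ P : Subgroup Ω, E.Hom P ⊆ (twist E α).Hom P)
    (hEF : ∀ P : Subgroup Ω, E.Hom P ⊆ F.Hom P) (hAF : A ≤ F.autGroup S) (P : Subgroup Ω) :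
    (prodSystem E A hinv).Hom P ⊆ F.Hom P := by
  rintro φ ⟨α, hα, φ₀, hφ₀, h⟩
  have hαF : S.subtype.comp (α : S ≃* S).toMonoidHom ∈ F.Hom S := (mem_autGroup_iff F le_rfl).1 (hAF hα)
  exact comp_mem' F (hEF P hφ₀) hαF (E.le_of_mem hφ₀).2 (fun x => h x)

end Cfsg.Agent.Lib.Helper84
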