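/-
helper84: the saturated subsystems of index prime to `p` of a saturated fusion system `F` over `S`
(Broto-Castellana-Grodal-Levi-Oliver). For `O^{p'}_*(F)` the smallest fusion system containing all `O^{p'}(Aut_F(P))`, `P` centric,
`Aut_F^0(S)` the subgroup of `Aut_F(S)` generated by the automorphisms whose restriction to some centric subgroup is a map of
`O^{p'}_*(F)`, and `Aut_F^0(S) ≤ A ≤ Aut_F(S)`, the system `A ∘ O^{p'}_*(F)` is saturated of index prime to `p`;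
`Aut_F^0(S) ∘ O^{p'}_*(F)` is contained in every saturated subsystem of index prime to `p`.
All declarations live in `Cfsg.Agent.Lib.Helper84`.
-/
import Cfsg.Agent.Lib.Helper84.PPrimeInter
import Cfsg.Agent.Lib.Helper84.PPrimeProd
import Cfsg.Agent.Lib.Helper85.FusionRS
import Cfsg.Agent.Lib.Helper85.SylowAux
import Cfsg.Agent.Lib.Helper88.FusionCentricExt
import Cfsg.Agent.S5110
import Cfsg.Agent.S5114

set_option autoImplicit false

namespace Cfsg.Agent.Lib.Helper84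

open Cfsg Cfsg.FusionSystem
open Cfsg.Agent.Lib.Helper87
open Cfsg.Agent.Lib.Helper88.Invariance (resHom)

variable {Ω : Type*} [Group Ω] {S : Subgroup Ω}

/-- `S` is centric in every fusion system over `S`. -/
theorem isCentric_self (F : FusionSystem S) [Finite S] : F.IsCentric S := by
  refine ⟨le_rfl, fun Q hQ => ?_⟩
  have hQS : Q ≤ S := IsConj_le_right hQ
  have hc : Nat.card S = Nat.card Q := IsConj_card_eq hQ
  have : Q = S := Subgroup.eq_of_le_of_card_ge hQS hc.le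
  rw [this]
  exact inf_le_left

/-- Full automization passes to subsystems. -/
theorem isFullyAutomized_of_le (E F : FusionSystem S) [Finite S] {p : ℕ} [Fact p.Prime]
    (hEF : ∀ P : Subgroup Ω, E.Hom P ⊆ F.Hom P) {Q : Subgroup Ω} (hQ : F.IsFullyAutomized p Q) :
    E.IsFullyAutomized p Q := by
  obtain ⟨hQS, hR⟩ := hQ
  have hfinQ : Finite Q := finite_of_le hQS
  refine ⟨hQS, ?_⟩
  have hSF : autInducedBy S Q ≤ F.autGroup Q := autInducedBy_le_autGroup F hQS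
  have hSE : autInducedBy S Q ≤ E.autGroup Q := autInducedBy_le_autGroup E hQS
  have hEF' : E.autGroup Q ≤ F.autGroup Q := Subgroup.closure_mono (fun α hα => hEF Q hα)
  obtain ⟨hp, hmax⟩ := (Cfsg.Agent.Lib.Helper85.sylow_subgroupOf_iff hSF).1 hR
  exact (Cfsg.Agent.Lib.Helper85.sylow_subgroupOf_iff hSE).2 ⟨hp, fun T hT hTp => hmax T (hT.trans hEF') hTp⟩

/-- If `φ = α ∘ φ₀` with `α ∈ Aut_F(S)` and `φ(P)` is fully normalized, then `φ₀(P)` is fully normalized. -/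
theorem isFullyNormalized_range_of_factor (F : FusionSystem S) [Finite S] {P : Subgroup Ω} {φ φ₀ : P →* Ω}
    (hφ : φ ∈ F.Hom P) (hφ₀ : φ₀ ∈ F.Hom P) {α : MulAut S} (hα : α ∈ F.autGroup S)
    (h : ∀ x : P, φ x = ((α ⟨φ₀ x, (F.le_of_mem hφ₀).2 x⟩ : S) : Ω))
    (hfn : F.IsFullyNormalized φ.range) : F.IsFullyNormalized φ₀.range := by
  have hQS : φ₀.range ≤ S := hom_range_le F hφ₀
  have hP'S : φ.range ≤ S := hom_range_le F hφ
  refine ⟨hQS, fun Q' hQ' => ?_⟩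
  have hconj : F.IsConj φ.range Q' :=
    IsConj_trans (IsConj_trans (IsConj_symm ⟨φ, hφ, rfl⟩) ⟨φ₀, hφ₀, rfl⟩) hQ'
  refine (hfn.2 Q' hconj).trans ?_
  have hNS : normalizerIn S φ.range ≤ S := normalizerIn_le S φ.range
  let ψ : normalizerIn S φ.range →* Ω := resHom α⁻¹ (normalizerIn S φ.range) hNS
  have hψ : ψ ∈ F.Hom (normalizerIn S φ.range) :=
    restrict_mem F ((mem_autGroup_iff F le_rfl).1 (Subgroup.inv_mem _ hα)) hNS
  let eφ : P ≃* φ.range := MonoidHom.ofInjective (F.injective_of_mem hφ)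
  let eφ₀ : P ≃* φ₀.range := MonoidHom.ofInjective (F.injective_of_mem hφ₀)
  let e : φ.range ≃* φ₀.range := eφ.symm.trans eφ₀
  have hψe : ∀ (x : Ω) (hx : x ∈ φ.range) (hx' : x ∈ normalizerIn S φ.range), ψ ⟨x, hx'⟩ = e ⟨x, hx⟩ := by
    rintro _ ⟨x, rfl⟩ hx'
    have h1 : eφ.symm ⟨φ x, ⟨x, rfl⟩⟩ = x := eφ.symm_apply_apply x
    have h2 : (e ⟨φ x, ⟨x, rfl⟩⟩ : Ω) = φ₀ x := by
      show ((eφ₀ (eφ.symm ⟨φ x, ⟨x, rfl⟩⟩) : φ₀.range) : Ω) = φ₀ x
      rw [h1]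
      rfl
    rw [h2]
    show ((α⁻¹ ⟨φ x, hNS hx'⟩ : S) : Ω) = φ₀ x
    have h3 : (⟨φ x, hNS hx'⟩ : S) = α ⟨φ₀ x, (F.le_of_mem hφ₀).2 x⟩ := Subtype.ext (h x)
    rw [h3, MulAut.inv_apply_self]
  have hfin : Finite (normalizerIn S φ₀.range) := finite_of_le (normalizerIn_le S φ₀.range)
  let f : normalizerIn S φ.range → normalizerIn S φ₀.range := fun g =>
    ⟨ψ g, map_mem_normalizerIn F hP'S hψ e hψe g⟩
  have hf : Function.Injective f := by
    intro a b hab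
    have h1 : ψ a = ψ b := congrArg (fun z : normalizerIn S φ₀.range => (z : Ω)) hab
    exact F.injective_of_mem hψ h1
  exact Nat.card_le_card_of_injective f hf

/-! ### `Aut_F^0(S)` and the systems `A ∘ O^{p'}_*(F)` -/

/-- The generators of `Aut_F^0(S)`: the elements of `Aut_F(S)` whose restriction to some `F`-centric subgroup is a map of
`O^{p'}_*(F)`. -/
def aut0Gens (F : FusionSystem S) (p : ℕ) : Set (MulAut S) :=
  {α | α ∈ F.autGroup S ∧ ∃ (P : Subgroup Ω) (hP : F.IsCentric P), resHom α P hP.1 ∈ (opPrimeStar F p).Hom P}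

/-- `Aut_F^0(S)`. -/
def aut0 (F : FusionSystem S) (p : ℕ) : Subgroup (MulAut S) := Subgroup.closure (aut0Gens F p)

theorem aut0_le (F : FusionSystem S) (p : ℕ) : aut0 F p ≤ F.autGroup S :=
  (Subgroup.closure_le _).2 (fun _ h => h.1)

/-- `A ∘ O^{p'}_*(F)`, for `A ≤ Aut_F(S)`. -/
def opPrimeSys (F : FusionSystem S) (p : ℕ) (A : Subgroup (MulAut S)) (hAF : A ≤ F.autGroup S) : FusionSystem S :=
  prodSystem (opPrimeStar F p) A (fun _ hα P => opPrimeStar_twist F p (hAF hα) P)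

theorem opPrimeSys_le (F : FusionSystem S) (p : ℕ) (A : Subgroup (MulAut S)) (hAF : A ≤ F.autGroup S)
    (P : Subgroup Ω) : (opPrimeSys F p A hAF).Hom P ⊆ F.Hom P :=
  prodSystem_le _ F A _ (opPrimeStar_le F p) hAF P

theorem opPrimeStar_le_opPrimeSys (F : FusionSystem S) (p : ℕ) (A : Subgroup (MulAut S)) (hAF : A ≤ F.autGroup S)
    (P : Subgroup Ω) : (opPrimeStar F p).Hom P ⊆ (opPrimeSys F p A hAF).Hom P :=
  le_prodSystem _ A _ P

theorem containsPGens_opPrimeSys (F : FusionSystem S) (p : ℕ) (A : Subgroup (MulAut S)) (hAF : A ≤ F.autGroup S) :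
    ContainsPGens F p (opPrimeSys F p A hAF) :=
  containsPGens_of_le F p (containsPGens_opPrimeStar F p) (fun P _ => opPrimeStar_le_opPrimeSys F p A hAF P)

/-- `A ∘ O^{p'}_*(F)` has index prime to `p` in `F`. -/
theorem opPrimeSys_hasPrimeToPIndexIn [Finite S] {p : ℕ} [Fact p.Prime] (hS : IsPGroup p S) (F : FusionSystem S)
    (hF : F.IsSaturated p) (A : Subgroup (MulAut S)) (hAF : A ≤ F.autGroup S) :
    (opPrimeSys F p A hAF).HasPrimeToPIndexIn F p :=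
  (Cfsg.Agent.S5114.result p hS F hF (opPrimeSys F p A hAF) (opPrimeSys_le F p A hAF)
    (containsPGens_opPrimeSys F p A hAF)).1

/-- **Key lemma.** If the restriction of `α ∈ Aut_F(S)` to a centric subgroup is a map of `A ∘ O^{p'}_*(F)`, where
`Aut_F^0(S) ≤ A`, then `α ∈ A`. -/
theorem mem_of_res_mem_opPrimeSys (F : FusionSystem S) (p : ℕ) (A : Subgroup (MulAut S)) (hAF : A ≤ F.autGroup S)
    (hA0 : aut0 F p ≤ A) {α : MulAut S} (hα : α ∈ F.autGroup S) {P : Subgroup Ω} (hP : F.IsCentric P)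
    (h : resHom α P hP.1 ∈ (opPrimeSys F p A hAF).Hom P) : α ∈ A := by
  obtain ⟨β, hβ, φ₀, hφ₀, hfac⟩ := h
  have hgen : β⁻¹ * α ∈ aut0Gens F p := by
    refine ⟨Subgroup.mul_mem _ (Subgroup.inv_mem _ (hAF hβ)) hα, P, hP, ?_⟩
    refine hom_of_eq_on _ rfl hφ₀ (fun x hx _ => ?_)
    show (((β⁻¹ * α) ⟨x, hP.1 hx⟩ : S) : Ω) = φ₀ ⟨x, hx⟩
    have h1 : α ⟨x, hP.1 hx⟩ = β ⟨φ₀ ⟨x, hx⟩, ((opPrimeStar F p).le_of_mem hφ₀).2 ⟨x, hx⟩⟩ :=
      Subtype.ext (hfac ⟨x, hx⟩)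
    rw [MulAut.mul_apply, h1, MulAut.inv_apply_self]
  have h1 : β⁻¹ * α ∈ A := hA0 (Subgroup.subset_closure hgen)
  have h2 : α = β * (β⁻¹ * α) := by group
  rw [h2]
  exact A.mul_mem hβ h1

/-- **Saturation** of `A ∘ O^{p'}_*(F)` for `Aut_F^0(S) ≤ A ≤ Aut_F(S)`. -/
theorem opPrimeSys_isSaturated [Finite S] {p : ℕ} [Fact p.Prime] (hS : IsPGroup p S) (F : FusionSystem S)
    (hF : F.IsSaturated p) (A : Subgroup (MulAut S)) (hAF : A ≤ F.autGroup S) (hA0 : aut0 F p ≤ A) :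
    (opPrimeSys F p A hAF).IsSaturated p := by
  have hE₀F : ∀ P : Subgroup Ω, (opPrimeStar F p).Hom P ⊆ F.Hom P := opPrimeStar_le F p
  have hEF : ∀ P : Subgroup Ω, (opPrimeSys F p A hAF).Hom P ⊆ F.Hom P := opPrimeSys_le F p A hAF
  have hE₀E : ∀ P : Subgroup Ω, (opPrimeStar F p).Hom P ⊆ (opPrimeSys F p A hAF).Hom P :=
    opPrimeStar_le_opPrimeSys F p A hAF
  obtain ⟨-, hfr, -⟩ := Cfsg.Agent.S5114.result p hS F hF (opPrimeStar F p) hE₀F (containsPGens_opPrimeStar F p)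
  obtain ⟨-, -, hcen⟩ := Cfsg.Agent.S5114.result p hS F hF (opPrimeSys F p A hAF) hEF
    (containsPGens_opPrimeSys F p A hAF)
  apply Cfsg.Agent.S5110.result p hS (opPrimeSys F p A hAF) {P | F.IsCentric P}
  · exact fun P hP => hP.1
  · rintro P hP Q ⟨φ, hφ, hr⟩
    exact Cfsg.Agent.Lib.Helper88.isCentric_of_isConj F hP ⟨φ, hEF P hφ, hr⟩
  · -- saturation on centric subgroups
    intro P hP
    have hP : F.IsCentric P := hP
    have hPS := hP.1
    obtain ⟨P', ⟨φ, hφ, rfl⟩, hP'fn⟩ := Cfsg.Agent.Lib.Helper85.exists_fullyNormalized_conj F hPS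
    obtain ⟨α, hα, φ₀, hφ₀, hfac⟩ := hfr P φ hφ
    have hφ₀F := hE₀F P hφ₀
    have hQfn : F.IsFullyNormalized φ₀.range :=
      isFullyNormalized_range_of_factor F hφ hφ₀F hα (fun x => hfac x _) hP'fn
    obtain ⟨hQa, hQr⟩ := fullyAutomized_receptive_of_fullyNormalized F hS hF hQfn
    have hQc : F.IsCentric φ₀.range := Cfsg.Agent.Lib.Helper88.isCentric_of_isConj F hP ⟨φ₀, hφ₀F, rfl⟩
    refine ⟨φ₀.range, ⟨φ₀, hE₀E P hφ₀, rfl⟩, isFullyAutomized_of_le _ F hEF hQa, hQa.1, ?_⟩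
    intro R ρ hρ hρr
    obtain ⟨ψ, hψ, hψe⟩ := hQr.2 R ρ (hEF R hρ) hρr
    refine ⟨ψ, ?_, hψe⟩
    obtain ⟨γ, hγ, ψ₀, hψ₀, hψfac⟩ := hfr _ ψ hψ
    obtain ⟨β, hβ, ρ₀, hρ₀, hρfac⟩ := hρ
    have hρF : ρ ∈ F.Hom R := hEF R ⟨β, hβ, ρ₀, hρ₀, hρfac⟩
    have hRN : R ≤ extender S R ρ := Cfsg.Agent.Lib.Helper88.Core.le_extender_of_mem F hρF
    have hψ₀R : ψ₀.comp (Subgroup.inclusion hRN) ∈ (opPrimeStar F p).Hom R :=
      restrict_mem (opPrimeStar F p) hψ₀ hRN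
    have hR'c : F.IsCentric (ψ₀.comp (Subgroup.inclusion hRN)).range :=
      Cfsg.Agent.Lib.Helper88.isCentric_of_isConj F hQc
        (IsConj_trans (IsConj_symm ⟨ρ, hρF, hρr⟩) ⟨_, hE₀F R hψ₀R, rfl⟩)
    obtain ⟨ι, hι, hιinv⟩ := (opPrimeStar F p).inv_mem hψ₀R
    have hιR : ∀ y : (ψ₀.comp (Subgroup.inclusion hRN)).range, ι y ∈ R := by
      rintro ⟨_, x, rfl⟩
      rw [hιinv]
      exact x.2
    have hcomp : ρ₀.comp (ι.codRestrict R hιR) ∈
        (opPrimeStar F p).Hom (ψ₀.comp (Subgroup.inclusion hRN)).range :=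
      (opPrimeStar F p).comp_mem hι hρ₀ hιR
    have hψ₀S : ∀ x, ψ₀ x ∈ S := ((opPrimeStar F p).le_of_mem hψ₀).2
    have hρ₀S : ∀ x, ρ₀ x ∈ S := ((opPrimeStar F p).le_of_mem hρ₀).2
    have hgen : β⁻¹ * γ ∈ aut0Gens F p := by
      refine ⟨Subgroup.mul_mem _ (Subgroup.inv_mem _ (hAF hβ)) hγ, _, hR'c, ?_⟩
      refine hom_of_eq_on _ rfl hcomp ?_
      rintro _ ⟨x, rfl⟩ hx'
      show (((β⁻¹ * γ) ⟨ψ₀ (Subgroup.inclusion hRN x), _⟩ : S) : Ω) =
        ρ₀ ⟨ι ⟨(ψ₀.comp (Subgroup.inclusion hRN)) x, ⟨x, rfl⟩⟩, _⟩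
      have h1 : (⟨ι ⟨(ψ₀.comp (Subgroup.inclusion hRN)) x, ⟨x, rfl⟩⟩, hιR _⟩ : R) = x :=
        Subtype.ext (hιinv x)
      rw [h1]
      have h2 : ψ (Subgroup.inclusion hRN x) = ρ x := hψe x.1 x.2 (hRN x.2)
      have h3 : γ ⟨ψ₀ (Subgroup.inclusion hRN x), hψ₀S _⟩ = β ⟨ρ₀ x, hρ₀S x⟩ := by
        apply Subtype.ext
        rw [← hψfac (Subgroup.inclusion hRN x) (hψ₀S _), h2, hρfac x]
      rw [MulAut.mul_apply, h3, MulAut.inv_apply_self]
    have hγA : γ ∈ A := by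
      have h1 : β⁻¹ * γ ∈ A := hA0 (Subgroup.subset_closure hgen)
      have h2 : γ = β * (β⁻¹ * γ) := by group
      rw [h2]
      exact A.mul_mem hβ h1
    exact ⟨γ, hγA, ψ₀, hψ₀, fun x => hψfac x _⟩
  · -- generation by the maps between centric subgroups
    intro E' hE'
    have h1 : ContainsPGens F p E' :=
      containsPGens_of_le F p (containsPGens_opPrimeSys F p A hAF) (fun P hP => hE' P hP)
    have h2 : ∀ P : Subgroup Ω, (opPrimeStar F p).Hom P ⊆ E'.Hom P := opPrimeStar_le_of F p h1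
    intro P φ hφ
    obtain ⟨α, hα, φ₀, hφ₀, hfac⟩ := hφ
    have hαE : S.subtype.comp (α : S ≃* S).toMonoidHom ∈ (opPrimeSys F p A hAF).Hom S :=
      ⟨α, hα, S.subtype, subtype_mem _ le_rfl, fun _ => rfl⟩
    have hαE' := hE' S (isCentric_self F) hαE
    exact comp_mem' E' (h2 P hφ₀) hαE' ((opPrimeStar F p).le_of_mem hφ₀).2 (fun x => hfac x)
  · intro P hP hPn
    exact absurd ((hcen P).1 hP) hPn

/-- **Minimality.** `Aut_F^0(S) ∘ O^{p'}_*(F)` is contained in every saturated subsystem of `F` of index prime to `p`. -/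
theorem opPrimeSys_aut0_le [Finite S] {p : ℕ} [Fact p.Prime] (hS : IsPGroup p S) (F : FusionSystem S)
    (hF : F.IsSaturated p) (D : FusionSystem S) (hD : D.IsSaturated p) (hDF : D.HasPrimeToPIndexIn F p)
    (P : Subgroup Ω) : (opPrimeSys F p (aut0 F p) (aut0_le F p)).Hom P ⊆ D.Hom P := by
  have h1 : ContainsPGens F p D := fun P hP => hDF.2 P hP.1
  have h2 : ∀ P : Subgroup Ω, (opPrimeStar F p).Hom P ⊆ D.Hom P := opPrimeStar_le_of F p h1
  have h3 : aut0 F p ≤ D.autGroup S := by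
    refine (Subgroup.closure_le _).2 ?_
    rintro α ⟨hα, Q, hQ, hres⟩
    show α ∈ D.autGroup S
    rw [mem_autGroup_iff D le_rfl]
    exact Cfsg.Agent.Lib.Helper88.mem_of_restrict_centric_mem F D hS hF hD hDF.1 hQ.1 hQ
      ((mem_autGroup_iff F le_rfl).1 hα) (h2 Q hres)
  rintro φ ⟨α, hα, φ₀, hφ₀, hfac⟩
  exact comp_mem' D (h2 P hφ₀) ((mem_autGroup_iff D le_rfl).1 (h3 hα)) ((opPrimeStar F p).le_of_mem hφ₀).2
    (fun x => hfac x)

/-- **Existence of `O^{p'}(F)`.** -/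
theorem exists_isPPrimeResidual [Finite S] {p : ℕ} [Fact p.Prime] (hS : IsPGroup p S) (F : FusionSystem S)
    (hF : F.IsSaturated p) : F.IsPPrimeResidual p (opPrimeSys F p (aut0 F p) (aut0_le F p)) :=
  ⟨opPrimeSys_isSaturated hS F hF _ _ le_rfl, opPrimeSys_hasPrimeToPIndexIn hS F hF _ _,
    fun D hD hDF P => opPrimeSys_aut0_le hS F hF D hD hDF P⟩

end Cfsg.Agent.Lib.Helper84
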