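/-
helper84: for `E` and `D'` saturated over `T` and invariant in a fusion system `F` over `S ≥ T`: the `p'`-residual subsystem
`O^{p'}(E)` is contained in `D'` (so `O^{p'}(E)` lies in every weakly normal subsystem of `F` over `T`).
All declarations live in `Cfsg.Agent.Lib.Helper84`.
-/
import Cfsg.Agent.Lib.Helper84.NormalPPrimeKey0
import Cfsg.Agent.Lib.Helper84.PPrimeSat
import Cfsg.Agent.Lib.Helper84.FusionFrattiniSys

set_option autoImplicit false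

namespace Cfsg.Agent.Lib.Helper84

open Cfsg Cfsg.FusionSystem
open Cfsg.Agent.Lib.Helper87
open Cfsg.Agent.Lib.Helper88.Invariance (resHom InvClause)

variable {Ω : Type*} [Group Ω]

/-- In a finite group, if the index of the normal subgroup `N` is prime to `p` and `a ^ p ^ k ∈ N` then `a ∈ N`. -/
theorem mem_of_pow_mem_of_not_dvd_index {G : Type*} [Group G] [Finite G] {p : ℕ} [Fact p.Prime] (N : Subgroup G)
    [N.Normal] (hidx : ¬ p ∣ N.index) {a : G} {k : ℕ} (ha : a ^ (p ^ k) ∈ N) : a ∈ N := by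
  have h1 : (QuotientGroup.mk a : G ⧸ N) ^ (p ^ k) = 1 := by
    rw [← QuotientGroup.mk_pow]
    exact (QuotientGroup.eq_one_iff _).2 ha
  have h2 : (QuotientGroup.mk a : G ⧸ N) ^ (Nat.card (G ⧸ N)) = 1 := pow_card_eq_one'
  have h3 := pow_gcd_eq_one.2 ⟨h1, h2⟩
  have hcop : Nat.Coprime p N.index := (Nat.Prime.coprime_iff_not_dvd Fact.out).2 hidx
  have h4 : Nat.gcd (p ^ k) (Nat.card (G ⧸ N)) = 1 := Nat.Coprime.pow_left k hcop
  rw [h4, pow_one] at h3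
  exact (QuotientGroup.eq_one_iff _).1 h3

/-- The Sylow group of a saturated fusion system is fully automized. -/
theorem isFullyAutomized_self {T : Subgroup Ω} [Finite T] {p : ℕ} (E : FusionSystem T) (hE : E.IsSaturated p) :
    E.IsFullyAutomized p T := by
  obtain ⟨Q, hTQ, hQa, -⟩ := hE T le_rfl
  have hQT : Q ≤ T := IsConj_le_right hTQ
  have hc : Nat.card T = Nat.card Q := IsConj_card_eq hTQ
  have hQ : Q = T := Subgroup.eq_of_le_of_card_ge hQT hc.le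
  rw [hQ] at hQa
  exact hQa

/-- the image of `T` under an automorphism of `T` is `T` -/
theorem imgAut_self {T : Subgroup Ω} (β : MulAut T) : imgAut β T = T := by
  ext y
  rw [mem_imgAut]
  constructor
  · rintro ⟨t, -, rfl⟩
    exact (β t).2
  · intro hy
    exact ⟨β⁻¹ ⟨y, hy⟩, (β⁻¹ ⟨y, hy⟩).2, by simp⟩

/-- For `D` stable under `Aut_F(T)`, the group `Aut_D(T)` is normalized by `Aut_F(T)`. -/
theorem autGroup_conj_mem_of_invClause {S T : Subgroup Ω} (D : FusionSystem T) (F : FusionSystem S)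
    (hI : InvClause D F) : ∀ β ∈ F.autGroup T, ∀ a ∈ D.autGroup T, β * a * β⁻¹ ∈ D.autGroup T := by
  intro β hβ a ha
  have haD : T.subtype.comp (a : T ≃* T).toMonoidHom ∈ D.Hom T := (mem_autGroup_iff D le_rfl).1 ha
  obtain ⟨hTT, hφT, χ, hχ, hχe⟩ := twist_of_invClause D F hI hβ T haD
  rw [mem_autGroup_iff D le_rfl]
  refine hom_of_eq_on D (imgAut_self β) hχ (fun x hx hx' => ?_)
  have h1 := hχe (β⁻¹ ⟨x, hx'⟩)
  have h2 : (⟨((β ⟨((β⁻¹ ⟨x, hx'⟩ : T) : Ω), hTT (β⁻¹ ⟨x, hx'⟩).2⟩ : T) : Ω),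
      apply_mem_imgAut β hTT (β⁻¹ ⟨x, hx'⟩)⟩ : imgAut β T) = ⟨x, hx⟩ := by
    apply Subtype.ext
    show ((β (β⁻¹ ⟨x, hx'⟩) : T) : Ω) = x
    rw [MulAut.apply_inv_self]
  rw [h2] at h1
  rw [h1]
  rfl

/-- **Lemma C.** The image of an `E`-centric subgroup under a map of `F` contains its centralizer in `T` (Frattini condition). -/
theorem centralizerIn_range_le_of_isCentric {S T : Subgroup Ω} (F : FusionSystem S) (E : FusionSystem T)
    (hfr : ∀ (P : Subgroup Ω), P ≤ T → ∀ (φ : P →* Ω), φ ∈ F.Hom P →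
      ∃ α ∈ F.autGroup T, ∃ φ₀ ∈ E.Hom P, ∀ (x : P) (hx : φ₀ x ∈ T), φ x = ((α ⟨φ₀ x, hx⟩ : T) : Ω))
    {P : Subgroup Ω} (hP : E.IsCentric P) {φ : P →* Ω} (hφ : φ ∈ F.Hom P) :
    centralizerIn T φ.range ≤ φ.range := by
  obtain ⟨a, -, ε, hε, hfac⟩ := hfr P hP.1 φ hφ
  have hεT : ∀ x : P, ε x ∈ T := (E.le_of_mem hε).2
  have hW : centralizerIn T ε.range ≤ ε.range := hP.2 _ ⟨ε, hε, rfl⟩
  intro c hc
  have hc' : ((a⁻¹ ⟨c, hc.1⟩ : T) : Ω) ∈ centralizerIn T ε.range := by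
    refine ⟨(a⁻¹ ⟨c, hc.1⟩ : T).2, ?_⟩
    show _ ∈ Subgroup.centralizer ((ε.range : Subgroup Ω) : Set Ω)
    rw [Subgroup.mem_centralizer_iff]
    rintro _ ⟨x, rfl⟩
    have h1 : φ x * c = c * φ x := (Subgroup.mem_centralizer_iff.1 hc.2) _ ⟨x, rfl⟩
    have h2 : a (⟨ε x, hεT x⟩ * a⁻¹ ⟨c, hc.1⟩) = a (a⁻¹ ⟨c, hc.1⟩ * ⟨ε x, hεT x⟩) := by
      rw [map_mul, map_mul, MulAut.apply_inv_self]
      apply Subtype.ext
      show ((a ⟨ε x, hεT x⟩ : T) : Ω) * c = c * ((a ⟨ε x, hεT x⟩ : T) : Ω)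
      rw [← hfac x (hεT x)]
      exact h1
    exact congrArg Subtype.val (a.injective h2)
  obtain ⟨x₀, hx₀⟩ := hW hc'
  refine ⟨x₀, ?_⟩
  rw [hfac x₀ (hεT x₀)]
  have h3 : (⟨ε x₀, hεT x₀⟩ : T) = a⁻¹ ⟨c, hc.1⟩ := Subtype.ext hx₀
  rw [h3, MulAut.apply_inv_self]

/-- an `E`-centric subgroup is centric in every subsystem of `F` over `T` -/
theorem isCentric_of_isCentric_of_frattini {S T : Subgroup Ω} (F : FusionSystem S) (E D : FusionSystem T)
    (hfr : ∀ (P : Subgroup Ω), P ≤ T → ∀ (φ : P →* Ω), φ ∈ F.Hom P →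
      ∃ α ∈ F.autGroup T, ∃ φ₀ ∈ E.Hom P, ∀ (x : P) (hx : φ₀ x ∈ T), φ x = ((α ⟨φ₀ x, hx⟩ : T) : Ω))
    (hDF : D.IsSubsystemOf F) {P : Subgroup Ω} (hP : E.IsCentric P) : D.IsCentric P := by
  refine ⟨hP.1, ?_⟩
  rintro Q ⟨φ, hφ, rfl⟩
  exact centralizerIn_range_le_of_isCentric F E hfr hP (hDF P hφ)

/-- **(L1)** A `p`-element of `Aut_E(V)`, `E` saturated over `T` and contained in `F`, is a map of every subsystem `D` over `T`
invariant in `F`. -/
theorem pElement_mem_of_invariant {S T : Subgroup Ω} [Finite S] {p : ℕ} [Fact p.Prime] (F : FusionSystem S)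
    (E : FusionSystem T) (hE : E.IsSaturated p) (hEF : E.IsSubsystemOf F) (D : FusionSystem T)
    (hD : D.IsInvariantIn F) {V : Subgroup Ω} (hVT : V ≤ T) {δ : MulAut V} (hδ : δ ∈ E.autGroup V) {k : ℕ}
    (hk : δ ^ (p ^ k) = 1) : V.subtype.comp (δ : V ≃* V).toMonoidHom ∈ D.Hom V := by
  have hT : F.StronglyClosed T := hD.2.1
  have hTS : T ≤ S := hT.1
  have hfinT : Finite T := finite_of_le hTS
  have hfinV : Finite V := finite_of_le (hVT.trans hTS)
  obtain ⟨Q, hVQ, hQa, -⟩ := hE V hVT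
  obtain ⟨e₀, he₀⟩ := (isConj_iff E).1 hVQ
  have hQT : Q ≤ T := he₀.le_right
  have hfinQ : Finite Q := finite_of_le (hQT.trans hTS)
  have hfinA : Finite (E.autGroup Q) := inferInstance
  have hδ' : MulAut.congr e₀ δ ∈ E.autGroup Q := congr_mem_autGroup E he₀ hδ
  obtain ⟨-, Rsyl, hRsyl⟩ := hQa
  have hpow : (⟨_, hδ'⟩ : E.autGroup Q) ^ (p ^ k) = 1 := by
    apply Subtype.ext
    show (MulAut.congr e₀ δ) ^ (p ^ k) = 1
    rw [← map_pow, hk, map_one]
  have hH : IsPGroup p (Subgroup.zpowers (⟨_, hδ'⟩ : E.autGroup Q)) :=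
    Cfsg.Agent.Lib.Helper85.isPGroup_zpowers_of_pow_eq_one hpow
  obtain ⟨c, hc⟩ := exists_conj_mem_sylow Rsyl hH
  have h1 := hc _ (Subgroup.mem_zpowers _)
  have h1' : c * (⟨_, hδ'⟩ : E.autGroup Q) * c⁻¹ ∈ (Rsyl : Subgroup (E.autGroup Q)) := h1
  rw [hRsyl, Subgroup.mem_subgroupOf] at h1'
  obtain ⟨s, hs, hse⟩ := mem_autInducedBy_iff.1 h1'
  have hcE : IsIso E ((c : MulAut Q) : Q ≃* Q) := (mem_autGroup_iff E hQT).1 c.2
  have hψ : IsIso F (e₀.trans ((c : MulAut Q) : Q ≃* Q)) := hEF V (he₀.trans hcE)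
  obtain ⟨b, hb, ψ₀, hψ₀, hψe⟩ := hD.2.2.2 V hVT _ hψ
  have hψ₀T : ∀ x : V, ψ₀ x ∈ T := (D.le_of_mem hψ₀).2
  have h2 : ∀ x : V, (((c : MulAut Q) (e₀ (δ x)) : Q) : Ω) =
      s * (((c : MulAut Q) (e₀ x) : Q) : Ω) * s⁻¹ := by
    intro x
    rw [← hse]
    show _ = ((((c : MulAut Q) * MulAut.congr e₀ δ * (c : MulAut Q)⁻¹) ((c : MulAut Q) (e₀ x)) : Q) : Ω)
    rw [MulAut.mul_apply, MulAut.mul_apply, MulAut.inv_apply_self]
    show _ = (((c : MulAut Q) (e₀ (δ (e₀.symm (e₀ x)))) : Q) : Ω)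
    rw [MulEquiv.symm_apply_apply]
  have h3 : ∀ x : V, ψ₀ (δ x) =
      ((b⁻¹ ⟨s, hs⟩ : T) : Ω) * ψ₀ x * ((b⁻¹ ⟨s, hs⟩ : T) : Ω)⁻¹ := by
    intro x
    have e1 := hψe (δ x) (hψ₀T _)
    have e2 := hψe x (hψ₀T _)
    have e3 : ((b ⟨ψ₀ (δ x), hψ₀T _⟩ : T) : Ω) = s * ((b ⟨ψ₀ x, hψ₀T _⟩ : T) : Ω) * s⁻¹ := by
      rw [← e1, ← e2]
      exact h2 x
    have e4 : b ⟨ψ₀ (δ x), hψ₀T _⟩ = ⟨s, hs⟩ * b ⟨ψ₀ x, hψ₀T _⟩ * ⟨s, hs⟩⁻¹ := Subtype.ext e3
    have e5 := congrArg (DFunLike.coe (b⁻¹ : MulAut T)) e4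
    rw [MulAut.inv_apply_self, map_mul, map_mul, map_inv, MulAut.inv_apply_self] at e5
    exact congrArg (fun z : T => (z : Ω)) e5
  have he₁ : IsIso D (MonoidHom.ofInjective (D.injective_of_mem hψ₀)) := isIso_ofInjective D hψ₀
  have hrT : ψ₀.range ≤ T := hom_range_le D hψ₀
  have hθ₁ : (conjHom ψ₀.range ((b⁻¹ ⟨s, hs⟩ : T) : Ω)).comp
      (MonoidHom.ofInjective (D.injective_of_mem hψ₀)).toMonoidHom ∈ D.Hom V :=
    comp_mem' D he₁ (D.conj_mem hrT (b⁻¹ ⟨s, hs⟩ : T).2)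
      (fun x => ((MonoidHom.ofInjective (D.injective_of_mem hψ₀)) x).2) (fun x => rfl)
  have hval : ∀ x : V, ((conjHom ψ₀.range ((b⁻¹ ⟨s, hs⟩ : T) : Ω)).comp
      (MonoidHom.ofInjective (D.injective_of_mem hψ₀)).toMonoidHom) x ∈ ψ₀.range := by
    intro x
    refine ⟨δ x, ?_⟩
    rw [h3 x]
    rfl
  refine comp_mem' D hθ₁ he₁.symm hval (fun x => ?_)
  show ((δ x : V) : Ω) = _
  have : (⟨_, hval x⟩ : ψ₀.range) = (MonoidHom.ofInjective (D.injective_of_mem hψ₀)) (δ x) := by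
    apply Subtype.ext
    show ((b⁻¹ ⟨s, hs⟩ : T) : Ω) * ψ₀ x * ((b⁻¹ ⟨s, hs⟩ : T) : Ω)⁻¹ = ψ₀ (δ x)
    exact (h3 x).symm
  rw [this]
  simp

/-- `O^{p'}_*(E)` is contained in every subsystem over `T` invariant in `F`. -/
theorem opPrimeStar_le_of_invariant {S T : Subgroup Ω} [Finite S] {p : ℕ} [Fact p.Prime] (F : FusionSystem S)
    (E : FusionSystem T) (hE : E.IsSaturated p) (hEF : E.IsSubsystemOf F) (D : FusionSystem T)
    (hD : D.IsInvariantIn F) (P : Subgroup Ω) : (opPrimeStar E p).Hom P ⊆ D.Hom P := by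
  apply opPrimeStar_le_of E p
  intro V hV
  have hVT := hV.1
  rw [Subgroup.map_le_iff_le_comap, Subgroup.closure_le]
  rintro α ⟨k, hk⟩
  show (α : MulAut V) ∈ D.autGroup V
  rw [mem_autGroup_iff D hVT]
  have hpow : (α : MulAut V) ^ (p ^ k) = 1 := by
    rw [← Subgroup.coe_pow, ← hk, pow_orderOf_eq_one]
    rfl
  exact pElement_mem_of_invariant F E hE hEF D hD hVT α.2 hpow

section Least

variable {S T : Subgroup Ω} {p : ℕ}

/-- `Aut_E(T) ≤ Aut_F(T)` for a subsystem. -/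
theorem autGroup_le_of_subsystem {F : FusionSystem S} (E : FusionSystem T) (hEF : E.IsSubsystemOf F) (hTS : T ≤ S) :
    E.autGroup T ≤ F.autGroup T := by
  intro α hα
  exact (mem_autGroup_iff F hTS).2 (hEF T ((mem_autGroup_iff E le_rfl).1 hα))

/-- the (not necessarily saturated) fusion system `Aut_E(T) ∘ D` over `T` -/
def autProd (F : FusionSystem S) (E D : FusionSystem T) (hEF : E.IsSubsystemOf F) (hD : D.IsInvariantIn F) :
    FusionSystem T :=
  prodSystem D (E.autGroup T)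
    (fun _ hα P => twist_of_invClause D F hD.2.2.1 (autGroup_le_of_subsystem E hEF hD.2.1.1 hα) P)

theorem autProd_le (F : FusionSystem S) (E D : FusionSystem T) (hEF : E.IsSubsystemOf F) (hD : D.IsInvariantIn F)
    (P : Subgroup Ω) : (autProd F E D hEF hD).Hom P ⊆ F.Hom P := by
  rintro φ ⟨a, ha, φ₀, hφ₀, hfac⟩
  have haF : T.subtype.comp (a : T ≃* T).toMonoidHom ∈ F.Hom T :=
    hEF T ((mem_autGroup_iff E le_rfl).1 ha)
  exact comp_mem' F (hD.1 P hφ₀) haF (D.le_of_mem hφ₀).2 (fun x => hfac x)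

/-- an automorphism of `T` in `Aut_E(T) ∘ D` is a product of an element of `Aut_E(T)` and one of `Aut_D(T)` -/
theorem exists_mul_of_mem_autProd (F : FusionSystem S) (E D : FusionSystem T) (hEF : E.IsSubsystemOf F)
    (hD : D.IsInvariantIn F) {β : MulAut T} (hβ : β ∈ (autProd F E D hEF hD).autGroup T) :
    ∃ a ∈ E.autGroup T, ∃ d ∈ D.autGroup T, β = a * d := by
  obtain ⟨a, ha, φ₀, hφ₀, hfac⟩ := (mem_autGroup_iff _ le_rfl).1 hβ
  have hφ₀T : ∀ x : T, φ₀ x ∈ T := (D.le_of_mem hφ₀).2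
  have h1 : ∀ x : T, φ₀ x = (((a⁻¹ * β) x : T) : Ω) := by
    intro x
    have h2 : β x = a ⟨φ₀ x, hφ₀T x⟩ := Subtype.ext (hfac x)
    rw [MulAut.mul_apply, h2, MulAut.inv_apply_self]
  have h3 : a⁻¹ * β ∈ D.autGroup T := by
    rw [mem_autGroup_iff D le_rfl]
    exact hom_of_eq_on D rfl hφ₀ (fun x hx _ => (h1 ⟨x, hx⟩).symm)
  exact ⟨a, ha, a⁻¹ * β, h3, by group⟩

/-- the data for the key claim in `Aut_E(T) ∘ D` -/
theorem tData0_autProd [Finite S] [Fact p.Prime] (F : FusionSystem S) (E D : FusionSystem T) (hE : E.IsSaturated p)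
    (hEF : E.IsSubsystemOf F) (hDsat : D.IsSaturated p) (hD : D.IsInvariantIn F) :
    TData0 (autProd F E D hEF hD) p D (D.autGroup T) := by
  have hT : F.StronglyClosed T := hD.2.1
  have hTS : T ≤ S := hT.1
  have hfinT : Finite T := finite_of_le hTS
  have hnorm := autGroup_conj_mem_of_invClause D F hD.2.2.1
  have hF₂F : (autProd F E D hEF hD).autGroup T ≤ F.autGroup T := by
    intro α hα
    exact (mem_autGroup_iff F hTS).2 (autProd_le F E D hEF hD T ((mem_autGroup_iff _ le_rfl).1 hα))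
  have hDF₂ : ∀ P : Subgroup Ω, D.Hom P ⊆ (autProd F E D hEF hD).Hom P := le_prodSystem D _ _
  have hEF₂ : E.autGroup T ≤ (autProd F E D hEF hD).autGroup T := by
    intro a ha
    rw [mem_autGroup_iff _ le_rfl]
    exact ⟨a, ha, T.subtype, subtype_mem D le_rfl, fun _ => rfl⟩
  refine ⟨hDsat, ⟨hDF₂, ⟨le_rfl, fun _ _ _ hφ x => ((autProd F E D hEF hD).le_of_mem hφ).2 x⟩, ?_, ?_⟩, ?_, ?_,
    le_rfl, ?_⟩
  · intro P hPT φ hφ α hα
    exact hD.2.2.1 P hPT φ hφ α (hF₂F hα)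
  · rintro P hPT φ ⟨a, ha, φ₀, hφ₀, hfac⟩
    exact ⟨a, hEF₂ ha, φ₀, hφ₀, fun x hx => hfac x⟩
  · intro d hd
    exact (mem_autGroup_iff _ le_rfl).2 (hDF₂ T ((mem_autGroup_iff D le_rfl).1 hd))
  · intro β hβ a ha
    exact hnorm β (hF₂F hβ) a ha
  · -- the quotient is a `p'`-group
    intro β hβ k hk
    obtain ⟨a, ha, d, hd, rfl⟩ := exists_mul_of_mem_autProd F E D hEF hD hβ
    have haF : a ∈ F.autGroup T := autGroup_le_of_subsystem E hEF hTS ha
    have hpow : ∀ n : ℕ, ∃ d' ∈ D.autGroup T, (a * d) ^ n = a ^ n * d' := by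
      intro n
      induction n with
      | zero => exact ⟨1, Subgroup.one_mem _, by simp⟩
      | succ n ih =>
        obtain ⟨d', hd', h1⟩ := ih
        have h2 : a⁻¹ * d' * a⁻¹⁻¹ ∈ D.autGroup T := hnorm a⁻¹ (Subgroup.inv_mem _ haF) d' hd'
        refine ⟨(a⁻¹ * d' * a⁻¹⁻¹) * d, Subgroup.mul_mem _ h2 hd, ?_⟩
        rw [pow_succ, h1, pow_succ]
        group
    obtain ⟨d', hd', h1⟩ := hpow (p ^ k)
    have h2 : a ^ (p ^ k) ∈ D.autGroup T := by
      have h3 : a ^ (p ^ k) = (a * d) ^ (p ^ k) * d'⁻¹ := by rw [h1]; group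
      rw [h3]
      exact Subgroup.mul_mem _ hk (Subgroup.inv_mem _ hd')
    -- now inside `Aut_E(T)`
    have hfinA : Finite (E.autGroup T) := inferInstance
    have hNn : ((D.autGroup T).subgroupOf (E.autGroup T)).Normal := by
      constructor
      intro n hn g
      rw [Subgroup.mem_subgroupOf] at hn ⊢
      exact hnorm g (autGroup_le_of_subsystem E hEF hTS g.2) n hn
    obtain ⟨-, Rsyl, hRsyl⟩ := isFullyAutomized_self E hE
    have hRle : (Rsyl : Subgroup (E.autGroup T)) ≤ (D.autGroup T).subgroupOf (E.autGroup T) := by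
      rw [hRsyl]
      intro x hx
      rw [Subgroup.mem_subgroupOf] at hx ⊢
      exact autInducedBy_le_autGroup D le_rfl hx
    have hidx : ¬ p ∣ ((D.autGroup T).subgroupOf (E.autGroup T)).index := fun hdvd =>
      Rsyl.not_dvd_index (dvd_trans hdvd (Subgroup.index_dvd_of_le hRle))
    have h4 : (⟨a, ha⟩ : E.autGroup T) ^ (p ^ k) ∈ (D.autGroup T).subgroupOf (E.autGroup T) := by
      rw [Subgroup.mem_subgroupOf]
      exact h2
    have h5 := mem_of_pow_mem_of_not_dvd_index _ hidx h4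
    rw [Subgroup.mem_subgroupOf] at h5
    exact Subgroup.mul_mem _ h5 hd

/-- **(\*)** an element of `Aut_E(T)` whose restriction to an `E`-centric subgroup is a map of `D` lies in `Aut_D(T)` -/
theorem mem_autGroup_of_res_mem_of_invariant [Finite S] [Fact p.Prime] (hS : IsPGroup p S) (F : FusionSystem S)
    (E D : FusionSystem T) (hE : E.IsSaturated p) (hEinv : E.IsInvariantIn F) (hDsat : D.IsSaturated p)
    (hD : D.IsInvariantIn F) {α : MulAut T} (hα : α ∈ E.autGroup T) {P : Subgroup Ω} (hP : E.IsCentric P)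
    (hres : resHom α P hP.1 ∈ D.Hom P) : α ∈ D.autGroup T := by
  have hTS : T ≤ S := hD.2.1.1
  have hfinT : Finite T := finite_of_le hTS
  have hTp : IsPGroup p T := Cfsg.Agent.Lib.Helper88.isPGroup_of_le hS hTS
  have h := tData0_autProd F E D hE hEinv.1 hDsat hD
  have hPD : D.IsCentric P := isCentric_of_isCentric_of_frattini F E D hEinv.2.2.2 hD.1 hP
  have hα₂ : α ∈ (autProd F E D hEinv.1 hD).autGroup T := by
    rw [mem_autGroup_iff _ le_rfl]
    exact ⟨α, hα, T.subtype, subtype_mem D le_rfl, fun _ => rfl⟩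
  exact h.key_claim hTp P hP.1 hPD α hα₂ (h.le_tSys P hres)

/-- **`O^{p'}(E)` is contained in every weakly normal subsystem over `T`.** -/
theorem ppResidual_le_of_invariant [Finite S] [Fact p.Prime] (hS : IsPGroup p S) (F : FusionSystem S)
    (E D : FusionSystem T) (hE : E.IsSaturated p) (hEinv : E.IsInvariantIn F) (hDsat : D.IsSaturated p)
    (hD : D.IsInvariantIn F) (R : FusionSystem T) (hR : E.IsPPrimeResidual p R) : R.IsSubsystemOf D := by
  have hTS : T ≤ S := hD.2.1.1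
  have hfinT : Finite T := finite_of_le hTS
  have hTp : IsPGroup p T := Cfsg.Agent.Lib.Helper88.isPGroup_of_le hS hTS
  have hstar : ∀ P : Subgroup Ω, (opPrimeStar E p).Hom P ⊆ D.Hom P :=
    opPrimeStar_le_of_invariant F E hE hEinv.1 D hD
  have hAE : E.autGroup T ⊓ D.autGroup T ≤ E.autGroup T := inf_le_left
  have hA0 : aut0 E p ≤ E.autGroup T ⊓ D.autGroup T := by
    refine (Subgroup.closure_le _).2 ?_
    rintro α ⟨hα, P, hP, hres⟩
    exact ⟨hα, mem_autGroup_of_res_mem_of_invariant hS F E D hE hEinv hDsat hD hα hP (hstar P hres)⟩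
  have hsat := opPrimeSys_isSaturated hTp E hE _ hAE hA0
  have hidx := opPrimeSys_hasPrimeToPIndexIn hTp E hE _ hAE
  intro P φ hφ
  obtain ⟨a, ha, φ₀, hφ₀, hfac⟩ := hR.2.2 _ hsat hidx P hφ
  have haD : T.subtype.comp (a : T ≃* T).toMonoidHom ∈ D.Hom T := (mem_autGroup_iff D le_rfl).1 ha.2
  exact comp_mem' D (hstar P hφ₀) haD ((opPrimeStar E p).le_of_mem hφ₀).2 (fun x => hfac x)

end Least

end Cfsg.Agent.Lib.Helper84
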