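/-
helper84: for the data `TData F p E A` (a weakly normal subsystem `E` over `T` of `F`, `A ⊴ Aut_F(T)` containing `Aut_E(T)` with
`Aut_F(T)/A` a `p'`-group): the `p`-elements of `Aut_F(V)`, `V ≤ T`, are maps of `A ∘ E`; the fusion system over `S` of the maps of
`F` whose restriction to `P ⊓ T` is a map of `A ∘ E` ("pull-back system"), which contains `O^{p'}_*(F)`.
All declarations live in `Cfsg.Agent.Lib.Helper84`.
-/
import Cfsg.Agent.Lib.Helper84.NormalPPrimeKey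
import Cfsg.Agent.Lib.Helper84.FusionFrattiniSys
import Cfsg.Agent.Lib.Helper84.PPrimeInter
import Cfsg.Agent.Lib.Helper85.FusionRS

set_option autoImplicit false

namespace Cfsg.Agent.Lib.Helper84

open Cfsg Cfsg.FusionSystem
open Cfsg.Agent.Lib.Helper87
open Cfsg.Agent.Lib.Helper88.Invariance (resHom InvClause)

variable {Ω : Type*} [Group Ω]

namespace TData

variable {S : Subgroup Ω} {F : FusionSystem S} {p : ℕ} {T : Subgroup Ω} {E : FusionSystem T} {A : Subgroup (MulAut T)}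

/-- the `p`-elements of `Aut_F(T)` lie in `A` -/
theorem pElement_mem (h : TData F p E A) {β : MulAut T} (hβ : β ∈ F.autGroup T) {k : ℕ} (hk : β ^ (p ^ k) = 1) :
    β ∈ A :=
  h.pprime β hβ k (hk ▸ A.one_mem)

/-- conjugation by `s ∈ S` on `T` lies in `A` -/
theorem conjAut_mem [Finite S] [Fact p.Prime] (h : TData F p E A) (hS : IsPGroup p S) {s : Ω} (hs : s ∈ S) :
    conjAut T s (le_normalizer_of_stronglyClosed' F h.stronglyClosed hs) ∈ A := by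
  have hc : conjAut T s (le_normalizer_of_stronglyClosed' F h.stronglyClosed hs) ∈ autInducedBy S T :=
    mem_autInducedBy_iff.2 ⟨s, hs, fun _ => rfl⟩
  obtain ⟨k, hk⟩ := autInducedBy_isPGroup hS T ⟨_, hc⟩
  have hk' : conjAut T s (le_normalizer_of_stronglyClosed' F h.stronglyClosed hs) ^ (p ^ k) = 1 :=
    congrArg Subtype.val hk
  exact h.pElement_mem (conjAut_mem_autGroup F h.stronglyClosed hs) hk'

/-- the restriction of `a ∈ A` to `U ≤ T` is a map of `A ∘ E` -/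
theorem res_mem_tSys (h : TData F p E A) {a : MulAut T} (ha : a ∈ A) {U : Subgroup Ω} (hU : U ≤ T) :
    resHom a U hU ∈ h.tSys.Hom U :=
  res_mem_prodSystem E A _ ha hU

/-- an element of `Aut_F(T)` that is a map of `A ∘ E` lies in `A` -/
theorem mem_of_mem_tSys (h : TData F p E A) {β : MulAut T}
    (hβ : T.subtype.comp (β : T ≃* T).toMonoidHom ∈ h.tSys.Hom T) : β ∈ A := by
  obtain ⟨a, ha, φ₀, hφ₀, hfac⟩ := hβ
  have hφ₀T : ∀ x : T, φ₀ x ∈ T := (E.le_of_mem hφ₀).2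
  -- `φ₀ = a⁻¹ β` is an automorphism of `T` in `E`
  have h1 : ∀ x : T, φ₀ x = (((a⁻¹ * β) x : T) : Ω) := by
    intro x
    have h2 : β x = a ⟨φ₀ x, hφ₀T x⟩ := Subtype.ext (hfac x)
    rw [MulAut.mul_apply, h2, MulAut.inv_apply_self]
  have h3 : a⁻¹ * β ∈ E.autGroup T := by
    rw [mem_autGroup_iff E le_rfl]
    exact hom_of_eq_on E rfl hφ₀ (fun x hx _ => (h1 ⟨x, hx⟩).symm)
  have h4 : β = a * (a⁻¹ * β) := by group
  rw [h4]
  exact A.mul_mem ha (h.autE h3)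

/-- **(M)** a `p`-element of `Aut_F(V)`, `V ≤ T`, is a map of `A ∘ E`. -/
theorem pElement_mem_tSys [Finite S] [Fact p.Prime] (h : TData F p E A) (hS : IsPGroup p S) (hF : F.IsSaturated p)
    {V : Subgroup Ω} (hVT : V ≤ T) {δ : MulAut V} (hδ : δ ∈ F.autGroup V) {k : ℕ} (hk : δ ^ (p ^ k) = 1) :
    V.subtype.comp (δ : V ≃* V).toMonoidHom ∈ h.tSys.Hom V := by
  have hT := h.stronglyClosed
  have hTS : T ≤ S := hT.1
  have hVS : V ≤ S := hVT.trans hTS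
  have hfinV : Finite V := finite_of_le hVS
  obtain ⟨Q, hVQ, hQa, hQr⟩ := hF V hVS
  obtain ⟨e₀, he₀⟩ := (isConj_iff F).1 hVQ
  have hQS : Q ≤ S := he₀.le_right
  have hfinQ : Finite Q := finite_of_le hQS
  have hfinA : Finite (F.autGroup Q) := inferInstance
  have hδ' : MulAut.congr e₀ δ ∈ F.autGroup Q := congr_mem_autGroup F he₀ hδ
  obtain ⟨-, Rsyl, hRsyl⟩ := hQa
  have hpow : (⟨_, hδ'⟩ : F.autGroup Q) ^ (p ^ k) = 1 := by
    apply Subtype.ext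
    show (MulAut.congr e₀ δ) ^ (p ^ k) = 1
    rw [← map_pow, hk, map_one]
  have hH : IsPGroup p (Subgroup.zpowers (⟨_, hδ'⟩ : F.autGroup Q)) :=
    Cfsg.Agent.Lib.Helper85.isPGroup_zpowers_of_pow_eq_one hpow
  obtain ⟨c, hc⟩ := exists_conj_mem_sylow Rsyl hH
  have h1 := hc _ (Subgroup.mem_zpowers _)
  have h1' : c * (⟨_, hδ'⟩ : F.autGroup Q) * c⁻¹ ∈ (Rsyl : Subgroup (F.autGroup Q)) := h1
  rw [hRsyl, Subgroup.mem_subgroupOf] at h1'
  obtain ⟨s, hs, hse⟩ := mem_autInducedBy_iff.1 h1'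
  have hcF : IsIso F ((c : MulAut Q) : Q ≃* Q) := (mem_autGroup_iff F hQS).1 c.2
  have hψ : IsIso F (e₀.trans ((c : MulAut Q) : Q ≃* Q)) := he₀.trans hcF
  obtain ⟨b, hb, ψ₀, hψ₀, hψe⟩ := h.frattini V hVT _ hψ
  have hψ₀T : ∀ x : V, ψ₀ x ∈ T := (E.le_of_mem hψ₀).2
  have h2 : ∀ x : V, (((c : MulAut Q) (e₀ (δ x)) : Q) : Ω) =
      s * (((c : MulAut Q) (e₀ x) : Q) : Ω) * s⁻¹ := by
    intro x
    rw [← hse]
    show _ = ((((c : MulAut Q) * MulAut.congr e₀ δ * (c : MulAut Q)⁻¹) ((c : MulAut Q) (e₀ x)) : Q) : Ω)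
    rw [MulAut.mul_apply, MulAut.mul_apply, MulAut.inv_apply_self]
    show _ = (((c : MulAut Q) (e₀ (δ (e₀.symm (e₀ x)))) : Q) : Ω)
    rw [MulEquiv.symm_apply_apply]
  have hσ : conjAut T s (le_normalizer_of_stronglyClosed' F hT hs) ∈ A := h.conjAut_mem hS hs
  set σ : MulAut T := conjAut T s (le_normalizer_of_stronglyClosed' F hT hs) with hσdef
  have hτ : b⁻¹ * σ * b ∈ A := by
    have := h.normal b⁻¹ (Subgroup.inv_mem _ hb) σ hσ
    rwa [inv_inv] at this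
  have h3 : ∀ x : V, ψ₀ (δ x) = (((b⁻¹ * σ * b) ⟨ψ₀ x, hψ₀T x⟩ : T) : Ω) := by
    intro x
    have e1 := hψe (δ x) (hψ₀T _)
    have e2 := hψe x (hψ₀T _)
    have e3 : ((b ⟨ψ₀ (δ x), hψ₀T _⟩ : T) : Ω) = s * ((b ⟨ψ₀ x, hψ₀T _⟩ : T) : Ω) * s⁻¹ := by
      rw [← e1, ← e2]
      exact h2 x
    have e4 : b ⟨ψ₀ (δ x), hψ₀T _⟩ = σ (b ⟨ψ₀ x, hψ₀T _⟩) := Subtype.ext e3
    rw [MulAut.mul_apply, MulAut.mul_apply, ← e4, MulAut.inv_apply_self]
  have he₁ : IsIso h.tSys (MonoidHom.ofInjective (E.injective_of_mem hψ₀)) :=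
    h.le_tSys V (isIso_ofInjective E hψ₀)
  have hrT : ψ₀.range ≤ T := hom_range_le E hψ₀
  have hθ₁ : (resHom (b⁻¹ * σ * b) ψ₀.range hrT).comp
      (MonoidHom.ofInjective (E.injective_of_mem hψ₀)).toMonoidHom ∈ h.tSys.Hom V :=
    comp_mem' h.tSys he₁ (h.res_mem_tSys hτ hrT)
      (fun x => ((MonoidHom.ofInjective (E.injective_of_mem hψ₀)) x).2) (fun x => rfl)
  have hval : ∀ x : V, ((resHom (b⁻¹ * σ * b) ψ₀.range hrT).comp
      (MonoidHom.ofInjective (E.injective_of_mem hψ₀)).toMonoidHom) x ∈ ψ₀.range := by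
    intro x
    refine ⟨δ x, ?_⟩
    rw [h3 x]
    rfl
  refine comp_mem' h.tSys hθ₁ he₁.symm hval (fun x => ?_)
  show ((δ x : V) : Ω) = _
  have : (⟨_, hval x⟩ : ψ₀.range) = (MonoidHom.ofInjective (E.injective_of_mem hψ₀)) (δ x) := by
    apply Subtype.ext
    show (((b⁻¹ * σ * b) ⟨ψ₀ x, hψ₀T x⟩ : T) : Ω) = ψ₀ (δ x)
    exact (h3 x).symm
  rw [this]
  simp

/-- The maps of `F` whose restriction to `P ⊓ T` is a map of `A ∘ E`. -/
def pullSys [Finite S] [Fact p.Prime] (h : TData F p E A) (hS : IsPGroup p S) : FusionSystem S where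
  Hom P := {φ | φ ∈ F.Hom P ∧ φ.comp (Subgroup.inclusion (inf_le_left : P ⊓ T ≤ P)) ∈ h.tSys.Hom (P ⊓ T)}
  le_of_mem hφ := F.le_of_mem hφ.1
  injective_of_mem hφ := F.injective_of_mem hφ.1
  conj_mem := by
    intro P g hP hg
    refine ⟨F.conj_mem hP hg, ?_⟩
    have h1 := h.res_mem_tSys (h.conjAut_mem hS hg) (inf_le_right : P ⊓ T ≤ T)
    exact hom_of_eq_on _ rfl h1 (fun x hx _ => rfl)
  comp_mem := by
    rintro P Q φ ψ ⟨hφ, hφ₁⟩ ⟨hψ, hψ₁⟩ hPQ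
    refine ⟨F.comp_mem hφ hψ hPQ, ?_⟩
    have hmaps : ∀ x : ↥(P ⊓ T), (φ.comp (Subgroup.inclusion (inf_le_left : P ⊓ T ≤ P))) x ∈ Q ⊓ T :=
      fun x => ⟨hPQ _, (h.tSys.le_of_mem hφ₁).2 x⟩
    exact comp_mem' h.tSys hφ₁ hψ₁ hmaps (fun x => rfl)
  inv_mem := by
    rintro P φ ⟨hφ, hφ₁⟩
    obtain ⟨ψ, hψ, hinv⟩ := F.inv_mem hφ
    refine ⟨ψ, ⟨hψ, ?_⟩, hinv⟩
    obtain ⟨ψ₁, hψ₁, hinv₁⟩ := h.tSys.inv_mem hφ₁
    have hT := h.stronglyClosed
    have hrange : (φ.comp (Subgroup.inclusion (inf_le_left : P ⊓ T ≤ P))).range = φ.range ⊓ T := by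
      ext y
      constructor
      · rintro ⟨x, rfl⟩
        exact ⟨⟨_, rfl⟩, (h.tSys.le_of_mem hφ₁).2 x⟩
      · rintro ⟨⟨x, rfl⟩, hyT⟩
        have hxT : (x : Ω) ∈ T := by
          have h3 := hT.2 (φ.range ⊓ T) inf_le_right _ (restrict_mem F hψ inf_le_left) ⟨φ x, ⟨⟨x, rfl⟩, hyT⟩⟩
          have h2 : (ψ.comp (Subgroup.inclusion (inf_le_left : φ.range ⊓ T ≤ φ.range)))
              ⟨φ x, ⟨⟨x, rfl⟩, hyT⟩⟩ = x := hinv x
          rwa [h2] at h3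
        exact ⟨⟨x, ⟨x.2, hxT⟩⟩, rfl⟩
    refine hom_of_eq_on h.tSys hrange hψ₁ ?_
    rintro _ ⟨x, rfl⟩ hx'
    rw [hinv₁ x]
    exact hinv (Subgroup.inclusion (inf_le_left : P ⊓ T ≤ P) x)

theorem mem_pullSys [Finite S] [Fact p.Prime] (h : TData F p E A) (hS : IsPGroup p S) {P : Subgroup Ω} {φ : P →* Ω} :
    φ ∈ (h.pullSys hS).Hom P ↔
      φ ∈ F.Hom P ∧ φ.comp (Subgroup.inclusion (inf_le_left : P ⊓ T ≤ P)) ∈ h.tSys.Hom (P ⊓ T) := Iff.rfl

theorem pullSys_le [Finite S] [Fact p.Prime] (h : TData F p E A) (hS : IsPGroup p S) (P : Subgroup Ω) :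
    (h.pullSys hS).Hom P ⊆ F.Hom P := fun _ hφ => hφ.1

/-- a map of the pull-back system with source inside `T` is a map of `A ∘ E` -/
theorem mem_tSys_of_mem_pullSys [Finite S] [Fact p.Prime] (h : TData F p E A) (hS : IsPGroup p S) {P : Subgroup Ω}
    (hPT : P ≤ T) {φ : P →* Ω} (hφ : φ ∈ (h.pullSys hS).Hom P) : φ ∈ h.tSys.Hom P :=
  hom_of_eq_on h.tSys (inf_eq_left.2 hPT) hφ.2 (fun _ _ _ => rfl)

/-- the pull-back system contains `O^{p'}(Aut_F(P))` for all `F`-centric (indeed all) `P` -/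
theorem containsPGens_pullSys [Finite S] [Fact p.Prime] (h : TData F p E A) (hS : IsPGroup p S)
    (hF : F.IsSaturated p) : ContainsPGens F p (h.pullSys hS) := by
  intro P hP
  have hPS := hP.1
  have hT := h.stronglyClosed
  rw [Subgroup.map_le_iff_le_comap, Subgroup.closure_le]
  rintro α ⟨k, hk⟩
  show (α : MulAut P) ∈ (h.pullSys hS).autGroup P
  rw [mem_autGroup_iff _ hPS]
  refine ⟨(mem_autGroup_iff F hPS).1 α.2, ?_⟩
  have hδ : ((resAut F hT hPS α : F.autGroup (P ⊓ T)) : MulAut ↥(P ⊓ T)) ∈ F.autGroup (P ⊓ T) :=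
    (resAut F hT hPS α).2
  have hpow : ((resAut F hT hPS α : F.autGroup (P ⊓ T)) : MulAut ↥(P ⊓ T)) ^ (p ^ k) = 1 := by
    rw [← Subgroup.coe_pow, ← map_pow, ← hk, pow_orderOf_eq_one, map_one]
    rfl
  have h1 := h.pElement_mem_tSys hS hF (inf_le_right : P ⊓ T ≤ T) hδ hpow
  exact hom_of_eq_on _ rfl h1 (fun x hx _ => rfl)

/-- `O^{p'}_*(F)` is contained in the pull-back system -/
theorem opPrimeStar_le_pullSys [Finite S] [Fact p.Prime] (h : TData F p E A) (hS : IsPGroup p S)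
    (hF : F.IsSaturated p) (P : Subgroup Ω) : (opPrimeStar F p).Hom P ⊆ (h.pullSys hS).Hom P :=
  opPrimeStar_le_of F p (h.containsPGens_pullSys hS hF) P

end TData

end Cfsg.Agent.Lib.Helper84
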