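/-
helper84: for the data `TData F p E A`: the group `A_S` of the elements of `Aut_F(S)` restricting into `A`, the fusion system
`A_S ∘ O^{p'}_*(F)` over `S`; it is saturated, contains `E`, is contained in the pull-back system, is stable under `Aut_F(S)`, and its
automorphism group at `S` is `A_S`.
All declarations live in `Cfsg.Agent.Lib.Helper84`.
-/
import Cfsg.Agent.Lib.Helper84.NormalPPrimeSys
import Cfsg.Agent.Lib.Helper84.NormalPPrimeFam
import Cfsg.Agent.Lib.Helper84.PPrimeSatOn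
import Cfsg.Agent.Lib.Helper84.Alperin2

set_option autoImplicit false

namespace Cfsg.Agent.Lib.Helper84

open Cfsg Cfsg.FusionSystem
open Cfsg.Agent.Lib.Helper87
open Cfsg.Agent.Lib.Helper88.Invariance (resHom InvClause)

variable {Ω : Type*} [Group Ω]

section resT

variable {S : Subgroup Ω}

/-- The restriction of `γ ∈ Aut_F(S)` to the strongly closed subgroup `T`. -/
def resTFun (F : FusionSystem S) {T : Subgroup Ω} (hT : F.StronglyClosed T) (γ : MulAut S)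
    (hγ : γ ∈ F.autGroup S) : MulAut T where
  toFun x := ⟨γ ⟨x, hT.1 x.2⟩,
    map_mem_stronglyClosed F hT ((mem_autGroup_iff F le_rfl).1 hγ) ⟨x, hT.1 x.2⟩ x.2⟩
  invFun x := ⟨γ⁻¹ ⟨x, hT.1 x.2⟩,
    map_mem_stronglyClosed F hT ((mem_autGroup_iff F le_rfl).1 (Subgroup.inv_mem _ hγ)) ⟨x, hT.1 x.2⟩ x.2⟩
  left_inv x := by
    apply Subtype.ext
    show ((γ⁻¹ (γ ⟨x, hT.1 x.2⟩) : S) : Ω) = x
    simp
  right_inv x := by
    apply Subtype.ext
    show ((γ (γ⁻¹ ⟨x, hT.1 x.2⟩) : S) : Ω) = x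
    simp
  map_mul' x y := by
    apply Subtype.ext
    show ((γ (⟨x, hT.1 x.2⟩ * ⟨y, hT.1 y.2⟩) : S) : Ω) = _
    rw [map_mul]
    rfl

theorem resTFun_apply (F : FusionSystem S) {T : Subgroup Ω} (hT : F.StronglyClosed T) (γ : MulAut S)
    (hγ : γ ∈ F.autGroup S) (x : T) : ((resTFun F hT γ hγ x : T) : Ω) = ((γ ⟨x, hT.1 x.2⟩ : S) : Ω) := rfl

theorem resTFun_mem (F : FusionSystem S) {T : Subgroup Ω} (hT : F.StronglyClosed T) (γ : MulAut S)
    (hγ : γ ∈ F.autGroup S) : resTFun F hT γ hγ ∈ F.autGroup T := by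
  rw [mem_autGroup_iff F hT.1]
  exact hom_of_eq_on F rfl (restrict_mem F ((mem_autGroup_iff F le_rfl).1 hγ) hT.1) (fun x hx _ => rfl)

/-- Restriction `Aut_F(S) → Aut_F(T)` as a homomorphism, for `T` strongly closed in `F`. -/
def resTHom (F : FusionSystem S) {T : Subgroup Ω} (hT : F.StronglyClosed T) : F.autGroup S →* F.autGroup T where
  toFun γ := ⟨resTFun F hT γ.1 γ.2, resTFun_mem F hT γ.1 γ.2⟩
  map_one' := by
    apply Subtype.ext
    ext x
    rfl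
  map_mul' a b := by
    apply Subtype.ext
    ext x
    rfl

/-- `A_S`: the elements of `Aut_F(S)` whose restriction to `T` lies in `A`. -/
def liftSub (F : FusionSystem S) {T : Subgroup Ω} (hT : F.StronglyClosed T) (A : Subgroup (MulAut T)) :
    Subgroup (MulAut S) :=
  (A.comap ((F.autGroup T).subtype.comp (resTHom F hT))).map (F.autGroup S).subtype

theorem mem_liftSub {F : FusionSystem S} {T : Subgroup Ω} {hT : F.StronglyClosed T} {A : Subgroup (MulAut T)}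
    {α : MulAut S} : α ∈ liftSub F hT A ↔ ∃ hα : α ∈ F.autGroup S, resTFun F hT α hα ∈ A := by
  constructor
  · rintro ⟨x, hx, rfl⟩
    exact ⟨x.2, hx⟩
  · rintro ⟨hα, h⟩
    exact ⟨⟨α, hα⟩, h, rfl⟩

theorem liftSub_le (F : FusionSystem S) {T : Subgroup Ω} (hT : F.StronglyClosed T) (A : Subgroup (MulAut T)) :
    liftSub F hT A ≤ F.autGroup S := by
  rintro _ ⟨x, -, rfl⟩
  exact x.2

theorem liftSub_normal (F : FusionSystem S) {T : Subgroup Ω} (hT : F.StronglyClosed T) {A : Subgroup (MulAut T)}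
    (hAn : ∀ β ∈ F.autGroup T, ∀ a ∈ A, β * a * β⁻¹ ∈ A) :
    ∀ γ ∈ F.autGroup S, ∀ a ∈ liftSub F hT A, γ * a * γ⁻¹ ∈ liftSub F hT A := by
  rintro γ hγ _ ⟨x, hx, rfl⟩
  refine ⟨⟨γ, hγ⟩ * x * ⟨γ, hγ⟩⁻¹, ?_, rfl⟩
  show ((F.autGroup T).subtype.comp (resTHom F hT)) (⟨γ, hγ⟩ * x * ⟨γ, hγ⟩⁻¹) ∈ A
  rw [map_mul, map_mul, map_inv]
  exact hAn _ (resTHom F hT ⟨γ, hγ⟩).2 _ hx

end resT

/-- `A ∘ E₀` is stable under an automorphism `α` of `S` that stabilizes `E₀` and normalizes `A` (twist form). -/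
theorem prodSystem_twist {S : Subgroup Ω} (E₀ : FusionSystem S) (A : Subgroup (MulAut S))
    (hinv : ∀ α ∈ A, ∀ P : Subgroup Ω, E₀.Hom P ⊆ (twist E₀ α).Hom P) {α : MulAut S}
    (hα : ∀ P : Subgroup Ω, E₀.Hom P ⊆ (twist E₀ α).Hom P) (hAα : ∀ a ∈ A, α * a * α⁻¹ ∈ A) (P : Subgroup Ω) :
    (prodSystem E₀ A hinv).Hom P ⊆ (twist (prodSystem E₀ A hinv) α).Hom P := by
  rintro φ ⟨a, ha, φ₀, hφ₀, hfac⟩
  obtain ⟨hPS, hφ₀S, χ₀, hχ₀, hχe⟩ := hα P hφ₀
  have hφS : ∀ x : P, φ x ∈ S := fun x => by rw [hfac x]; exact (a _).2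
  have hχ₀S : ∀ y, χ₀ y ∈ S := (E₀.le_of_mem hχ₀).2
  refine ⟨hPS, hφS, (S.subtype.comp ((α * a * α⁻¹ : MulAut S) : S ≃* S).toMonoidHom).comp
      (χ₀.codRestrict S hχ₀S), ⟨α * a * α⁻¹, hAα a ha, χ₀, hχ₀, fun y => rfl⟩, fun x => ?_⟩
  show (((α * a * α⁻¹) ⟨χ₀ ⟨(α ⟨x, hPS x.2⟩ : S), apply_mem_imgAut α hPS x⟩, hχ₀S _⟩ : S) : Ω) =
    ((α ⟨φ x, hφS x⟩ : S) : Ω)
  have e1 : (⟨χ₀ ⟨(α ⟨x, hPS x.2⟩ : S), apply_mem_imgAut α hPS x⟩, hχ₀S _⟩ : S) = α ⟨φ₀ x, hφ₀S x⟩ :=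
    Subtype.ext (hχe x)
  have e2 : (⟨φ x, hφS x⟩ : S) = a ⟨φ₀ x, hφ₀S x⟩ := Subtype.ext (hfac x)
  rw [e1, e2, MulAut.mul_apply, MulAut.mul_apply, MulAut.inv_apply_self]

namespace TData

variable {S : Subgroup Ω} {F : FusionSystem S} {p : ℕ} {T : Subgroup Ω} {E : FusionSystem T} {A : Subgroup (MulAut T)}

/-- the fusion system `A_S ∘ O^{p'}_*(F)` over `S` -/
def sys (h : TData F p E A) : FusionSystem S :=
  opPrimeSys F p (liftSub F h.stronglyClosed A) (liftSub_le F h.stronglyClosed A)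

theorem sys_le (h : TData F p E A) (P : Subgroup Ω) : h.sys.Hom P ⊆ F.Hom P :=
  opPrimeSys_le F p _ _ P

/-- `A_S ∘ O^{p'}_*(F)` is contained in the pull-back system -/
theorem sys_le_pullSys [Finite S] [Fact p.Prime] (h : TData F p E A) (hS : IsPGroup p S) (hF : F.IsSaturated p)
    (P : Subgroup Ω) : h.sys.Hom P ⊆ (h.pullSys hS).Hom P := by
  rintro φ ⟨a, ha, φ₀, hφ₀, hfac⟩
  have h1 := h.opPrimeStar_le_pullSys hS hF P hφ₀
  obtain ⟨haF, haA⟩ := mem_liftSub.1 ha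
  have h2 : S.subtype.comp (a : S ≃* S).toMonoidHom ∈ (h.pullSys hS).Hom S := by
    refine ⟨(mem_autGroup_iff F le_rfl).1 haF, ?_⟩
    have h3 := h.res_mem_tSys haA (inf_le_right : S ⊓ T ≤ T)
    exact hom_of_eq_on _ rfl h3 (fun x hx _ => rfl)
  exact comp_mem' (h.pullSys hS) h1 h2 ((opPrimeStar F p).le_of_mem hφ₀).2 (fun x => hfac x)

theorem mem_liftSub_of_mem_pullSys [Finite S] [Fact p.Prime] (h : TData F p E A) (hS : IsPGroup p S) {α : MulAut S}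
    (hα : α ∈ F.autGroup S) (h1 : S.subtype.comp (α : S ≃* S).toMonoidHom ∈ (h.pullSys hS).Hom S) :
    α ∈ liftSub F h.stronglyClosed A := by
  rw [mem_liftSub]
  refine ⟨hα, ?_⟩
  apply h.mem_of_mem_tSys
  exact hom_of_eq_on h.tSys (inf_eq_right.2 h.stronglyClosed.1) h1.2 (fun x hx hx' => rfl)

/-- `Aut_{F₀}(S) = A_S` -/
theorem mem_autGroup_sys [Finite S] [Fact p.Prime] (h : TData F p E A) (hS : IsPGroup p S) (hF : F.IsSaturated p)
    {α : MulAut S} : α ∈ h.sys.autGroup S ↔ α ∈ liftSub F h.stronglyClosed A := by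
  constructor
  · intro hα
    have h1 : S.subtype.comp (α : S ≃* S).toMonoidHom ∈ h.sys.Hom S := (mem_autGroup_iff _ le_rfl).1 hα
    have hαF : α ∈ F.autGroup S := (mem_autGroup_iff F le_rfl).2 (h.sys_le S h1)
    exact h.mem_liftSub_of_mem_pullSys hS hαF (h.sys_le_pullSys hS hF S h1)
  · intro hα
    rw [mem_autGroup_iff _ le_rfl]
    exact ⟨α, hα, S.subtype, subtype_mem _ le_rfl, fun _ => rfl⟩

/-- the key property on the good family -/
theorem sys_key [Finite S] [Fact p.Prime] (h : TData F p E A) (hS : IsPGroup p S) (hF : F.IsSaturated p) :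
    ∀ α ∈ F.autGroup S, ∀ R ∈ famH F T, ∀ hR : R ≤ S,
      resHom α R hR ∈ (opPrimeSys F p (liftSub F h.stronglyClosed A) (liftSub_le F h.stronglyClosed A)).Hom R →
      α ∈ liftSub F h.stronglyClosed A := by
  intro α hα R hRℋ hR hres
  have h1 := h.sys_le_pullSys hS hF R hres
  have hcen : E.IsCentric (R ⊓ T) := isCentric_inf_of_mem_famH hS F hF h.stronglyClosed E h.subsystem hRℋ
  rw [mem_liftSub]
  refine ⟨hα, ?_⟩
  refine h.key_claim hS (R ⊓ T) inf_le_right hcen _ (resTFun_mem F h.stronglyClosed α hα) ?_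
  exact hom_of_eq_on _ rfl h1.2 (fun x hx _ => rfl)

/-- **Saturation.** -/
theorem sys_isSaturated [Finite S] [Fact p.Prime] (h : TData F p E A) (hS : IsPGroup p S) (hF : F.IsSaturated p) :
    h.sys.IsSaturated p :=
  opPrimeSys_isSaturated_on hS F hF _ _ (goodFamily_famH hS F h.stronglyClosed) (h.sys_key hS hF)

theorem sys_hasPrimeToPIndexIn [Finite S] [Fact p.Prime] (h : TData F p E A) (hS : IsPGroup p S)
    (hF : F.IsSaturated p) : h.sys.HasPrimeToPIndexIn F p :=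
  opPrimeSys_hasPrimeToPIndexIn hS F hF _ _

/-- **`E` is contained in `A_S ∘ O^{p'}_*(F)`.** -/
theorem le_sys [Finite S] [Fact p.Prime] (h : TData F p E A) (hS : IsPGroup p S) (hF : F.IsSaturated p)
    (P : Subgroup Ω) : E.Hom P ⊆ h.sys.Hom P := by
  have hT := h.stronglyClosed
  have hTS : T ≤ S := hT.1
  have hfinT : Finite T := finite_of_le hTS
  have hTp : IsPGroup p T := Cfsg.Agent.Lib.Helper88.isPGroup_of_le hS hTS
  obtain ⟨-, hfr, -⟩ := Cfsg.Agent.S5114.result p hS F hF (opPrimeStar F p) (opPrimeStar_le F p)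
    (containsPGens_opPrimeStar F p)
  revert P
  apply alperin_goldschmidt' E h.sys hTp h.wn.1
  intro P hP α hα
  have hPc : E.IsCentric P := by
    rcases hP with rfl | hess
    · exact isCentric_self E
    · exact hess.1
  have hPT : P ≤ T := hPc.1
  have hφE : P.subtype.comp (α : P ≃* P).toMonoidHom ∈ E.Hom P := (mem_autGroup_iff E hPT).1 hα
  have hφF := h.subsystem P hφE
  obtain ⟨a, ha, φ₀, hφ₀, hfac⟩ := hfr P _ hφF
  have hφ₀t : φ₀ ∈ h.tSys.Hom P := h.mem_tSys_of_mem_pullSys hS hPT (h.opPrimeStar_le_pullSys hS hF P hφ₀)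
  have hφ₀S : ∀ x : P, φ₀ x ∈ S := ((opPrimeStar F p).le_of_mem hφ₀).2
  have hφ₀T : ∀ x : P, φ₀ x ∈ T := (h.tSys.le_of_mem hφ₀t).2
  have hαi : P.subtype.comp ((α⁻¹ : MulAut P) : P ≃* P).toMonoidHom ∈ h.tSys.Hom P :=
    h.le_tSys P ((mem_autGroup_iff E hPT).1 (Subgroup.inv_mem _ hα))
  have hres : resHom (resTFun F hT a ha)⁻¹ P hPT ∈ h.tSys.Hom P := by
    refine comp_mem' h.tSys hαi hφ₀t (fun x => (α⁻¹ x).2) (fun x => ?_)
    show (((resTFun F hT a ha)⁻¹ ⟨x, hPT x.2⟩ : T) : Ω) = φ₀ (α⁻¹ x)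
    have e1 := hfac (α⁻¹ x) (hφ₀S _)
    have e2 : (⟨x, hPT x.2⟩ : T) = resTFun F hT a ha ⟨φ₀ (α⁻¹ x), hφ₀T _⟩ := by
      apply Subtype.ext
      rw [resTFun_apply, ← e1]
      show (x : Ω) = ((α (α⁻¹ x) : P) : Ω)
      rw [MulAut.apply_inv_self]
    rw [e2, MulAut.inv_apply_self]
  have h2 : (resTFun F hT a ha)⁻¹ ∈ A :=
    h.key_claim hS P hPT hPc _ (Subgroup.inv_mem _ (resTFun_mem F hT a ha)) hres
  have h3 : a ∈ liftSub F hT A := mem_liftSub.2 ⟨ha, by simpa using A.inv_mem h2⟩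
  exact ⟨a, h3, φ₀, hφ₀, fun x => hfac x _⟩

/-- stability of `A_S ∘ O^{p'}_*(F)` under `Aut_F(S)`, twist form -/
theorem sys_twist (h : TData F p E A) {α : MulAut S} (hα : α ∈ F.autGroup S) (P : Subgroup Ω) :
    h.sys.Hom P ⊆ (twist h.sys α).Hom P :=
  prodSystem_twist (opPrimeStar F p) (liftSub F h.stronglyClosed A)
    (fun _ ha P => opPrimeStar_twist F p (liftSub_le F h.stronglyClosed A ha) P) (opPrimeStar_twist F p hα)
    (fun a ha => liftSub_normal F h.stronglyClosed h.normal α hα a ha) P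

theorem sys_invClause (h : TData F p E A) : InvClause h.sys F := by
  intro P hPS φ hφ α hα
  obtain ⟨hPS', hφS, χ, hχ, hχe⟩ := h.sys_twist hα P hφ
  exact ⟨χ, hχ, fun x hφx hαx => hχe x⟩

theorem sys_isInvariantIn [Finite S] [Fact p.Prime] (h : TData F p E A) (hS : IsPGroup p S) (hF : F.IsSaturated p) :
    h.sys.IsInvariantIn F :=
  ⟨h.sys_le, ⟨le_rfl, fun _ _ _ hφ x => (F.le_of_mem hφ).2 x⟩, h.sys_invClause,
    fun P _ φ hφ => (Cfsg.Agent.S5114.result p hS F hF h.sys h.sys_le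
      (containsPGens_opPrimeSys F p _ _)).2.1 P φ hφ⟩

theorem sys_isWeaklyNormalIn [Finite S] [Fact p.Prime] (h : TData F p E A) (hS : IsPGroup p S)
    (hF : F.IsSaturated p) : h.sys.IsWeaklyNormalIn F p :=
  ⟨h.sys_isSaturated hS hF, hF, h.sys_isInvariantIn hS hF⟩

/-- **`A_S ∘ O^{p'}_*(F)` is normal in `F`.** -/
theorem sys_isNormalIn [Finite S] [Fact p.Prime] (h : TData F p E A) (hS : IsPGroup p S)
    (hF : F.IsSaturated p) : h.sys.IsNormalIn F p := by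
  refine ⟨h.sys_isWeaklyNormalIn hS hF, fun α hα => ?_⟩
  have hαF : α ∈ F.autGroup S := liftSub_le F h.stronglyClosed A ((h.mem_autGroup_sys hS hF).1 hα)
  have hSS : S ⊔ centralizerIn S S = S := sup_eq_left.2 inf_le_left
  have he : IsIso F (MulEquiv.subgroupCongr hSS.symm) :=
    hom_of_eq_on F rfl (subtype_mem F le_rfl) (fun x hx _ => rfl)
  refine ⟨MulAut.congr (MulEquiv.subgroupCongr hSS.symm) α, congr_mem_autGroup F he hαF, fun x => ?_, fun c hc => ?_⟩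
  · have h1 : (MulEquiv.subgroupCongr hSS.symm).symm (Subgroup.inclusion le_sup_left x) = x := Subtype.ext rfl
    show (((MulEquiv.subgroupCongr hSS.symm) (α ((MulEquiv.subgroupCongr hSS.symm).symm
      (Subgroup.inclusion le_sup_left x))) : ↥(S ⊔ centralizerIn S S)) : Ω) = ((α x : S) : Ω)
    rw [h1]
    rfl
  · have h1 : (MulEquiv.subgroupCongr hSS.symm).symm c = ⟨(c : Ω), hc.1⟩ := Subtype.ext rfl
    have h2 : (((MulAut.congr (MulEquiv.subgroupCongr hSS.symm) α) c : ↥(S ⊔ centralizerIn S S)) : Ω) =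
        ((α ⟨(c : Ω), hc.1⟩ : S) : Ω) := by
      show (((MulEquiv.subgroupCongr hSS.symm) (α ((MulEquiv.subgroupCongr hSS.symm).symm c)) :
        ↥(S ⊔ centralizerIn S S)) : Ω) = _
      rw [h1]
      rfl
    rw [h2]
    -- `α z` is central in `S`
    have hz : ∀ s : S, (⟨(c : Ω), hc.1⟩ : S) * s = s * ⟨(c : Ω), hc.1⟩ := by
      intro s
      apply Subtype.ext
      exact ((Subgroup.mem_centralizer_iff.1 hc.2) s s.2).symm
    have hαz : ∀ s : S, α ⟨(c : Ω), hc.1⟩ * s = s * α ⟨(c : Ω), hc.1⟩ := by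
      intro s
      have h3 := congrArg α (hz (α⁻¹ s))
      rw [map_mul, map_mul, MulAut.apply_inv_self] at h3
      exact h3
    refine ⟨S.mul_mem (S.inv_mem hc.1) (α _).2, ?_⟩
    show _ ∈ Subgroup.centralizer (S : Set Ω)
    rw [Subgroup.mem_centralizer_iff]
    intro s hs
    have h4 : (s : Ω) * (c : Ω) = (c : Ω) * s := (Subgroup.mem_centralizer_iff.1 hc.2) s hs
    have h5 : ((α ⟨(c : Ω), hc.1⟩ : S) : Ω) * s = s * ((α ⟨(c : Ω), hc.1⟩ : S) : Ω) :=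
      congrArg Subtype.val (hαz ⟨s, hs⟩)
    have h6 : s * (c : Ω)⁻¹ = (c : Ω)⁻¹ * s := by
      calc s * (c : Ω)⁻¹ = (c : Ω)⁻¹ * ((c : Ω) * s) * (c : Ω)⁻¹ := by group
        _ = (c : Ω)⁻¹ * (s * (c : Ω)) * (c : Ω)⁻¹ := by rw [h4]
        _ = (c : Ω)⁻¹ * s := by group
    calc s * ((c : Ω)⁻¹ * ((α ⟨(c : Ω), hc.1⟩ : S) : Ω))
        = (s * (c : Ω)⁻¹) * ((α ⟨(c : Ω), hc.1⟩ : S) : Ω) := by group
      _ = (c : Ω)⁻¹ * (s * ((α ⟨(c : Ω), hc.1⟩ : S) : Ω)) := by rw [h6]; group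
      _ = (c : Ω)⁻¹ * (((α ⟨(c : Ω), hc.1⟩ : S) : Ω) * s) := by rw [h5]
      _ = (c : Ω)⁻¹ * ((α ⟨(c : Ω), hc.1⟩ : S) : Ω) * s := by group

end TData

end Cfsg.Agent.Lib.Helper84
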