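/-
helper84: a lemma on `p`-groups used for the generation theorem `F = ⟨C_F(℧¹(Z(S))), N_F(J(S))⟩`:
if `R` is normal in the finite `p`-group `T` and some abelian subgroup of `T` of largest order is not contained in `R`,
then some element of `T` outside `R` centralizes the `p`-th powers of the elements of `Z(R)`.
All declarations live in `Cfsg.Agent.Lib.Helper84.OZ`.
-/
import Mathlib
import Cfsg.Prelude.Def_PLocal
import Cfsg.Agent.S0649
import Cfsg.Agent.S0650
import Cfsg.Agent.Lib.Helper50.LargeAbelian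

set_option autoImplicit false

namespace Cfsg.Agent.Lib.Helper84.OZ

open Cfsg Cfsg.Agent.Lib.Helper11

/-- quadratic action: if `h b = (c b) h` with `c` commuting with `h` and `b`, then `h^k b = c^k b h^k` -/
theorem pow_mul_of_quadratic {T : Type*} [Group T] (h b c : T) (hb : h * b = c * b * h) (hch : c * h = h * c) (k : ℕ) :
    h ^ k * b = c ^ k * b * h ^ k := by
  have hchk : ∀ k : ℕ, h ^ k * c = c * h ^ k := fun k => ((Commute.pow_right (show Commute c h from hch) k).eq).symm
  induction k with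
  | zero => simp
  | succ k ih =>
    calc h ^ (k + 1) * b = h ^ k * (h * b) := by rw [pow_succ, mul_assoc]
      _ = h ^ k * (c * b * h) := by rw [hb]
      _ = (h ^ k * c) * b * h := by simp only [mul_assoc]
      _ = c * (h ^ k * b) * h := by rw [hchk k]; simp only [mul_assoc]
      _ = c * (c ^ k * b * h ^ k) * h := by rw [ih]
      _ = c ^ (k + 1) * b * h ^ (k + 1) := by rw [pow_succ' c k, pow_succ h k]; simp only [mul_assoc]

/-- a power `h` of `g ∉ R` with `h ∉ R` and `h ^ p ∈ R`, in a `p`-group -/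
theorem exists_pow_not_mem {T : Type*} [Group T] {p : ℕ} [Fact p.Prime] (hT : IsPGroup p T) (R : Subgroup T) (g : T)
    (hg : g ∉ R) : ∃ j : ℕ, g ^ p ^ j ∉ R ∧ (g ^ p ^ j) ^ p ∈ R := by
  classical
  obtain ⟨n, hn⟩ := hT g
  have hex : ∃ k : ℕ, g ^ p ^ k ∈ R := ⟨n, by rw [hn]; exact R.one_mem⟩
  have h0 : Nat.find hex ≠ 0 := by
    intro h0
    have := Nat.find_spec hex
    rw [h0, pow_zero, pow_one] at this
    exact hg this
  obtain ⟨j, hj⟩ := Nat.exists_eq_succ_of_ne_zero h0
  refine ⟨j, ?_, ?_⟩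
  · exact Nat.find_min hex (by omega)
  · have := Nat.find_spec hex
    rw [hj, Nat.succ_eq_add_one, pow_succ, pow_mul] at this
    exact this

/-- **Lemma P.** Let `R` be normal in the finite `p`-group `T`, and suppose some abelian subgroup of `T` of largest order is not
contained in `R`. Then some `h ∉ R` commutes with `b ^ p` for every `b ∈ Z(R)`. -/
theorem exists_not_mem_commute_pow {T : Type*} [Group T] [Finite T] {p : ℕ} [Fact p.Prime] (hT : IsPGroup p T)
    (R : Subgroup T) [hRn : R.Normal] (hJ : ∃ A ∈ maxAbelianSubgroups T, ¬ A ≤ R) :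
    ∃ h : T, h ∉ R ∧ ∀ b ∈ R, (∀ r ∈ R, r * b = b * r) → h * b ^ p = b ^ p * h := by
  classical
  set B : Subgroup T := R ⊓ Subgroup.centralizer (R : Set T) with hBdef
  have hBn : B.Normal := Subgroup.normal_inf_normal _ _
  have hBR : B ≤ R := inf_le_left
  have hBcR : B ≤ Subgroup.centralizer (R : Set T) := inf_le_right
  have hBc : IsMulCommutative B := by
    rw [Cfsg.Agent.Lib.Helper50.isMulCommutative_iff_le_centralizer]
    exact hBcR.trans (Subgroup.centralizer_le (SetLike.coe_subset_coe.mpr hBR))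
  have hBB : ⁅B, B⁆ = ⊥ := by
    rw [Subgroup.commutator_eq_bot_iff_le_centralizer]
    exact (Cfsg.Agent.Lib.Helper50.isMulCommutative_iff_le_centralizer B).mp hBc
  have hB2 : p = 2 → IsMulCommutative B := fun _ => hBc
  -- choose `A` of largest order, not inside `R`, with `|A ∩ B|` maximal
  let 𝒞 : Set (Subgroup T) := {A | A ∈ maxAbelianSubgroups T ∧ ¬ A ≤ R}
  have h𝒞fin : 𝒞.Finite := Set.toFinite 𝒞
  have h𝒞ne : 𝒞.Nonempty := by
    obtain ⟨U, hU, h1⟩ := hJ
    exact ⟨U, hU, h1⟩
  obtain ⟨A, ⟨hAmax, hAR⟩, hmax⟩ :=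
    Set.exists_max_image 𝒞 (fun A => Nat.card ↥(A ⊓ B)) h𝒞fin h𝒞ne
  have hAc : IsMulCommutative A := hAmax.1
  have hBAle : ⁅B, B⁆ ≤ A := by rw [hBB]; exact bot_le
  -- `B` normalizes `A`
  have hBN : B ≤ Subgroup.normalizer (A : Set T) := by
    by_contra hnot
    obtain ⟨b, hb, hbN, hbA⟩ := Cfsg.Agent.S0649.result hT B hB2 A hAc hBAle hnot
    obtain ⟨h1, h2, -, h4, -, -, h7, -⟩ := Cfsg.Agent.S0650.result hT B hB2 A hAc hBAle hnot b hb hbN hbA
    have hstar : starA A b ∈ maxAbelianSubgroups T :=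
      Cfsg.Agent.Lib.Helper50.mem_maxAbelianSubgroups_of_card_eq A _ hAmax h2 (le_of_eq h1.symm)
    have hstarR : starA A b ≤ R := by
      by_contra hnR
      have hcard := hmax (starA A b) ⟨hstar, hnR⟩
      have heq : A ⊓ B = starA A b ⊓ B := Subgroup.eq_of_le_of_card_ge h4.le hcard
      exact (ne_of_lt h4) heq
    have hcen : Subgroup.centralizer ((starA A b : Subgroup T) : Set T) = starA A b :=
      Cfsg.Agent.Lib.Helper50.centralizer_eq_of_mem_maxAbelianSubgroups _ hstar
    have hBstar : B ≤ starA A b := by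
      rw [← hcen]
      exact hBcR.trans (Subgroup.centralizer_le (SetLike.coe_subset_coe.mpr hstarR))
    exact hnot (hBstar.trans h7)
  -- an element of `A` outside `R`
  obtain ⟨g, hgA, hgR⟩ := SetLike.not_le_iff_exists.1 hAR
  obtain ⟨j, hjR, hjp⟩ := exists_pow_not_mem hT R g hgR
  refine ⟨g ^ p ^ j, hjR, fun b hbR hbZ => ?_⟩
  set h := g ^ p ^ j with hh
  have hhA : h ∈ A := Subgroup.pow_mem _ hgA _
  have hbB : b ∈ B := by
    refine ⟨hbR, Subgroup.mem_centralizer_iff.2 ?_⟩
    intro r hr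
    exact hbZ r hr
  have hAcomm : ∀ x ∈ A, ∀ y ∈ A, x * y = y * x := fun x hx y hy => by
    have := (Cfsg.Agent.Lib.Helper50.isMulCommutative_iff_le_centralizer A).mp hAc hx
    rw [Subgroup.mem_centralizer_iff] at this
    exact (this y hy).symm
  have hBcomm : ∀ x ∈ B, ∀ y ∈ B, x * y = y * x := fun x hx y hy => by
    have := (Cfsg.Agent.Lib.Helper50.isMulCommutative_iff_le_centralizer B).mp hBc hx
    rw [Subgroup.mem_centralizer_iff] at this
    exact (this y hy).symm
  set c := h * b * h⁻¹ * b⁻¹ with hc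
  have hcA : c ∈ A := by
    have h1 : b * h⁻¹ * b⁻¹ ∈ A :=
      (Subgroup.mem_normalizer_iff.1 (hBN hbB) h⁻¹).1 (A.inv_mem hhA)
    have : c = h * (b * h⁻¹ * b⁻¹) := by rw [hc]; group
    rw [this]
    exact A.mul_mem hhA h1
  have hcB : c ∈ B := by
    have h1 : h * b * h⁻¹ ∈ B := hBn.conj_mem b hbB h
    exact B.mul_mem h1 (B.inv_mem hbB)
  have hch : c * h = h * c := hAcomm c hcA h hhA
  have hcb : c * b = b * c := hBcomm c hcB b hbB
  have hhb : h * b = c * b * h := by rw [hc]; group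
  -- `h ^ p` centralizes `b`
  have hpow := pow_mul_of_quadratic h b c hhb hch p
  have hhpb : h ^ p * b = b * h ^ p := by
    have := hBcR hbB
    rw [Subgroup.mem_centralizer_iff] at this
    exact this _ hjp
  have hcp : c ^ p = 1 := by
    rw [hhpb] at hpow
    have h1 : b * h ^ p = c ^ p * (b * h ^ p) := hpow.trans (by simp only [mul_assoc])
    exact (mul_eq_right.1 h1.symm)
  have hsemi : SemiconjBy h b (c * b) := hhb
  have h2 := hsemi.pow_right p
  have h3 : (c * b) ^ p = b ^ p := by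
    rw [(show Commute c b from hcb).mul_pow, hcp, one_mul]
  rw [h3] at h2
  exact h2

end Cfsg.Agent.Lib.Helper84.OZ
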