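/-
helper84: the abelian-version Thompson subgroup `J(T)` of a finite subgroup `T` of an arbitrary ambient group (no finiteness of the
ambient group), the subgroups `Z(X)` and `℧¹(Z(X))` inside the ambient group, and the ambient form of Lemma P.
All declarations live in `Cfsg.Agent.Lib.Helper84.OZ`.
-/
import Mathlib
import Cfsg.Prelude.Def_PLocal
import Cfsg.Prelude.Def_FusionSystem
import Cfsg.Agent.Lib.Helper84.OZLemmaP
import Cfsg.Agent.Lib.Helper47.ThompsonA

set_option autoImplicit false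

namespace Cfsg.Agent.Lib.Helper84.OZ

open Cfsg Cfsg.FusionSystem
open Cfsg.Agent.Lib.Helper47 (maxAbIn)

universe u

variable {Ω : Type u} [Group Ω]

/-- `℧¹(Z(X))` inside the ambient group -/
def VV (p : ℕ) (X : Subgroup Ω) : Subgroup Ω := powerClosure p 1 (X ⊓ Subgroup.centralizer (X : Set Ω))

theorem VV_le (p : ℕ) (X : Subgroup Ω) : VV p X ≤ X ⊓ Subgroup.centralizer (X : Set Ω) := by
  unfold VV powerClosure
  rw [Subgroup.closure_le]
  rintro y ⟨x, hx, rfl⟩
  exact Subgroup.pow_mem _ hx _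

theorem VV_le' (p : ℕ) (X : Subgroup Ω) : VV p X ≤ X := (VV_le p X).trans inf_le_left

theorem VV_mono (p : ℕ) {X Y : Subgroup Ω}
    (h : X ⊓ Subgroup.centralizer (X : Set Ω) ≤ Y ⊓ Subgroup.centralizer (Y : Set Ω)) : VV p X ≤ VV p Y := by
  unfold VV powerClosure
  apply Subgroup.closure_mono
  rintro y ⟨x, hx, rfl⟩
  exact ⟨x, h hx, rfl⟩

/-- an automorphism of `P` mapping `Q ≤ P` onto itself maps `℧¹(Z(Q))` into itself -/
theorem VV_map_mem (p : ℕ) {P Q : Subgroup Ω} (hQP : Q ≤ P) (α : MulAut P)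
    (h1 : ∀ x : P, (x : Ω) ∈ Q → ((α x : P) : Ω) ∈ Q) (h2 : ∀ x : P, (x : Ω) ∈ Q → ((α⁻¹ x : P) : Ω) ∈ Q) :
    ∀ x : P, (x : Ω) ∈ VV p Q → ((α x : P) : Ω) ∈ VV p Q := by
  have key : VV p Q ≤ (((VV p Q).subgroupOf P).comap (α : P ≃* P).toMonoidHom).map P.subtype := by
    unfold VV powerClosure
    rw [Subgroup.closure_le]
    rintro y ⟨x, hx, rfl⟩
    have hxP : x ∈ P := hQP hx.1
    refine ⟨⟨x, hxP⟩ ^ p ^ 1, ?_, rfl⟩
    show (α (⟨x, hxP⟩ ^ p ^ 1) : P) ∈ (Subgroup.closure _).subgroupOf P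
    rw [Subgroup.mem_subgroupOf, map_pow]
    apply Subgroup.subset_closure
    refine ⟨((α ⟨x, hxP⟩ : P) : Ω), Subgroup.mem_inf.2 ⟨h1 ⟨x, hxP⟩ hx.1, ?_⟩, rfl⟩
    rw [Subgroup.mem_centralizer_iff]
    intro q hq
    have hqP : q ∈ P := hQP hq
    have hq' := h2 ⟨q, hqP⟩ hq
    have hxc : x ∈ Subgroup.centralizer (Q : Set Ω) := hx.2
    rw [Subgroup.mem_centralizer_iff] at hxc
    have h3 := hxc _ hq'
    have h4 : (α⁻¹ ⟨q, hqP⟩ : P) * ⟨x, hxP⟩ = ⟨x, hxP⟩ * (α⁻¹ ⟨q, hqP⟩ : P) := Subtype.ext h3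
    have h5 := congrArg (fun z : P => ((α z : P) : Ω)) h4
    simp only [map_mul, MulAut.apply_inv_self, Subgroup.coe_mul] at h5
    exact h5
  intro x hx
  obtain ⟨y, hy, hyx⟩ := key hx
  have : y = x := Subtype.ext hyx
  rw [← this]
  exact Subgroup.mem_subgroupOf.1 hy

/-- an automorphism of `P` mapping `W ≤ P` into itself (as does its inverse) maps `C_P(W)` into itself -/
theorem centralizer_map_mem {P W : Subgroup Ω} (hWP : W ≤ P) (α : MulAut P)
    (h2 : ∀ x : P, (x : Ω) ∈ W → ((α⁻¹ x : P) : Ω) ∈ W) :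
    ∀ x : P, (x : Ω) ∈ Subgroup.centralizer (W : Set Ω) → ((α x : P) : Ω) ∈ Subgroup.centralizer (W : Set Ω) := by
  intro x hx
  rw [Subgroup.mem_centralizer_iff] at hx ⊢
  intro w hw
  have hwP : w ∈ P := hWP hw
  have h3 := hx _ (h2 ⟨w, hwP⟩ hw)
  have h4 : (α⁻¹ ⟨w, hwP⟩ : P) * x = x * (α⁻¹ ⟨w, hwP⟩ : P) := Subtype.ext h3
  have h5 := congrArg (fun z : P => ((α z : P) : Ω)) h4
  simp only [map_mul, MulAut.apply_inv_self, Subgroup.coe_mul] at h5
  exact h5

/-! ### The Thompson subgroup of a finite subgroup of an arbitrary group -/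

theorem mem_maxAbIn_iff' (T A : Subgroup Ω) :
    A ∈ maxAbIn T ↔ ∃ A' ∈ maxAbelianSubgroups ↥T, A'.map T.subtype = A := by
  constructor
  · rintro ⟨hUD, hUc, hUmax⟩
    refine ⟨A.subgroupOf T, ⟨inferInstance, ?_⟩, Subgroup.map_subgroupOf_eq_of_le hUD⟩
    intro B' hB'
    have h1 : Nat.card (A.subgroupOf T) = Nat.card A :=
      Nat.card_congr (Subgroup.subgroupOfEquivOfLe hUD).toEquiv
    rw [h1, ← Subgroup.card_map_of_injective (K := B') T.subtype_injective]
    exact hUmax _ (Subgroup.map_subtype_le B') inferInstance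
  · rintro ⟨A', ⟨hAc, hAmax⟩, rfl⟩
    refine ⟨Subgroup.map_subtype_le A', inferInstance, ?_⟩
    intro V hVD hVc
    have h1 : Nat.card (V.subgroupOf T) = Nat.card V :=
      Nat.card_congr (Subgroup.subgroupOfEquivOfLe hVD).toEquiv
    have h2 := hAmax (V.subgroupOf T) inferInstance
    rw [h1] at h2
    show Nat.card V ≤ Nat.card (A'.map T.subtype)
    rw [Subgroup.card_map_of_injective T.subtype_injective]
    exact h2

theorem map_mem_maxAbIn' (T : Subgroup Ω) {A' : Subgroup ↥T}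
    (hA' : A' ∈ maxAbelianSubgroups ↥T) : A'.map T.subtype ∈ maxAbIn T :=
  (mem_maxAbIn_iff' T _).mpr ⟨A', hA', rfl⟩

theorem maxAbIn_nonempty' (T : Subgroup Ω) [Finite T] : (maxAbIn T).Nonempty := by
  obtain ⟨A, hA⟩ := Cfsg.Agent.Lib.Helper50.exists_mem_maxAbelianSubgroups ↥T
  exact ⟨_, map_mem_maxAbIn' T hA⟩

theorem thompsonSubgroupAOf_eq_sSup' (T : Subgroup Ω) :
    thompsonSubgroupAOf T = sSup (maxAbIn T) := by
  unfold thompsonSubgroupAOf thompsonSubgroupA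
  rw [(Subgroup.gc_map_comap T.subtype).l_sSup]
  apply le_antisymm
  · refine iSup₂_le fun A hA => ?_
    exact le_sSup (map_mem_maxAbIn' T hA)
  · refine sSup_le fun A hA => ?_
    obtain ⟨A', hA', rfl⟩ := (mem_maxAbIn_iff' T A).mp hA
    exact le_iSup₂ (f := fun (B : Subgroup ↥T) (_ : B ∈ maxAbelianSubgroups ↥T) => B.map T.subtype)
      A' hA'

theorem le_thompsonSubgroupAOf' {T A : Subgroup Ω} (hA : A ∈ maxAbIn T) :
    A ≤ thompsonSubgroupAOf T := by
  rw [thompsonSubgroupAOf_eq_sSup']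
  exact le_sSup hA

theorem thompsonSubgroupAOf_le (T : Subgroup Ω) : thompsonSubgroupAOf T ≤ T := by
  unfold thompsonSubgroupAOf
  exact Subgroup.map_subtype_le _

/-- If `J(T) ≤ U ≤ T` then `J(U) = J(T)`. -/
theorem thompsonSubgroupAOf_eq_of_le_of_le' {T U : Subgroup Ω} [Finite T] (hUT : U ≤ T)
    (hJU : thompsonSubgroupAOf T ≤ U) : thompsonSubgroupAOf U = thompsonSubgroupAOf T := by
  obtain ⟨A₀, hA₀⟩ := maxAbIn_nonempty' T
  have hA₀U : A₀ ≤ U := (le_thompsonSubgroupAOf' hA₀).trans hJU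
  have hsets : maxAbIn U = maxAbIn T := by
    ext A
    constructor
    · intro hA
      refine ⟨hA.1.trans hUT, hA.2.1, fun B hBT hB => ?_⟩
      exact (hA₀.2.2 B hBT hB).trans (hA.2.2 A₀ hA₀U hA₀.2.1)
    · intro hA
      exact ⟨(le_thompsonSubgroupAOf' hA).trans hJU, hA.2.1,
        fun B hBU hB => hA.2.2 B (hBU.trans hUT) hB⟩
  rw [thompsonSubgroupAOf_eq_sSup', thompsonSubgroupAOf_eq_sSup', hsets]

/-- An abelian subgroup of `T` of largest order contains every abelian subgroup of `T` commuting with it. -/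
theorem le_of_mem_maxAbIn_of_commute' {T A B : Subgroup Ω} [Finite T] (hA : A ∈ maxAbIn T)
    (hBT : B ≤ T) (hB : IsMulCommutative B) (hAB : B ≤ Subgroup.centralizer (A : Set Ω)) :
    B ≤ A := by
  have hsup : IsMulCommutative ↥(B ⊔ A) :=
    Cfsg.Agent.Lib.Helper50.isMulCommutative_sup B A hB hA.2.1 hAB
  have hle : B ⊔ A ≤ T := sup_le hBT hA.1
  have hcard := hA.2.2 _ hle hsup
  have hfin : Finite ↥(B ⊔ A) := Finite.of_injective _ (Subgroup.inclusion_injective hle)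
  have : A = B ⊔ A := Subgroup.eq_of_le_of_card_ge le_sup_right hcard
  rw [this]
  exact le_sup_left

/-- if `C_T(Q) ≰ Q` then `J(T) ≰ Q` -/
theorem not_thompsonSubgroupAOf_le {T Q : Subgroup Ω} [Finite T] (h : ¬ centralizerIn T Q ≤ Q) :
    ¬ thompsonSubgroupAOf T ≤ Q := by
  intro hJ
  obtain ⟨x, hxC, hxQ⟩ := SetLike.not_le_iff_exists.1 h
  obtain ⟨A, hA⟩ := maxAbIn_nonempty' T
  have hAQ : A ≤ Q := (le_thompsonSubgroupAOf' hA).trans hJ
  have hz : IsMulCommutative ↥(Subgroup.zpowers x) := inferInstance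
  have hzT : Subgroup.zpowers x ≤ T := by
    rw [Subgroup.zpowers_le]
    exact hxC.1
  have hzA : Subgroup.zpowers x ≤ Subgroup.centralizer (A : Set Ω) := by
    rw [Subgroup.zpowers_le]
    exact Subgroup.centralizer_le (SetLike.coe_subset_coe.mpr hAQ) hxC.2
  have := le_of_mem_maxAbIn_of_commute' hA hzT hz hzA
  exact hxQ (hAQ (this (Subgroup.mem_zpowers x)))

/-! ### Lemma P, ambient form -/

/-- **Lemma P (ambient form).** If `R` is normal in the finite `p`-group `T` and `J(T) ≰ R` then some element of `T` outside `R`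
centralizes `℧¹(Z(R))`. -/
theorem exists_centralizing_not_mem {p : ℕ} [Fact p.Prime] {T R : Subgroup Ω} [Finite T] (hT : IsPGroup p T)
    (hRT : R ≤ T) (hTR : T ≤ Subgroup.normalizer (R : Set Ω)) (hJ : ¬ thompsonSubgroupAOf T ≤ R) :
    ∃ g ∈ T, g ∉ R ∧ g ∈ Subgroup.centralizer ((VV p R : Subgroup Ω) : Set Ω) := by
  have hRn : (R.subgroupOf T).Normal := Subgroup.normal_subgroupOf_of_le_normalizer hTR
  have hJ' : ∃ A ∈ maxAbelianSubgroups ↥T, ¬ A ≤ R.subgroupOf T := by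
    by_contra hall
    apply hJ
    rw [thompsonSubgroupAOf_eq_sSup']
    apply sSup_le
    intro A hA
    obtain ⟨A', hA', rfl⟩ := (mem_maxAbIn_iff' T A).1 hA
    have hle : A' ≤ R.subgroupOf T := by
      by_contra hn
      exact hall ⟨A', hA', hn⟩
    rintro _ ⟨a, ha, rfl⟩
    exact Subgroup.mem_subgroupOf.1 (hle ha)
  obtain ⟨h, hhR, hh⟩ := exists_not_mem_commute_pow hT (R.subgroupOf T) hJ'
  refine ⟨(h : Ω), h.2, fun hmem => hhR (Subgroup.mem_subgroupOf.2 hmem), ?_⟩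
  have hle : VV p R ≤ Subgroup.centralizer ({(h : Ω)} : Set Ω) := by
    unfold VV powerClosure
    rw [Subgroup.closure_le]
    rintro y ⟨x, hx, rfl⟩
    have hxT : x ∈ T := hRT hx.1
    have h1 := hh ⟨x, hxT⟩ (Subgroup.mem_subgroupOf.2 hx.1) (by
      intro r hr
      apply Subtype.ext
      have hxc : x ∈ Subgroup.centralizer (R : Set Ω) := hx.2
      rw [Subgroup.mem_centralizer_iff] at hxc
      exact hxc _ (Subgroup.mem_subgroupOf.1 hr))
    have h2 := congrArg (fun z : T => (z : Ω)) h1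
    simp only [Subgroup.coe_mul, Subgroup.coe_pow] at h2
    show x ^ p ^ 1 ∈ Subgroup.centralizer ({(h : Ω)} : Set Ω)
    rw [Subgroup.mem_centralizer_iff]
    intro g hg
    rw [Set.mem_singleton_iff] at hg
    rw [hg, pow_one]
    exact h2
  rw [Subgroup.mem_centralizer_iff]
  intro v hv
  have := hle hv
  rw [Subgroup.mem_centralizer_iff] at this
  exact (this _ rfl).symm

end Cfsg.Agent.Lib.Helper84.OZ
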