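/-
helper84: basic tools for the generation theorem `F = ⟨C_F(℧¹(Z(S))), N_F(J(S))⟩`: restriction of a fusion system to a subgroup,
comparison of the number of morphisms of systems over different subgroups, monotonicity of centralizer and normalizer maps,
elements of a normalized subgroup normalizing a given subgroup, the Thompson subgroup as a functor.
All declarations live in `Cfsg.Agent.Lib.Helper84.OZ`.
-/
import Mathlib
import Cfsg.Prelude.Def_PLocal
import Cfsg.Prelude.Def_FusionSystem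
import Cfsg.Agent.Lib.Helper84.OZThompson
import Cfsg.Agent.Lib.Helper84.KLBasic
import Cfsg.Agent.Lib.Helper88.FusionNilpFunctor
import Cfsg.Agent.Lib.Helper88.FusionNilpSub

set_option autoImplicit false

namespace Cfsg.Agent.Lib.Helper84.OZ

open Cfsg Cfsg.FusionSystem Cfsg.Agent.Lib.Helper87 Cfsg.Agent.Lib.Helper88
open Cfsg.Agent.Lib.Helper88.NilpRed

universe u

variable {Ω : Type u} [Group Ω] {S : Subgroup Ω}

/-! ### Restriction of a fusion system to a subgroup -/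

/-- the maps of `E` between subgroups of `T` -/
def restrictSystem (E : FusionSystem S) (T : Subgroup Ω) (hTS : T ≤ S) : FusionSystem T where
  Hom P := {φ | φ ∈ E.Hom P ∧ P ≤ T ∧ ∀ x : P, φ x ∈ T}
  le_of_mem h := ⟨h.2.1, h.2.2⟩
  injective_of_mem h := E.injective_of_mem h.1
  conj_mem hP hg := ⟨E.conj_mem (hP.trans hTS) (hTS hg), hP,
    fun x => T.mul_mem (T.mul_mem hg (hP x.2)) (T.inv_mem hg)⟩
  comp_mem := by
    rintro P Q φ ψ ⟨hφ, hP, hφT⟩ ⟨hψ, hQ, hψT⟩ h
    exact ⟨E.comp_mem hφ hψ h, hP, fun x => hψT _⟩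
  inv_mem := by
    rintro P φ ⟨hφ, hP, hφT⟩
    obtain ⟨ψ, hψ, hinv⟩ := E.inv_mem hφ
    refine ⟨ψ, ⟨hψ, ?_, ?_⟩, hinv⟩
    · rintro _ ⟨x, rfl⟩
      exact hφT x
    · rintro ⟨_, x, rfl⟩
      rw [hinv x]
      exact hP x.2

theorem mem_restrictSystem_hom (E : FusionSystem S) (T : Subgroup Ω) (hTS : T ≤ S) {P : Subgroup Ω} {φ : P →* Ω} :
    φ ∈ (restrictSystem E T hTS).Hom P ↔ φ ∈ E.Hom P ∧ P ≤ T ∧ ∀ x : P, φ x ∈ T := Iff.rfl

/-! ### Counting morphisms over different subgroups -/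

theorem morCount_lt_cross [Finite S] {T : Subgroup Ω} [Finite T] (hTS : T ≤ S) (N : FusionSystem T)
    (F : FusionSystem S) (hle : ∀ P, N.Hom P ⊆ F.Hom P) (hne : ∃ P, N.Hom P ≠ F.Hom P) :
    morCount N < morCount F := by
  classical
  unfold morCount
  have h1 : ∑ P ∈ (Cfsg.Agent.Lib.Helper85.finite_subgroups_le T).toFinset, (N.Hom P).ncard =
      ∑ P ∈ (Cfsg.Agent.Lib.Helper85.finite_subgroups_le S).toFinset, (N.Hom P).ncard := by
    apply Finset.sum_subset
    · intro P hP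
      rw [Set.Finite.mem_toFinset] at hP ⊢
      exact le_trans hP hTS
    · intro P _ hP
      rw [Set.Finite.mem_toFinset] at hP
      have : N.Hom P = ∅ := by
        ext φ
        simp only [Set.mem_empty_iff_false, iff_false]
        intro hφ
        exact hP (hom_le N hφ)
      rw [this, Set.ncard_empty]
  rw [h1]
  obtain ⟨P₀, hP₀⟩ := hne
  apply Finset.sum_lt_sum
  · intro P _
    exact Set.ncard_le_ncard (hle P) (hom_finite F P)
  · have hss : N.Hom P₀ ⊂ F.Hom P₀ := ⟨hle P₀, fun h => hP₀ (Set.Subset.antisymm (hle P₀) h)⟩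
    obtain ⟨φ, hφ, -⟩ := Set.exists_of_ssubset hss
    refine ⟨P₀, ?_, Set.ncard_lt_ncard hss (hom_finite F P₀)⟩
    rw [Set.Finite.mem_toFinset]
    exact hom_le F hφ

/-! ### Monotonicity of centralizer and normalizer maps -/

theorem centralizerHom_mono {T : Subgroup Ω} (N : FusionSystem T) (F : FusionSystem S)
    (hle : ∀ P, N.Hom P ⊆ F.Hom P) {V V' : Subgroup Ω} (hV : V ≤ V') (hVS : S ≤ Subgroup.centralizer (V : Set Ω))
    (P : Subgroup Ω) : N.centralizerHom V' P ⊆ F.centralizerHom V P := by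
  rintro φ ⟨hφ, hP, hφC, ψ, hψ, hψe, hψV⟩
  have hφF : φ ∈ F.Hom P := hle P hφ
  have hPS : P ≤ S := hom_le F hφF
  refine ⟨hφF, fun x hx => ⟨hPS hx, hVS (hPS hx)⟩,
    fun x => ⟨hom_map_mem F hφF x, hVS (hom_map_mem F hφF x)⟩, ?_⟩
  have hle' : P ⊔ V ≤ P ⊔ V' := sup_le_sup_left hV P
  refine ⟨ψ.comp (Subgroup.inclusion hle'), restrict_mem F (hle _ hψ) hle', fun x => ?_, fun x => ?_⟩
  · exact hψe x
  · exact hψV ⟨x, hV x.2⟩

theorem normalizerHom_mono {T : Subgroup Ω} (hTS : T ≤ S) (N : FusionSystem T) (F : FusionSystem S)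
    (hle : ∀ P, N.Hom P ⊆ F.Hom P) (X : Subgroup Ω) (P : Subgroup Ω) :
    N.normalizerHom X P ⊆ F.normalizerHom X P := by
  rintro φ ⟨hφ, hP, hφN, ψ, hψ, hψe, hψX⟩
  have hle' : normalizerIn T X ≤ normalizerIn S X := inf_le_inf_right _ hTS
  exact ⟨hle P hφ, hP.trans hle', fun x => hle' (hφN x), ψ, hle _ hψ, hψe, hψX⟩

/-! ### Elements of a normalized subgroup normalizing a given subgroup -/

theorem exists_mem_normalizer_not_mem_of_normalized [Finite S] {p : ℕ} [Fact p.Prime] (hS : IsPGroup p S)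
    {R K : Subgroup Ω} (hRS : R ≤ S) (hKS : K ≤ S) (hRK : R ≤ Subgroup.normalizer (K : Set Ω)) (hK : ¬ K ≤ R) :
    ∃ c ∈ K, c ∈ Subgroup.normalizer (R : Set Ω) ∧ c ∉ R := by
  have hle : R ⊔ K ≤ S := sup_le hRS hKS
  have hfin : Finite ↥(R ⊔ K) := finite_of_le hle
  have hp : IsPGroup p ↥(R ⊔ K) := hS.to_le hle
  have hne : R ≠ R ⊔ K := by
    intro h
    apply hK
    rw [h]
    exact le_sup_right
  obtain ⟨x, hxN, hxR⟩ := exists_mem_normalizerIn_not_mem hp (le_sup_left : R ≤ R ⊔ K) hne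
  have hx : x ∈ ((R ⊔ K : Subgroup Ω) : Set Ω) := hxN.1
  rw [Subgroup.coe_mul_of_left_le_normalizer_right R K hRK] at hx
  obtain ⟨u, hu, c, hc, rfl⟩ := hx
  refine ⟨c, hc, ?_, ?_⟩
  · have : c = u⁻¹ * (u * c) := by group
    rw [this]
    exact Subgroup.mul_mem _ (Subgroup.inv_mem _ (Subgroup.le_normalizer hu)) hxN.2
  · intro hcR
    exact hxR (R.mul_mem hu hcR)

/-! ### The Thompson subgroup as a functor -/

/-- the abelian-version Thompson subgroup functor -/
def jW : ∀ (Q : Type u) [Group Q], Subgroup Q := fun Q _ => thompsonSubgroupA Q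

theorem inducedFunctor_jW (P : Subgroup Ω) : inducedFunctor jW P = thompsonSubgroupAOf P := rfl

theorem isCharPFunctor_jW (p : ℕ) : IsCharPFunctor.{u} p jW :=
  Cfsg.Agent.Lib.Helper47.isCharPFunctor_thompsonA p

/-- `N_S(T)` normalizes `J(T)` -/
theorem normalizerIn_le_normalizerIn_JJ [Finite S] {p : ℕ} (hS : IsPGroup p S)
    {T : Subgroup Ω} (hTS : T ≤ S) : normalizerIn S T ≤ normalizerIn S (thompsonSubgroupAOf T) := by
  have : Finite T := finite_of_le hTS
  intro g hg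
  exact ⟨hg.1, inducedFunctor_normalizer (isCharPFunctor_jW p) (isPGroup_of_le hS hTS) hg.2⟩

theorem le_normalizerIn_JJ [Finite S] {p : ℕ} (hS : IsPGroup p S)
    {T : Subgroup Ω} (hTS : T ≤ S) : T ≤ normalizerIn S (thompsonSubgroupAOf T) :=
  (le_normalizerIn hTS).trans (normalizerIn_le_normalizerIn_JJ hS hTS)

/-- an automorphism of `R` maps `J(R)` onto itself -/
theorem map_JJ_eq [Finite S] {p : ℕ} (hS : IsPGroup p S) {R : Subgroup Ω} (hRS : R ≤ S) (α : MulAut R) :
    ((thompsonSubgroupAOf R).subgroupOf R).map (R.subtype.comp (α : R ≃* R).toMonoidHom) = thompsonSubgroupAOf R := by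
  have : Finite R := finite_of_le hRS
  have hRp : IsPGroup p R := isPGroup_of_le hS hRS
  rw [map_subgroupOf_eq_iff]
  constructor
  · intro x hx
    exact (inducedFunctor_equiv (isCharPFunctor_jW p) hRp (α : R ≃* R) x).1 hx
  · intro q hq
    have hqR : q ∈ R := thompsonSubgroupAOf_le R hq
    refine ⟨α.symm ⟨q, hqR⟩, ?_, ?_⟩
    · rw [← inducedFunctor_jW, inducedFunctor_equiv (isCharPFunctor_jW p) hRp (α : R ≃* R)]
      show ((α (α.symm ⟨q, hqR⟩) : R) : Ω) ∈ _
      rw [MulEquiv.apply_symm_apply]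
      exact hq
    · show ((α (α.symm ⟨q, hqR⟩) : R) : Ω) = q
      rw [MulEquiv.apply_symm_apply]

end Cfsg.Agent.Lib.Helper84.OZ
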