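/-
helper84: the Frattini step of the generation theorem `F = ⟨C_F(℧¹(Z(S))), N_F(J(S))⟩`: if some element of `N_S(R) \ R` centralizes an
`Aut_F(R)`-invariant subgroup `W ≥ ℧¹(Z(S))` of `R`, then `Aut_F(R)` is generated by automorphisms centralizing `W` and automorphisms
that extend to a strictly larger subgroup.
All declarations live in `Cfsg.Agent.Lib.Helper84.OZ`.
-/
import Mathlib
import Cfsg.Prelude.Def_PLocal
import Cfsg.Prelude.Def_FusionSystem
import Cfsg.Agent.Lib.Helper84.OZBasic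
import Cfsg.Agent.Lib.Helper87.FusionFrattini

set_option autoImplicit false

namespace Cfsg.Agent.Lib.Helper84.OZ

open Cfsg Cfsg.FusionSystem Cfsg.Agent.Lib.Helper87 Cfsg.Agent.Lib.Helper88

universe u

variable {Ω : Type u} [Group Ω] {S : Subgroup Ω}

/-- the automorphisms of `R` fixing `W` elementwise -/
def fixSub (R W : Subgroup Ω) : Subgroup (MulAut R) where
  carrier := {δ | ∀ x : R, (x : Ω) ∈ W → δ x = x}
  one_mem' := fun _ _ => rfl
  mul_mem' := by
    intro a b ha hb x hx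
    rw [MulAut.mul_apply, hb x hx, ha x hx]
  inv_mem' := by
    intro a ha x hx
    have := ha x hx
    calc a⁻¹ x = a⁻¹ (a x) := by rw [this]
      _ = x := MulAut.inv_apply_self _ _ _

theorem mem_fixSub {R W : Subgroup Ω} {δ : MulAut R} : δ ∈ fixSub R W ↔ ∀ x : R, (x : Ω) ∈ W → δ x = x := Iff.rfl

/-- `S` centralizes `℧¹(Z(S))` -/
theorem le_centralizer_VV (p : ℕ) (S : Subgroup Ω) : S ≤ Subgroup.centralizer ((VV p S : Subgroup Ω) : Set Ω) := by
  intro s hs
  rw [Subgroup.mem_centralizer_iff]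
  intro v hv
  have hvc : v ∈ Subgroup.centralizer (S : Set Ω) := ((VV_le p S) hv).2
  rw [Subgroup.mem_centralizer_iff] at hvc
  exact (hvc s hs).symm

/-- an automorphism in `Aut_F(R)` fixing `W ≥ ℧¹(Z(S))` elementwise, `W ≤ R`, is a map of `C_F(℧¹(Z(S)))` -/
theorem mem_centralizerHom_of_mem_fixSub {p : ℕ} (F : FusionSystem S) {R W : Subgroup Ω} (hRS : R ≤ S)
    (hVW : VV p S ≤ W) (hWR : W ≤ R) {δ : MulAut R} (hδF : δ ∈ F.autGroup R) (hδ : δ ∈ fixSub R W) :
    R.subtype.comp (δ : R ≃* R).toMonoidHom ∈ F.centralizerHom (VV p S) R := by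
  have hδhom : R.subtype.comp (δ : R ≃* R).toMonoidHom ∈ F.Hom R := (Cfsg.Agent.Lib.Helper87.mem_autGroup_iff F hRS).1 hδF
  have hcen := le_centralizer_VV p S
  refine ⟨hδhom, fun x hx => ⟨hRS hx, hcen (hRS hx)⟩,
    fun x => ⟨hom_map_mem F hδhom x, hcen (hom_map_mem F hδhom x)⟩, ?_⟩
  have hle : R ⊔ VV p S ≤ R := sup_le le_rfl (hVW.trans hWR)
  refine ⟨(R.subtype.comp (δ : R ≃* R).toMonoidHom).comp (Subgroup.inclusion hle), restrict_mem F hδhom hle,
    fun x => ?_, fun x => ?_⟩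
  · show ((δ _ : R) : Ω) = ((δ x : R) : Ω)
    congr 2
  · show ((δ _ : R) : Ω) = (x : Ω)
    have := hδ ⟨(x : Ω), hWR (hVW x.2)⟩ (hVW x.2)
    exact congrArg (fun z : R => (z : Ω)) this

/-- **The Frattini step.** -/
theorem aut_mem_of_centralizing [Finite S] {p : ℕ} [Fact p.Prime] (hS : IsPGroup p S) (F E : FusionSystem S)
    (hC : ∀ P, F.centralizerHom (VV p S) P ⊆ E.Hom P)
    {R : Subgroup Ω} (hRa : F.IsFullyAutomized p R) (hRr : F.IsReceptive R) (W : Subgroup Ω) (hVW : VV p S ≤ W)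
    (hWR : W ≤ R) (hWinv : ∀ α ∈ F.autGroup R, ∀ x : R, (x : Ω) ∈ W → ((α x : R) : Ω) ∈ W)
    (g : Ω) (hg : g ∈ normalizerIn S R) (hgR : g ∉ R) (hgW : g ∈ Subgroup.centralizer (W : Set Ω))
    (AIH : ∀ P' : Subgroup Ω, Nat.card R < Nat.card P' → F.Hom P' ⊆ E.Hom P')
    (α : MulAut R) (hα : α ∈ F.autGroup R) : IsIso E (α : R ≃* R) := by
  have hRS : R ≤ S := hRa.1
  have hDn : ∀ α ∈ F.autGroup R, ∀ β ∈ fixSub R W, α * β * α⁻¹ ∈ fixSub R W := by
    intro α hα β hβ x hx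
    have h1 : ((α⁻¹ x : R) : Ω) ∈ W := hWinv α⁻¹ (Subgroup.inv_mem _ hα) x hx
    rw [MulAut.mul_apply, MulAut.mul_apply, hβ _ h1, MulAut.apply_inv_self]
  have hgD : conjAut R g hg.2 ∈ fixSub R W := by
    intro x hx
    apply Subtype.ext
    rw [conjAut_apply]
    rw [Subgroup.mem_centralizer_iff] at hgW
    rw [← hgW _ hx]
    group
  obtain ⟨δ, hδD, X, ψ, hψ, hRX, hXN, hgX, hψe⟩ :=
    exists_frattini_extension F hS hRa hRr (fixSub R W) hDn α hα g hg hgD
  have hXS : X ≤ S := hXN.trans (normalizerIn_le S R)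
  have hXfin : Finite X := finite_of_le hXS
  have hlt : Nat.card R < Nat.card X := by
    by_contra hle
    have heq := Subgroup.eq_of_le_of_card_ge hRX (not_lt.mp hle)
    exact hgR (heq ▸ hgX)
  have hψE : ψ ∈ E.Hom X := AIH X hlt hψ
  -- `δ * α` is a map of `E` and of `F`
  have hδαE : IsIso E ((δ * α : MulAut R) : R ≃* R) := by
    refine restrict_mem' E hψE hRX ?_
    intro x
    exact (hψe x.1 x.2 (hRX x.2)).symm
  have hδαF : δ * α ∈ F.autGroup R := by
    rw [Cfsg.Agent.Lib.Helper87.mem_autGroup_iff F hRS]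
    refine restrict_mem' F hψ hRX ?_
    intro x
    exact (hψe x.1 x.2 (hRX x.2)).symm
  have hδF : δ ∈ F.autGroup R := by
    have : δ = (δ * α) * α⁻¹ := by group
    rw [this]
    exact Subgroup.mul_mem _ hδαF (Subgroup.inv_mem _ hα)
  have hδE : IsIso E (δ : R ≃* R) := hC R (mem_centralizerHom_of_mem_fixSub F hRS hVW hWR hδF hδD)
  have hδinvE : IsIso E ((δ : R ≃* R).symm) := hδE.symm
  have := IsIso.trans hδαE hδinvE
  have heq : (((δ * α : MulAut R) : R ≃* R).trans ((δ : R ≃* R).symm)) = (α : R ≃* R) := by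
    ext x
    show ((δ.symm ((δ * α) x) : R) : Ω) = _
    rw [MulAut.mul_apply]
    simp
  rw [heq] at this
  exact this

end Cfsg.Agent.Lib.Helper84.OZ
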