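/-
helper84: the climbing argument of the generation theorem `F = ⟨C_F(℧¹(Z(S))), N_F(J(S))⟩`: maps of `F` normalizing `J(T)`, for `T`
large enough, are maps of the target system `E`, by induction on the index of `T` and using the theorem for the proper subsystems
`N_F(X)`.
All declarations live in `Cfsg.Agent.Lib.Helper84.OZ`.
-/
import Mathlib
import Cfsg.Prelude.Def_PLocal
import Cfsg.Prelude.Def_FusionSystem
import Cfsg.Agent.Lib.Helper84.OZFrattini
import Cfsg.Agent.Lib.Helper84.KLLocalGlobal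
import Cfsg.Agent.Lib.Helper85.FusionFactor

set_option autoImplicit false

namespace Cfsg.Agent.Lib.Helper84.OZ

open Cfsg Cfsg.FusionSystem Cfsg.Agent.Lib.Helper87 Cfsg.Agent.Lib.Helper88 Cfsg.Agent.Lib.Helper84.Model
open Cfsg.Agent.Lib.Helper88.NilpRed Cfsg.Agent.Lib.Helper84.KL

universe u

variable {Ω : Type u} [Group Ω] {S : Subgroup Ω}

/-- `℧¹(Z(S)) ≤ ℧¹(Z(T))` for `T ≤ S` normalized... in fact for every `T ≤ S` containing `Z(S)` -/
theorem VV_le_VV_of_le (p : ℕ) {T : Subgroup Ω} (hTS : T ≤ S)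
    (hZT : S ⊓ Subgroup.centralizer (S : Set Ω) ≤ T) : VV p S ≤ VV p T := by
  apply VV_mono
  intro z hz
  exact ⟨hZT hz, Subgroup.centralizer_le (SetLike.coe_subset_coe.mpr hTS) hz.2⟩

/-- `Z(S) ≤ N_S(X)` for `X ≤ S` -/
theorem center_le_normalizerIn {X : Subgroup Ω} (hXS : X ≤ S) :
    S ⊓ Subgroup.centralizer (S : Set Ω) ≤ normalizerIn S X := by
  intro z hz
  refine ⟨hz.1, ?_⟩
  have h1 : z ∈ Subgroup.centralizer (X : Set Ω) :=
    Subgroup.centralizer_le (SetLike.coe_subset_coe.mpr hXS) hz.2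
  exact Subgroup.centralizer_le_normalizer _ h1

section Climb

variable [Finite S] {p : ℕ} [Fact p.Prime] (hS : IsPGroup p S) (F : FusionSystem S) (hF : F.IsSaturated p)
  (E : FusionSystem S)
  (hC : ∀ P, F.centralizerHom (VV p S) P ⊆ E.Hom P)
  (hN : ∀ P, F.normalizerHom (thompsonSubgroupAOf S) P ⊆ E.Hom P)
  (IH : ∀ (S' : Subgroup Ω) [Finite S'] (F' : FusionSystem S'), S' ≤ S → morCount F' < morCount F →
      IsPGroup p S' → F'.IsSaturated p → ∀ E' : FusionSystem S',
        (∀ P, F'.centralizerHom (VV p S') P ⊆ E'.Hom P) →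
        (∀ P, F'.normalizerHom (thompsonSubgroupAOf S') P ⊆ E'.Hom P) → ∀ P, F'.Hom P ⊆ E'.Hom P)
  {Q : Subgroup Ω} (hQ : F.IsNormal Q) (hQmax : ∀ X : Subgroup Ω, F.IsNormal X → X ≤ Q)

include hS hF hC hN IH hQ hQmax in
/-- climbing along the chain `T ↦ N_S(J(T))` -/
theorem climb (r : ℕ) (AIH : ∀ P' : Subgroup Ω, r < Nat.card P' → F.Hom P' ⊆ E.Hom P') :
    ∀ (n : ℕ) (T : Subgroup Ω), T ≤ S → Nat.card S - Nat.card T ≤ n → r < Nat.card T → Q ≤ T →
      ¬ centralizerIn T Q ≤ Q →
      ∀ (A : Subgroup Ω) (ψ : A →* Ω), ψ ∈ F.Hom A → A ≤ normalizerIn S (thompsonSubgroupAOf T) →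
        thompsonSubgroupAOf T ≤ A → ((thompsonSubgroupAOf T).subgroupOf A).map ψ = thompsonSubgroupAOf T →
        ψ ∈ E.Hom A := by
  intro n
  induction n with
  | zero =>
    intro T hTS hn hrT hQT hCQ A ψ hψ hAN hVA hψV
    have hTS' : T = S := by
      have h1 : Nat.card T ≤ Nat.card S := Subgroup.card_le_of_le hTS
      exact Subgroup.eq_of_le_of_card_ge hTS (by omega)
    subst hTS'
    have : Finite (thompsonSubgroupAOf T) := finite_of_le (thompsonSubgroupAOf_le T)
    exact hN A (Cfsg.Agent.S5126.mem_normalizerHom_of_map_eq F hVA hAN hψ hψV)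
  | succ n ih =>
    intro T hTS hn hrT hQT hCQ A ψ hψ hAN hVA hψV
    by_cases hTS' : T = S
    · subst hTS'
      have : Finite (thompsonSubgroupAOf T) := finite_of_le (thompsonSubgroupAOf_le T)
      exact hN A (Cfsg.Agent.S5126.mem_normalizerHom_of_map_eq F hVA hAN hψ hψV)
    · have hTfin : Finite T := finite_of_le hTS
      have hTp : IsPGroup p T := isPGroup_of_le hS hTS
      have hVT : thompsonSubgroupAOf T ≤ T := thompsonSubgroupAOf_le T
      have hVS : thompsonSubgroupAOf T ≤ S := hVT.trans hTS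
      have hVfin : Finite (thompsonSubgroupAOf T) := finite_of_le hVS
      have hVT₂ : thompsonSubgroupAOf T ≤ normalizerIn S (thompsonSubgroupAOf T) := le_normalizerIn hVS
      have hT₂S : normalizerIn S (thompsonSubgroupAOf T) ≤ S := normalizerIn_le S _
      have hT₂fin : Finite (normalizerIn S (thompsonSubgroupAOf T)) := finite_of_le hT₂S
      have hTT₂ : T ≤ normalizerIn S (thompsonSubgroupAOf T) := le_normalizerIn_JJ hS hTS
      -- `|N_S(J(T))| > |T|`
      have hcardT₂ : Nat.card T < Nat.card (normalizerIn S (thompsonSubgroupAOf T)) := by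
        have h1 := card_lt_card_normalizerIn hS hTS hTS'
        have h2 : Nat.card (normalizerIn S T) ≤ Nat.card (normalizerIn S (thompsonSubgroupAOf T)) :=
          Subgroup.card_le_of_le (normalizerIn_le_normalizerIn_JJ hS hTS)
        omega
      obtain ⟨V', ρ, hV'n, hconj, hρ, hρT, hρV, hV'ρ⟩ :=
        exists_fullyNormalized_transport hS F hF hVS hVT₂ le_rfl
      have hV'S : V' ≤ S := hV'n.1
      have hV'fin : Finite V' := finite_of_le hV'S
      have hρE : ρ ∈ E.Hom (normalizerIn S (thompsonSubgroupAOf T)) := AIH _ (by omega) hρ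
      have hQsc : F.StronglyClosed Q := Cfsg.Agent.Lib.Helper84.stronglyClosed_of_isNormal F hQ
      have hQT₂ : Q ≤ normalizerIn S (thompsonSubgroupAOf T) := hQT.trans hTT₂
      -- `V'` is not normal in `F`
      have hV'nn : ¬ F.IsNormal V' := by
        intro hn'
        have hV'Q := hQmax V' hn'
        apply not_thompsonSubgroupAOf_le hCQ
        intro v hv
        have h1 : ρ ⟨v, hVT₂ hv⟩ ∈ V' := hρV _ hv
        exact (Cfsg.Agent.Lib.Helper85.stronglyClosed_apply_mem_iff F hQsc hρ ⟨v, hVT₂ hv⟩).1 (hV'Q h1)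
      have hN' := isNormalizerSystem_normalizerSystem F V' hV'S
      have hT'S : normalizerIn S V' ≤ S := normalizerIn_le S V'
      have hT'fin : Finite (normalizerIn S V') := finite_of_le hT'S
      have hT'p : IsPGroup p (normalizerIn S V') := isPGroup_of_le hS hT'S
      have hF'sat := isSaturated_of_isNormalizerSystem F hS hF hV'n hN'
      have hF'le : ∀ P, (normalizerSystem F V' hV'S).Hom P ⊆ F.Hom P := by
        intro P φ hφ
        rw [hN' P] at hφ
        exact hφ.1
      have hlt : morCount (normalizerSystem F V' hV'S) < morCount F := by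
        apply morCount_lt_cross hT'S _ F hF'le
        by_contra hall
        have hall' : ∀ P, (normalizerSystem F V' hV'S).Hom P = F.Hom P := fun P => by
          by_contra h
          exact hall ⟨P, h⟩
        apply hV'nn
        apply isNormal_of_hom_subset F hV'S
        intro P
        rw [← hN' P, hall' P]
      have hcardT' : Nat.card (normalizerIn S (thompsonSubgroupAOf T)) ≤ Nat.card (normalizerIn S V') :=
        hV'n.2 _ (IsConj_symm hconj)
      have hT'le : Nat.card (normalizerIn S V') ≤ Nat.card S := Subgroup.card_le_of_le hT'S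
      have hQT' : Q ≤ normalizerIn S V' := by
        intro q hq
        obtain ⟨x, -, hxq⟩ := Cfsg.Agent.Lib.Helper85.stronglyClosed_surj F hQsc hρ hQT₂ q hq
        rw [← hxq]
        exact hρT x
      have hCQ' : ¬ centralizerIn (normalizerIn S V') Q ≤ Q := by
        obtain ⟨x, hxC, hxQ⟩ := SetLike.not_le_iff_exists.1 hCQ
        have hxT₂ : x ∈ normalizerIn S (thompsonSubgroupAOf T) := hTT₂ hxC.1
        intro hle
        have h1 : ρ ⟨x, hxT₂⟩ ∈ centralizerIn (normalizerIn S V') Q := by
          refine Subgroup.mem_inf.2 ⟨hρT _, ?_⟩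
          rw [Subgroup.mem_centralizer_iff]
          intro q hq
          obtain ⟨y, hyQ, hyq⟩ := Cfsg.Agent.Lib.Helper85.stronglyClosed_surj F hQsc hρ hQT₂ q hq
          rw [← hyq, ← map_mul, ← map_mul]
          congr 1
          apply Subtype.ext
          have hxc : x ∈ Subgroup.centralizer (Q : Set Ω) := hxC.2
          rw [Subgroup.mem_centralizer_iff] at hxc
          exact hxc _ hyQ
        exact hxQ ((Cfsg.Agent.Lib.Helper85.stronglyClosed_apply_mem_iff F hQsc hρ ⟨x, hxT₂⟩).1 (hle h1))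
      -- the theorem for `N_F(V')`
      have hF'E' : ∀ P, (normalizerSystem F V' hV'S).Hom P ⊆ (restrictSystem E (normalizerIn S V') hT'S).Hom P := by
        apply IH (normalizerIn S V') (normalizerSystem F V' hV'S) hT'S hlt hT'p hF'sat
        · intro P φ hφ
          have h1 := centralizerHom_mono (normalizerSystem F V' hV'S) F hF'le
            (VV_le_VV_of_le p hT'S (center_le_normalizerIn hV'S)) (le_centralizer_VV p S) P hφ
          exact ⟨hC P h1, hom_le _ hφ.1, hom_map_mem _ hφ.1⟩
        · intro P φ hφ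
          obtain ⟨hφF', hP, hφN, ψ₂, hψ₂, hψ₂e, hψ₂J⟩ := hφ
          have hψ₂F : ψ₂ ∈ F.Hom (P ⊔ thompsonSubgroupAOf (normalizerIn S V')) := hF'le _ hψ₂
          have hA₂ : P ⊔ thompsonSubgroupAOf (normalizerIn S V') ≤
              normalizerIn S (thompsonSubgroupAOf (normalizerIn S V')) :=
            sup_le (hP.trans (inf_le_inf_right _ hT'S))
              ((thompsonSubgroupAOf_le _).trans (le_normalizerIn_JJ hS hT'S))
          have h2 := ih (normalizerIn S V') hT'S (by omega) (by omega) hQT' hCQ' _ ψ₂ hψ₂F hA₂ le_sup_right hψ₂J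
          have hφE : φ ∈ E.Hom P := restrict_mem' E h2 le_sup_left (fun x => (hψ₂e x).symm)
          exact ⟨hφE, hom_le _ hφF', hom_map_mem _ hφF'⟩
      -- `ψ` has values in `N_S(J(T))`
      have hψN := Cfsg.Agent.S5126.mem_normalizerHom_of_map_eq F hVA hAN hψ hψV
      have hψT₂ : ∀ x : A, ψ x ∈ normalizerIn S (thompsonSubgroupAOf T) := hψN.2.2.1
      rw [map_subgroupOf_eq_iff] at hψV
      obtain ⟨D', ψ', hmemD', hψ', hD'surj, hkey⟩ := exists_transport_hom F hρ hAN hψ hψT₂
      have hD'T : D' ≤ normalizerIn S V' := by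
        intro y hy
        obtain ⟨x, rfl⟩ := hD'surj y hy
        exact hρT _
      have hV'D' : V' ≤ D' := by
        intro v hv
        obtain ⟨x, hx, rfl⟩ := hV'ρ v hv
        exact hmemD' ⟨x, hVA hx⟩
      have hψ'V' : (V'.subgroupOf D').map ψ' = V' := by
        rw [map_subgroupOf_eq_iff]
        constructor
        · rintro ⟨y, hy⟩ hyV
          obtain ⟨x, rfl⟩ := hD'surj y hy
          have hx₀ : (x : Ω) ∈ thompsonSubgroupAOf T := by
            obtain ⟨x', hx', hxx'⟩ := hV'ρ _ hyV
            have h2 : (⟨x, hAN x.2⟩ : normalizerIn S (thompsonSubgroupAOf T)) = x' :=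
              (F.injective_of_mem hρ hxx').symm
            have h3 : (x : Ω) = x' := congrArg (fun z : normalizerIn S (thompsonSubgroupAOf T) => (z : Ω)) h2
            rw [h3]
            exact hx'
          rw [hkey x]
          exact hρV _ (hψV.1 x hx₀)
        · intro v hv
          obtain ⟨x, hx, rfl⟩ := hV'ρ v hv
          obtain ⟨x₁, hx₁, hx₁x⟩ := hψV.2 x hx
          refine ⟨⟨ρ ⟨x₁, hAN x₁.2⟩, hmemD' x₁⟩, hρV _ hx₁, ?_⟩
          rw [hkey x₁]
          congr 1
          exact Subtype.ext hx₁x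
      have hψ'N₂ : ψ' ∈ (normalizerSystem F V' hV'S).Hom D' :=
        Cfsg.Agent.S5126.mem_normalizerHom_of_map_eq F hV'D' hD'T hψ' hψ'V'
      have hψ'E : ψ' ∈ E.Hom D' := (hF'E' D' hψ'N₂).1
      have hval : ∀ x : A, ∃ a : normalizerIn S (thompsonSubgroupAOf T),
          ρ a = ψ' ⟨ρ ⟨x, hAN x.2⟩, hmemD' x⟩ := fun x => ⟨⟨ψ x, hψT₂ x⟩, (hkey x).symm⟩
      obtain ⟨χt, hχt, hχtρ⟩ := exists_pullback_hom E hρE hAN hmemD' hψ'E hval
      have hχψ : χt = ψ := by
        ext x
        obtain ⟨h, h1⟩ := hχtρ x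
        rw [hkey x] at h1
        exact congrArg Subtype.val (F.injective_of_mem hρ h1)
      rw [← hχψ]
      exact hχt

end Climb

end Cfsg.Agent.Lib.Helper84.OZ
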