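/-
helper84: the generation theorem: a saturated fusion system `F` over a finite `p`-group `S` is generated by `C_F(℧¹(Z(S)))` and
`N_F(J(S))`.
All declarations live in `Cfsg.Agent.Lib.Helper84.OZ`.
-/
import Mathlib
import Cfsg.Prelude.Def_PLocal
import Cfsg.Prelude.Def_FusionSystem
import Cfsg.Agent.Lib.Helper84.OZClimb
import Cfsg.Agent.Lib.Helper84.KLMain
import Cfsg.Agent.Lib.Helper85.FusionNormal

set_option autoImplicit false

namespace Cfsg.Agent.Lib.Helper84.OZ

open Cfsg Cfsg.FusionSystem Cfsg.Agent.Lib.Helper87 Cfsg.Agent.Lib.Helper88 Cfsg.Agent.Lib.Helper84.Model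
open Cfsg.Agent.Lib.Helper88.NilpRed Cfsg.Agent.Lib.Helper84.KL

universe u

variable {Ω : Type u} [Group Ω] {S : Subgroup Ω}

/-- the induction step -/
theorem oz_step [Finite S] {p : ℕ} [Fact p.Prime] (hS : IsPGroup p S) (F : FusionSystem S) (hF : F.IsSaturated p)
    (IH : ∀ (S' : Subgroup Ω) [Finite S'] (F' : FusionSystem S'), S' ≤ S → morCount F' < morCount F →
      IsPGroup p S' → F'.IsSaturated p → ∀ E' : FusionSystem S',
        (∀ P, F'.centralizerHom (VV p S') P ⊆ E'.Hom P) →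
        (∀ P, F'.normalizerHom (thompsonSubgroupAOf S') P ⊆ E'.Hom P) → ∀ P, F'.Hom P ⊆ E'.Hom P)
    (E : FusionSystem S) (hC : ∀ P, F.centralizerHom (VV p S) P ⊆ E.Hom P)
    (hN : ∀ P, F.normalizerHom (thompsonSubgroupAOf S) P ⊆ E.Hom P) :
    ∀ P, F.Hom P ⊆ E.Hom P := by
  classical
  have hQ : F.IsNormal F.core := Cfsg.Agent.Lib.Helper85.isNormal_core F
  have hQmax : ∀ X : Subgroup Ω, F.IsNormal X → X ≤ F.core :=
    fun X hX => Cfsg.Agent.Lib.Helper85.le_core_of_isNormal F hX
  generalize F.core = Q at hQ hQmax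
  have hQS : Q ≤ S := hQ.1
  have hQfin : Finite Q := finite_of_le hQS
  have hQsc : F.StronglyClosed Q := Cfsg.Agent.Lib.Helper84.stronglyClosed_of_isNormal F hQ
  have hSNQ : S ≤ Subgroup.normalizer (Q : Set Ω) := le_normalizer_of_isNormal F hQ
  apply alperin_cr_weak F E hS hF
  intro R hRn hRc hRr hRa hRrec AIH α hα
  have hRS : R ≤ S := hRn.1
  have hRfin : Finite R := finite_of_le hRS
  have hαF : R.subtype.comp (α : R ≃* R).toMonoidHom ∈ F.Hom R :=
    (Cfsg.Agent.Lib.Helper87.mem_autGroup_iff F hRS).1 hα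
  show R.subtype.comp (α : R ≃* R).toMonoidHom ∈ E.Hom R
  have hQR : Q ≤ R := Cfsg.Agent.Lib.Helper84.le_of_isNormal_of_centric_radical F hS hQ hRc hRr
  have hCR : centralizerIn S R ≤ R := hRc.2 R (isConj_refl F hRS)
  -- case 0: `J(S) ≤ R`
  by_cases hJS : thompsonSubgroupAOf S ≤ R
  · apply hN R
    have hJfin : Finite (thompsonSubgroupAOf S) := finite_of_le (thompsonSubgroupAOf_le S)
    apply Cfsg.Agent.S5126.mem_normalizerHom_of_map_eq F hJS (hRS.trans (le_normalizerIn_JJ hS le_rfl)) hαF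
    rw [← thompsonSubgroupAOf_eq_of_le_of_le' hRS hJS]
    exact map_JJ_eq hS hRS α
  have hTS : normalizerIn S R ≤ S := normalizerIn_le S R
  have hTfin : Finite (normalizerIn S R) := finite_of_le hTS
  have hTp : IsPGroup p (normalizerIn S R) := isPGroup_of_le hS hTS
  have hRT : R ≤ normalizerIn S R := le_normalizerIn hRS
  by_cases hJT : thompsonSubgroupAOf (normalizerIn S R) ≤ R
  swap
  · -- (i): `J(N_S(R)) ≰ R`
    obtain ⟨g, hgT, hgR, hgV⟩ := exists_centralizing_not_mem hTp hRT inf_le_right hJT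
    have hVV : VV p S ≤ VV p R := VV_mono p (by
      intro z hz
      have hzc : z ∈ Subgroup.centralizer (R : Set Ω) :=
        Subgroup.centralizer_le (SetLike.coe_subset_coe.mpr hRS) hz.2
      exact ⟨hCR ⟨hz.1, hzc⟩, hzc⟩)
    exact aut_mem_of_centralizing hS F E hC hRa hRrec (VV p R) hVV (VV_le' p R)
      (fun β _ => VV_map_mem p le_rfl β (fun x _ => (β x).2) (fun x _ => (β⁻¹ x).2)) g hgT hgR hgV AIH α hα
  -- (iii): `J(N_S(R)) ≤ R` and `J(S) ≰ R`
  have hTS' : normalizerIn S R ≠ S := by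
    intro h
    rw [h] at hJT
    exact hJS hJT
  have hRS' : R ≠ S := by
    rintro rfl
    exact hTS' (le_antisymm hTS hRT)
  by_cases hcen : centralizerIn S Q ≤ Q
  · -- Case 1: `C_S(Q) ≤ Q`
    have hJQ : ¬ thompsonSubgroupAOf S ≤ Q := fun h => hJS (h.trans hQR)
    obtain ⟨g₀, hg₀S, hg₀Q, hg₀V⟩ := exists_centralizing_not_mem hS hQS hSNQ hJQ
    have hYS : centralizerIn S (VV p Q) ≤ S := inf_le_left
    have hYfin : Finite (centralizerIn S (VV p Q)) := finite_of_le hYS
    have hYQ : ¬ centralizerIn S (VV p Q) ≤ Q := fun h => hg₀Q (h ⟨hg₀S, hg₀V⟩)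
    -- invariance of `℧¹(Z(Q))`
    have hVQinv : ∀ (P : Subgroup Ω), Q ≤ P → P ≤ S → ∀ β ∈ F.autGroup P, ∀ x : P,
        (x : Ω) ∈ VV p Q → ((β x : P) : Ω) ∈ VV p Q := by
      intro P hQP hPS β hβ
      apply VV_map_mem p hQP β
      · intro x hx
        have hβF := (Cfsg.Agent.Lib.Helper87.mem_autGroup_iff F hPS).1 hβ
        exact (Cfsg.Agent.Lib.Helper85.stronglyClosed_apply_mem_iff F hQsc hβF x).2 hx
      · intro x hx
        have hβF := (Cfsg.Agent.Lib.Helper87.mem_autGroup_iff F hPS).1 (Subgroup.inv_mem _ hβ)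
        exact (Cfsg.Agent.Lib.Helper85.stronglyClosed_apply_mem_iff F hQsc hβF x).2 hx
    -- `S` normalizes `Y = C_S(℧¹(Z(Q)))`
    have hSNY : S ≤ Subgroup.normalizer ((centralizerIn S (VV p Q) : Subgroup Ω) : Set Ω) := by
      intro s hs
      apply Cfsg.Agent.Lib.Helper85.mem_normalizer_of_conj_le_of_finite
      intro y hy
      refine Subgroup.mem_inf.2 ⟨S.mul_mem (S.mul_mem hs hy.1) (S.inv_mem hs), ?_⟩
      have hsN : s ∈ Subgroup.normalizer (S : Set Ω) := Subgroup.le_normalizer hs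
      have hβ : conjAut S s hsN ∈ F.autGroup S :=
        Cfsg.Agent.Lib.Helper87.autInducedBy_le_autGroup F le_rfl (mem_autInducedBy_iff.2 ⟨s, hs, fun x => rfl⟩)
      have h1 := centralizer_map_mem (W := VV p Q) ((VV_le' p Q).trans hQS) (conjAut S s hsN)
        (fun x hx => hVQinv S hQS le_rfl _ (Subgroup.inv_mem _ hβ) x hx) ⟨y, hy.1⟩ hy.2
      rw [conjAut_apply] at h1
      exact h1
    have hNY : normalizerIn S (centralizerIn S (VV p Q)) = S := normalizerIn_eq_of_le_normalizer hSNY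
    -- `N_F(Y) ⊆ E`
    have hYfn : F.IsFullyNormalized (centralizerIn S (VV p Q)) := isFullyNormalized_of_normalizerIn_eq F hYS hNY
    have hFYsat : (normSysS F _ hYS hNY).IsSaturated p := by
      unfold normSysS
      rw [castSystem_isSaturated]
      exact isSaturated_of_isNormalizerSystem F hS hF hYfn (isNormalizerSystem_normalizerSystem F _ hYS)
    have hFYle : ∀ P, (normSysS F _ hYS hNY).Hom P ⊆ F.Hom P := by
      intro P φ hφ
      rw [normSysS_hom] at hφ
      exact hφ.1
    have hlt : morCount (normSysS F _ hYS hNY) < morCount F := by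
      apply morCount_lt hFYle
      by_contra hall
      have hall' : ∀ P, (normSysS F _ hYS hNY).Hom P = F.Hom P := fun P => by
        by_contra h
        exact hall ⟨P, h⟩
      apply hYQ
      apply hQmax
      apply isNormal_of_le_normSysS F hYS hNY
      intro P
      rw [hall' P]
    have hFYE : ∀ P, (normSysS F _ hYS hNY).Hom P ⊆ E.Hom P := by
      apply IH S (normSysS F _ hYS hNY) le_rfl hlt hS hFYsat E
      · intro P φ hφ
        exact hC P (centralizerHom_mono _ F hFYle le_rfl (le_centralizer_VV p S) P hφ)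
      · intro P φ hφ
        exact hN P (normalizerHom_mono le_rfl _ F hFYle _ P hφ)
    have hVQR : VV p Q ≤ R := (VV_le' p Q).trans hQR
    by_cases hYR : centralizerIn S (VV p Q) ≤ R
    · -- `α` normalizes `Y`
      apply hFYE R
      rw [normSysS_hom]
      apply Cfsg.Agent.S5126.mem_normalizerHom_of_map_eq F hYR (by rw [hNY]; exact hRS) hαF
      rw [map_subgroupOf_eq_iff]
      constructor
      · intro x hx
        refine Subgroup.mem_inf.2 ⟨hRS (α x).2, ?_⟩
        exact centralizer_map_mem hVQR α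
          (fun x hx => hVQinv R hQR hRS α⁻¹ (Subgroup.inv_mem _ hα) x hx) x hx.2
      · intro y hy
        have hyR : y ∈ R := hYR hy
        refine ⟨α⁻¹ ⟨y, hyR⟩, Subgroup.mem_inf.2 ⟨hRS (α⁻¹ ⟨y, hyR⟩).2, ?_⟩, ?_⟩
        · exact centralizer_map_mem hVQR α⁻¹
            (fun x hx => by rw [inv_inv]; exact hVQinv R hQR hRS α hα x hx) ⟨y, hyR⟩ hy.2
        · show ((α (α⁻¹ ⟨y, hyR⟩) : R) : Ω) = y
          rw [MulAut.apply_inv_self]
    · -- Frattini
      obtain ⟨c, hcY, hcN, hcR⟩ :=
        exists_mem_normalizer_not_mem_of_normalized hS hRS hYS (hRS.trans hSNY) hYR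
      have hVV : VV p S ≤ VV p Q := VV_mono p (by
        intro z hz
        have hzc : z ∈ Subgroup.centralizer (Q : Set Ω) :=
          Subgroup.centralizer_le (SetLike.coe_subset_coe.mpr hQS) hz.2
        exact ⟨hcen ⟨hz.1, hzc⟩, hzc⟩)
      exact aut_mem_of_centralizing hS F E hC hRa hRrec (VV p Q) hVV hVQR (hVQinv R hQR hRS) c
        ⟨hYS hcY, hcN⟩ hcR hcY.2 AIH α hα
  · -- Case 2: `C_S(Q) ≰ Q`
    have hCQT : ¬ centralizerIn (normalizerIn S R) Q ≤ Q := by
      by_cases hCR' : centralizerIn S Q ≤ R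
      · obtain ⟨x, hxC, hxQ⟩ := SetLike.not_le_iff_exists.1 hcen
        intro hle
        exact hxQ (hle ⟨hRT (hCR' hxC), hxC.2⟩)
      · have hKS : centralizerIn S Q ≤ S := inf_le_left
        have hKfin : Finite (centralizerIn S Q) := finite_of_le hKS
        have hRK : R ≤ Subgroup.normalizer ((centralizerIn S Q : Subgroup Ω) : Set Ω) := by
          intro r hr
          have hrS := hRS hr
          apply Cfsg.Agent.Lib.Helper85.mem_normalizer_of_conj_le_of_finite
          intro y hy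
          refine Subgroup.mem_inf.2 ⟨S.mul_mem (S.mul_mem hrS hy.1) (S.inv_mem hrS), ?_⟩
          rw [Subgroup.mem_centralizer_iff]
          intro q hq
          have hq' : r⁻¹ * q * r ∈ Q := by
            have := (Subgroup.mem_normalizer_iff.1 (Subgroup.inv_mem _ (hSNQ hrS)) q).1 hq
            simpa using this
          have hyc : y ∈ Subgroup.centralizer (Q : Set Ω) := hy.2
          rw [Subgroup.mem_centralizer_iff] at hyc
          have h3 := hyc _ hq'
          calc q * (r * y * r⁻¹) = r * ((r⁻¹ * q * r) * y) * r⁻¹ := by group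
            _ = r * (y * (r⁻¹ * q * r)) * r⁻¹ := by rw [h3]
            _ = r * y * r⁻¹ * q := by group
        obtain ⟨c, hcK, hcN, hcR⟩ := exists_mem_normalizer_not_mem_of_normalized hS hRS hKS hRK hCR'
        intro hle
        exact hcR (hQR (hle ⟨⟨hcK.1, hcN⟩, hcK.2⟩))
    have hcard := card_lt_card_normalizerIn hS hRS hRS'
    have hJeq : thompsonSubgroupAOf R = thompsonSubgroupAOf (normalizerIn S R) :=
      thompsonSubgroupAOf_eq_of_le_of_le' hRT hJT
    apply climb hS F hF E hC hN IH hQ hQmax (Nat.card R) AIH _ (normalizerIn S R) hTS le_rfl hcard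
      (hQR.trans hRT) hCQT R _ hαF
    · exact hRT.trans (le_normalizerIn_JJ hS hTS)
    · exact hJT
    · rw [← hJeq]
      exact map_JJ_eq hS hRS α

/-- **The generation theorem.** -/
theorem oz_main {p : ℕ} [Fact p.Prime] : ∀ (n : ℕ) (S : Subgroup Ω) [Finite S] (F : FusionSystem S),
    morCount F = n → IsPGroup p S → F.IsSaturated p → ∀ E : FusionSystem S,
      (∀ P, F.centralizerHom (VV p S) P ⊆ E.Hom P) →
      (∀ P, F.normalizerHom (thompsonSubgroupAOf S) P ⊆ E.Hom P) → ∀ P, F.Hom P ⊆ E.Hom P := by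
  intro n
  induction n using Nat.strong_induction_on with
  | _ n IHn =>
    intro S _ F hn hS hF E hC hN
    apply oz_step hS F hF _ E hC hN
    intro S' _ F' _ hlt hS' hF' E' hC' hN'
    exact IHn (morCount F') (hn ▸ hlt) S' F' rfl hS' hF' E' hC' hN'

end Cfsg.Agent.Lib.Helper84.OZ
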