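/-
helper84: saturation of `A ∘ O^{p'}_*(F)` from a "key lemma" on a good family `ℋ` of centric subgroups only:
if every `α ∈ Aut_F(S)` whose restriction to some `R ∈ ℋ` is a map of `A ∘ O^{p'}_*(F)` lies in `A`, then `A ∘ O^{p'}_*(F)` is saturated.
All declarations live in `Cfsg.Agent.Lib.Helper84`.
-/
import Cfsg.Agent.Lib.Helper84.PPrimeSat
import Cfsg.Agent.Lib.Helper84.PPrimeOn

set_option autoImplicit false

namespace Cfsg.Agent.Lib.Helper84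

open Cfsg Cfsg.FusionSystem
open Cfsg.Agent.Lib.Helper87
open Cfsg.Agent.Lib.Helper88.Invariance (resHom)

variable {Ω : Type*} [Group Ω] {S : Subgroup Ω}

/-- If conjugation by `g ∈ N_S(R)` is an inner automorphism of the centric subgroup `R`, then `g ∈ R`. -/
theorem mem_of_conjAut_mem_inn (F : FusionSystem S) {R : Subgroup Ω} (hcen : F.IsCentric R) {g : Ω}
    (hg : g ∈ normalizerIn S R) (h : conjAut R g hg.2 ∈ Inn R) : g ∈ R := by
  have hRS : R ≤ S := hcen.1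
  obtain ⟨y, hy⟩ := h
  have hcent : (y : Ω)⁻¹ * g ∈ centralizerIn S R := by
    refine ⟨S.mul_mem (S.inv_mem (hRS y.2)) hg.1, ?_⟩
    show (y : Ω)⁻¹ * g ∈ Subgroup.centralizer (R : Set Ω)
    rw [Subgroup.mem_centralizer_iff]
    intro z hz
    have h2 : ((MulAut.conj y) ⟨z, hz⟩ : R) = conjAut R g hg.2 ⟨z, hz⟩ := by
      have := congrArg (fun f : MulAut R => f ⟨z, hz⟩) hy
      exact this
    have h3 : (y : Ω) * z * (y : Ω)⁻¹ = g * z * g⁻¹ := by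
      have := congrArg Subtype.val h2
      simpa [MulAut.conj_apply, conjAut_apply] using this
    calc z * ((y : Ω)⁻¹ * g) = (y : Ω)⁻¹ * ((y : Ω) * z * (y : Ω)⁻¹) * g := by group
      _ = (y : Ω)⁻¹ * (g * z * g⁻¹) * g := by rw [h3]
      _ = (y : Ω)⁻¹ * g * z := by group
  have h4 : (y : Ω)⁻¹ * g ∈ R := hcen.2 R (isConj_refl F hRS) hcent
  have : g = (y : Ω) * ((y : Ω)⁻¹ * g) := by group
  rw [this]
  exact R.mul_mem y.2 h4

/-- `S` belongs to every good family. -/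
theorem GoodFamily.self_mem [Finite S] {p : ℕ} [Fact p.Prime] {F : FusionSystem S} (hF : F.IsSaturated p)
    {ℋ : Set (Subgroup Ω)} (hℋ : GoodFamily F p ℋ) : S ∈ ℋ := by
  by_contra hS
  obtain ⟨Q, hSQ, hQa, hQr⟩ := hF S le_rfl
  have hQS : Q ≤ S := IsConj_le_right hSQ
  have hc : Nat.card S = Nat.card Q := IsConj_card_eq hSQ
  have hQ : Q = S := Subgroup.eq_of_le_of_card_ge hQS hc.le
  subst hQ
  obtain ⟨g, hg, hgS, -⟩ := hℋ.escapes Q (isCentric_self F) hS hQa hQr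
  exact hgS hg.1

/-- **Saturation** of `A ∘ O^{p'}_*(F)` from the key lemma on a good family. -/
theorem opPrimeSys_isSaturated_on [Finite S] {p : ℕ} [Fact p.Prime] (hS : IsPGroup p S) (F : FusionSystem S)
    (hF : F.IsSaturated p) (A : Subgroup (MulAut S)) (hAF : A ≤ F.autGroup S)
    {ℋ : Set (Subgroup Ω)} (hℋ : GoodFamily F p ℋ)
    (hkey : ∀ α ∈ F.autGroup S, ∀ R ∈ ℋ, ∀ hR : R ≤ S,
      resHom α R hR ∈ (opPrimeSys F p A hAF).Hom R → α ∈ A) :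
    (opPrimeSys F p A hAF).IsSaturated p := by
  have hE₀F : ∀ P : Subgroup Ω, (opPrimeStar F p).Hom P ⊆ F.Hom P := opPrimeStar_le F p
  have hEF : ∀ P : Subgroup Ω, (opPrimeSys F p A hAF).Hom P ⊆ F.Hom P := opPrimeSys_le F p A hAF
  have hE₀E : ∀ P : Subgroup Ω, (opPrimeStar F p).Hom P ⊆ (opPrimeSys F p A hAF).Hom P :=
    opPrimeStar_le_opPrimeSys F p A hAF
  obtain ⟨-, hfr, -⟩ := Cfsg.Agent.S5114.result p hS F hF (opPrimeStar F p) hE₀F (containsPGens_opPrimeStar F p)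
  obtain ⟨hidx, -, hcen⟩ := Cfsg.Agent.S5114.result p hS F hF (opPrimeSys F p A hAF) hEF
    (containsPGens_opPrimeSys F p A hAF)
  -- a fully normalized conjugate inside the `O^{p'}_*(F)`-class
  have hfn : ∀ P : Subgroup Ω, P ≤ S → ∃ φ₀ : P →* Ω, φ₀ ∈ (opPrimeStar F p).Hom P ∧
      F.IsFullyNormalized φ₀.range := by
    intro P hPS
    obtain ⟨P', ⟨φ, hφ, rfl⟩, hP'fn⟩ := Cfsg.Agent.Lib.Helper85.exists_fullyNormalized_conj F hPS
    obtain ⟨α, hα, φ₀, hφ₀, hfac⟩ := hfr P φ hφ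
    exact ⟨φ₀, hφ₀, isFullyNormalized_range_of_factor F hφ (hE₀F P hφ₀) hα (fun x => hfac x _) hP'fn⟩
  apply Cfsg.Agent.S5110.result p hS (opPrimeSys F p A hAF) ℋ
  · exact fun P hP => (hℋ.centric P hP).1
  · rintro P hP Q ⟨φ, hφ, hr⟩
    exact hℋ.conj P hP Q ⟨φ, hEF P hφ, hr⟩
  · -- saturation on `ℋ`
    intro P hP
    have hPS := (hℋ.centric P hP).1
    obtain ⟨φ₀, hφ₀, hQfn⟩ := hfn P hPS
    have hφ₀F := hE₀F P hφ₀
    obtain ⟨hQa, hQr⟩ := fullyAutomized_receptive_of_fullyNormalized F hS hF hQfn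
    have hQℋ : φ₀.range ∈ ℋ := hℋ.conj P hP _ ⟨φ₀, hφ₀F, rfl⟩
    refine ⟨φ₀.range, ⟨φ₀, hE₀E P hφ₀, rfl⟩, isFullyAutomized_of_le _ F hEF hQa, hQa.1, ?_⟩
    intro R ρ hρ hρr
    obtain ⟨ψ, hψ, hψe⟩ := hQr.2 R ρ (hEF R hρ) hρr
    refine ⟨ψ, ?_, hψe⟩
    obtain ⟨γ, hγ, ψ₀, hψ₀, hψfac⟩ := hfr _ ψ hψ
    obtain ⟨β, hβ, ρ₀, hρ₀, hρfac⟩ := hρ
    have hρF : ρ ∈ F.Hom R := hEF R ⟨β, hβ, ρ₀, hρ₀, hρfac⟩
    have hRN : R ≤ extender S R ρ := Cfsg.Agent.Lib.Helper88.Core.le_extender_of_mem F hρF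
    have hψ₀R : ψ₀.comp (Subgroup.inclusion hRN) ∈ (opPrimeStar F p).Hom R :=
      restrict_mem (opPrimeStar F p) hψ₀ hRN
    have hR'ℋ : (ψ₀.comp (Subgroup.inclusion hRN)).range ∈ ℋ :=
      hℋ.conj _ hQℋ _ (IsConj_trans (IsConj_symm ⟨ρ, hρF, hρr⟩) ⟨_, hE₀F R hψ₀R, rfl⟩)
    have hR'S : (ψ₀.comp (Subgroup.inclusion hRN)).range ≤ S := (hℋ.centric _ hR'ℋ).1
    obtain ⟨ι, hι, hιinv⟩ := (opPrimeStar F p).inv_mem hψ₀R
    have hιR : ∀ y : (ψ₀.comp (Subgroup.inclusion hRN)).range, ι y ∈ R := by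
      rintro ⟨_, x, rfl⟩
      rw [hιinv]
      exact x.2
    have hcomp : ρ₀.comp (ι.codRestrict R hιR) ∈
        (opPrimeStar F p).Hom (ψ₀.comp (Subgroup.inclusion hRN)).range :=
      (opPrimeStar F p).comp_mem hι hρ₀ hιR
    have hψ₀S : ∀ x, ψ₀ x ∈ S := ((opPrimeStar F p).le_of_mem hψ₀).2
    have hρ₀S : ∀ x, ρ₀ x ∈ S := ((opPrimeStar F p).le_of_mem hρ₀).2
    have hres : resHom γ _ hR'S ∈ (opPrimeSys F p A hAF).Hom (ψ₀.comp (Subgroup.inclusion hRN)).range := by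
      refine ⟨β, hβ, _, hcomp, ?_⟩
      rintro ⟨_, x, rfl⟩
      show ((γ ⟨ψ₀ (Subgroup.inclusion hRN x), _⟩ : S) : Ω) =
        ((β ⟨ρ₀ ⟨ι ⟨(ψ₀.comp (Subgroup.inclusion hRN)) x, ⟨x, rfl⟩⟩, _⟩, _⟩ : S) : Ω)
      have h1 : (⟨ι ⟨(ψ₀.comp (Subgroup.inclusion hRN)) x, ⟨x, rfl⟩⟩, hιR _⟩ : R) = x :=
        Subtype.ext (hιinv x)
      have h2 : ψ (Subgroup.inclusion hRN x) = ρ x := hψe x.1 x.2 (hRN x.2)
      have h3 : ((γ ⟨ψ₀ (Subgroup.inclusion hRN x), hψ₀S _⟩ : S) : Ω) = ((β ⟨ρ₀ x, hρ₀S x⟩ : S) : Ω) := by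
        rw [← hψfac (Subgroup.inclusion hRN x) (hψ₀S _), h2, hρfac x]
      refine h3.trans ?_
      congr 3
      exact congrArg ρ₀ h1.symm
    have hγA : γ ∈ A := hkey γ hγ _ hR'ℋ hR'S hres
    exact ⟨γ, hγA, ψ₀, hψ₀, fun x => hψfac x _⟩
  · -- generation by the maps between members of `ℋ`
    intro E' hE'
    have h1 : ContainsPGensOn F p ℋ E' := by
      intro P hP
      refine (containsPGens_opPrimeSys F p A hAF P (hℋ.centric P hP)).trans ?_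
      exact Subgroup.closure_mono (fun α hα => hE' P hP hα)
    have h2 : ∀ P : Subgroup Ω, (opPrimeStar F p).Hom P ⊆ E'.Hom P :=
      opPrimeStar_le_of_on hS F hF hℋ E' h1
    intro P φ hφ
    obtain ⟨α, hα, φ₀, hφ₀, hfac⟩ := hφ
    have hαE : S.subtype.comp (α : S ≃* S).toMonoidHom ∈ (opPrimeSys F p A hAF).Hom S :=
      ⟨α, hα, S.subtype, subtype_mem _ le_rfl, fun _ => rfl⟩
    have hαE' := hE' S (hℋ.self_mem hF) hαE
    exact comp_mem' E' (h2 P hφ₀) hαE' ((opPrimeStar F p).le_of_mem hφ₀).2 (fun x => hfac x)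
  · -- centric subgroups outside `ℋ`
    intro P hP hPn
    have hPc : F.IsCentric P := (hcen P).1 hP
    obtain ⟨φ₀, hφ₀, hQfn⟩ := hfn P hPc.1
    have hφ₀F := hE₀F P hφ₀
    obtain ⟨hQa, hQr⟩ := fullyAutomized_receptive_of_fullyNormalized F hS hF hQfn
    have hPQ : F.IsConj P φ₀.range := ⟨φ₀, hφ₀F, rfl⟩
    have hQc : F.IsCentric φ₀.range := Cfsg.Agent.Lib.Helper88.isCentric_of_isConj F hPc hPQ
    have hQn : φ₀.range ∉ ℋ := fun hQ => hPn (hℋ.conj _ hQ P (IsConj_symm hPQ))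
    have hQS : φ₀.range ≤ S := hQc.1
    obtain ⟨g, hg, hgQ, K, hKF, hKn, hKp, hgK⟩ := hℋ.escapes _ hQc hQn hQa hQr
    refine ⟨φ₀.range, ⟨φ₀, hE₀E P hφ₀, rfl⟩, fun hle => hgQ ?_⟩
    have hfinQ : Finite φ₀.range := finite_of_le hQS
    -- `K ≤ Aut_E(Q)`
    have hKE : K ≤ (opPrimeSys F p A hAF).autGroup φ₀.range := by
      intro κ hκ
      obtain ⟨k, hk⟩ := (IsPGroup.iff_orderOf.1 hKp) ⟨κ, hκ⟩
      refine hidx.2 _ hQS (Subgroup.mem_map.2 ⟨⟨κ, hKF hκ⟩, Subgroup.subset_closure ⟨k, ?_⟩, rfl⟩)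
      rw [← hk, ← Subgroup.orderOf_coe, ← Subgroup.orderOf_coe]
    have hEF' : (opPrimeSys F p A hAF).autGroup φ₀.range ≤ F.autGroup φ₀.range :=
      Subgroup.closure_mono (fun α hα => hEF _ hα)
    have hKnormal : (K.subgroupOf ((opPrimeSys F p A hAF).autGroup φ₀.range)).Normal := by
      constructor
      intro n hn b
      rw [Subgroup.mem_subgroupOf] at hn ⊢
      exact hKn b.1 (hEF' b.2) n.1 hn
    have hKle : K.subgroupOf ((opPrimeSys F p A hAF).autGroup φ₀.range) ≤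
        pCore p ((opPrimeSys F p A hAF).autGroup φ₀.range) :=
      le_sSup ⟨hKnormal, hKp.comap_subtype⟩
    have h1 : conjAut φ₀.range g hg.2 ∈ autInducedBy S φ₀.range :=
      mem_autInducedBy_iff.2 ⟨g, hg.1, fun _ => rfl⟩
    have h2 : conjAut φ₀.range g hg.2 ∈
        (pCore p ((opPrimeSys F p A hAF).autGroup φ₀.range)).map
          ((opPrimeSys F p A hAF).autGroup φ₀.range).subtype :=
      Subgroup.mem_map.2 ⟨⟨conjAut φ₀.range g hg.2, hKE hgK⟩, hKle (Subgroup.mem_subgroupOf.2 hgK), rfl⟩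
    exact mem_of_conjAut_mem_inn F hQc hg (hle ⟨h1, h2⟩)

end Cfsg.Agent.Lib.Helper84
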