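import Mathlib
import Cfsg.Agent.Lib.Helper75.QBaer.Defs
import Cfsg.Agent.Lib.Helper84.QBaerW
import Cfsg.Agent.S4126

/-!
# S4125-[PQ] (helper84 hedge, for helper75's project S4125: q-Baer groups)

If every `q`-element has a conjugacy class of `q`-power size, the Sylow `q`-subgroup is normal
([W]) and has a normal complement (S4126).
-/

set_option autoImplicit false
set_option linter.style.haveILetI false

namespace Cfsg.Agent.Lib.Helper84.QBaer

open Cfsg.Agent.Lib.Helper75.QBaer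

variable {G : Type*} [Group G] [Finite G]

/-- [PQ] -/
theorem direct_factor_of_all_q (q : ℕ) [Fact q.Prime]
    (h : ∀ x : G, (∃ k : ℕ, orderOf x = q ^ k) →
      ∃ a : ℕ, (Subgroup.centralizer ({x} : Set G)).index = q ^ a) (Q : Sylow q G) :
    (Q : Subgroup G).Normal ∧ ∃ N : Subgroup G, N.Normal ∧ N.IsComplement' (Q : Subgroup G) := by
  have hQle : (Q : Subgroup G) ≤ Cfsg.pCore q G := by
    intro x hx
    have hxk : ∃ k : ℕ, orderOf x = q ^ k := by
      obtain ⟨k, hk⟩ := (IsPGroup.iff_orderOf.mp Q.isPGroup') ⟨x, hx⟩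
      exact ⟨k, by rw [← hk, Subgroup.orderOf_mk]⟩
    exact mem_pCore_of_index_pow q x hxk (h x hxk)
  have hQeq : (Q : Subgroup G) = Cfsg.pCore q G :=
    le_antisymm hQle (Cfsg.Agent.Lib.Helper76.pCore_le_sylow q Q)
  have hQn : (Q : Subgroup G).Normal := by
    rw [hQeq]; infer_instance
  refine ⟨hQn, ?_⟩
  obtain ⟨P, N, hN, hNP⟩ := Cfsg.Agent.S4126.result (G := G) q (by
    intro x hx
    apply h x
    rcases hx with hx | ⟨h2, hx⟩
    · exact ⟨1, by rw [hx, pow_one]⟩
    · exact ⟨2, by rw [hx, h2]; norm_num⟩)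
  haveI : Unique (Sylow q G) := Sylow.unique_of_normal Q hQn
  have hPQ : P = Q := Subsingleton.elim P Q
  rw [hPQ] at hNP
  exact ⟨N, hN, hNP⟩

end Cfsg.Agent.Lib.Helper84.QBaer
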