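/-
helper84: two finite quasi-dihedral groups with the same parameter are isomorphic (via helper20's normal form).
All declarations live in `Cfsg.Agent.Lib.Helper84`.
-/
import Mathlib
import Cfsg.Agent.Lib.Helper20.QuasiDihedral

set_option autoImplicit false

namespace Cfsg.Agent.Lib.Helper84

open Cfsg.Agent.Lib.Helper20.QD

section

variable {S : Type*} [Group S] {n : ℕ} {x y : S}

/-- The element with given coordinates: `x ^ i` or `x ^ i * y`. -/
def qdCoord (x y : S) (n : ℕ) (a : ZMod (2 ^ n) × Bool) : S :=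
  if a.2 then f x n a.1 * y else f x n a.1

/-- The multiplication in coordinates. -/
def qdMul (n : ℕ) (a b : ZMod (2 ^ n) × Bool) : ZMod (2 ^ n) × Bool :=
  if a.2 then (a.1 + ep n * b.1, !b.2) else (a.1 + b.1, b.2)

theorem qdCoord_mul (d : Data S n x y) (a b : ZMod (2 ^ n) × Bool) :
    qdCoord x y n a * qdCoord x y n b = qdCoord x y n (qdMul n a b) := by
  rcases a with ⟨i, _ | _⟩ <;> rcases b with ⟨j, _ | _⟩
  · simp only [qdCoord, qdMul, Bool.false_eq_true, if_false]
    exact (f_add d i j).symm
  · simp only [qdCoord, qdMul, Bool.false_eq_true, if_false, if_true]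
    exact f_mul_fy d i j
  · simp only [qdCoord, qdMul, Bool.false_eq_true, if_false, if_true, Bool.not_false]
    exact fy_mul_f d i j
  · simp only [qdCoord, qdMul, Bool.false_eq_true, if_false, if_true, Bool.not_true]
    exact fy_mul_fy d i j

theorem qdCoord_injective (d : Data S n x y) : Function.Injective (qdCoord x y n) := by
  rintro ⟨i, _ | _⟩ ⟨j, _ | _⟩ h
  · simp only [qdCoord, Bool.false_eq_true, if_false] at h
    rw [f_injective d h]
  · simp only [qdCoord, Bool.false_eq_true, if_false, if_true] at h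
    exact absurd h.symm (f_mul_y_ne_f d j i)
  · simp only [qdCoord, Bool.false_eq_true, if_false, if_true] at h
    exact absurd h (f_mul_y_ne_f d i j)
  · simp only [qdCoord, if_true] at h
    rw [f_injective d (mul_right_cancel h)]

theorem qdCoord_surjective [Finite S] (d : Data S n x y) : Function.Surjective (qdCoord x y n) := by
  intro s
  rcases normal_form d s with ⟨i, rfl⟩ | ⟨i, rfl⟩
  · exact ⟨(i, false), by simp [qdCoord]⟩
  · exact ⟨(i, true), by simp [qdCoord]⟩

end

/-- Two finite quasi-dihedral groups with the same parameter are isomorphic. -/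
theorem nonempty_mulEquiv_of_qdData {S T : Type*} [Group S] [Group T] [Finite S] [Finite T] {n : ℕ} {x y : S}
    {x' y' : T} (d : Data S n x y) (d' : Data T n x' y') : Nonempty (S ≃* T) := by
  let e₁ : ZMod (2 ^ n) × Bool ≃ S := Equiv.ofBijective _ ⟨qdCoord_injective d, qdCoord_surjective d⟩
  let e₂ : ZMod (2 ^ n) × Bool ≃ T := Equiv.ofBijective _ ⟨qdCoord_injective d', qdCoord_surjective d'⟩
  refine ⟨{ toEquiv := e₁.symm.trans e₂, map_mul' := ?_ }⟩
  intro s t
  obtain ⟨a, rfl⟩ := e₁.surjective s
  obtain ⟨b, rfl⟩ := e₁.surjective t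
  have h1 : e₁ a * e₁ b = e₁ (qdMul n a b) := qdCoord_mul d a b
  have h2 : e₂ a * e₂ b = e₂ (qdMul n a b) := qdCoord_mul d' a b
  show e₂ (e₁.symm (e₁ a * e₁ b)) = e₂ (e₁.symm (e₁ a)) * e₂ (e₁.symm (e₁ b))
  rw [h1, Equiv.symm_apply_apply, Equiv.symm_apply_apply, Equiv.symm_apply_apply, h2]

/-- Two finite quasi-dihedral groups of the same order are isomorphic. -/
theorem nonempty_mulEquiv_of_isQuasiDihedral {S T : Type*} [Group S] [Group T] [Finite S] [Finite T]
    (hS : Cfsg.IsQuasiDihedral S) (hT : Cfsg.IsQuasiDihedral T) (hcard : Nat.card S = Nat.card T) :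
    Nonempty (S ≃* T) := by
  obtain ⟨n, x, y, d⟩ := exists_data hS
  obtain ⟨n', x', y', d'⟩ := exists_data hT
  have hn : n = n' := by
    have h1 := d.card
    have h2 := d'.card
    rw [hcard, h2] at h1
    have := Nat.pow_right_injective (le_refl 2) h1
    omega
  subst hn
  exact nonempty_mulEquiv_of_qdData d d'

end Cfsg.Agent.Lib.Helper84
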