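/-
helper84: an automorphism `σ` of `S` normalizing a fusion system `D` over a subgroup `U ≤ S` (`σ φ σ⁻¹ ∈ D` for all
maps `φ` of `D`): basic API, restriction of `σ` to a stable subgroup, the induced maps on automorphism groups.
All declarations live in `Cfsg.Agent.Lib.Helper84`.
-/
import Mathlib
import Cfsg.Agent.Lib.Helper84.FusionTwist
import Cfsg.Agent.Lib.Helper88.FusionInvariance
import Cfsg.Agent.Lib.Helper87.FusionLift

set_option autoImplicit false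

namespace Cfsg.Agent.Lib.Helper84

open Cfsg Cfsg.FusionSystem
open Cfsg.Agent.Lib.Helper87

variable {Ω : Type*} [Group Ω] {S : Subgroup Ω}

/-- `σ` normalizes the system `D` over `U` (in use `U ≤ S` is `σ`-stable): for every map `φ` of `D` the transported map
`σ φ σ⁻¹` is a map of `D`. -/
def Nz (σ : MulAut S) {U : Subgroup Ω} (D : FusionSystem U) : Prop :=
  ∀ (P : Subgroup Ω) (φ : P →* Ω), φ ∈ D.Hom P → ∃ (hPS : P ≤ S) (hφS : ∀ x : P, φ x ∈ S),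
    ∃ χ ∈ D.Hom (imgAut σ P), ∀ x : P,
      χ ⟨(σ ⟨x, hPS x.2⟩ : S), apply_mem_imgAut σ hPS x⟩ = ((σ ⟨φ x, hφS x⟩ : S) : Ω)

theorem nz_iff_twist (σ : MulAut S) (D : FusionSystem S) :
    Nz σ D ↔ ∀ P : Subgroup Ω, D.Hom P ⊆ (twist D σ).Hom P :=
  ⟨fun h P φ hφ => h P φ hφ, fun h P φ hφ => h P hφ⟩

theorem Nz.le {σ : MulAut S} {U : Subgroup Ω} {D : FusionSystem U} (h : Nz σ D) : U ≤ S := by
  obtain ⟨hUS, -, -⟩ := h U U.subtype (subtype_mem D le_rfl)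
  exact hUS

theorem Nz.map_mem {σ : MulAut S} {U : Subgroup Ω} {D : FusionSystem U} (h : Nz σ D) (s : S) (hs : (s : Ω) ∈ U) :
    ((σ s : S) : Ω) ∈ U := by
  obtain ⟨hUS, -, χ, hχ, -⟩ := h U U.subtype (subtype_mem D le_rfl)
  exact hom_le D hχ (apply_mem_imgAut σ hUS ⟨s, hs⟩)

theorem Nz.stab [Finite S] {σ : MulAut S} {U : Subgroup Ω} {D : FusionSystem U} (h : Nz σ D) (s : S) :
    (s : Ω) ∈ U ↔ ((σ s : S) : Ω) ∈ U := by
  refine ⟨h.map_mem s, fun hs => ?_⟩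
  have hUS := h.le
  have : Finite U := finite_of_le hUS
  let f : U → U := fun u => ⟨σ ⟨u, hUS u.2⟩, h.map_mem ⟨u, hUS u.2⟩ u.2⟩
  have hinj : Function.Injective f := by
    intro a b hab
    have h1 : σ ⟨a, hUS a.2⟩ = σ ⟨b, hUS b.2⟩ := Subtype.ext (congrArg (fun z : U => (z : Ω)) hab)
    have h2 := σ.injective h1
    exact Subtype.ext (congrArg (fun z : S => (z : Ω)) h2)
  obtain ⟨u, hu⟩ := (Finite.injective_iff_surjective.1 hinj) ⟨σ s, hs⟩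
  have h1 : σ ⟨u, hUS u.2⟩ = σ s := Subtype.ext (congrArg (fun z : U => (z : Ω)) hu)
  have h2 := σ.injective h1
  rw [← h2]
  exact u.2

/-- a subgroup of a finite `S` mapped into itself by `σ` is `σ`-stable -/
theorem stab_of_map_mem [Finite S] (σ : MulAut S) {U : Subgroup Ω} (hUS : U ≤ S)
    (h : ∀ s : S, (s : Ω) ∈ U → ((σ s : S) : Ω) ∈ U) (s : S) : (s : Ω) ∈ U ↔ ((σ s : S) : Ω) ∈ U := by
  refine ⟨h s, fun hs => ?_⟩
  have : Finite U := finite_of_le hUS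
  let f : U → U := fun u => ⟨σ ⟨u, hUS u.2⟩, h ⟨u, hUS u.2⟩ u.2⟩
  have hinj : Function.Injective f := by
    intro a b hab
    have h1 : σ ⟨a, hUS a.2⟩ = σ ⟨b, hUS b.2⟩ := Subtype.ext (congrArg (fun z : U => (z : Ω)) hab)
    have h2 := σ.injective h1
    exact Subtype.ext (congrArg (fun z : S => (z : Ω)) h2)
  obtain ⟨u, hu⟩ := (Finite.injective_iff_surjective.1 hinj) ⟨σ s, hs⟩
  have h1 : σ ⟨u, hUS u.2⟩ = σ s := Subtype.ext (congrArg (fun z : U => (z : Ω)) hu)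
  have h2 := σ.injective h1
  rw [← h2]
  exact u.2

/-- the restriction of `σ` to a `σ`-stable subgroup `U ≤ S` -/
def resMulAut (σ : MulAut S) (U : Subgroup Ω) (hUS : U ≤ S)
    (h : ∀ s : S, (s : Ω) ∈ U ↔ ((σ s : S) : Ω) ∈ U) : MulAut U where
  toFun u := ⟨σ ⟨u, hUS u.2⟩, (h ⟨u, hUS u.2⟩).1 u.2⟩
  invFun u := ⟨σ⁻¹ ⟨u, hUS u.2⟩, by
    have := (h (σ⁻¹ ⟨u, hUS u.2⟩)).2
    rw [MulAut.apply_inv_self] at this
    exact this u.2⟩
  left_inv u := by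
    apply Subtype.ext
    show ((σ⁻¹ ⟨((σ ⟨u, hUS u.2⟩ : S) : Ω), _⟩ : S) : Ω) = u
    have : (⟨((σ ⟨u, hUS u.2⟩ : S) : Ω), hUS ((h ⟨u, hUS u.2⟩).1 u.2)⟩ : S) = σ ⟨u, hUS u.2⟩ := Subtype.ext rfl
    rw [this, MulAut.inv_apply_self]
  right_inv u := by
    apply Subtype.ext
    show ((σ ⟨((σ⁻¹ ⟨u, hUS u.2⟩ : S) : Ω), _⟩ : S) : Ω) = u
    have : (⟨((σ⁻¹ ⟨u, hUS u.2⟩ : S) : Ω), hUS (by
        have := (h (σ⁻¹ ⟨u, hUS u.2⟩)).2
        rw [MulAut.apply_inv_self] at this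
        exact this u.2)⟩ : S) = σ⁻¹ ⟨u, hUS u.2⟩ := Subtype.ext rfl
    rw [this, MulAut.apply_inv_self]
  map_mul' a b := by
    apply Subtype.ext
    show ((σ ⟨((a * b : U) : Ω), _⟩ : S) : Ω) = ((σ ⟨a, hUS a.2⟩ : S) : Ω) * ((σ ⟨b, hUS b.2⟩ : S) : Ω)
    have : (⟨((a * b : U) : Ω), hUS (a * b).2⟩ : S) = ⟨a, hUS a.2⟩ * ⟨b, hUS b.2⟩ := Subtype.ext rfl
    rw [this, map_mul]
    rfl

theorem resMulAut_apply (σ : MulAut S) (U : Subgroup Ω) (hUS : U ≤ S)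
    (h : ∀ s : S, (s : Ω) ∈ U ↔ ((σ s : S) : Ω) ∈ U) (u : U) :
    ((resMulAut σ U hUS h u : U) : Ω) = ((σ ⟨u, hUS u.2⟩ : S) : Ω) := rfl

theorem imgAut_resMulAut (σ : MulAut S) (U : Subgroup Ω) (hUS : U ≤ S)
    (h : ∀ s : S, (s : Ω) ∈ U ↔ ((σ s : S) : Ω) ∈ U) {P : Subgroup Ω} (hPU : P ≤ U) :
    imgAut (resMulAut σ U hUS h) P = imgAut σ P := by
  ext y
  rw [mem_imgAut, mem_imgAut]
  constructor
  · rintro ⟨t, ht, rfl⟩
    exact ⟨⟨t, hUS t.2⟩, ht, rfl⟩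
  · rintro ⟨s, hs, rfl⟩
    exact ⟨⟨s, hPU hs⟩, hs, rfl⟩

/-- normalizing by `σ` and by its restriction to a stable subgroup are the same thing -/
theorem nz_resMulAut_iff (σ : MulAut S) (U : Subgroup Ω) (hUS : U ≤ S)
    (h : ∀ s : S, (s : Ω) ∈ U ↔ ((σ s : S) : Ω) ∈ U) {V : Subgroup Ω} (hVU : V ≤ U) (D : FusionSystem V) :
    Nz (resMulAut σ U hUS h) D ↔ Nz σ D := by
  constructor
  · intro hN P φ hφ
    obtain ⟨hPU, hφU, χ, hχ, hχe⟩ := hN P φ hφ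
    have hPS : P ≤ S := hPU.trans hUS
    have hφS : ∀ x : P, φ x ∈ S := fun x => hUS (hφU x)
    have himg := imgAut_resMulAut σ U hUS h hPU
    refine ⟨hPS, hφS, χ.comp (Subgroup.inclusion himg.ge), hom_of_eq_on D himg hχ (fun x hx hx' => rfl), fun x => ?_⟩
    exact hχe x
  · intro hN P φ hφ
    obtain ⟨hPS, hφS, χ, hχ, hχe⟩ := hN P φ hφ
    have hPU : P ≤ U := (hom_le D hφ).trans hVU
    have hφU : ∀ x : P, φ x ∈ U := fun x => hVU (hom_map_mem D hφ x)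
    have himg := imgAut_resMulAut σ U hUS h hPU
    refine ⟨hPU, hφU, χ.comp (Subgroup.inclusion himg.le), hom_of_eq_on D himg.symm hχ (fun x hx hx' => rfl),
      fun x => ?_⟩
    exact hχe x

/-- the isomorphism `R ≃ σ(R)` induced by `σ` -/
noncomputable def imgEquiv (σ : MulAut S) (R : Subgroup Ω) (hRS : R ≤ S) : R ≃* imgAut σ R :=
  MulEquiv.ofBijective
    (((S.subtype.comp σ.toMonoidHom).comp (Subgroup.inclusion hRS)).codRestrict (imgAut σ R)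
      (fun x => apply_mem_imgAut σ hRS x))
    ⟨by
      intro a b hab
      have h1 : ((σ ⟨a, hRS a.2⟩ : S) : Ω) = ((σ ⟨b, hRS b.2⟩ : S) : Ω) :=
        congrArg (fun z : imgAut σ R => (z : Ω)) hab
      have h2 := σ.injective (Subtype.ext h1)
      exact Subtype.ext (congrArg (fun z : S => (z : Ω)) h2), by
      rintro ⟨y, hy⟩
      obtain ⟨t, ht, rfl⟩ := mem_imgAut.1 hy
      exact ⟨⟨t, ht⟩, Subtype.ext rfl⟩⟩

theorem imgEquiv_apply (σ : MulAut S) (R : Subgroup Ω) (hRS : R ≤ S) (x : R) :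
    ((imgEquiv σ R hRS x : imgAut σ R) : Ω) = ((σ ⟨x, hRS x.2⟩ : S) : Ω) := rfl

/-- **Transport of automorphism groups.** If `σ` normalizes `F` then `γ ↦ σ γ σ⁻¹` maps `Aut_F(R)` into `Aut_F(σ(R))`. -/
theorem Nz.congr_mem_autGroup {σ : MulAut S} {U : Subgroup Ω} {F : FusionSystem U} (h : Nz σ F) {R : Subgroup Ω}
    (hRU : R ≤ U) {γ : MulAut R} (hγ : γ ∈ F.autGroup R) :
    MulAut.congr (imgEquiv σ R (hRU.trans h.le)) γ ∈ F.autGroup (imgAut σ R) := by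
  have hRS : R ≤ S := hRU.trans h.le
  rw [mem_autGroup_iff F hRU] at hγ
  obtain ⟨_, hφS, χ, hχ, hχe⟩ := h R _ hγ
  have hR'U : imgAut σ R ≤ U := hom_le F hχ
  rw [mem_autGroup_iff F hR'U]
  refine hom_of_eq_on F rfl hχ (fun y hy _ => ?_)
  obtain ⟨t, ht, rfl⟩ := mem_imgAut.1 hy
  have h1 := hχe ⟨t, ht⟩
  refine Eq.trans ?_ h1.symm
  show (((MulAut.congr (imgEquiv σ R hRS) γ) ⟨((σ t : S) : Ω), hy⟩ : imgAut σ R) : Ω) = _
  have h2 : (imgEquiv σ R hRS).symm ⟨((σ t : S) : Ω), hy⟩ = ⟨t, ht⟩ := by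
    rw [MulEquiv.symm_apply_eq]
    exact Subtype.ext rfl
  rw [MulAut.congr_apply, MulEquiv.trans_apply, MulEquiv.trans_apply, h2, imgEquiv_apply]
  rfl

theorem imgAut_eq_of_stab (σ : MulAut S) {T : Subgroup Ω} (hTS : T ≤ S)
    (hstab : ∀ s : S, (s : Ω) ∈ T ↔ ((σ s : S) : Ω) ∈ T) : imgAut σ T = T := by
  ext y
  rw [mem_imgAut]
  constructor
  · rintro ⟨t, ht, rfl⟩
    exact (hstab t).1 ht
  · intro hy
    refine ⟨σ⁻¹ ⟨y, hTS hy⟩, ?_, ?_⟩
    · rw [hstab, MulAut.apply_inv_self]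
      exact hy
    · rw [MulAut.apply_inv_self]

/-- **Conjugation by the restriction of `σ` preserves `Aut_D(T)`** for a `σ`-stable subgroup `T`. -/
theorem Nz.conj_mem_autGroup {σ : MulAut S} {U : Subgroup Ω} {D : FusionSystem U} (h : Nz σ D) {T : Subgroup Ω}
    (hTU : T ≤ U) (hTS : T ≤ S) (hstab : ∀ s : S, (s : Ω) ∈ T ↔ ((σ s : S) : Ω) ∈ T) {a : MulAut T}
    (ha : a ∈ D.autGroup T) :
    resMulAut σ T hTS hstab * a * (resMulAut σ T hTS hstab)⁻¹ ∈ D.autGroup T := by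
  rw [mem_autGroup_iff D hTU] at ha ⊢
  obtain ⟨_, hφS, χ, hχ, hχe⟩ := h T _ ha
  have himg := imgAut_eq_of_stab σ hTS hstab
  refine hom_of_eq_on D himg hχ (fun y hy hy' => ?_)
  set τ := resMulAut σ T hTS hstab with hτ
  have h1 := hχe (τ⁻¹ ⟨y, hy'⟩)
  have h2 : ((σ ⟨((τ⁻¹ ⟨y, hy'⟩ : T) : Ω), hTS (τ⁻¹ ⟨y, hy'⟩).2⟩ : S) : Ω) = y := by
    have : ((τ (τ⁻¹ ⟨y, hy'⟩) : T) : Ω) = y := by rw [MulAut.apply_inv_self]
    exact this
  have h3 : (⟨((σ ⟨((τ⁻¹ ⟨y, hy'⟩ : T) : Ω), hTS (τ⁻¹ ⟨y, hy'⟩).2⟩ : S) : Ω),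
      apply_mem_imgAut σ hTS (τ⁻¹ ⟨y, hy'⟩)⟩ : imgAut σ T) = ⟨y, hy⟩ := Subtype.ext h2
  rw [h3] at h1
  rw [h1]
  rfl

/-- A homomorphism mapping the subgroup `A` into the subgroup `A'` maps `O^p(A)` into `O^p(A')`. -/
theorem map_pResidual_mem {G G' : Type*} [Group G] [Group G'] (p : ℕ) (c : G →* G') {A : Subgroup G}
    {A' : Subgroup G'} (hc : ∀ a ∈ A, c a ∈ A') {γ : G}
    (hγ : γ ∈ (pResidual p ↥A).map A.subtype) : c γ ∈ (pResidual p ↥A').map A'.subtype := by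
  obtain ⟨g, hg, rfl⟩ := hγ
  let f : A →* A' := (c.comp A.subtype).codRestrict A' (fun a => hc a a.2)
  have key : pResidual p ↥A ≤ (pResidual p ↥A').comap f := by
    unfold pResidual
    rw [Subgroup.closure_le]
    intro a ha
    apply Subgroup.subset_closure
    have h1 : orderOf (f a) ∣ orderOf a := orderOf_map_dvd f a
    exact Nat.Coprime.coprime_dvd_left h1 ha
  exact ⟨f g, key hg, rfl⟩

/-- A homomorphism mapping the subgroup `A` into the subgroup `A'` maps `O^{p'}(A)` into `O^{p'}(A')`. -/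
theorem map_pElements_mem {G G' : Type*} [Group G] [Group G'] (p : ℕ) [hp : Fact p.Prime] (c : G →* G')
    {A : Subgroup G} {A' : Subgroup G'} (hc : ∀ a ∈ A, c a ∈ A') {γ : G}
    (hγ : γ ∈ (Subgroup.closure {α : ↥A | ∃ k : ℕ, orderOf α = p ^ k}).map A.subtype) :
    c γ ∈ (Subgroup.closure {α : ↥A' | ∃ k : ℕ, orderOf α = p ^ k}).map A'.subtype := by
  obtain ⟨g, hg, rfl⟩ := hγ
  let f : A →* A' := (c.comp A.subtype).codRestrict A' (fun a => hc a a.2)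
  have key : Subgroup.closure {α : ↥A | ∃ k : ℕ, orderOf α = p ^ k} ≤
      (Subgroup.closure {α : ↥A' | ∃ k : ℕ, orderOf α = p ^ k}).comap f := by
    rw [Subgroup.closure_le]
    rintro a ⟨k, hk⟩
    apply Subgroup.subset_closure
    have h1 : orderOf (f a) ∣ p ^ k := hk ▸ orderOf_map_dvd f a
    obtain ⟨j, -, hj⟩ := (Nat.dvd_prime_pow hp.out).1 h1
    exact ⟨j, hj⟩
  exact ⟨f g, key hg, rfl⟩

/-- `σ γ σ⁻¹ ∈ O^p(Aut_F(σ R))` for `γ ∈ O^p(Aut_F(R))`. -/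
theorem Nz.congr_mem_pResidual {σ : MulAut S} {U : Subgroup Ω} {F : FusionSystem U} (h : Nz σ F) (p : ℕ)
    {R : Subgroup Ω} (hRU : R ≤ U) {γ : MulAut R}
    (hγ : γ ∈ (pResidual p ↥(F.autGroup R)).map (F.autGroup R).subtype) :
    MulAut.congr (imgEquiv σ R (hRU.trans h.le)) γ ∈
      (pResidual p ↥(F.autGroup (imgAut σ R))).map (F.autGroup (imgAut σ R)).subtype :=
  map_pResidual_mem p (MulAut.congr (imgEquiv σ R (hRU.trans h.le))).toMonoidHom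
    (fun _ ha => h.congr_mem_autGroup hRU ha) hγ

/-- `σ γ σ⁻¹ ∈ O^{p'}(Aut_F(σ R))` for `γ ∈ O^{p'}(Aut_F(R))`. -/
theorem Nz.congr_mem_pElements {σ : MulAut S} {U : Subgroup Ω} {F : FusionSystem U} (h : Nz σ F) (p : ℕ)
    [Fact p.Prime] {R : Subgroup Ω} (hRU : R ≤ U) {γ : MulAut R}
    (hγ : γ ∈ (Subgroup.closure {α : ↥(F.autGroup R) | ∃ k : ℕ, orderOf α = p ^ k}).map (F.autGroup R).subtype) :
    MulAut.congr (imgEquiv σ R (hRU.trans h.le)) γ ∈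
      (Subgroup.closure {α : ↥(F.autGroup (imgAut σ R)) | ∃ k : ℕ, orderOf α = p ^ k}).map
        (F.autGroup (imgAut σ R)).subtype :=
  map_pElements_mem p (MulAut.congr (imgEquiv σ R (hRU.trans h.le))).toMonoidHom
    (fun _ ha => h.congr_mem_autGroup hRU ha) hγ

/-- If `σ γ σ⁻¹ ∈ Aut_D(σ R)` then `γ` is an automorphism of the twisted system. -/
theorem mem_autGroup_twist {U : Subgroup Ω} (D : FusionSystem U) (τ : MulAut U) {R : Subgroup Ω} (hRU : R ≤ U)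
    {γ : MulAut R} (hγ : MulAut.congr (imgEquiv τ R hRU) γ ∈ D.autGroup (imgAut τ R)) :
    γ ∈ (twist D τ).autGroup R := by
  rw [mem_autGroup_iff _ hRU]
  rw [mem_autGroup_iff D (imgAut_le τ R)] at hγ
  refine ⟨hRU, fun x => hRU (γ x).2, _, hγ, fun x => ?_⟩
  show (((MulAut.congr (imgEquiv τ R hRU) γ) ⟨((τ ⟨x, hRU x.2⟩ : U) : Ω), _⟩ : imgAut τ R) : Ω) = _
  have h2 : (imgEquiv τ R hRU).symm ⟨((τ ⟨x, hRU x.2⟩ : U) : Ω), apply_mem_imgAut τ hRU x⟩ = x := by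
    rw [MulEquiv.symm_apply_eq]
    exact Subtype.ext rfl
  rw [MulAut.congr_apply, MulEquiv.trans_apply, MulEquiv.trans_apply, h2, imgEquiv_apply]
  rfl

open Cfsg.Agent.Lib.Helper88.Invariance in
/-- The elements of `Aut_F(T)` normalize a subsystem over `T` satisfying the invariance clause. -/
theorem nz_of_invClause {T : Subgroup Ω} (E : FusionSystem T) (F : FusionSystem S) (hI : InvClause E F)
    {α : MulAut T} (hα : α ∈ F.autGroup T) : Nz α E := by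
  intro P φ hφ
  have hPT := hom_le E hφ
  have hφT := hom_map_mem E hφ
  obtain ⟨χ, hχ, hχe⟩ := hI P hPT φ hφ α hα
  exact ⟨hPT, hφT, χ, hχ, fun x => hχe x (hφT x) (apply_mem_imgAut α hPT x)⟩

/-- stability of a strongly closed subgroup under `Aut_F(U)` -/
theorem stab_of_stronglyClosed (F : FusionSystem S) {U T : Subgroup Ω} (hUS : U ≤ S) (hT : F.StronglyClosed T)
    {α : MulAut U} (hα : α ∈ F.autGroup U) (s : U) : (s : Ω) ∈ T ↔ ((α s : U) : Ω) ∈ T := by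
  rw [mem_autGroup_iff F hUS] at hα
  exact ⟨fun h => StronglyClosed_map_mem hT hα h, fun h => StronglyClosed_mem_of_map_mem hT hα h⟩

/-- the restriction of an element of `Aut_F(U)` to a strongly closed subgroup `T ≤ U` lies in `Aut_F(T)` -/
theorem resMulAut_mem_autGroup (F : FusionSystem S) {U T : Subgroup Ω} (hUS : U ≤ S) (hTU : T ≤ U)
    (hT : F.StronglyClosed T) {α : MulAut U} (hα : α ∈ F.autGroup U) :
    resMulAut α T hTU (stab_of_stronglyClosed F hUS hT hα) ∈ F.autGroup T := by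
  rw [mem_autGroup_iff F hT.1]
  rw [mem_autGroup_iff F hUS] at hα
  exact restrict_mem' F hα hTU (fun x => rfl)

open Cfsg.Agent.Lib.Helper88.Invariance in
/-- The elements of `Aut_F(U)` normalize every subsystem over a strongly closed `T ≤ U` satisfying the invariance clause. -/
theorem nz_of_invClause_of_le {T U : Subgroup Ω} (E : FusionSystem T) (F : FusionSystem S) (hI : InvClause E F)
    (hUS : U ≤ S) (hTU : T ≤ U) (hT : F.StronglyClosed T) {α : MulAut U} (hα : α ∈ F.autGroup U) : Nz α E :=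
  (nz_resMulAut_iff α T hTU (stab_of_stronglyClosed F hUS hT hα) le_rfl E).1
    (nz_of_invClause E F hI (resMulAut_mem_autGroup F hUS hTU hT hα))

end Cfsg.Agent.Lib.Helper84
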