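/-
helper84: subsystems of index prime to `p`: transitivity, the `p'`-residual subsystem of a saturated subsystem of index
prime to `p`, idempotence of `O^{p'}`, and invariance of `O^{p'}(F)` in `F`.
All declarations live in `Cfsg.Agent.Lib.Helper84`.
-/
import Mathlib
import Cfsg.Agent.Lib.Helper84.PPrimeSat
import Cfsg.Agent.Lib.Helper84.NormalPPrimeLift
import Cfsg.Agent.Lib.Helper84.RedNz
import Cfsg.Agent.Lib.Helper86.ResidualLimit

set_option autoImplicit false

namespace Cfsg.Agent.Lib.Helper84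

open Cfsg Cfsg.FusionSystem
open Cfsg.Agent.Lib.Helper87
open Cfsg.Agent.Lib.Helper88.Invariance (resHom InvClause)

variable {Ω : Type*} [Group Ω] {S : Subgroup Ω}

theorem autGroup_mono {U : Subgroup Ω} (D : FusionSystem U) (F : FusionSystem S) (hDF : D.IsSubsystemOf F)
    {P : Subgroup Ω} (hPU : P ≤ U) : D.autGroup P ≤ F.autGroup P := by
  intro β hβ
  have hUS : U ≤ S := hom_le F (hDF U (subtype_mem D le_rfl))
  rw [mem_autGroup_iff D hPU] at hβ
  rw [mem_autGroup_iff F (hPU.trans hUS)]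
  exact hDF P hβ

/-- transitivity of index prime to `p` -/
theorem hasPrimeToPIndexIn_trans {p : ℕ} (K₂ K F : FusionSystem S) (h₂ : K₂.HasPrimeToPIndexIn K p)
    (h : K.HasPrimeToPIndexIn F p) : K₂.HasPrimeToPIndexIn F p := by
  refine ⟨fun P φ hφ => h.1 P (h₂.1 P hφ), fun P hP => ?_⟩
  rw [Subgroup.map_le_iff_le_comap, Subgroup.closure_le]
  rintro α ⟨k, hk⟩
  show (α : MulAut P) ∈ K₂.autGroup P
  have hαK : (α : MulAut P) ∈ K.autGroup P :=
    h.2 P hP (Subgroup.mem_map_of_mem _ (Subgroup.subset_closure ⟨k, hk⟩))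
  have hord : orderOf (⟨(α : MulAut P), hαK⟩ : K.autGroup P) = p ^ k := by
    rw [← hk, ← Subgroup.orderOf_coe, ← Subgroup.orderOf_coe]
  exact h₂.2 P hP ⟨⟨(α : MulAut P), hαK⟩, Subgroup.subset_closure ⟨k, hord⟩, rfl⟩

/-- a subsystem of index prime to `p` in `F` has index prime to `p` in every intermediate system -/
theorem hasPrimeToPIndexIn_of_le {p : ℕ} (K F₁ F : FusionSystem S) (hKF₁ : K.IsSubsystemOf F₁)
    (hF₁F : F₁.IsSubsystemOf F) (h : K.HasPrimeToPIndexIn F p) : K.HasPrimeToPIndexIn F₁ p := by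
  refine ⟨hKF₁, fun P hP => ?_⟩
  rw [Subgroup.map_le_iff_le_comap, Subgroup.closure_le]
  rintro α ⟨k, hk⟩
  show (α : MulAut P) ∈ K.autGroup P
  have hαF : (α : MulAut P) ∈ F.autGroup P := autGroup_mono F₁ F hF₁F hP α.2
  have hord : orderOf (⟨(α : MulAut P), hαF⟩ : F.autGroup P) = p ^ k := by
    rw [← hk, ← Subgroup.orderOf_coe, ← Subgroup.orderOf_coe]
  exact h.2 P hP ⟨⟨(α : MulAut P), hαF⟩, Subgroup.subset_closure ⟨k, hord⟩, rfl⟩

theorem hasPrimeToPIndexIn_self (p : ℕ) (F : FusionSystem S) : F.HasPrimeToPIndexIn F p :=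
  ⟨fun _ _ h => h, fun _ _ => Subgroup.map_subtype_le _⟩

/-- `O^{p'}(F)` is the `p'`-residual subsystem of every saturated subsystem of `F` of index prime to `p`. -/
theorem isPPrimeResidual_of_hasPrimeToPIndexIn {p : ℕ} (F F₁ K : FusionSystem S) (hK : F.IsPPrimeResidual p K)
    (hF₁ : F₁.IsSaturated p) (h₁ : F₁.HasPrimeToPIndexIn F p) : F₁.IsPPrimeResidual p K := by
  have hKF₁ : K.IsSubsystemOf F₁ := hK.2.2 F₁ hF₁ h₁
  refine ⟨hK.1, hasPrimeToPIndexIn_of_le K F₁ F hKF₁ h₁.1 hK.2.1, fun D hD hDF₁ => ?_⟩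
  exact hK.2.2 D hD (hasPrimeToPIndexIn_trans D F₁ F hDF₁ h₁)

/-- `O^{p'}(O^{p'}(F)) = O^{p'}(F)`. -/
theorem isPPrimeResidual_self {p : ℕ} (F K : FusionSystem S) (hK : F.IsPPrimeResidual p K) :
    K.IsPPrimeResidual p K :=
  isPPrimeResidual_of_hasPrimeToPIndexIn F K K hK hK.1 hK.2.1

/-- two `p'`-residual subsystems of the same system are equal -/
theorem isPPrimeResidual_unique {p : ℕ} (F K K' : FusionSystem S) (hK : F.IsPPrimeResidual p K)
    (hK' : F.IsPPrimeResidual p K') : K = K' := by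
  apply Cfsg.Agent.Lib.Helper86.fusionSystem_ext
  intro P
  exact Set.Subset.antisymm (hK.2.2 K' hK'.1 hK'.2.1 P) (hK'.2.2 K hK.1 hK.2.1 P)

section inv

variable [Finite S] {p : ℕ} [Fact p.Prime]

omit [Finite S] in
/-- `Aut_F^0(S)` is normal in `Aut_F(S)`. -/
theorem aut0_normal (F : FusionSystem S) (p : ℕ) {α : MulAut S} (hα : α ∈ F.autGroup S) :
    ∀ a ∈ aut0 F p, α * a * α⁻¹ ∈ aut0 F p := by
  have key : aut0 F p ≤ (aut0 F p).comap (MulAut.conj α).toMonoidHom := by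
    unfold aut0
    rw [Subgroup.closure_le]
    rintro a ⟨haF, P, hP, hres⟩
    show (MulAut.conj α) a ∈ Subgroup.closure (aut0Gens F p)
    apply Subgroup.subset_closure
    have hPS : P ≤ S := hP.1
    have hconj : α * a * α⁻¹ ∈ F.autGroup S :=
      Subgroup.mul_mem _ (Subgroup.mul_mem _ hα haF) (Subgroup.inv_mem _ hα)
    obtain ⟨_, hφS, χ, hχ, hχe⟩ := opPrimeStar_twist F p hα P hres
    have hαP : resHom α P hPS ∈ F.Hom P := restrict_mem F ((mem_autGroup_iff F le_rfl).1 hα) hPS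
    have hrange : (resHom α P hPS).range = imgAut α P := by
      ext y
      rw [mem_imgAut]
      constructor
      · rintro ⟨x, rfl⟩
        exact ⟨⟨x, hPS x.2⟩, x.2, rfl⟩
      · rintro ⟨t, ht, rfl⟩
        exact ⟨⟨t, ht⟩, rfl⟩
    have hcen : F.IsCentric (imgAut α P) :=
      Cfsg.Agent.Lib.Helper88.isCentric_of_isConj F hP ⟨_, hαP, hrange⟩
    refine ⟨hconj, imgAut α P, hcen, ?_⟩
    have : resHom (α * a * α⁻¹) (imgAut α P) hcen.1 = χ := by
      ext ⟨y, hy⟩
      obtain ⟨t, ht, rfl⟩ := mem_imgAut.1 hy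
      have h1 := hχe ⟨t, ht⟩
      refine Eq.trans ?_ h1.symm
      show (((α * a * α⁻¹) ⟨((α t : S) : Ω), _⟩ : S) : Ω) = _
      have h2 : (⟨((α t : S) : Ω), hcen.1 hy⟩ : S) = α t := Subtype.ext rfl
      rw [h2, MulAut.mul_apply, MulAut.mul_apply, MulAut.inv_apply_self]
      rfl
    rw [MulAut.conj_apply, this]
    exact hχ
  intro a ha
  have := key ha
  rwa [Subgroup.mem_comap, MulEquiv.coe_toMonoidHom, MulAut.conj_apply] at this

/-- **`O^{p'}(F)` is invariant in `F`.** -/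
theorem isInvariantIn_of_isPPrimeResidual (hS : IsPGroup p S) (F : FusionSystem S) (hF : F.IsSaturated p)
    (K : FusionSystem S) (hK : F.IsPPrimeResidual p K) : K.IsInvariantIn F := by
  have hK' := exists_isPPrimeResidual hS F hF
  obtain rfl := isPPrimeResidual_unique F K _ hK hK'
  refine ⟨opPrimeSys_le F p _ _, ⟨le_rfl, fun _ _ _ hφ x => (F.le_of_mem hφ).2 x⟩, ?_, ?_⟩
  · intro P hPS φ hφ α hα
    have h1 := prodSystem_twist (opPrimeStar F p) (aut0 F p)
      (fun _ ha P => opPrimeStar_twist F p (aut0_le F p ha) P) (opPrimeStar_twist F p hα)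
      (aut0_normal F p hα) P hφ
    obtain ⟨hPS', hφS, χ, hχ, hχe⟩ := h1
    exact ⟨χ, hχ, fun x hφx hαx => hχe x⟩
  · intro P _ φ hφ
    exact (Cfsg.Agent.S5114.result p hS F hF _ (opPrimeSys_le F p _ _)
      (containsPGens_opPrimeSys F p _ _)).2.1 P φ hφ

end inv

end Cfsg.Agent.Lib.Helper84
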