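/-
helper84: subsystems of `p`-power index are canonical: a saturated subsystem lies in every fusion system containing the
groups `O^p(Aut_F(R))`, hence the saturated subsystem of `p`-power index over a stable subgroup is normalized by every
automorphism of `S` normalizing `F`.
All declarations live in `Cfsg.Agent.Lib.Helper84`.
-/
import Mathlib
import Cfsg.Agent.Lib.Helper84.RedNz
import Cfsg.Agent.Lib.Helper86.ResidualLimit

set_option autoImplicit false

namespace Cfsg.Agent.Lib.Helper84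

open Cfsg Cfsg.FusionSystem
open Cfsg.Agent.Lib.Helper87

variable {Ω : Type*} [Group Ω] {S : Subgroup Ω}

/-- A saturated subsystem `E` of `F` over `T ≤ U` lies in every fusion system `F₀` over `U` containing `O^p(Aut_F(R))` for all
`R ≤ U`. -/
theorem subsystem_of_containsPResidual {T U : Subgroup Ω} [Finite S] {p : ℕ} [Fact p.Prime] (hS : IsPGroup p S)
    (F : FusionSystem S) (E : FusionSystem T) (F₀ : FusionSystem U) (hTU : T ≤ U) (hEsat : E.IsSaturated p)
    (hEF : E.IsSubsystemOf F)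
    (hres : ∀ P : Subgroup Ω, P ≤ U → (pResidual p (F.autGroup P)).map (F.autGroup P).subtype ≤ F₀.autGroup P) :
    E.IsSubsystemOf F₀ := by
  classical
  have hTS : T ≤ S := by
    have h1 : T.subtype ∈ E.Hom T := subtype_mem E le_rfl
    exact (F.le_of_mem (hEF T h1)).1
  have : Finite T := finite_of_le hTS
  have hT : IsPGroup p T := hS.to_le hTS
  intro P
  refine alperin_weak' E F₀ hT hEsat ?_ P
  intro R hRa _ _ α hα
  obtain ⟨hRT, Sy, hSy⟩ := hRa
  have hRU : R ≤ U := le_trans hRT hTU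
  have hRS : R ≤ S := le_trans hRT hTS
  rw [← mem_autGroup_iff F₀ hRU]
  have : Finite R := finite_of_le hRS
  have : Finite (MulAut R) := Finite.of_injective (fun α : MulAut R => (α : R → R)) DFunLike.coe_injective
  have hsup : pResidual p (E.autGroup R) ⊔ (Sy : Subgroup (E.autGroup R)) = ⊤ :=
    Cfsg.Agent.Lib.Helper34.pResidual_sup_eq_top p (Sy : Subgroup (E.autGroup R)) Sy.not_dvd_index
  have hEFaut : E.autGroup R ≤ F.autGroup R := by
    intro β hβ
    rw [mem_autGroup_iff E hRT] at hβ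
    rw [mem_autGroup_iff F hRS]
    exact hEF R hβ
  have h1 : (pResidual p (E.autGroup R)).map (E.autGroup R).subtype ≤ F₀.autGroup R :=
    le_trans (Cfsg.Agent.S5199.map_pResidual_le p hEFaut) (hres R hRU)
  have h2 : (Sy : Subgroup (E.autGroup R)).map (E.autGroup R).subtype ≤ F₀.autGroup R := by
    rw [hSy]
    rintro _ ⟨γ, hγ, rfl⟩
    have hγ' : (γ : MulAut R) ∈ autInducedBy T R := Subgroup.mem_subgroupOf.mp hγ
    obtain ⟨g, hg, hgγ⟩ := mem_autInducedBy_iff.1 hγ'
    exact autInducedBy_le_autGroup F₀ hRU (mem_autInducedBy_iff.2 ⟨g, hTU hg, hgγ⟩)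
  have h3 : (⊤ : Subgroup (E.autGroup R)).map (E.autGroup R).subtype ≤ F₀.autGroup R := by
    rw [← hsup, Subgroup.map_sup]
    exact sup_le h1 h2
  exact h3 ⟨⟨α, hα⟩, Subgroup.mem_top _, rfl⟩

/-- membership in the automorphism group of the system twisted by the restriction of `σ` -/
theorem mem_autGroup_twist_res {U : Subgroup Ω} (D : FusionSystem U) (σ : MulAut S) (hUS : U ≤ S)
    (hstab : ∀ s : S, (s : Ω) ∈ U ↔ ((σ s : S) : Ω) ∈ U) {R : Subgroup Ω} (hRU : R ≤ U) {γ : MulAut R}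
    (hγ : MulAut.congr (imgEquiv σ R (hRU.trans hUS)) γ ∈ D.autGroup (imgAut σ R)) :
    γ ∈ (twist D (resMulAut σ U hUS hstab)).autGroup R := by
  have hRS : R ≤ S := hRU.trans hUS
  have hR'U : imgAut σ R ≤ U := by
    intro y hy
    obtain ⟨t, ht, rfl⟩ := mem_imgAut.1 hy
    exact (hstab t).1 (hRU ht)
  rw [mem_autGroup_iff _ hRU]
  rw [mem_autGroup_iff D hR'U] at hγ
  have himg := imgAut_resMulAut σ U hUS hstab hRU
  refine ⟨hRU, fun x => hRU (γ x).2,
    ((imgAut σ R).subtype.comp (MulAut.congr (imgEquiv σ R hRS) γ : imgAut σ R ≃* imgAut σ R).toMonoidHom).comp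
      (Subgroup.inclusion himg.le),
    hom_of_eq_on D himg.symm hγ (fun x hx hx' => rfl), fun x => ?_⟩
  show (((MulAut.congr (imgEquiv σ R hRS) γ) ⟨((σ ⟨x, hRS x.2⟩ : S) : Ω), _⟩ : imgAut σ R) : Ω) = _
  have h2 : (imgEquiv σ R hRS).symm ⟨((σ ⟨x, hRS x.2⟩ : S) : Ω), apply_mem_imgAut σ hRS x⟩ = x := by
    rw [MulEquiv.symm_apply_eq]
    exact Subtype.ext rfl
  rw [MulAut.congr_apply, MulEquiv.trans_apply, MulEquiv.trans_apply, h2, imgEquiv_apply]
  rfl

/-- **Subsystems of `p`-power index are canonical.** -/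
theorem nz_of_pPowerIndex [Finite S] {p : ℕ} [Fact p.Prime] (hS : IsPGroup p S) (K : FusionSystem S)
    {U : Subgroup Ω} (D : FusionSystem U) (hD : D.IsSaturated p) (hidx : D.HasPPowerIndexIn K p)
    (σ : MulAut S) (hσ : Nz σ K) (hstab : ∀ s : S, (s : Ω) ∈ U ↔ ((σ s : S) : Ω) ∈ U) : Nz σ D := by
  have hUS : U ≤ S := hom_le K (hidx.1 U (subtype_mem D le_rfl))
  rw [← nz_resMulAut_iff σ U hUS hstab le_rfl D, nz_iff_twist]
  refine subsystem_of_containsPResidual hS K D (twist D (resMulAut σ U hUS hstab)) le_rfl hD hidx.1 ?_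
  intro R hRU γ hγ
  refine mem_autGroup_twist_res D σ hUS hstab hRU ?_
  have hR'U : imgAut σ R ≤ U := by
    intro y hy
    obtain ⟨t, ht, rfl⟩ := mem_imgAut.1 hy
    exact (hstab t).1 (hRU ht)
  exact hidx.2.2 _ hR'U (hσ.congr_mem_pResidual p (hRU.trans hUS) hγ)

end Cfsg.Agent.Lib.Helper84
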