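/-
helper84: the `p`-step of the reduction: for `T` strongly closed in the saturated system `F` over `S` and `A ≤ Aut_F(T)`
normalized by `Aut_F(T)` and containing `O^p(Aut_F(T)) Inn(T)`, the subgroup `N_S^A(T)` of the elements of `S` inducing
an element of `A` on `T` is normal in `S` and contains the hyperfocal subgroup, and the saturated subsystem `F₁` of `F` of
`p`-power index over it is normal in `F`, has `Aut_{F₁}(T) ≤ A` and is canonical.
All declarations live in `Cfsg.Agent.Lib.Helper84`.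
-/
import Mathlib
import Cfsg.Agent.Lib.Helper84.RedPPower
import Cfsg.Agent.Lib.Helper88.FusionNormalCR
import Cfsg.Agent.S5198
import Cfsg.Agent.S5113
import Cfsg.Agent.S5120

set_option autoImplicit false

namespace Cfsg.Agent.Lib.Helper84

open Cfsg Cfsg.FusionSystem
open Cfsg.Agent.Lib.Helper87

variable {Ω : Type*} [Group Ω]

/-- `N_S^A(T)`: the elements of `S` whose conjugation action on `T` is an element of `A ≤ Aut(T)`. -/
def nSub (S : Subgroup Ω) {T : Subgroup Ω} (A : Subgroup (MulAut T)) : Subgroup Ω where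
  carrier := {g | g ∈ S ∧ ∃ a ∈ A, ∀ t : T, ((a t : T) : Ω) = g * t * g⁻¹}
  one_mem' := ⟨S.one_mem, 1, A.one_mem, fun t => by simp⟩
  mul_mem' := by
    rintro g h ⟨hg, a, ha, hga⟩ ⟨hh, b, hb, hhb⟩
    refine ⟨S.mul_mem hg hh, a * b, A.mul_mem ha hb, fun t => ?_⟩
    rw [MulAut.mul_apply, hga, hhb]
    group
  inv_mem' := by
    rintro g ⟨hg, a, ha, hga⟩
    refine ⟨S.inv_mem hg, a⁻¹, A.inv_mem ha, fun t => ?_⟩
    have h1 := hga (a⁻¹ t)
    rw [MulAut.apply_inv_self] at h1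
    rw [h1]
    group

variable {S : Subgroup Ω} {T : Subgroup Ω}

theorem mem_nSub {A : Subgroup (MulAut T)} {g : Ω} :
    g ∈ nSub S A ↔ g ∈ S ∧ ∃ a ∈ A, ∀ t : T, ((a t : T) : Ω) = g * t * g⁻¹ := Iff.rfl

theorem nSub_le (A : Subgroup (MulAut T)) : nSub S A ≤ S := fun _ h => h.1

theorem centralizerIn_le_nSub (A : Subgroup (MulAut T)) : centralizerIn S T ≤ nSub S A := by
  intro g hg
  refine ⟨hg.1, 1, A.one_mem, fun t => ?_⟩
  have h1 : (t : Ω) * g = g * t := (Subgroup.mem_centralizer_iff.1 hg.2) t t.2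
  show (t : Ω) = g * t * g⁻¹
  rw [← h1]
  group

theorem le_nSub_of_inn_le (hTS : T ≤ S) {A : Subgroup (MulAut T)} (hA : Inn ↥T ≤ A) : T ≤ nSub S A := by
  intro g hg
  exact ⟨hTS hg, MulAut.conj ⟨g, hg⟩, hA ⟨⟨g, hg⟩, rfl⟩, fun t => rfl⟩

theorem autInducedBy_nSub_le (A : Subgroup (MulAut T)) : autInducedBy (nSub S A) T ≤ A := by
  intro α hα
  obtain ⟨g, ⟨-, a, ha, hga⟩, hgα⟩ := mem_autInducedBy_iff.1 hα
  have : α = a := by
    ext t
    rw [hgα, hga]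
  rw [this]
  exact ha

/-- `N_S^A(T)` is normal in `S` when `A` is normalized by `Aut_S(T)`. -/
theorem nSub_normal (hT : (T.subgroupOf S).Normal) (hTS : T ≤ S) {A : Subgroup (MulAut T)}
    (hA : ∀ β ∈ autInducedBy S T, ∀ a ∈ A, β * a * β⁻¹ ∈ A) : ((nSub S A).subgroupOf S).Normal := by
  constructor
  intro n hn g
  rw [Subgroup.mem_subgroupOf] at hn ⊢
  obtain ⟨-, a, ha, hna⟩ := hn
  have hgT : ∀ t : T, (g : Ω) * t * (g : Ω)⁻¹ ∈ T := by
    intro t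
    have := hT.conj_mem ⟨t, hTS t.2⟩ (Subgroup.mem_subgroupOf.2 t.2) g
    exact this
  have hgT' : ∀ t : T, (g : Ω)⁻¹ * t * (g : Ω) ∈ T := by
    intro t
    have := hT.conj_mem ⟨t, hTS t.2⟩ (Subgroup.mem_subgroupOf.2 t.2) g⁻¹
    rw [Subgroup.mem_subgroupOf] at this
    simpa using this
  let β : MulAut T :=
    { toFun := fun t => ⟨g * t * (g : Ω)⁻¹, hgT t⟩
      invFun := fun t => ⟨(g : Ω)⁻¹ * t * g, hgT' t⟩
      left_inv := fun t => by apply Subtype.ext; simp [mul_assoc]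
      right_inv := fun t => by apply Subtype.ext; simp [mul_assoc]
      map_mul' := fun s t => by apply Subtype.ext; simp [mul_assoc] }
  have hβ : β ∈ autInducedBy S T := mem_autInducedBy_iff.2 ⟨g, g.2, fun t => rfl⟩
  refine ⟨S.mul_mem (S.mul_mem g.2 n.2) (S.inv_mem g.2), β * a * β⁻¹, hA β hβ a ha, fun t => ?_⟩
  have h1 : ((β⁻¹ t : T) : Ω) = (g : Ω)⁻¹ * t * g := rfl
  show ((β (a (β⁻¹ t)) : T) : Ω) = _
  show (g : Ω) * ((a (β⁻¹ t) : T) : Ω) * (g : Ω)⁻¹ = _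
  rw [hna, h1]
  simp only [Subgroup.coe_mul, Subgroup.coe_inv]
  group

section main

variable [Finite S] {p : ℕ} [Fact p.Prime]

/-- the hyperfocal subgroup lies in `N_S^A(T)` -/
theorem hyperfocal_le_nSub (hS : IsPGroup p S) (F : FusionSystem S) (hF : F.IsSaturated p)
    (hT : F.StronglyClosed T) {A : Subgroup (MulAut T)}
    (hA : (pResidual p ↥(F.autGroup T)).map (F.autGroup T).subtype ⊔ Inn ↥T ≤ A) :
    F.hyperfocalSubgroup p ≤ nSub S A := by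
  intro x hx
  obtain ⟨α, hα, hαx⟩ := Cfsg.Agent.S5198.result p hS F hF T hT x hx
  exact ⟨Cfsg.Agent.Lib.Helper86.hyperfocal_le F p hx, α, hA hα, hαx⟩

/-- `Aut_{F₁}(T) ≤ A` for a saturated subsystem `F₁` of `F` over `N_S^A(T)`. -/
theorem autGroup_le_of_nSub (hS : IsPGroup p S) (F : FusionSystem S) (hT : F.StronglyClosed T)
    {A : Subgroup (MulAut T)} (hA : (pResidual p ↥(F.autGroup T)).map (F.autGroup T).subtype ≤ A)
    (hTA : T ≤ nSub S A) (F₁ : FusionSystem (nSub S A)) (hF₁ : F₁.IsSaturated p) (hF₁F : F₁.IsSubsystemOf F) :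
    F₁.autGroup T ≤ A := by
  have hS₁S : nSub S A ≤ S := nSub_le A
  have : Finite (nSub S A) := finite_of_le hS₁S
  have hS₁p : IsPGroup p (nSub S A) := hS.to_le hS₁S
  have hT₁ : F₁.StronglyClosed T := ⟨hTA, fun R hR φ hφ x => hT.2 R hR φ (hF₁F R hφ) x⟩
  obtain ⟨-, Sy, hSy⟩ :=
    (Cfsg.Agent.Lib.Helper88.NormalCR.fullyAutomized_receptive_of_stronglyClosed F₁ hS₁p hF₁ hT₁).1
  have : Finite T := finite_of_le hT.1
  have : Finite (MulAut T) := Finite.of_injective (fun α : MulAut T => (α : T → T)) DFunLike.coe_injective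
  have hsup : pResidual p (F₁.autGroup T) ⊔ (Sy : Subgroup (F₁.autGroup T)) = ⊤ :=
    Cfsg.Agent.Lib.Helper34.pResidual_sup_eq_top p (Sy : Subgroup (F₁.autGroup T)) Sy.not_dvd_index
  have hle : F₁.autGroup T ≤ F.autGroup T := by
    intro β hβ
    rw [mem_autGroup_iff F₁ hTA] at hβ
    rw [mem_autGroup_iff F hT.1]
    exact hF₁F T hβ
  have h1 : (pResidual p (F₁.autGroup T)).map (F₁.autGroup T).subtype ≤ A :=
    le_trans (Cfsg.Agent.S5199.map_pResidual_le p hle) hA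
  have h2 : (Sy : Subgroup (F₁.autGroup T)).map (F₁.autGroup T).subtype ≤ A := by
    rw [hSy]
    rintro _ ⟨γ, hγ, rfl⟩
    exact autInducedBy_nSub_le A (Subgroup.mem_subgroupOf.mp hγ)
  have h3 : (⊤ : Subgroup (F₁.autGroup T)).map (F₁.autGroup T).subtype ≤ A := by
    rw [← hsup, Subgroup.map_sup]
    exact sup_le h1 h2
  intro α hα
  exact h3 ⟨⟨α, hα⟩, Subgroup.mem_top _, rfl⟩

omit [Finite S] in
theorem subgroupOf_normal_of_stronglyClosed (F : FusionSystem S) (hT : F.StronglyClosed T) :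
    (T.subgroupOf S).Normal := by
  constructor
  intro n hn g
  rw [Subgroup.mem_subgroupOf] at hn ⊢
  exact StronglyClosed_conj_mem hT g.2 hn

/-- `N_S^A(T)` is stable under an automorphism `σ` of `S` stabilizing `T` whose restriction to `T` normalizes `A`. -/
theorem nSub_stab (hTS : T ≤ S) {A : Subgroup (MulAut T)} (σ : MulAut S)
    (hstab : ∀ s : S, (s : Ω) ∈ T ↔ ((σ s : S) : Ω) ∈ T)
    (hA : ∀ a ∈ A, resMulAut σ T hTS hstab * a * (resMulAut σ T hTS hstab)⁻¹ ∈ A) (s : S) :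
    (s : Ω) ∈ nSub S A ↔ ((σ s : S) : Ω) ∈ nSub S A := by
  refine stab_of_map_mem σ (nSub_le A) ?_ s
  rintro s ⟨-, a, ha, hsa⟩
  set τ := resMulAut σ T hTS hstab with hτ
  refine ⟨(σ s).2, τ * a * τ⁻¹, hA a ha, fun t => ?_⟩
  show ((τ (a (τ⁻¹ t)) : T) : Ω) = _
  have h1 : ((τ (a (τ⁻¹ t)) : T) : Ω) = ((σ ⟨((a (τ⁻¹ t) : T) : Ω), hTS (a (τ⁻¹ t)).2⟩ : S) : Ω) := rfl
  have h2 : (⟨((a (τ⁻¹ t) : T) : Ω), hTS (a (τ⁻¹ t)).2⟩ : S) =
      s * ⟨((τ⁻¹ t : T) : Ω), hTS (τ⁻¹ t).2⟩ * s⁻¹ := Subtype.ext (hsa (τ⁻¹ t))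
  have h3 : ((σ ⟨((τ⁻¹ t : T) : Ω), hTS (τ⁻¹ t).2⟩ : S) : Ω) = t := by
    have : ((τ (τ⁻¹ t) : T) : Ω) = t := by rw [MulAut.apply_inv_self]
    exact this
  rw [h1, h2, map_mul, map_mul, map_inv]
  simp only [Subgroup.coe_mul, Subgroup.coe_inv, h3]

/-- **The `p`-step.** -/
theorem exists_pstep (hS : IsPGroup p S) (F : FusionSystem S) (hF : F.IsSaturated p)
    (hT : F.StronglyClosed T) (A : Subgroup (MulAut T))
    (hA1 : (pResidual p ↥(F.autGroup T)).map (F.autGroup T).subtype ⊔ Inn ↥T ≤ A)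
    (hA2 : ∀ β ∈ F.autGroup T, ∀ a ∈ A, β * a * β⁻¹ ∈ A) :
    ∃ F₁ : FusionSystem (nSub S A), F₁.IsSaturated p ∧ F₁.HasPPowerIndexIn F p ∧ F₁.IsNormalIn F p ∧
      F₁.autGroup T ≤ A ∧
      ∀ (σ : MulAut S) (hstab : ∀ s : S, (s : Ω) ∈ T ↔ ((σ s : S) : Ω) ∈ T), Nz σ F →
        (∀ a ∈ A, resMulAut σ T hT.1 hstab * a * (resMulAut σ T hT.1 hstab)⁻¹ ∈ A) → Nz σ F₁ := by
  have hhyp : F.hyperfocalSubgroup p ≤ nSub S A := hyperfocal_le_nSub hS F hF hT hA1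
  have hTA : T ≤ nSub S A := le_nSub_of_inn_le hT.1 (le_sup_right.trans hA1)
  have hn : ((nSub S A).subgroupOf S).Normal :=
    nSub_normal (subgroupOf_normal_of_stronglyClosed F hT) hT.1
      (fun β hβ a ha => hA2 β (autInducedBy_le_autGroup F hT.1 hβ) a ha)
  obtain ⟨F₁, ⟨hF₁sat, hF₁idx⟩, -⟩ := Cfsg.Agent.S5113.result p hS F hF (nSub S A) (nSub_le A) hhyp
  refine ⟨F₁, hF₁sat, hF₁idx, Cfsg.Agent.S5120.result p hS F hF (nSub S A) (nSub_le A) hn hhyp F₁ hF₁sat hF₁idx,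
    autGroup_le_of_nSub hS F hT (le_sup_left.trans hA1) hTA F₁ hF₁sat hF₁idx.1, ?_⟩
  intro σ hstab hσ hσA
  exact nz_of_pPowerIndex hS F F₁ hF₁sat hF₁idx σ hσ (nSub_stab hT.1 σ hstab hσA)

end main

end Cfsg.Agent.Lib.Helper84
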