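/-
helper84: transfer of invariance of subsystems: an invariant subsystem of `F` is invariant in every saturated
intermediate system; transitivity of invariance for subsystems normalized by `Aut_F(S₁)`; a weakly normal subsystem
over a subgroup containing its centralizer is normal.
All declarations live in `Cfsg.Agent.Lib.Helper84`.
-/
import Mathlib
import Cfsg.Agent.Lib.Helper84.RedNz

set_option autoImplicit false

namespace Cfsg.Agent.Lib.Helper84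

open Cfsg Cfsg.FusionSystem
open Cfsg.Agent.Lib.Helper87 Cfsg.Agent.Lib.Helper88.Invariance

variable {Ω : Type*} [Group Ω] {S : Subgroup Ω}

theorem le_of_isSubsystemOf {U : Subgroup Ω} (D : FusionSystem U) (F : FusionSystem S) (h : D.IsSubsystemOf F) :
    U ≤ S :=
  hom_le F (h U (subtype_mem D le_rfl))

theorem stronglyClosed_of_le {T U : Subgroup Ω} (D : FusionSystem U) (F : FusionSystem S)
    (hDF : D.IsSubsystemOf F) (hTU : T ≤ U) (hT : F.StronglyClosed T) : D.StronglyClosed T :=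
  ⟨hTU, fun R hR φ hφ x => hT.2 R hR φ (hDF R hφ) x⟩

/-- **Invariance passes to saturated intermediate systems.** -/
theorem isInvariantIn_of_le [Finite S] (p : ℕ) [Fact p.Prime] (hS : IsPGroup p S) (F : FusionSystem S)
    (hF : F.IsSaturated p) {T U : Subgroup Ω} (E : FusionSystem T) (D : FusionSystem U) (hD : D.IsSaturated p)
    (hED : E.IsSubsystemOf D) (hDF : D.IsSubsystemOf F) (hE : E.IsInvariantIn F) : E.IsInvariantIn D := by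
  have hUS : U ≤ S := le_of_isSubsystemOf D F hDF
  have hTU : T ≤ U := le_of_isSubsystemOf E D hED
  have : Finite U := finite_of_le hUS
  have hUp : IsPGroup p U := hS.to_le hUS
  have hT : D.StronglyClosed T := stronglyClosed_of_le D F hDF hTU hE.2.1
  have hstrong := (invariant_iff_strong p hS F hF E hE.1 hE.2.1).1 hE
  refine (invariant_iff_strong p hUp D hD E hED hT).2 ?_
  intro P Q hPQ hQT φ hφ hφQ ψ hψ
  exact hstrong P Q hPQ hQT φ hφ hφQ ψ (hDF Q hψ)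

/-- **Transitivity of invariance** for a subsystem normalized by `Aut_F(S₁)`. -/
theorem isInvariantIn_trans [Finite S] (p : ℕ) [Fact p.Prime] (hS : IsPGroup p S) (F : FusionSystem S)
    (hF : F.IsSaturated p) {S₁ S₀ : Subgroup Ω} (F₁ : FusionSystem S₁) (F₀ : FusionSystem S₀)
    (hF₁ : F₁.IsSaturated p) (h₁ : F₁.IsInvariantIn F) (h₀ : F₀.IsInvariantIn F₁)
    (hN : ∀ α ∈ F.autGroup S₁, Nz α F₀) : F₀.IsInvariantIn F := by
  have hS₁S : S₁ ≤ S := h₁.2.1.1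
  have hS₀S₁ : S₀ ≤ S₁ := h₀.2.1.1
  have : Finite S₁ := finite_of_le hS₁S
  have hS₁p : IsPGroup p S₁ := hS.to_le hS₁S
  have hsub : F₀.IsSubsystemOf F := fun P φ hφ => h₁.1 P (h₀.1 P hφ)
  have hfr := h₁.2.2.2
  have hsc : F.StronglyClosed S₀ := by
    refine ⟨hS₀S₁.trans hS₁S, fun R hR φ hφ x => ?_⟩
    obtain ⟨α, hα, φ₀, hφ₀, hfac⟩ := hfr R (hR.trans hS₀S₁) φ hφ
    have hx : φ₀ x ∈ S₁ := hom_map_mem F₁ hφ₀ x
    rw [hfac x hx]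
    exact (hN α hα).map_mem ⟨φ₀ x, hx⟩ (h₀.2.1.2 R hR φ₀ hφ₀ x)
  have hstrong₀ := (invariant_iff_strong p hS₁p F₁ hF₁ F₀ h₀.1 h₀.2.1).1 h₀
  refine (invariant_iff_strong p hS F hF F₀ hsub hsc).2 ?_
  intro P Q hPQ hQS₀ φ hφ hφQ ψ hψ
  obtain ⟨α, hα, ψ₁, hψ₁, hfac⟩ := hfr Q (hQS₀.trans hS₀S₁) ψ hψ
  obtain ⟨χ₁, hχ₁, hχ₁e⟩ := hstrong₀ P Q hPQ hQS₀ φ hφ hφQ ψ₁ hψ₁
  obtain ⟨hP₁S₁, hχ₁S₁, χ, hχ, hχe⟩ := hN α hα _ χ₁ hχ₁
  have hψ₁S₁ : ∀ q : Q, ψ₁ q ∈ S₁ := hom_map_mem F₁ hψ₁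
  have hsub_eq : imgAut α ((P.subgroupOf Q).map ψ₁) = (P.subgroupOf Q).map ψ := by
    ext y
    rw [mem_imgAut]
    constructor
    · rintro ⟨t, ⟨q, hq, hqt⟩, rfl⟩
      refine ⟨q, hq, ?_⟩
      rw [hfac q (hψ₁S₁ q)]
      have : (⟨ψ₁ q, hψ₁S₁ q⟩ : S₁) = t := Subtype.ext hqt
      rw [this]
    · rintro ⟨q, hq, rfl⟩
      exact ⟨⟨ψ₁ q, hψ₁S₁ q⟩, ⟨q, hq, rfl⟩, (hfac q (hψ₁S₁ q)).symm⟩
  refine ⟨χ.comp (Subgroup.inclusion hsub_eq.ge), hom_of_eq_on F₀ hsub_eq hχ (fun x hx hx' => rfl), ?_⟩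
  intro x hx
  have hmem₁ : ψ₁ (Subgroup.inclusion hPQ x) ∈ (P.subgroupOf Q).map ψ₁ :=
    ⟨Subgroup.inclusion hPQ x, Subgroup.mem_subgroupOf.2 x.2, rfl⟩
  have e1 := hχ₁e x hmem₁
  have e2 := hχe ⟨ψ₁ (Subgroup.inclusion hPQ x), hmem₁⟩
  have e3 : ψ (Subgroup.inclusion hPQ x) = ((α ⟨ψ₁ (Subgroup.inclusion hPQ x), hψ₁S₁ _⟩ : S₁) : Ω) :=
    hfac _ (hψ₁S₁ _)
  have e4 : ψ ⟨φ x, hφQ x⟩ = ((α ⟨ψ₁ ⟨φ x, hφQ x⟩, hψ₁S₁ _⟩ : S₁) : Ω) := hfac _ (hψ₁S₁ _)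
  show χ ⟨ψ (Subgroup.inclusion hPQ x), _⟩ = ψ ⟨φ x, hφQ x⟩
  rw [e4]
  have e5 : (⟨ψ (Subgroup.inclusion hPQ x), hsub_eq.ge hx⟩ : imgAut α ((P.subgroupOf Q).map ψ₁)) =
      ⟨(α ⟨(⟨ψ₁ (Subgroup.inclusion hPQ x), hmem₁⟩ : ((P.subgroupOf Q).map ψ₁ : Subgroup Ω)),
        hP₁S₁ hmem₁⟩ : S₁), apply_mem_imgAut α hP₁S₁ ⟨_, hmem₁⟩⟩ := Subtype.ext e3
  rw [e5, e2]
  have e6 : (⟨χ₁ ⟨ψ₁ (Subgroup.inclusion hPQ x), hmem₁⟩, hχ₁S₁ _⟩ : S₁) = ⟨ψ₁ ⟨φ x, hφQ x⟩, hψ₁S₁ _⟩ :=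
    Subtype.ext e1
  rw [e6]

/-- **A weakly normal subsystem over a subgroup containing its own centralizer is normal.** -/
theorem isNormalIn_of_weakly_of_centralizerIn_le (p : ℕ) (F : FusionSystem S) {U : Subgroup Ω} (D : FusionSystem U)
    (hw : D.IsWeaklyNormalIn F p) (hc : centralizerIn S U ≤ U) : D.IsNormalIn F p := by
  refine ⟨hw, fun α hα => ?_⟩
  have hUS : U ≤ S := hw.2.2.2.1.1
  have hαF : α ∈ F.autGroup U := by
    rw [mem_autGroup_iff F hUS]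
    rw [mem_autGroup_iff D le_rfl] at hα
    exact hw.2.2.1 U hα
  have hUU : U ⊔ centralizerIn S U = U := sup_eq_left.2 hc
  have he : IsIso F (MulEquiv.subgroupCongr hUU.symm) :=
    hom_of_eq_on F rfl (subtype_mem F hUS) (fun x hx _ => rfl)
  refine ⟨MulAut.congr (MulEquiv.subgroupCongr hUU.symm) α, congr_mem_autGroup F he hαF, fun x => ?_, fun c hcc => ?_⟩
  · have h1 : (MulEquiv.subgroupCongr hUU.symm).symm (Subgroup.inclusion le_sup_left x) = x := Subtype.ext rfl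
    show (((MulEquiv.subgroupCongr hUU.symm) (α ((MulEquiv.subgroupCongr hUU.symm).symm
      (Subgroup.inclusion le_sup_left x))) : ↥(U ⊔ centralizerIn S U)) : Ω) = ((α x : U) : Ω)
    rw [h1]
    rfl
  · have hcU : (c : Ω) ∈ U := hc hcc
    have h1 : (MulEquiv.subgroupCongr hUU.symm).symm c = ⟨(c : Ω), hcU⟩ := Subtype.ext rfl
    have h2 : (((MulAut.congr (MulEquiv.subgroupCongr hUU.symm) α) c : ↥(U ⊔ centralizerIn S U)) : Ω) =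
        ((α ⟨(c : Ω), hcU⟩ : U) : Ω) := by
      show (((MulEquiv.subgroupCongr hUU.symm) (α ((MulEquiv.subgroupCongr hUU.symm).symm c)) :
        ↥(U ⊔ centralizerIn S U)) : Ω) = _
      rw [h1]
      rfl
    rw [h2]
    have hz : ∀ s : U, (⟨(c : Ω), hcU⟩ : U) * s = s * ⟨(c : Ω), hcU⟩ := by
      intro s
      apply Subtype.ext
      exact ((Subgroup.mem_centralizer_iff.1 hcc.2) s s.2).symm
    have hαz : ∀ s : U, α ⟨(c : Ω), hcU⟩ * s = s * α ⟨(c : Ω), hcU⟩ := by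
      intro s
      have h3 := congrArg α (hz (α⁻¹ s))
      rw [map_mul, map_mul, MulAut.apply_inv_self] at h3
      exact h3
    refine ⟨U.mul_mem (U.inv_mem hcU) (α _).2, ?_⟩
    show _ ∈ Subgroup.centralizer (U : Set Ω)
    rw [Subgroup.mem_centralizer_iff]
    intro s hs
    have h4 : (s : Ω) * (c : Ω) = (c : Ω) * s := (Subgroup.mem_centralizer_iff.1 hcc.2) s hs
    have h5 : ((α ⟨(c : Ω), hcU⟩ : U) : Ω) * s = s * ((α ⟨(c : Ω), hcU⟩ : U) : Ω) :=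
      congrArg Subtype.val (hαz ⟨s, hs⟩)
    have h6 : s * (c : Ω)⁻¹ = (c : Ω)⁻¹ * s := by
      calc s * (c : Ω)⁻¹ = (c : Ω)⁻¹ * ((c : Ω) * s) * (c : Ω)⁻¹ := by group
        _ = (c : Ω)⁻¹ * (s * (c : Ω)) * (c : Ω)⁻¹ := by rw [h4]
        _ = (c : Ω)⁻¹ * s := by group
    calc s * ((c : Ω)⁻¹ * ((α ⟨(c : Ω), hcU⟩ : U) : Ω))
        = (s * (c : Ω)⁻¹) * ((α ⟨(c : Ω), hcU⟩ : U) : Ω) := by group
      _ = (c : Ω)⁻¹ * (s * ((α ⟨(c : Ω), hcU⟩ : U) : Ω)) := by rw [h6]; group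
      _ = (c : Ω)⁻¹ * (((α ⟨(c : Ω), hcU⟩ : U) : Ω) * s) := by rw [h5]
      _ = (c : Ω)⁻¹ * ((α ⟨(c : Ω), hcU⟩ : U) : Ω) * s := by group

end Cfsg.Agent.Lib.Helper84
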