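/-
helper84: residual limits of saturated fusion systems: existence, containment in the system, and invariance of the
residual limit under passage to a saturated subsystem of index prime to `p` (the analogue for index prime to `p` of the
statement for normal subsystems of `p`-power index).
All declarations live in `Cfsg.Agent.Lib.Helper84`.
-/
import Mathlib
import Cfsg.Agent.Lib.Helper84.RedPPrime
import Cfsg.Agent.Lib.Helper84.RedPStep
import Cfsg.Agent.Lib.Helper84.RedTrans
import Cfsg.Agent.Lib.Helper84.NormalPPrimeLeast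
import Cfsg.Agent.S5124
import Cfsg.Agent.S5203

set_option autoImplicit false

namespace Cfsg.Agent.Lib.Helper84

open Cfsg Cfsg.FusionSystem
open Cfsg.Agent.Lib.Helper87 Cfsg.Agent.Lib.Helper86

variable {Ω : Type*} [Group Ω]

/-- a residual limit of `F` is a subsystem of `F` -/
theorem IsResidualLimitOf_le {p : ℕ} {U S : Subgroup Ω} {L : FusionSystem U} {F : FusionSystem S}
    (h : L.IsResidualLimitOf F p) : L.IsSubsystemOf F := by
  induction h with
  | stable F p _ _ => exact fun _ _ h => h
  | step F p D D' hD hD' _ ih => exact fun P φ hφ => hD.2.1 P (hD'.2.1.1 P (ih P hφ))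

/-- **Existence of residual limits.** -/
theorem exists_residualLimit {p : ℕ} [Fact p.Prime] :
    ∀ (n : ℕ) {S : Subgroup Ω} [Finite S], Nat.card S = n → IsPGroup p S → ∀ F : FusionSystem S, F.IsSaturated p →
      ∃ (U : Subgroup Ω) (L : FusionSystem U), L.IsResidualLimitOf F p := by
  intro n
  induction n using Nat.strong_induction_on with
  | _ n ih =>
    intro S _ hn hS F hF
    have hHS : F.hyperfocalSubgroup p ≤ S := hyperfocal_le F p
    have : Finite (F.hyperfocalSubgroup p) := finite_of_le hHS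
    have hHp : IsPGroup p (F.hyperfocalSubgroup p) := hS.to_le hHS
    obtain ⟨D, ⟨hDsat, hDidx⟩, -⟩ := Cfsg.Agent.S5113.result p hS F hF (F.hyperfocalSubgroup p) hHS le_rfl
    have hD' := exists_isPPrimeResidual hHp D hDsat
    set D' := opPrimeSys D p (aut0 D p) (aut0_le D p) with hD'def
    by_cases hst : D'.hyperfocalSubgroup p = F.hyperfocalSubgroup p
    · exact ⟨_, D', IsResidualLimitOf.step F p D D' ⟨hDsat, hDidx⟩ hD'
        (IsResidualLimitOf.stable D' p hst (isPPrimeResidual_self D D' hD'))⟩
    · have hH'H : D'.hyperfocalSubgroup p ≤ F.hyperfocalSubgroup p := hyperfocal_le D' p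
      have : Finite (D'.hyperfocalSubgroup p) := finite_of_le (hH'H.trans hHS)
      have hH'p : IsPGroup p (D'.hyperfocalSubgroup p) := hS.to_le (hH'H.trans hHS)
      have hlt : Nat.card (D'.hyperfocalSubgroup p) < n := by
        rw [← hn]
        have h1 : Nat.card (D'.hyperfocalSubgroup p) < Nat.card (F.hyperfocalSubgroup p) :=
          lt_of_not_ge (fun hge => hst (Subgroup.eq_of_le_of_card_ge hH'H hge))
        exact lt_of_lt_of_le h1 (Subgroup.card_le_of_le hHS)
      obtain ⟨D₂, ⟨hD₂sat, hD₂idx⟩, -⟩ :=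
        Cfsg.Agent.S5113.result p hHp D' hD'.1 (D'.hyperfocalSubgroup p) hH'H le_rfl
      have hD₂' := exists_isPPrimeResidual hH'p D₂ hD₂sat
      obtain ⟨U, L, hL⟩ := ih _ hlt rfl hH'p _ hD₂'.1
      exact ⟨U, L, IsResidualLimitOf.step F p D D' ⟨hDsat, hDidx⟩ hD'
        (IsResidualLimitOf.step D' p D₂ _ ⟨hD₂sat, hD₂idx⟩ hD₂' hL)⟩

theorem hyperfocal_mono {p : ℕ} {S : Subgroup Ω} (K F : FusionSystem S) (hKF : K.IsSubsystemOf F) :
    K.hyperfocalSubgroup p ≤ F.hyperfocalSubgroup p := by
  unfold FusionSystem.hyperfocalSubgroup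
  rw [Subgroup.closure_le]
  rintro _ ⟨P, α, x, hPS, hα, rfl⟩
  apply Subgroup.subset_closure
  have h1 := Cfsg.Agent.S5199.map_pResidual_le p (autGroup_mono K F hKF hPS) ⟨α, hα, rfl⟩
  obtain ⟨β, hβ, hβα⟩ := h1
  refine ⟨P, β, x, hPS, hβ, ?_⟩
  have : (β : MulAut P) = (α : MulAut P) := hβα
  rw [this]

/-- **The residual limit of `O^{p'}(F)` is the residual limit of `F`.** -/
theorem same_limit_of_isPPrimeResidual {p : ℕ} [hp : Fact p.Prime] :
    ∀ (n : ℕ) {S : Subgroup Ω} [Finite S], Nat.card S = n → IsPGroup p S → ∀ (F : FusionSystem S),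
      F.IsSaturated p → ∀ K : FusionSystem S, F.IsPPrimeResidual p K →
      ∀ {U V : Subgroup Ω} (LF : FusionSystem U), LF.IsResidualLimitOf F p →
      ∀ (LK : FusionSystem V), LK.IsResidualLimitOf K p → Same LF LK := by
  intro n
  induction n using Nat.strong_induction_on with
  | _ n ih =>
    intro S _ hn hS F hF K hK U V LF hLF LK hLK
    cases hLF with
    | stable _ _ h1 h2 =>
      have e := isPPrimeResidual_unique F K F hK h2
      rw [e] at hLK
      exact (same_of_stable hLK hp F inferInstance hS hF h1 h2 (Same.refl F)).symm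
    | step _ _ D D' hD hD' hlim =>
      have hHS : F.hyperfocalSubgroup p ≤ S := hyperfocal_le F p
      have hfinH : Finite (F.hyperfocalSubgroup p) := finite_of_le hHS
      have hHp : IsPGroup p (F.hyperfocalSubgroup p) := hS.to_le hHS
      by_cases hHeq : F.hyperfocalSubgroup p = S
      · have h3 : Same D F := same_of_pPowerIndex hS F D F hHeq hD.1 hF hD.2 (hasPPowerIndexIn_self F p)
        have h4 : Same D' K := same_pPrimeResidual h3 hD' hK
        exact same_limit hlim hp hLK hfinH hHp hD'.1 h4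
      · have hlt : Nat.card (F.hyperfocalSubgroup p) < n := by
          rw [← hn]
          exact lt_of_not_ge (fun hge => hHeq (Subgroup.eq_of_le_of_card_ge hHS hge))
        have hHsc : F.StronglyClosed (F.hyperfocalSubgroup p) := Cfsg.Agent.S5124.result p hS F hF
        have hHn : ((F.hyperfocalSubgroup p).subgroupOf S).Normal := subgroupOf_normal_of_stronglyClosed F hHsc
        have hKinv : K.IsInvariantIn F := isInvariantIn_of_isPPrimeResidual hS F hF K hK
        have hhypK : K.hyperfocalSubgroup p ≤ F.hyperfocalSubgroup p := hyperfocal_mono K F hK.2.1.1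
        obtain ⟨KH, ⟨hKHsat, hKHidx⟩, -⟩ :=
          Cfsg.Agent.S5113.result p hS K hK.1 (F.hyperfocalSubgroup p) hHS hhypK
        have hKHn : KH.IsNormalIn K p :=
          Cfsg.Agent.S5120.result p hS K hK.1 (F.hyperfocalSubgroup p) hHS hHn hhypK KH hKHsat hKHidx
        have hKHinv : KH.IsInvariantIn F := by
          refine isInvariantIn_trans p hS F hF K KH hK.1 hKinv hKHn.1.2.2 (fun α hα => ?_)
          exact nz_of_pPowerIndex hS K KH hKHsat hKHidx α (nz_of_invClause K F hKinv.2.2.1 hα)
            (stab_of_stronglyClosed F le_rfl hHsc hα)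
        have hDn : D.IsNormalIn F p :=
          Cfsg.Agent.S5120.result p hS F hF (F.hyperfocalSubgroup p) hHS hHn le_rfl D hD.1 hD.2
        have hD'KH : D'.IsSubsystemOf KH :=
          ppResidual_le_of_invariant hS F D KH hD.1 hDn.1.2.2 hKHsat hKHinv D' hD'
        have hKHF : KH.IsSubsystemOf F := fun P φ hφ => hK.2.1.1 P (hKHidx.1 P hφ)
        have hKHD : KH.IsSubsystemOf D := subsystem_of_pPowerIndex hS F KH D le_rfl hKHsat hKHF hD.2
        have hKHidx' : KH.HasPrimeToPIndexIn D p :=
          ⟨hKHD, fun P hP => (hD'.2.1.2 P hP).trans (autGroup_mono D' KH hD'KH hP)⟩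
        have hres : KH.IsPPrimeResidual p D' := isPPrimeResidual_of_hasPrimeToPIndexIn D KH D' hD' hKHsat hKHidx'
        obtain ⟨W, LH, hLH⟩ := exists_residualLimit _ rfl hHp KH hKHsat
        have h5 : Same LH LF := ih _ hlt rfl hHp KH hKHsat D' hres LH hLH LF hlim
        have h6 : Same LK LH := Cfsg.Agent.S5203.result p hS K hK.1 KH hKHn hKHidx LK hLK LH hLH
        exact (h6.trans h5).symm

/-- **The residual limit of a saturated subsystem of index prime to `p` is the residual limit of the system.** -/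
theorem same_limit_of_hasPrimeToPIndexIn {p : ℕ} [Fact p.Prime] {S : Subgroup Ω} [Finite S] (hS : IsPGroup p S)
    (F : FusionSystem S) (hF : F.IsSaturated p) (F₁ : FusionSystem S) (hF₁ : F₁.IsSaturated p)
    (hidx : F₁.HasPrimeToPIndexIn F p) {U V : Subgroup Ω} (L : FusionSystem U) (hL : L.IsResidualLimitOf F p)
    (L₁ : FusionSystem V) (hL₁ : L₁.IsResidualLimitOf F₁ p) : Same L L₁ := by
  have hK := exists_isPPrimeResidual hS F hF
  set K := opPrimeSys F p (aut0 F p) (aut0_le F p) with hKdef
  have hK₁ : F₁.IsPPrimeResidual p K := isPPrimeResidual_of_hasPrimeToPIndexIn F F₁ K hK hF₁ hidx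
  obtain ⟨W, LK, hLK⟩ := exists_residualLimit _ rfl hS K hK.1
  have h1 : Same L LK := same_limit_of_isPPrimeResidual _ rfl hS F hF K hK L hL LK hLK
  have h2 : Same L₁ LK := same_limit_of_isPPrimeResidual _ rfl hS F₁ hF₁ K hK₁ L₁ hL₁ LK hLK
  exact h1.trans h2.symm

end Cfsg.Agent.Lib.Helper84
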