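/-
helper84: the `p'`-step of the reduction: for `E` weakly normal in the saturated system `F` over `S` and
`Aut_E(T) ≤ A ⊴ Aut_F(T)` of index prime to `p`, the saturated subsystem `A_S ∘ O^{p'}_*(F)` has `Aut(T) = A` when
`A = O^{p'}(Aut_F(T)) Aut_E(T)`, and it is canonical.
All declarations live in `Cfsg.Agent.Lib.Helper84`.
-/
import Mathlib
import Cfsg.Agent.Lib.Helper84.NormalPPrimeLift
import Cfsg.Agent.Lib.Helper84.RedNz
import Cfsg.Agent.Lib.Helper84.RedSolv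

set_option autoImplicit false

namespace Cfsg.Agent.Lib.Helper84

open Cfsg Cfsg.FusionSystem
open Cfsg.Agent.Lib.Helper87

variable {Ω : Type*} [Group Ω] {S : Subgroup Ω}

/-- `O^{p'}_*(F)` is normalized by every automorphism of `S` normalizing `F`. -/
theorem nz_opPrimeStar [Finite S] {p : ℕ} [Fact p.Prime] (hS : IsPGroup p S) (F : FusionSystem S)
    (hF : F.IsSaturated p) {σ : MulAut S} (hσ : Nz σ F) : Nz σ (opPrimeStar F p) := by
  rw [nz_iff_twist]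
  have hidx : (opPrimeStar F p).HasPrimeToPIndexIn F p :=
    (Cfsg.Agent.S5114.result p hS F hF (opPrimeStar F p) (opPrimeStar_le F p) (containsPGens_opPrimeStar F p)).1
  refine opPrimeStar_le_of F p ?_
  intro P hP γ hγ
  have hPS : P ≤ S := hP.1
  refine mem_autGroup_twist (opPrimeStar F p) σ hPS ?_
  have h1 := hσ.congr_mem_pElements p hPS hγ
  exact hidx.2 _ (imgAut_le σ P) h1

theorem resMulAut_self (σ : MulAut S) (h : ∀ s : S, (s : Ω) ∈ S ↔ ((σ s : S) : Ω) ∈ S) :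
    resMulAut σ S le_rfl h = σ := by
  ext s
  rfl

namespace TData

variable {F : FusionSystem S} {p : ℕ} {T : Subgroup Ω} {E : FusionSystem T} {A : Subgroup (MulAut T)}

/-- `Aut_{F₁}(T) ≤ A` for `F₁ = A_S ∘ O^{p'}_*(F)`. -/
theorem autGroup_sys_le [Finite S] [Fact p.Prime] (h : TData F p E A) (hS : IsPGroup p S) (hF : F.IsSaturated p) :
    h.sys.autGroup T ≤ A := by
  intro β hβ
  have hTS : T ≤ S := h.stronglyClosed.1
  rw [mem_autGroup_iff _ hTS] at hβ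
  have h1 := h.sys_le_pullSys hS hF T hβ
  exact h.mem_of_mem_tSys (h.mem_tSys_of_mem_pullSys hS le_rfl h1)

/-- `O^{p'}(Aut_F(T)) Aut_E(T) ≤ Aut_{F₁}(T)` for `F₁ = A_S ∘ O^{p'}_*(F)`. -/
theorem le_autGroup_sys [Finite S] [Fact p.Prime] (h : TData F p E A) (hS : IsPGroup p S) (hF : F.IsSaturated p) :
    opPrimeSub p (F.autGroup T) ⊔ E.autGroup T ≤ h.sys.autGroup T := by
  have hTS : T ≤ S := h.stronglyClosed.1
  refine sup_le ((h.sys_hasPrimeToPIndexIn hS hF).2 T hTS) ?_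
  intro β hβ
  rw [mem_autGroup_iff E le_rfl] at hβ
  rw [mem_autGroup_iff _ hTS]
  exact h.le_sys hS hF T hβ

/-- **`A_S ∘ O^{p'}_*(F)` is canonical.** -/
theorem nz_sys [Finite S] [Fact p.Prime] (h : TData F p E A) (hS : IsPGroup p S) (hF : F.IsSaturated p)
    (σ : MulAut S) (hσ : Nz σ F) (hstab : ∀ s : S, (s : Ω) ∈ T ↔ ((σ s : S) : Ω) ∈ T)
    (hA : ∀ a ∈ A, resMulAut σ T h.stronglyClosed.1 hstab * a * (resMulAut σ T h.stronglyClosed.1 hstab)⁻¹ ∈ A) :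
    Nz σ h.sys := by
  rw [nz_iff_twist]
  have hT := h.stronglyClosed
  refine prodSystem_twist (opPrimeStar F p) (liftSub F hT A)
    (fun _ ha P => opPrimeStar_twist F p (liftSub_le F hT A ha) P)
    ((nz_iff_twist σ _).1 (nz_opPrimeStar hS F hF hσ)) ?_
  intro a ha
  obtain ⟨haF, haA⟩ := mem_liftSub.1 ha
  have h1 : σ * a * σ⁻¹ ∈ F.autGroup S := by
    have := hσ.conj_mem_autGroup le_rfl le_rfl (fun s => ⟨fun _ => (σ s).2, fun _ => s.2⟩) haF
    rwa [resMulAut_self] at this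
  rw [mem_liftSub]
  refine ⟨h1, ?_⟩
  have h2 : resTFun F hT (σ * a * σ⁻¹) h1 =
      resMulAut σ T hT.1 hstab * resTFun F hT a haF * (resMulAut σ T hT.1 hstab)⁻¹ := by
    ext t
    rw [resTFun_apply]
    show _ = ((resMulAut σ T hT.1 hstab (resTFun F hT a haF ((resMulAut σ T hT.1 hstab)⁻¹ t)) : T) : Ω)
    rw [resMulAut_apply]
    have e1 : (⟨((resTFun F hT a haF ((resMulAut σ T hT.1 hstab)⁻¹ t) : T) : Ω),
        hT.1 (resTFun F hT a haF ((resMulAut σ T hT.1 hstab)⁻¹ t)).2⟩ : S) =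
        a ⟨(((resMulAut σ T hT.1 hstab)⁻¹ t : T) : Ω), hT.1 ((resMulAut σ T hT.1 hstab)⁻¹ t).2⟩ :=
      Subtype.ext rfl
    have e2 : (⟨(((resMulAut σ T hT.1 hstab)⁻¹ t : T) : Ω), hT.1 ((resMulAut σ T hT.1 hstab)⁻¹ t).2⟩ : S) =
        σ⁻¹ ⟨t, hT.1 t.2⟩ := Subtype.ext rfl
    rw [e1, e2]
    rfl
  rw [h2]
  exact hA _ haA

end TData

end Cfsg.Agent.Lib.Helper84
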