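/-
helper84: Oliver's reduction. For `E` invariant in the saturated system `F` over `S` (`E` saturated over `T`) with
`Aut_F(T)` reached from `Aut_E(T)` by canonical `p`- and `p'`-steps (`PSolvPair`), there is a saturated subsystem `F₀` of `F`
over `T C_S(T)`, weakly normal in `F`, containing `E`, with `Aut_{F₀}(T) = Aut_E(T)` and with the same residual limits as `F`.
All declarations live in `Cfsg.Agent.Lib.Helper84`.
-/
import Mathlib
import Cfsg.Agent.Lib.Helper84.RedLimit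
import Cfsg.Agent.Lib.Helper84.RedQStep

set_option autoImplicit false

namespace Cfsg.Agent.Lib.Helper84

open Cfsg Cfsg.FusionSystem
open Cfsg.Agent.Lib.Helper87 Cfsg.Agent.Lib.Helper86
open Cfsg.Agent.Lib.Helper88.Invariance (InvClause)

section group

variable {G : Type*} [Group G]

theorem conj_mem_opSub (p : ℕ) (τ : G) (A : Subgroup G) (hA : ∀ a ∈ A, τ * a * τ⁻¹ ∈ A) :
    ∀ a ∈ opSub p A, τ * a * τ⁻¹ ∈ opSub p A := by
  intro a ha
  exact map_pResidual_mem p (MulAut.conj τ).toMonoidHom (A := A) (A' := A) (fun a ha => hA a ha) ha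

theorem conj_mem_opPrimeSub (p : ℕ) [Fact p.Prime] (τ : G) (A : Subgroup G) (hA : ∀ a ∈ A, τ * a * τ⁻¹ ∈ A) :
    ∀ a ∈ opPrimeSub p A, τ * a * τ⁻¹ ∈ opPrimeSub p A := by
  intro a ha
  exact map_pElements_mem p (MulAut.conj τ).toMonoidHom (A := A) (A' := A) (fun a ha => hA a ha) ha

theorem conj_mem_sup (τ : G) (X B : Subgroup G) (hX : ∀ a ∈ X, τ * a * τ⁻¹ ∈ X) (hB : ∀ a ∈ B, τ * a * τ⁻¹ ∈ B) :
    ∀ a ∈ X ⊔ B, τ * a * τ⁻¹ ∈ X ⊔ B := by
  have key : X ⊔ B ≤ (X ⊔ B).comap (MulAut.conj τ).toMonoidHom := by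
    refine sup_le ?_ ?_
    · intro a ha
      show (MulAut.conj τ) a ∈ X ⊔ B
      rw [MulAut.conj_apply]
      exact (le_sup_left : X ≤ X ⊔ B) (hX a ha)
    · intro a ha
      show (MulAut.conj τ) a ∈ X ⊔ B
      rw [MulAut.conj_apply]
      exact (le_sup_right : B ≤ X ⊔ B) (hB a ha)
  intro a ha
  have := key ha
  rwa [Subgroup.mem_comap, MulEquiv.coe_toMonoidHom, MulAut.conj_apply] at this

/-- `β ∈ O^{p'}(A) B` as soon as some `p`-power power of `β ∈ A` lies in it -/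
theorem mem_of_pow_mem_opPrimeSub_sup (p : ℕ) [hp : Fact p.Prime] (A B : Subgroup G) [Finite A] {β : G} (hβ : β ∈ A)
    {k : ℕ} (hk : β ^ (p ^ k) ∈ opPrimeSub p A ⊔ B) : β ∈ opPrimeSub p A ⊔ B := by
  have hn0 : orderOf β ≠ 0 := by
    have h1 : orderOf (⟨β, hβ⟩ : A) = orderOf β := by rw [← Subgroup.orderOf_coe]
    rw [← h1]
    exact (orderOf_pos _).ne'
  set n := orderOf β with hn
  set m := ordCompl[p] n with hm
  have hmn : m ∣ n := Nat.ordCompl_dvd n p
  have hm0 : m ≠ 0 := fun h0 => hn0 (by rw [h0] at hmn; exact Nat.eq_zero_of_zero_dvd hmn)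
  have hord : orderOf (β ^ m) = p ^ (n.factorization p) := by
    rw [orderOf_pow_of_dvd hm0 hmn]
    have h1 : ordProj[p] n * ordCompl[p] n = n := Nat.ordProj_mul_ordCompl_eq_self n p
    exact Nat.div_eq_of_eq_mul_left (Nat.pos_of_ne_zero hm0) h1.symm
  have h1 : β ^ m ∈ opPrimeSub p A := by
    refine ⟨⟨β ^ m, A.pow_mem hβ m⟩, Subgroup.subset_closure ⟨n.factorization p, ?_⟩, rfl⟩
    rw [← hord, ← Subgroup.orderOf_coe]
  have h2 : β ^ m ∈ opPrimeSub p A ⊔ B := (le_sup_left : opPrimeSub p A ≤ _) h1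
  have hco : Nat.Coprime m (p ^ k) := (Nat.Coprime.pow_left k (Nat.coprime_ordCompl hp.out hn0)).symm
  have hbez : (m : ℤ) * Nat.gcdA m (p ^ k) + ((p ^ k : ℕ) : ℤ) * Nat.gcdB m (p ^ k) = 1 := by
    have := Nat.gcd_eq_gcd_ab m (p ^ k)
    rw [hco] at this
    exact_mod_cast this.symm
  have h3 : β = (β ^ m) ^ (Nat.gcdA m (p ^ k)) * (β ^ (p ^ k)) ^ (Nat.gcdB m (p ^ k)) := by
    rw [← zpow_natCast β m, ← zpow_natCast β (p ^ k), ← zpow_mul, ← zpow_mul, ← zpow_add, hbez, zpow_one]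
  rw [h3]
  exact Subgroup.mul_mem _ (Subgroup.zpow_mem _ h2 _) (Subgroup.zpow_mem _ hk _)

end group

variable {Ω : Type*} [Group Ω]

/-- a fusion system is invariant in itself -/
theorem isInvariantIn_self {S : Subgroup Ω} (F : FusionSystem S) : F.IsInvariantIn F := by
  refine ⟨fun _ _ h => h, ⟨le_rfl, fun _ _ _ hφ x => (F.le_of_mem hφ).2 x⟩, ?_, ?_⟩
  · intro P hPS φ hφ α hα
    have hαF := (mem_autGroup_iff F le_rfl).1 hα
    have he : IsIso F (imgEquiv α P hPS) := restrict_mem' F hαF hPS (fun x => rfl)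
    have hφS : ∀ x : P, φ x ∈ S := hom_map_mem F hφ
    have h1 : ∀ y : imgAut α P, ((P.subtype.comp (imgEquiv α P hPS).symm.toMonoidHom) y) ∈ P :=
      fun y => ((imgEquiv α P hPS).symm y).2
    let χ₁ : imgAut α P →* Ω := φ.comp ((imgEquiv α P hPS).symm.toMonoidHom)
    have hχ₁ : χ₁ ∈ F.Hom (imgAut α P) := comp_mem' F he.symm hφ h1 (fun y => rfl)
    have hχ₁S : ∀ y, χ₁ y ∈ S := fun y => hφS _
    let χ : imgAut α P →* Ω := (S.subtype.comp α.toMonoidHom).comp (χ₁.codRestrict S hχ₁S)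
    have hχ : χ ∈ F.Hom (imgAut α P) := comp_mem' F hχ₁ hαF hχ₁S (fun y => rfl)
    refine ⟨χ, hχ, fun x hφx hαx => ?_⟩
    show ((α ⟨φ ((imgEquiv α P hPS).symm ⟨((α ⟨x, hPS x.2⟩ : S) : Ω), hαx⟩), _⟩ : S) : Ω) = _
    have h2 : (imgEquiv α P hPS).symm ⟨((α ⟨x, hPS x.2⟩ : S) : Ω), hαx⟩ = x := by
      rw [MulEquiv.symm_apply_eq]
      exact Subtype.ext rfl
    congr 2
    exact Subtype.ext (congrArg φ h2)
  · intro P _ φ hφ
    exact ⟨1, Subgroup.one_mem _, φ, hφ, fun x hx => rfl⟩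

theorem inn_le_autGroup {T : Subgroup Ω} (E : FusionSystem T) : Inn ↥T ≤ E.autGroup T := by
  rintro _ ⟨t, rfl⟩
  rw [mem_autGroup_iff E le_rfl]
  exact hom_of_eq_on E rfl (E.conj_mem (P := T) le_rfl t.2) (fun x hx _ => rfl)

/-- If `Aut_F(T) = Aut_E(T)` for `E` saturated over `T` then `S = T C_S(T)`. -/
theorem eq_sup_centralizerIn_of_autGroup_eq {S T : Subgroup Ω} [Finite S] {p : ℕ} [Fact p.Prime]
    (hS : IsPGroup p S) (F : FusionSystem S) (hT : F.StronglyClosed T) (E : FusionSystem T) (hE : E.IsSaturated p)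
    (hFE : F.autGroup T = E.autGroup T) : S = T ⊔ centralizerIn S T := by
  have hTS : T ≤ S := hT.1
  have hfinT : Finite T := finite_of_le hTS
  apply le_antisymm _ (sup_le hTS inf_le_left)
  intro s hs
  obtain ⟨-, Sy, hSy⟩ := isFullyAutomized_self E hE
  have hle : autInducedBy S T ≤ E.autGroup T := hFE ▸ autInducedBy_le_autGroup F hTS
  have hcS : conjAut T s (le_normalizer_of_stronglyClosed' F hT hs) ∈ autInducedBy S T :=
    mem_autInducedBy_iff.2 ⟨s, hs, fun _ => rfl⟩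
  have hP₁p : IsPGroup p ((autInducedBy S T).subgroupOf (E.autGroup T)) :=
    (autInducedBy_isPGroup hS T).comap_subtype
  have hSyle : (Sy : Subgroup (E.autGroup T)) ≤ (autInducedBy S T).subgroupOf (E.autGroup T) := by
    rw [hSy]
    intro a ha
    rw [Subgroup.mem_subgroupOf] at ha ⊢
    obtain ⟨g, hg, hga⟩ := mem_autInducedBy_iff.1 ha
    exact mem_autInducedBy_iff.2 ⟨g, hTS hg, hga⟩
  have hmax := Sy.is_maximal' hP₁p hSyle
  have hc : (⟨conjAut T s (le_normalizer_of_stronglyClosed' F hT hs), hle hcS⟩ : E.autGroup T) ∈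
      (autInducedBy S T).subgroupOf (E.autGroup T) := Subgroup.mem_subgroupOf.2 hcS
  rw [hmax, hSy, Subgroup.mem_subgroupOf] at hc
  obtain ⟨t, ht, htc⟩ := mem_autInducedBy_iff.1 hc
  have hcen : t⁻¹ * s ∈ centralizerIn S T := by
    refine ⟨S.mul_mem (S.inv_mem (hTS ht)) hs, ?_⟩
    show t⁻¹ * s ∈ Subgroup.centralizer (T : Set Ω)
    rw [Subgroup.mem_centralizer_iff]
    intro x hx
    have h1 : s * x * s⁻¹ = t * x * t⁻¹ := htc ⟨x, hx⟩
    have h2 : s * x = t * x * t⁻¹ * s := by rw [← h1]; group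
    calc x * (t⁻¹ * s) = t⁻¹ * (t * x * t⁻¹ * s) := by group
      _ = t⁻¹ * (s * x) := by rw [h2]
      _ = t⁻¹ * s * x := by group
  have : s = t * (t⁻¹ * s) := by group
  rw [this]
  exact Subgroup.mul_mem _ (le_sup_left (a := T) (b := centralizerIn S T) ht)
    (le_sup_right (a := T) (b := centralizerIn S T) hcen)

/-- the conclusion of the reduction -/
def RedGoal (p : ℕ) {S T : Subgroup Ω} (F : FusionSystem S) (E : FusionSystem T) : Prop :=
  ∃ (S₀ : Subgroup Ω) (F₀ : FusionSystem S₀), S₀ = T ⊔ centralizerIn S T ∧ F₀.IsWeaklyNormalIn F p ∧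
    E.IsSubsystemOf F₀ ∧ F₀.autGroup T = E.autGroup T ∧
    (∀ {U V : Subgroup Ω} (L : FusionSystem U) (Finf : FusionSystem V),
      L.IsResidualLimitOf F₀ p → Finf.IsResidualLimitOf F p → Same L Finf) ∧
    ∀ σ : MulAut S, Nz σ F → Nz σ E → Nz σ F₀

/-- **Oliver's reduction.** -/
theorem red_main {p : ℕ} [hp : Fact p.Prime] {T : Subgroup Ω} (E : FusionSystem T) (hEsat : E.IsSaturated p)
    {A : Subgroup (MulAut T)} (h : PSolvPair p (E.autGroup T) A) :
    ∀ {S : Subgroup Ω} [Finite S], IsPGroup p S → ∀ F : FusionSystem S, F.IsSaturated p → E.IsInvariantIn F →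
      F.autGroup T = A → RedGoal p F E := by
  induction h with
  | base =>
    intro S _ hS F hF hEinv hFA
    have hT := hEinv.2.1
    have hSeq := eq_sup_centralizerIn_of_autGroup_eq hS F hT E hEsat hFA
    exact ⟨S, F, hSeq, ⟨hF, hF, isInvariantIn_self F⟩, hEinv.1, hFA,
      fun L Finf hL hFinf => same_limit hL hp hFinf inferInstance hS hF (Same.refl F), fun σ hσ _ => hσ⟩
  | pstep A _ ih =>
    intro S _ hS F hF hEinv hFA
    subst hFA
    have hT : F.StronglyClosed T := hEinv.2.1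
    have hTS : T ≤ S := hT.1
    have hB : E.autGroup T ≤ F.autGroup T := autGroup_mono E F hEinv.1 le_rfl
    have hA1 : (pResidual p ↥(F.autGroup T)).map (F.autGroup T).subtype ⊔ Inn ↥T ≤
        opSub p (F.autGroup T) ⊔ E.autGroup T :=
      sup_le le_sup_left ((inn_le_autGroup E).trans le_sup_right)
    have hA2 : ∀ β ∈ F.autGroup T, ∀ a ∈ opSub p (F.autGroup T) ⊔ E.autGroup T,
        β * a * β⁻¹ ∈ opSub p (F.autGroup T) ⊔ E.autGroup T := fun β hβ =>
      conj_mem_sup β _ _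
        (conj_mem_opSub p β (F.autGroup T) (fun a ha => mul_mem (mul_mem hβ ha) (inv_mem hβ)))
        (autGroup_conj_mem_of_invClause E F hEinv.2.2.1 β hβ)
    obtain ⟨F₁, hF₁sat, hF₁idx, hF₁n, hF₁aut, hF₁can⟩ := exists_pstep hS F hF hT _ hA1 hA2
    have hS₁S : nSub S (opSub p (F.autGroup T) ⊔ E.autGroup T) ≤ S := nSub_le _
    have hfin₁ : Finite (nSub S (opSub p (F.autGroup T) ⊔ E.autGroup T)) := finite_of_le hS₁S
    have hS₁p : IsPGroup p (nSub S (opSub p (F.autGroup T) ⊔ E.autGroup T)) := hS.to_le hS₁S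
    have hTS₁ : T ≤ nSub S (opSub p (F.autGroup T) ⊔ E.autGroup T) :=
      le_nSub_of_inn_le hTS (le_sup_right.trans hA1)
    have hEF₁ : E.IsSubsystemOf F₁ := subsystem_of_pPowerIndex hS F E F₁ hTS₁ hEsat hEinv.1 hF₁idx
    have hEinv₁ : E.IsInvariantIn F₁ := isInvariantIn_of_le p hS F hF E F₁ hF₁sat hEF₁ hF₁idx.1 hEinv
    have hF₁A : F₁.autGroup T = opSub p (F.autGroup T) ⊔ E.autGroup T :=
      le_antisymm hF₁aut (sup_le (hF₁idx.2.2 T hTS₁) (autGroup_mono E F₁ hEF₁ le_rfl))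
    obtain ⟨S₀, F₀, hS₀, hw, hEF₀, haut, hlim, hinv⟩ := ih hS₁p F₁ hF₁sat hEinv₁ hF₁A
    have hcen : centralizerIn (nSub S (opSub p (F.autGroup T) ⊔ E.autGroup T)) T = centralizerIn S T :=
      le_antisymm (inf_le_inf_right _ hS₁S) (le_inf (centralizerIn_le_nSub _) inf_le_right)
    have hS₀S₁ : S₀ ≤ nSub S (opSub p (F.autGroup T) ⊔ E.autGroup T) := hw.2.2.2.1.1
    refine ⟨S₀, F₀, by rw [hS₀, hcen], ⟨hw.1, hF, ?_⟩, hEF₀, haut, ?_, ?_⟩
    · exact isInvariantIn_trans p hS F hF F₁ F₀ hF₁sat hF₁n.1.2.2 hw.2.2 (fun α hα =>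
        hinv α (nz_of_invClause F₁ F hF₁n.1.2.2.2.2.1 hα)
          (nz_of_invClause_of_le E F hEinv.2.2.1 hS₁S hTS₁ hT hα))
    · intro U V L Finf hL hFinf
      obtain ⟨W, L₁, hL₁⟩ := exists_residualLimit _ rfl hS₁p F₁ hF₁sat
      have h1 : Same L L₁ := hlim L L₁ hL hL₁
      have h2 : Same Finf L₁ := Cfsg.Agent.S5203.result p hS F hF F₁ hF₁n hF₁idx Finf hFinf L₁ hL₁
      exact h1.trans h2.symm
    · intro σ hσF hσE
      have hstab := hσE.stab
      have hσA : ∀ a ∈ opSub p (F.autGroup T) ⊔ E.autGroup T,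
          resMulAut σ T hT.1 hstab * a * (resMulAut σ T hT.1 hstab)⁻¹ ∈ opSub p (F.autGroup T) ⊔ E.autGroup T :=
        conj_mem_sup _ _ _
          (conj_mem_opSub p _ (F.autGroup T) (fun a ha => hσF.conj_mem_autGroup hTS hTS hstab ha))
          (fun a ha => hσE.conj_mem_autGroup le_rfl hTS hstab ha)
      have hσF₁ : Nz σ F₁ := hF₁can σ hstab hσF hσA
      have hstab₁ := hσF₁.stab
      have h1 : Nz (resMulAut σ _ hS₁S hstab₁) F₁ := (nz_resMulAut_iff σ _ hS₁S hstab₁ le_rfl F₁).2 hσF₁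
      have h2 : Nz (resMulAut σ _ hS₁S hstab₁) E := (nz_resMulAut_iff σ _ hS₁S hstab₁ hTS₁ E).2 hσE
      exact (nz_resMulAut_iff σ _ hS₁S hstab₁ hS₀S₁ F₀).1 (hinv _ h1 h2)
  | qstep A _ ih =>
    intro S _ hS F hF hEinv hFA
    subst hFA
    have hT : F.StronglyClosed T := hEinv.2.1
    have hTS : T ≤ S := hT.1
    have hfinT : Finite T := finite_of_le hTS
    have : Finite (MulAut T) := Finite.of_injective (fun α : MulAut T => (α : T → T)) DFunLike.coe_injective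
    have hB : E.autGroup T ≤ F.autGroup T := autGroup_mono E F hEinv.1 le_rfl
    have hTD : TData F p E (opPrimeSub p (F.autGroup T) ⊔ E.autGroup T) :=
      { wn := ⟨hEsat, hF, hEinv⟩
        le := sup_le (opPrimeSub_le p _) hB
        normal := fun β hβ => conj_mem_sup β _ _
          (conj_mem_opPrimeSub p β (F.autGroup T) (fun a ha => mul_mem (mul_mem hβ ha) (inv_mem hβ)))
          (autGroup_conj_mem_of_invClause E F hEinv.2.2.1 β hβ)
        autE := le_sup_right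
        pprime := fun β hβ k hk => mem_of_pow_mem_opPrimeSub_sup p (F.autGroup T) (E.autGroup T) hβ hk }
    have hF₁sat := hTD.sys_isSaturated hS hF
    have hF₁idx := hTD.sys_hasPrimeToPIndexIn hS hF
    have hF₁inv := hTD.sys_isInvariantIn hS hF
    have hEF₁ : E.IsSubsystemOf hTD.sys := hTD.le_sys hS hF
    have hEinv₁ : E.IsInvariantIn hTD.sys := isInvariantIn_of_le p hS F hF E hTD.sys hF₁sat hEF₁ hF₁idx.1 hEinv
    have hF₁A : hTD.sys.autGroup T = opPrimeSub p (F.autGroup T) ⊔ E.autGroup T :=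
      le_antisymm (hTD.autGroup_sys_le hS hF) (hTD.le_autGroup_sys hS hF)
    obtain ⟨S₀, F₀, hS₀, hw, hEF₀, haut, hlim, hinv⟩ := ih hS hTD.sys hF₁sat hEinv₁ hF₁A
    refine ⟨S₀, F₀, hS₀, ⟨hw.1, hF, ?_⟩, hEF₀, haut, ?_, ?_⟩
    · exact isInvariantIn_trans p hS F hF hTD.sys F₀ hF₁sat hF₁inv hw.2.2 (fun α hα =>
        hinv α (nz_of_invClause hTD.sys F hF₁inv.2.2.1 hα)
          (nz_of_invClause_of_le E F hEinv.2.2.1 le_rfl hTS hT hα))
    · intro U V L Finf hL hFinf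
      obtain ⟨W, L₁, hL₁⟩ := exists_residualLimit _ rfl hS hTD.sys hF₁sat
      have h1 : Same L L₁ := hlim L L₁ hL hL₁
      have h2 : Same Finf L₁ := same_limit_of_hasPrimeToPIndexIn hS F hF hTD.sys hF₁sat hF₁idx Finf hFinf L₁ hL₁
      exact h1.trans h2.symm
    · intro σ hσF hσE
      have hstab := hσE.stab
      have hσA : ∀ a ∈ opPrimeSub p (F.autGroup T) ⊔ E.autGroup T,
          resMulAut σ T hTD.stronglyClosed.1 hstab * a * (resMulAut σ T hTD.stronglyClosed.1 hstab)⁻¹ ∈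
            opPrimeSub p (F.autGroup T) ⊔ E.autGroup T :=
        conj_mem_sup _ _ _
          (conj_mem_opPrimeSub p _ (F.autGroup T) (fun a ha => hσF.conj_mem_autGroup hTS hTS hstab ha))
          (fun a ha => hσE.conj_mem_autGroup le_rfl hTS hstab ha)
      exact hinv σ (hTD.nz_sys hS hF σ hσF hstab hσA) hσE

end Cfsg.Agent.Lib.Helper84
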