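/-
helper84: `p`-solvability of a quotient `A / B` of subgroups of a group, unwound into a chain of canonical steps
`X ↦ O^p(X) B` and `X ↦ O^{p'}(X) B` leading from `A` down to `B`.
All declarations live in `Cfsg.Agent.Lib.Helper84`.
-/
import Mathlib
import Cfsg.Prelude.Def_Local
import Cfsg.Prelude.Def_Transfer

set_option autoImplicit false

namespace Cfsg.Agent.Lib.Helper84

open Cfsg

variable {G : Type*} [Group G]

/-- `O^p(A)` as a subgroup of the ambient group -/
def opSub (p : ℕ) (A : Subgroup G) : Subgroup G := (pResidual p ↥A).map A.subtype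

/-- `O^{p'}(A)` as a subgroup of the ambient group -/
def opPrimeSub (p : ℕ) (A : Subgroup G) : Subgroup G :=
  (Subgroup.closure {α : ↥A | ∃ k : ℕ, orderOf α = p ^ k}).map A.subtype

theorem opSub_le (p : ℕ) (A : Subgroup G) : opSub p A ≤ A := Subgroup.map_subtype_le _

theorem opPrimeSub_le (p : ℕ) (A : Subgroup G) : opPrimeSub p A ≤ A := Subgroup.map_subtype_le _

/-- `A` can be reached from `B` by finitely many steps `X ↦ O^p(X) B`, `X ↦ O^{p'}(X) B` (read downwards from `A`). -/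
inductive PSolvPair (p : ℕ) (B : Subgroup G) : Subgroup G → Prop
  | base : PSolvPair p B B
  | pstep (A : Subgroup G) : PSolvPair p B (opSub p A ⊔ B) → PSolvPair p B A
  | qstep (A : Subgroup G) : PSolvPair p B (opPrimeSub p A ⊔ B) → PSolvPair p B A

theorem pow_relIndex_mem {Γ : Type*} [Group Γ] (H K : Subgroup Γ) [H.Normal] {g : Γ} (hg : g ∈ K) :
    g ^ (H.relIndex K) ∈ H := by
  have h1 := Subgroup.pow_index_mem (H.subgroupOf K) (⟨g, hg⟩ : K)
  rw [Subgroup.mem_subgroupOf] at h1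
  exact h1

theorem mem_of_pow_mem_of_coprime {Γ : Type*} [Group Γ] (H : Subgroup Γ) {g : Γ} {r : ℕ} (hr : g ^ r ∈ H)
    (hco : r.Coprime (orderOf g)) : g ∈ H := by
  obtain ⟨m, hm⟩ := exists_pow_eq_self_of_coprime hco
  rw [← hm]
  exact H.pow_mem hr m

/-- **A `p`-solvable quotient `A / B` unwinds into canonical steps.** -/
theorem psolvPair_of_isPSolvable (p : ℕ) (A B : Subgroup G) (hBA : B ≤ A)
    [hn : (B.subgroupOf A).Normal] (h : IsPSolvable p (↥A ⧸ B.subgroupOf A)) : PSolvPair p B A := by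
  obtain ⟨n, H, h0, hlast, hmono, hnorm, hstep⟩ := h
  have key : ∀ (i : ℕ) (hi : i ≤ n) (X : Subgroup G), B ≤ X → X ≤ A →
      (∀ (x : G) (_ : x ∈ X) (hxA : x ∈ A),
        (QuotientGroup.mk ⟨x, hxA⟩ : ↥A ⧸ B.subgroupOf A) ∈ H ⟨i, Nat.lt_succ_of_le hi⟩) → PSolvPair p B X := by
    intro i
    induction i with
    | zero =>
      intro hi X hBX hXA hX
      have hXB : X ≤ B := by
        intro x hx
        have h1 := hX x hx (hXA hx)
        have h2 : (⟨0, Nat.lt_succ_of_le hi⟩ : Fin (n + 1)) = 0 := rfl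
        rw [h2, h0, Subgroup.mem_bot, QuotientGroup.eq_one_iff, Subgroup.mem_subgroupOf] at h1
        exact h1
      have : X = B := le_antisymm hXB hBX
      rw [this]
      exact PSolvPair.base
    | succ i ih =>
      intro hi X hBX hXA hX
      have hi' : i ≤ n := Nat.le_of_succ_le hi
      set j : Fin n := ⟨i, hi⟩ with hj
      have hjc : j.castSucc = ⟨i, Nat.lt_succ_of_le hi'⟩ := rfl
      have hjs : j.succ = ⟨i + 1, Nat.lt_succ_of_le hi⟩ := rfl
      have : (H ⟨i, Nat.lt_succ_of_le hi'⟩).Normal := hnorm _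
      -- the subgroup of `G` of the elements of `A` mapping into `H i`
      set Y : Subgroup G := ((H ⟨i, Nat.lt_succ_of_le hi'⟩).comap (QuotientGroup.mk' (B.subgroupOf A))).map A.subtype
        with hY
      have hBY : B ≤ Y := by
        intro b hb
        refine ⟨⟨b, hBA hb⟩, ?_, rfl⟩
        show (QuotientGroup.mk' (B.subgroupOf A)) ⟨b, hBA hb⟩ ∈ H ⟨i, Nat.lt_succ_of_le hi'⟩
        have : (QuotientGroup.mk' (B.subgroupOf A)) ⟨b, hBA hb⟩ = 1 := by
          rw [QuotientGroup.mk'_apply, QuotientGroup.eq_one_iff, Subgroup.mem_subgroupOf]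
          exact hb
        rw [this]
        exact Subgroup.one_mem _
      have hYX : ∀ X' : Subgroup G, X' ≤ Y → ∀ (x : G) (_ : x ∈ X') (hxA : x ∈ A),
          (QuotientGroup.mk ⟨x, hxA⟩ : ↥A ⧸ B.subgroupOf A) ∈ H ⟨i, Nat.lt_succ_of_le hi'⟩ := by
        intro X' hX' x hx hxA
        obtain ⟨a, ha, hax⟩ := hX' hx
        have : a = ⟨x, hxA⟩ := Subtype.ext hax
        rw [← this]
        exact ha
      rcases hstep j with ⟨m, hm⟩ | hco
      · -- a `p`-step
        refine PSolvPair.pstep X (ih hi' _ le_sup_right (sup_le ((opSub_le p X).trans hXA) hBA) ?_)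
        refine hYX _ (sup_le ?_ hBY)
        unfold opSub pResidual
        rw [Subgroup.map_le_iff_le_comap, Subgroup.closure_le]
        intro x hx
        have hxco : Nat.Coprime (orderOf x) p := hx
        have hxA : (x : G) ∈ A := hXA x.2
        refine ⟨⟨x, hxA⟩, ?_, rfl⟩
        show (QuotientGroup.mk' (B.subgroupOf A)) ⟨x, hxA⟩ ∈ H ⟨i, Nat.lt_succ_of_le hi'⟩
        have h1 : (QuotientGroup.mk ⟨(x : G), hxA⟩ : ↥A ⧸ B.subgroupOf A) ∈ H ⟨i + 1, Nat.lt_succ_of_le hi⟩ :=
          hX x x.2 hxA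
        have h2 := pow_relIndex_mem (H ⟨i, Nat.lt_succ_of_le hi'⟩) (H ⟨i + 1, Nat.lt_succ_of_le hi⟩) h1
        rw [hjc, hjs] at hm
        rw [hm] at h2
        refine mem_of_pow_mem_of_coprime _ h2 ?_
        have h3 : orderOf (QuotientGroup.mk ⟨(x : G), hxA⟩ : ↥A ⧸ B.subgroupOf A) ∣ orderOf x := by
          have h4 : orderOf (⟨(x : G), hxA⟩ : A) = orderOf x := by
            rw [← Subgroup.orderOf_coe, ← Subgroup.orderOf_coe]
          rw [← h4]
          exact orderOf_map_dvd (QuotientGroup.mk' (B.subgroupOf A)) _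
        exact Nat.Coprime.pow_left m (Nat.Coprime.coprime_dvd_right h3 hxco.symm)
      · -- a `p'`-step
        refine PSolvPair.qstep X (ih hi' _ le_sup_right (sup_le ((opPrimeSub_le p X).trans hXA) hBA) ?_)
        refine hYX _ (sup_le ?_ hBY)
        unfold opPrimeSub
        rw [Subgroup.map_le_iff_le_comap, Subgroup.closure_le]
        rintro x ⟨k, hk⟩
        have hxA : (x : G) ∈ A := hXA x.2
        refine ⟨⟨x, hxA⟩, ?_, rfl⟩
        show (QuotientGroup.mk' (B.subgroupOf A)) ⟨x, hxA⟩ ∈ H ⟨i, Nat.lt_succ_of_le hi'⟩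
        have h1 : (QuotientGroup.mk ⟨(x : G), hxA⟩ : ↥A ⧸ B.subgroupOf A) ∈ H ⟨i + 1, Nat.lt_succ_of_le hi⟩ :=
          hX x x.2 hxA
        have h2 := pow_relIndex_mem (H ⟨i, Nat.lt_succ_of_le hi'⟩) (H ⟨i + 1, Nat.lt_succ_of_le hi⟩) h1
        rw [hjc, hjs] at hco
        refine mem_of_pow_mem_of_coprime _ h2 ?_
        have h3 : orderOf (QuotientGroup.mk ⟨(x : G), hxA⟩ : ↥A ⧸ B.subgroupOf A) ∣ p ^ k := by
          have h4 : orderOf (⟨(x : G), hxA⟩ : A) = orderOf x := by
            rw [← Subgroup.orderOf_coe, ← Subgroup.orderOf_coe]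
          rw [← hk, ← h4]
          exact orderOf_map_dvd (QuotientGroup.mk' (B.subgroupOf A)) _
        exact Nat.Coprime.coprime_dvd_right h3 (Nat.Coprime.pow_right k hco)
  refine key n le_rfl A hBA le_rfl (fun x _ hxA => ?_)
  have : (⟨n, Nat.lt_succ_of_le le_rfl⟩ : Fin (n + 1)) = Fin.last n := rfl
  rw [this, hlast]
  exact Subgroup.mem_top _

end Cfsg.Agent.Lib.Helper84
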