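/-
helper84: project REEW2 (helper61), module REEW2-[W2-TORI-A] (hedge): structure of the centralizers of the
`π`-elements (cyclic, TI, Hall) from commutativity of centralizers of elements of prime order and cyclic Sylow subgroups.
-/
import Mathlib

set_option autoImplicit false
set_option linter.style.haveILetI false

namespace Cfsg.Agent.Lib.Helper84.ReeW2

/-- A finite commutative group all of whose Sylow subgroups are cyclic is cyclic. -/
theorem isCyclic_of_comm_of_sylow_cyclic {D : Type*} [Group D] [Finite D] (hD : ∀ a b : D, a * b = b * a)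
    (hS : ∀ (p : ℕ) [Fact p.Prime] (P : Sylow p D), IsCyclic ↥(P : Subgroup D)) : IsCyclic D := by
  letI : CommGroup D := { (inferInstance : Group D) with mul_comm := hD }
  rw [IsCyclic.iff_exponent_eq_card]
  apply Nat.dvd_antisymm (Monoid.exponent_dvd_of_forall_pow_eq_one fun g => by
    rw [← orderOf_dvd_iff_pow_eq_one]; exact orderOf_dvd_natCard g)
  rw [← Nat.factorization_prime_le_iff_dvd Nat.card_pos.ne' Monoid.exponent_ne_zero_of_finite]
  intro p pp
  haveI : Fact p.Prime := ⟨pp⟩
  obtain P : Sylow p D := default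
  haveI := hS p P
  obtain ⟨g, hg⟩ := IsCyclic.exists_generator (α := ↥(P : Subgroup D))
  have h1 : orderOf g = Nat.card ↥(P : Subgroup D) := orderOf_eq_card_of_forall_mem_zpowers hg
  rw [Sylow.card_eq_multiplicity, ← Subgroup.orderOf_coe] at h1
  have h2 : p ^ (Nat.card D).factorization p ∣ Monoid.exponent D := h1 ▸ Monoid.order_dvd_exponent (g : D)
  exact (pp.pow_dvd_iff_le_factorization Monoid.exponent_ne_zero_of_finite).1 h2

variable {G : Type*} [Group G] [Finite G]

/-- REEW2-[W2-TORI-A]. -/
theorem centralizer_structure (N : ℕ) (hN : N ∣ Nat.card G)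
    (hHall : Nat.Coprime N (Nat.card G / N))
    (hcyc : ∀ p : ℕ, p.Prime → p ∣ N → ∀ R : Subgroup G, IsPGroup p ↥R → IsCyclic ↥R)
    (hcomm : ∀ x : G, (orderOf x).Prime → orderOf x ∣ N →
      ∀ y z : G, y * x = x * y → z * x = x * z → y * z = z * y)
    (hord : ∀ x : G, x ≠ 1 → x ^ N = 1 → ∀ c : G, c * x = x * c → c ^ N = 1)
    (x : G) (hx1 : x ≠ 1) (hxN : x ^ N = 1) :
    IsCyclic ↥(Subgroup.centralizer ({x} : Set G)) ∧ Nat.card ↥(Subgroup.centralizer ({x} : Set G)) ∣ N ∧
    (∀ z ∈ Subgroup.centralizer ({x} : Set G), z ≠ 1 →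
      Subgroup.centralizer ({z} : Set G) = Subgroup.centralizer ({x} : Set G)) ∧
    (∀ p : ℕ, p.Prime → p ∣ Nat.card ↥(Subgroup.centralizer ({x} : Set G)) →
      (Nat.card ↥(Subgroup.centralizer ({x} : Set G))).factorization p = N.factorization p) := by
  have hG0 : Nat.card G ≠ 0 := Nat.card_pos.ne'
  have hN0 : N ≠ 0 := fun h => hG0 (by simpa [h] using hN)
  have hGN : Nat.card G = N * (Nat.card G / N) := (Nat.mul_div_cancel' hN).symm
  -- (B) centralizers of nonidentity `N`-elements are commutative
  have hB : ∀ w : G, w ≠ 1 → w ^ N = 1 → ∀ a b : G, a * w = w * a → b * w = w * b → a * b = b * a := by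
    intro w hw1 hwN a b ha hb
    have hdvd : orderOf w ∣ N := orderOf_dvd_of_pow_eq_one hwN
    have hne : orderOf w ≠ 1 := fun h => hw1 (orderOf_eq_one_iff.1 h)
    obtain ⟨p, pp, hp⟩ := Nat.exists_prime_and_dvd hne
    have ho : orderOf (w ^ (orderOf w / p)) = p :=
      orderOf_pow_orderOf_div (orderOf_pos w).ne' hp
    have hcw : ∀ c : G, c * w = w * c → c * w ^ (orderOf w / p) = w ^ (orderOf w / p) * c := by
      intro c hc
      exact ((Commute.pow_right (show Commute c w from hc) _)).eq
    exact hcomm (w ^ (orderOf w / p)) (by rw [ho]; exact pp) (by rw [ho]; exact hp.trans hdvd) a b (hcw a ha) (hcw b hb)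
  -- (3) the order of such a centralizer divides `N`
  have hC : ∀ w : G, w ≠ 1 → w ^ N = 1 → Nat.card ↥(Subgroup.centralizer ({w} : Set G)) ∣ N := by
    intro w hw1 hwN
    have h1 : Nat.card ↥(Subgroup.centralizer ({w} : Set G)) ∣ N * (Nat.card G / N) :=
      hGN ▸ Subgroup.card_subgroup_dvd_card _
    refine (Nat.Coprime.dvd_of_dvd_mul_right ?_ h1)
    apply Nat.Coprime.symm
    apply Nat.Coprime.coprime_dvd_left (dvd_refl _)
    rw [Nat.coprime_comm]
    apply Nat.coprime_of_dvd
    intro q qp hq1 hq2
    haveI : Fact q.Prime := ⟨qp⟩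
    obtain ⟨c, hc⟩ := exists_prime_orderOf_dvd_card' (G := ↥(Subgroup.centralizer ({w} : Set G))) q hq1
    have hcN : (c : G) ^ N = 1 := hord w hw1 hwN c (Subgroup.mem_centralizer_singleton_iff.1 c.2)
    have hqN : q ∣ N := by
      rw [← hc, ← Subgroup.orderOf_coe]
      exact orderOf_dvd_of_pow_eq_one hcN
    exact (Nat.Prime.one_lt qp).ne' (Nat.eq_one_of_dvd_coprimes hHall hqN hq2)
  -- (5) TI
  have hTI : ∀ z ∈ Subgroup.centralizer ({x} : Set G), z ≠ 1 →
      Subgroup.centralizer ({z} : Set G) = Subgroup.centralizer ({x} : Set G) := by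
    intro z hz hz1
    have hzx : z * x = x * z := Subgroup.mem_centralizer_singleton_iff.1 hz
    have hzN : z ^ N = 1 := hord x hx1 hxN z hzx
    apply le_antisymm
    · intro c hc
      rw [Subgroup.mem_centralizer_singleton_iff] at hc ⊢
      exact hB z hz1 hzN c x hc hzx.symm
    · intro c hc
      rw [Subgroup.mem_centralizer_singleton_iff] at hc ⊢
      exact hB x hx1 hxN c z hc hzx
  have hCx := hC x hx1 hxN
  refine ⟨?_, hCx, hTI, ?_⟩
  · -- cyclic
    apply isCyclic_of_comm_of_sylow_cyclic
    · intro a b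
      apply Subtype.ext
      exact hB x hx1 hxN a b (Subgroup.mem_centralizer_singleton_iff.1 a.2)
        (Subgroup.mem_centralizer_singleton_iff.1 b.2)
    · intro p _ P
      by_cases hp : p ∣ Nat.card ↥(Subgroup.centralizer ({x} : Set G))
      · have hpN : p ∣ N := hp.trans hCx
        have h1 : IsCyclic ↥((P : Subgroup ↥(Subgroup.centralizer ({x} : Set G))).map
            (Subgroup.centralizer ({x} : Set G)).subtype) :=
          hcyc p (Fact.out) hpN _ (P.isPGroup'.map _)
        exact isCyclic_of_surjective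
          ((P : Subgroup ↥(Subgroup.centralizer ({x} : Set G))).equivMapOfInjective
            (Subgroup.centralizer ({x} : Set G)).subtype (Subgroup.subtype_injective _)).symm
          (MulEquiv.surjective _)
      · have h1 : Nat.card ↥(P : Subgroup ↥(Subgroup.centralizer ({x} : Set G))) = 1 := by
          rw [Sylow.card_eq_multiplicity, Nat.factorization_eq_zero_of_not_dvd hp, pow_zero]
        haveI : Subsingleton ↥(P : Subgroup ↥(Subgroup.centralizer ({x} : Set G))) :=
          (Nat.card_eq_one_iff_unique.1 h1).1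
        exact isCyclic_of_subsingleton
  · -- Hall
    intro p pp hp
    haveI : Fact p.Prime := ⟨pp⟩
    have hpN : p ∣ N := hp.trans hCx
    have hC0 : Nat.card ↥(Subgroup.centralizer ({x} : Set G)) ≠ 0 := Nat.card_pos.ne'
    apply le_antisymm
    · exact (Nat.factorization_le_iff_dvd hC0 hN0).2 hCx p
    · obtain ⟨y, hy⟩ := exists_prime_orderOf_dvd_card' (G := ↥(Subgroup.centralizer ({x} : Set G))) p hp
      have hy1 : (y : G) ≠ 1 := by
        intro h
        have : orderOf (y : G) = 1 := by rw [h, orderOf_one]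
        rw [Subgroup.orderOf_coe, hy] at this
        exact pp.one_lt.ne' this
      have hyo : orderOf (y : G) = p := by rw [Subgroup.orderOf_coe, hy]
      have hpg : IsPGroup p ↥(Subgroup.zpowers (y : G)) := by
        apply IsPGroup.of_card (n := 1)
        rw [Nat.card_zpowers, hyo, pow_one]
      obtain ⟨P, hP⟩ := hpg.exists_le_sylow
      haveI := hcyc p pp hpN (P : Subgroup G) P.isPGroup'
      have hPle : (P : Subgroup G) ≤ Subgroup.centralizer ({x} : Set G) := by
        rw [← hTI y y.2 hy1]
        intro c hc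
        rw [Subgroup.mem_centralizer_singleton_iff]
        have hyP : (y : G) ∈ (P : Subgroup G) := hP (Subgroup.mem_zpowers _)
        have := IsCyclic.commGroup.mul_comm (⟨c, hc⟩ : ↥(P : Subgroup G)) ⟨y, hyP⟩
        exact congrArg Subtype.val this
      have h1 : Nat.card ↥(P : Subgroup G) ∣ Nat.card ↥(Subgroup.centralizer ({x} : Set G)) :=
        Subgroup.card_dvd_of_le hPle
      rw [Sylow.card_eq_multiplicity] at h1
      have h2 := (pp.pow_dvd_iff_le_factorization hC0).1 h1
      have h3 : (Nat.card G).factorization p = N.factorization p := by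
        have hq0 : Nat.card G / N ≠ 0 := fun h => hG0 (by rw [hGN, h, mul_zero])
        rw [hGN, Nat.factorization_mul hN0 hq0]
        have : ¬ p ∣ Nat.card G / N := fun h =>
          pp.one_lt.ne' (Nat.eq_one_of_dvd_coprimes hHall hpN h)
        simp [Nat.factorization_eq_zero_of_not_dvd this]
      rw [← h3]
      exact h2

end Cfsg.Agent.Lib.Helper84.ReeW2
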