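import Mathlib
import Cfsg.Agent.Lib.Helper53.SL2Pres.Defs

/-!
# S2286 (helper53), module [CLOS3]: the closure lemma, even case  (helper84, hedge)
-/

set_option autoImplicit false

namespace Cfsg.Agent.Lib.Helper84.SL2Pres

open Cfsg.Agent.Lib.Helper53 Cfsg.Agent.Lib.Helper53.Steinberg Cfsg.Agent.Lib.Helper53.SL2Pres

variable {G : Type*} [Group G] {K : Type*} [Field K]

/-- `h^z u h^-z` for an integer `z` -/
def vz (h u : G) (z : ℤ) : G := h ^ z * u * (h ^ z)⁻¹

theorem uc_eq_vz (h u : G) (i : ℕ) : uc h u i = vz h u (i : ℤ) := by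
  simp [uc, vz, zpow_natCast]

theorem vz_add (h u : G) (a d : ℤ) : vz h u (a + d) = h ^ d * vz h u a * (h ^ d)⁻¹ := by
  simp only [vz, zpow_add]
  group

theorem commute_vz_shift (h u : G) (a b d : ℤ) :
    Commute (vz h u (a + d)) (vz h u (b + d)) ↔ Commute (vz h u a) (vz h u b) := by
  rw [vz_add, vz_add]
  exact Commute.conj_iff (h ^ d)

theorem comm_of_three (h u : G) (k : ℕ) (hu : u * u = 1)
    (rel : uc h u k = u * uc h u 1) :
    ∀ i j : ℕ, Commute (uc h u i) (uc h u j) := by
  -- notation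
  set v : ℤ → G := vz h u with hv
  have hshift : ∀ a b d : ℤ, Commute (v (a + d)) (v (b + d)) ↔ Commute (v a) (v b) :=
    commute_vz_shift h u
  have hv0 : v 0 = u := by simp [hv, vz]
  have hsq : ∀ z : ℤ, v z * v z = 1 := by
    intro z
    simp only [hv, vz]
    calc h ^ z * u * (h ^ z)⁻¹ * (h ^ z * u * (h ^ z)⁻¹)
        = h ^ z * (u * u) * (h ^ z)⁻¹ := by group
      _ = 1 := by rw [hu]; group
  have hinv : ∀ z : ℤ, (v z)⁻¹ = v z := fun z => inv_eq_of_mul_eq_one_left (hsq z)
  have hrel0 : v k = v 0 * v 1 := by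
    have := rel
    rw [uc_eq_vz, uc_eq_vz] at this
    rw [hv0]
    simpa using this
  have hrel : ∀ d : ℤ, v (d + k) = v d * v (d + 1) := by
    intro d
    have h1 : v (d + k) = h ^ d * v k * (h ^ d)⁻¹ := by rw [add_comm]; exact vz_add h u k d
    have h2 : v d = h ^ d * v 0 * (h ^ d)⁻¹ := by
      have := vz_add h u 0 d
      rwa [zero_add] at this
    have h3 : v (d + 1) = h ^ d * v 1 * (h ^ d)⁻¹ := by rw [add_comm]; exact vz_add h u 1 d
    rw [h1, h2, h3, hrel0]
    group
  -- `D m`
  set D : ℤ → Prop := fun m => Commute (v 0) (v m) with hD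
  have hC : ∀ a b : ℤ, Commute (v a) (v b) ↔ D (b - a) := by
    intro a b
    have := hshift 0 (b - a) a
    rw [zero_add, sub_add_cancel] at this
    exact this
  have hDneg : ∀ m : ℤ, D (-m) ↔ D m := by
    intro m
    have h1 : D (-m) ↔ Commute (v m) (v 0) := by
      have := hC m 0
      rw [zero_sub] at this
      exact this.symm
    rw [h1]
    exact ⟨fun hc => hc.symm, fun hc => hc.symm⟩
  have hD0 : D 0 := Commute.refl _
  -- `D 1`
  have hD1 : D 1 := by
    show Commute (v 0) (v 1)
    have h1 : (v 0 * v 1) * (v 0 * v 1) = 1 := by rw [← hrel0]; exact hsq k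
    have h2 : v 0 * v 1 = (v 1)⁻¹ * (v 0)⁻¹ := by
      rw [← mul_inv_rev]
      exact (inv_eq_of_mul_eq_one_left h1).symm
    rw [hinv, hinv] at h2
    exact h2
  -- rule A'
  have ruleA : ∀ j : ℤ, D j → D (j - 1) → D (k - j) := by
    intro j h1 h2
    have c1 : Commute (v 0) (v j) := h1
    have c2 : Commute (v 1) (v j) := (hC 1 j).2 h2
    have c3 : Commute (v k) (v j) := by rw [hrel0]; exact Commute.mul_left c1 c2
    have := (hC k j).1 c3
    rw [← hDneg]
    rwa [neg_sub]
  -- rule B'
  have ruleB : ∀ j : ℤ, D (j - k) → D (j - 1) → D j := by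
    intro j h1 h2
    have c1 : Commute (v k) (v j) := (hC k j).2 h1
    have c2 : Commute (v 1) (v j) := (hC 1 j).2 h2
    have h3 : v 0 = v k * (v 1)⁻¹ := by rw [hrel0]; group
    show Commute (v 0) (v j)
    rw [h3]
    exact Commute.mul_left c1 (Commute.inv_left c2)
  -- rule D'
  have ruleD : ∀ j : ℤ, D j → D (j - k) → D (j - 1) := by
    intro j h1 h2
    have c1 : Commute (v 0) (v j) := h1
    have c2 : Commute (v k) (v j) := (hC k j).2 h2
    have h3 : v 1 = (v 0)⁻¹ * v k := by rw [hrel0]; group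
    have c3 : Commute (v 1) (v j) := by
      rw [h3]
      exact Commute.mul_left (Commute.inv_left c1) c2
    exact (hC 1 j).1 c3
  -- the induction
  have hP : ∀ m : ℕ, (∀ i : ℕ, i ≤ m + 1 → D i) ∧ (∀ i : ℕ, i ≤ m + 1 → D ((k : ℤ) - i)) := by
    intro m
    induction m with
    | zero =>
      refine ⟨?_, ?_⟩
      · intro i hi
        rcases Nat.le_one_iff_eq_zero_or_eq_one.1 hi with rfl | rfl
        · simpa using hD0
        · simpa using hD1
      · intro i hi
        rcases Nat.le_one_iff_eq_zero_or_eq_one.1 hi with rfl | rfl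
        · have := ruleA 0 hD0 (by simpa using (hDneg 1).2 hD1)
          simpa using this
        · have := ruleA 1 hD1 (by simpa using hD0)
          simpa using this
    | succ m ih =>
      obtain ⟨ih1, ih2⟩ := ih
      -- `D (k - (m+2))`
      have hnew1 : D ((k : ℤ) - ((m + 2 : ℕ) : ℤ)) := by
        have h1 : D ((k : ℤ) - ((m + 1 : ℕ) : ℤ)) := ih2 (m + 1) le_rfl
        have h2 : D (((k : ℤ) - ((m + 1 : ℕ) : ℤ)) - k) := by
          have : ((k : ℤ) - ((m + 1 : ℕ) : ℤ)) - k = -(((m + 1 : ℕ) : ℤ)) := by ring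
          rw [this, hDneg]
          exact ih1 (m + 1) le_rfl
        have := ruleD _ h1 h2
        have e : ((k : ℤ) - ((m + 1 : ℕ) : ℤ)) - 1 = (k : ℤ) - ((m + 2 : ℕ) : ℤ) := by
          push_cast; ring
        rwa [e] at this
      have hnew2 : D (((m + 2 : ℕ) : ℤ)) := by
        apply ruleB
        · have : (((m + 2 : ℕ) : ℤ)) - k = -((k : ℤ) - ((m + 2 : ℕ) : ℤ)) := by ring
          rw [this, hDneg]
          exact hnew1
        · have : (((m + 2 : ℕ) : ℤ)) - 1 = ((m + 1 : ℕ) : ℤ) := by push_cast; ring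
          rw [this]
          exact ih1 (m + 1) le_rfl
      refine ⟨?_, ?_⟩
      · intro i hi
        rcases Nat.lt_or_ge i (m + 2) with h | h
        · exact ih1 i (by omega)
        · have : i = m + 2 := by omega
          rw [this]; exact hnew2
      · intro i hi
        rcases Nat.lt_or_ge i (m + 2) with h | h
        · exact ih2 i (by omega)
        · have : i = m + 2 := by omega
          rw [this]; exact hnew1
  have hDnat : ∀ m : ℕ, D m := fun m => (hP m).1 m (by omega)
  have hDall : ∀ m : ℤ, D m := by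
    intro m
    rcases Int.eq_nat_or_neg m with ⟨n, rfl | rfl⟩
    · exact hDnat n
    · rw [hDneg]; exact hDnat n
  intro i j
  rw [uc_eq_vz, uc_eq_vz]
  exact (hC i j).2 (hDall _)

end Cfsg.Agent.Lib.Helper84.SL2Pres
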