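/-
helper84: a quasi-dihedral `2`-group carries a saturated fusion system (that of `PSL₃(q)`, `q ≡ 3 mod 4`)
without a chain of strongly closed subgroups with cyclic steps.
All declarations live in `Cfsg.Agent.Lib.Helper84`.
-/
import Mathlib
import Cfsg.Agent.Lib.Helper98.PSL3Fusion
import Cfsg.Agent.Lib.Helper84.QDIso
import Cfsg.Agent.Lib.Helper84.SSCrit
import Cfsg.Agent.Lib.Helper84.SylowTwoCard

set_option autoImplicit false

namespace Cfsg.Agent.Lib.Helper84

open Cfsg Cfsg.FusionSystem Cfsg.Agent.Lib.Helper20.QD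

/-- **A quasi-dihedral `2`-group carries a saturated fusion system that is not supersoluble.** -/
theorem exists_saturated_not_hasSSChain_of_quasiDihedral {Ω : Type*} [Group Ω] {S : Subgroup Ω} [Finite S]
    (hS : IsPGroup 2 S) (hqd : IsQuasiDihedral S) :
    ∃ F : FusionSystem S, F.IsSaturated 2 ∧ ¬ HasSSChain F := by
  have : Fact (Nat.Prime 2) := ⟨Nat.prime_two⟩
  obtain ⟨n, x, y, d⟩ := exists_data hqd
  obtain ⟨q, hq, hq4, m, hm, hcard⟩ := exists_prime_card_gl2 n d.hn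
  have : Fact q.Prime := ⟨hq⟩
  have hF : Fintype.card (ZMod q) = q := ZMod.card q
  have hodd' : Fintype.card (ZMod q) % 2 = 1 := by rw [hF]; omega
  let P : Sylow 2 (GL (Fin 2) (ZMod q)) := default
  have hc : Nat.card (GL (Fin 2) (ZMod q)) = 2 ^ (n + 1) * m := by
    rw [Cfsg.Agent.Lib.Helper98.PSL3Fusion.card_GL2, hF, hcard]
  have hP : Nat.card P = 2 ^ (n + 1) := card_sylow_two_of_card_eq P (n + 1) m hm hc
  have hPqd : IsQuasiDihedral (P : Subgroup (GL (Fin 2) (ZMod q))) :=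
    (Cfsg.Agent.S1217.result P).1 (by rw [hF]; exact hq4)
  let T : Sylow 2 (Matrix.ProjectiveSpecialLinearGroup (Fin 3) (ZMod q)) := default
  obtain ⟨e₁⟩ := Cfsg.Agent.Lib.Helper98.PSL3Fusion.exists_sylow_equiv hodd' T P
  have hTqd : IsQuasiDihedral (T : Subgroup (Matrix.ProjectiveSpecialLinearGroup (Fin 3) (ZMod q))) :=
    Cfsg.Agent.Lib.Helper98.PSL3Fusion.isQuasiDihedral_of_equiv e₁ hPqd
  have hfin : Finite (Matrix.ProjectiveSpecialLinearGroup (Fin 3) (ZMod q)) := by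
    unfold Matrix.ProjectiveSpecialLinearGroup
    infer_instance
  have hcardT : Nat.card S = Nat.card (T : Subgroup (Matrix.ProjectiveSpecialLinearGroup (Fin 3) (ZMod q))) := by
    rw [d.card, ← Nat.card_congr e₁.toEquiv]
    exact hP.symm
  obtain ⟨eT⟩ := nonempty_mulEquiv_of_isQuasiDihedral hqd hTqd hcardT
  obtain ⟨F, ι, hsat, hreal, -⟩ := exists_saturated_realized_of_equiv_sylow T eT
  refine ⟨F, hsat, ?_⟩
  have hconj : ∀ a b : Matrix.ProjectiveSpecialLinearGroup (Fin 3) (ZMod q), orderOf a = 2 → orderOf b = 2 →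
      a ∈ ι.range → b ∈ ι.range → ∃ g, b = g * a * g⁻¹ := by
    intro a b oa ob _ _
    obtain ⟨g, hg⟩ := isConj_iff.1 (Cfsg.Agent.Lib.Helper98.PSL3Fusion.isConj_of_orderOf_eq_two hodd' a b oa ob)
    exact ⟨g, hg.symm⟩
  have hCP := cp_of_realized hreal 2 hconj
  have o1 : orderOf ((y : S) : Ω) = 2 := by rw [Subgroup.orderOf_coe]; exact d.oy
  have o2 : orderOf ((f x n (hf n) : S) : Ω) = 2 := by
    rw [Subgroup.orderOf_coe, Cfsg.Agent.Lib.Helper20.QD.orderOf_eq_two_iff]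
    exact ⟨fhf_mul_self d, fhf_ne_one d⟩
  refine not_hasSSChain_of_involutions hS F hCP _ _ y.2 (f x n (hf n)).2 o1 o2 ?_
  intro h
  exact y_ne_f d (hf n) (Subtype.ext h)

end Cfsg.Agent.Lib.Helper84
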