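/-
helper84: the fusion system over a finite `p`-group `P` of the restrictions of a group `A ≥ Inn(P)` of automorphisms of `P`;
for `A = Inn(P) C` with `C` of order prime to `p` it is realized by the semidirect product `P ⋊ C`, hence saturated.
All declarations live in `Cfsg.Agent.Lib.Helper84`.
-/
import Mathlib
import Cfsg.Agent.Lib.Helper85.FusionRealized
import Cfsg.Agent.Lib.Helper87.FusionCore

set_option autoImplicit false

namespace Cfsg.Agent.Lib.Helper84

open Cfsg Cfsg.FusionSystem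
open Cfsg.Agent.Lib.Helper87

variable {Ω : Type*} [Group Ω]

/-- The fusion system over `P` of the restrictions of the automorphisms in `A`, for a subgroup `A ≥ Inn(P)` of `Aut(P)`. -/
def autSystem (P : Subgroup Ω) (A : Subgroup (MulAut P)) (hA : Inn P ≤ A) : FusionSystem P where
  Hom Q := {φ | ∃ hQ : Q ≤ P, ∃ a ∈ A, ∀ x : Q, φ x = ((a ⟨x, hQ x.2⟩ : P) : Ω)}
  le_of_mem := by
    rintro Q φ ⟨hQ, a, -, h⟩
    exact ⟨hQ, fun x => by rw [h x]; exact (a _).2⟩
  injective_of_mem := by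
    rintro Q φ ⟨hQ, a, -, h⟩ x y hxy
    rw [h x, h y] at hxy
    have h1 := a.injective (Subtype.ext hxy)
    exact Subtype.ext (congrArg (fun z : P => (z : Ω)) h1)
  conj_mem := by
    intro Q g hQ hg
    exact ⟨hQ, MulAut.conj ⟨g, hg⟩, hA ⟨⟨g, hg⟩, rfl⟩, fun x => rfl⟩
  comp_mem := by
    rintro Q R φ ψ ⟨hQ, a, ha, h1⟩ ⟨hR, b, hb, h2⟩ h
    refine ⟨hQ, b * a, A.mul_mem hb ha, fun x => ?_⟩
    show ψ ⟨φ x, h x⟩ = _
    rw [h2]
    have h3 : (⟨((⟨φ x, h x⟩ : R) : Ω), hR (h x)⟩ : P) = a ⟨x, hQ x.2⟩ := Subtype.ext (h1 x)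
    rw [h3]
    rfl
  inv_mem := by
    rintro Q φ ⟨hQ, a, ha, h1⟩
    have hR : φ.range ≤ P := by
      rintro _ ⟨x, rfl⟩
      rw [h1 x]
      exact (a _).2
    refine ⟨P.subtype.comp ((a⁻¹ : MulAut P).toMonoidHom.comp (Subgroup.inclusion hR)),
      ⟨hR, a⁻¹, A.inv_mem ha, fun y => rfl⟩, fun x => ?_⟩
    show (((a⁻¹ : MulAut P) ⟨φ x, hR ⟨x, rfl⟩⟩ : P) : Ω) = x
    have h3 : (⟨φ x, hR ⟨x, rfl⟩⟩ : P) = a ⟨x, hQ x.2⟩ := Subtype.ext (h1 x)
    rw [h3]
    simp

theorem mem_autSystem_hom {P : Subgroup Ω} {A : Subgroup (MulAut P)} {hA : Inn P ≤ A} {Q : Subgroup Ω}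
    {φ : Q →* Ω} :
    φ ∈ (autSystem P A hA).Hom Q ↔ ∃ hQ : Q ≤ P, ∃ a ∈ A, ∀ x : Q, φ x = ((a ⟨x, hQ x.2⟩ : P) : Ω) := Iff.rfl

/-- `Aut_E(P) = A` for `E = autSystem P A`. -/
theorem autGroup_autSystem (P : Subgroup Ω) (A : Subgroup (MulAut P)) (hA : Inn P ≤ A) :
    (autSystem P A hA).autGroup P = A := by
  ext α
  rw [mem_autGroup_iff _ le_rfl]
  constructor
  · rintro ⟨hQ', a, ha, h⟩
    have : α = a := by
      ext x
      exact h x
    rw [this]; exact ha
  · intro hα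
    exact ⟨le_rfl, α, hα, fun x => rfl⟩

/-- The maps of `autSystem P A` lie in any fusion system `F` over `S ≥ P` with `A ≤ Aut_F(P)`. -/
theorem autSystem_isSubsystemOf {S : Subgroup Ω} (F : FusionSystem S) {P : Subgroup Ω} (hPS : P ≤ S)
    (A : Subgroup (MulAut P)) (hA : Inn P ≤ A) (hAF : A ≤ F.autGroup P) :
    (autSystem P A hA).IsSubsystemOf F := by
  rintro Q φ ⟨hQ, a, ha, h⟩
  have h1 : P.subtype.comp a.toMonoidHom ∈ F.Hom P := (mem_autGroup_iff F hPS).1 (hAF ha)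
  refine hom_of_eq_on F rfl (restrict_mem F h1 hQ) ?_
  intro x hx _
  exact h ⟨x, hx⟩

section semidirect

variable {P : Subgroup Ω} (C : Subgroup (MulAut P))

theorem conj_inl (u : P) (c : C) (x : P) :
    (⟨u, c⟩ : P ⋊[C.subtype] C) * SemidirectProduct.inl x * (⟨u, c⟩ : P ⋊[C.subtype] C)⁻¹ =
      SemidirectProduct.inl (u * (c : MulAut P) x * u⁻¹) := by
  ext
  · simp [SemidirectProduct.mul_left, SemidirectProduct.inv_left, mul_assoc]
  · simp

/-- For `C ≤ Aut(P)` of order prime to `p`, the system of restrictions of `Inn(P) C` is saturated. -/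
theorem autSystem_isSaturated [Finite P] {p : ℕ} [Fact p.Prime] (hP : IsPGroup p P)
    (hC : Nat.Coprime (Nat.card C) p) :
    (autSystem P (Inn P ⊔ C) le_sup_left).IsSaturated p := by
  have hfinG : Finite (P ⋊[C.subtype] C) := Finite.of_equiv _ SemidirectProduct.equivProd.symm
  have hι : (autSystem P (Inn P ⊔ C) le_sup_left).IsRealizedBy
      (SemidirectProduct.inl : P →* P ⋊[C.subtype] C) := by
    refine ⟨SemidirectProduct.inl_injective, fun Q hQ φ hφ => ?_⟩
    constructor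
    · rintro ⟨hQ', a, ha, h⟩
      rw [← SetLike.mem_coe, Subgroup.normal_mul] at ha
      obtain ⟨_, ⟨u, rfl⟩, c, hc, rfl⟩ := ha
      refine ⟨⟨u, ⟨c, hc⟩⟩, fun x => ?_⟩
      rw [conj_inl]
      congr 1
      apply Subtype.ext
      exact (h x).trans rfl
    · rintro ⟨⟨u, c⟩, hg⟩
      refine ⟨hQ, MulAut.conj u * (c : MulAut P), ?_, fun x => ?_⟩
      · exact Subgroup.mul_mem _ (Subgroup.mem_sup_left ⟨u, rfl⟩) (Subgroup.mem_sup_right c.2)
      · have h1 := hg x
        rw [conj_inl] at h1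
        have h2 := SemidirectProduct.inl_injective h1
        have h3 := congrArg (fun z : P => (z : Ω)) h2
        exact h3
  have hrp : IsPGroup p (SemidirectProduct.inl : P →* P ⋊[C.subtype] C).range := by
    exact IsPGroup.of_surjective hP (SemidirectProduct.inl : P →* P ⋊[C.subtype] C).rangeRestrict
      (MonoidHom.rangeRestrict_surjective _)
  have hidx : ¬ p ∣ (SemidirectProduct.inl : P →* P ⋊[C.subtype] C).range.index := by
    rw [SemidirectProduct.range_inl_eq_ker_rightHom, Subgroup.index_ker,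
      MonoidHom.range_eq_top.2 SemidirectProduct.rightHom_surjective]
    rw [Nat.card_congr (Subgroup.topEquiv).toEquiv]
    exact (Nat.Prime.coprime_iff_not_dvd Fact.out).1 hC.symm
  exact Cfsg.Agent.Lib.Helper85.isSaturated_of_isRealizedBy hι (hrp.toSylow hidx) (hrp.toSylow_coe hidx)

end semidirect

end Cfsg.Agent.Lib.Helper84
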