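/-
helper84: SQF-[KNOCHE].  A finite p-group all of whose class sizes are squarefree has derived subgroup of order
dividing `p`.
-/
import Mathlib
import Cfsg.Agent.Lib.Helper85.SqfDefs
import Cfsg.Agent.Lib.Helper84.SqfClass2P

set_option autoImplicit false
set_option linter.unusedSectionVars false
set_option linter.style.haveILetI false

namespace Cfsg.Agent.Lib.Helper84.Sqf

open Cfsg Cfsg.Agent.Lib.Helper85.Sqf

variable {G : Type*} [Group G]

/-- a subgroup of order dividing a prime lies in every subgroup that contains one of its non-trivial elements -/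
theorem le_of_card_dvd_prime_of_mem [Finite G] {p : ℕ} (hp : p.Prime) (A B : Subgroup G)
    (hA : Nat.card A ∣ p) (x : G) (hxA : x ∈ A) (hxB : x ∈ B) (hx : x ≠ 1) : A ≤ B := by
  have h1 : Nat.card ↥(A ⊓ B) ∣ Nat.card A := Subgroup.card_dvd_of_le inf_le_left
  have hne : Nat.card ↥(A ⊓ B) ≠ 1 := by
    intro h
    rw [Subgroup.card_eq_one] at h
    have : x ∈ A ⊓ B := ⟨hxA, hxB⟩
    rw [h, Subgroup.mem_bot] at this
    exact hx this
  have h2 : Nat.card ↥(A ⊓ B) = p := by
    rcases (Nat.dvd_prime hp).1 (h1.trans hA) with h | h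
    · exact absurd h hne
    · exact h
  have h3 : Nat.card A = p := by
    rcases (Nat.dvd_prime hp).1 hA with h | h
    · rw [h] at h1; exact absurd (Nat.dvd_one.1 h1) hne
    · exact h
  have : A ⊓ B = A := Subgroup.eq_of_le_of_card_ge inf_le_left (by rw [h2, h3])
  rw [← this]
  exact inf_le_right

/-- the commutator map `y ↦ u y u⁻¹ y⁻¹` of a group of class two -/
def commHom (hc2 : ∀ a b c : G, (a * b * a⁻¹ * b⁻¹) * c = c * (a * b * a⁻¹ * b⁻¹)) (u : G) :
    G →* G where
  toFun y := u * y * u⁻¹ * y⁻¹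
  map_one' := by simp
  map_mul' y y' := by
    have h := hc2 u y' y⁻¹
    calc u * (y * y') * u⁻¹ * (y * y')⁻¹
        = u * y * u⁻¹ * ((u * y' * u⁻¹ * y'⁻¹) * y⁻¹) := by group
      _ = u * y * u⁻¹ * (y⁻¹ * (u * y' * u⁻¹ * y'⁻¹)) := by rw [h]
      _ = u * y * u⁻¹ * y⁻¹ * (u * y' * u⁻¹ * y'⁻¹) := by group

theorem commHom_apply (hc2 : ∀ a b c : G, (a * b * a⁻¹ * b⁻¹) * c = c * (a * b * a⁻¹ * b⁻¹))
    (u y : G) : commHom hc2 u y = u * y * u⁻¹ * y⁻¹ := rfl

theorem commHom_ker (hc2 : ∀ a b c : G, (a * b * a⁻¹ * b⁻¹) * c = c * (a * b * a⁻¹ * b⁻¹))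
    (u : G) : (commHom hc2 u).ker = Subgroup.centralizer ({u} : Set G) := by
  ext y
  rw [MonoidHom.mem_ker, commHom_apply, Subgroup.mem_centralizer_iff]
  constructor
  · intro h z hz
    rw [Set.mem_singleton_iff] at hz
    subst hz
    have : z * y * z⁻¹ = y := by
      rw [mul_inv_eq_one] at h; exact h
    calc z * y = z * y * z⁻¹ * z := by group
      _ = y * z := by rw [this]
  · intro h
    have := h u (Set.mem_singleton u)
    rw [this]; group

theorem commHom_eq_one_iff (hc2 : ∀ a b c : G, (a * b * a⁻¹ * b⁻¹) * c = c * (a * b * a⁻¹ * b⁻¹))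
    (u y : G) : commHom hc2 u y = 1 ↔ y ∈ Subgroup.centralizer ({u} : Set G) := by
  rw [← commHom_ker hc2 u, MonoidHom.mem_ker]

theorem card_range_commHom [Finite G]
    (hc2 : ∀ a b c : G, (a * b * a⁻¹ * b⁻¹) * c = c * (a * b * a⁻¹ * b⁻¹)) (u : G) :
    Nat.card (commHom hc2 u).range = (Subgroup.centralizer ({u} : Set G)).index := by
  rw [← commHom_ker hc2 u, Subgroup.index_ker]

theorem commHom_swap (hc2 : ∀ a b c : G, (a * b * a⁻¹ * b⁻¹) * c = c * (a * b * a⁻¹ * b⁻¹))
    (u y : G) : commHom hc2 u y = (commHom hc2 y u)⁻¹ := by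
  rw [commHom_apply, commHom_apply]; group

theorem commHom_mul_left (hc2 : ∀ a b c : G, (a * b * a⁻¹ * b⁻¹) * c = c * (a * b * a⁻¹ * b⁻¹))
    (u w y : G) : commHom hc2 (u * w) y = commHom hc2 w y * commHom hc2 u y := by
  simp only [commHom_apply]
  have h := hc2 w y (y * u⁻¹ * y⁻¹)
  calc u * w * y * (u * w)⁻¹ * y⁻¹
      = u * ((w * y * w⁻¹ * y⁻¹) * (y * u⁻¹ * y⁻¹)) := by group
    _ = u * ((y * u⁻¹ * y⁻¹) * (w * y * w⁻¹ * y⁻¹)) := by rw [h]
    _ = (u * y * u⁻¹ * y⁻¹) * (w * y * w⁻¹ * y⁻¹) := by group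
    _ = (w * y * w⁻¹ * y⁻¹) * (u * y * u⁻¹ * y⁻¹) := by rw [hc2 w y]

/-- [KNOCHE] -/
theorem card_commutator_dvd_of_pGroup [Finite G] (h : SqF G) {p : ℕ} [Fact p.Prime]
    (hG : IsPGroup p G) : Nat.card (commutator G) ∣ p := by
  classical
  have hp : p.Prime := Fact.out
  have hc2 := class_two_of_pGroup h hG
  have hidx : ∀ u : G, (Subgroup.centralizer ({u} : Set G)).index ∣ p :=
    index_centralizer_dvd_of_pGroup h hG
  have hcardR : ∀ u : G, Nat.card (commHom hc2 u).range ∣ p := fun u => by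
    rw [card_range_commHom]; exact hidx u
  -- the key: a subgroup of order dividing p containing all commutators
  have key : ∃ R : Subgroup G, Nat.card R ∣ p ∧ ∀ w y : G, w * y * w⁻¹ * y⁻¹ ∈ R := by
    by_cases hab : ∀ u : G, Subgroup.centralizer ({u} : Set G) = ⊤
    · refine ⟨⊥, by simp, fun w y => ?_⟩
      have : y ∈ Subgroup.centralizer ({w} : Set G) := by rw [hab w]; exact Subgroup.mem_top _
      rw [← commHom_eq_one_iff hc2] at this
      rw [Subgroup.mem_bot]; exact this
    · push Not at hab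
      obtain ⟨u₀, hu₀⟩ := hab
      have hu₀p : (Subgroup.centralizer ({u₀} : Set G)).index = p := by
        rcases (Nat.dvd_prime hp).1 (hidx u₀) with h1 | h1
        · exact absurd (Subgroup.index_eq_one.1 h1) hu₀
        · exact h1
      refine ⟨(commHom hc2 u₀).range, hcardR u₀, fun w y => ?_⟩
      suffices hle : (commHom hc2 w).range ≤ (commHom hc2 u₀).range from hle ⟨y, rfl⟩
      by_contra hnle
      -- (i) the two ranges meet trivially
      have hdisj : ∀ x ∈ (commHom hc2 w).range, x ∈ (commHom hc2 u₀).range → x = 1 := by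
        intro x hx1 hx2
        by_contra hx
        exact hnle (le_of_card_dvd_prime_of_mem hp _ _ (hcardR w) x hx1 hx2 hx)
      -- (ii) C(u₀ w) ≤ C(u₀) ⊓ C(w)
      have hsub : ∀ y ∈ Subgroup.centralizer ({u₀ * w} : Set G),
          y ∈ Subgroup.centralizer ({u₀} : Set G) ∧ y ∈ Subgroup.centralizer ({w} : Set G) := by
        intro y hy
        rw [← commHom_eq_one_iff hc2, commHom_mul_left] at hy
        have hx : commHom hc2 w y = (commHom hc2 u₀ y)⁻¹ := eq_inv_of_mul_eq_one_left hy
        have h1 : commHom hc2 w y = 1 :=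
          hdisj _ ⟨y, rfl⟩ (by rw [hx]; exact Subgroup.inv_mem _ ⟨y, rfl⟩)
        rw [h1, one_mul] at hy
        exact ⟨(commHom_eq_one_iff hc2 _ _).1 hy, (commHom_eq_one_iff hc2 _ _).1 h1⟩
      -- (iii) C(u₀) ≤ C(w)
      have hle1 : Subgroup.centralizer ({u₀ * w} : Set G) ≤ Subgroup.centralizer ({u₀} : Set G) :=
        fun y hy => (hsub y hy).1
      have hidx2 : (Subgroup.centralizer ({u₀ * w} : Set G)).index = p := by
        rcases (Nat.dvd_prime hp).1 (hidx (u₀ * w)) with h1 | h1
        · have := Subgroup.index_dvd_of_le hle1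
          rw [h1, hu₀p] at this
          exact absurd (Nat.dvd_one.1 this) hp.one_lt.ne'
        · exact h1
      have heq : Subgroup.centralizer ({u₀} : Set G) ≤ Subgroup.centralizer ({u₀ * w} : Set G) := by
        have := Subgroup.relIndex_mul_index hle1
        rw [hidx2, hu₀p] at this
        have h1 : (Subgroup.centralizer ({u₀ * w} : Set G)).relIndex
            (Subgroup.centralizer ({u₀} : Set G)) = 1 :=
          Nat.eq_of_mul_eq_mul_right hp.pos (by rw [this, one_mul])
        exact Subgroup.relIndex_eq_one.1 h1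
      have hCle : Subgroup.centralizer ({u₀} : Set G) ≤ Subgroup.centralizer ({w} : Set G) :=
        fun y hy => (hsub y (heq hy)).2
      -- (iv) pick t outside C(w)
      have hex : ∃ t : G, commHom hc2 w t ≠ 1 := by
        by_contra hno
        push Not at hno
        apply hnle
        rintro _ ⟨y, rfl⟩
        rw [hno y]; exact Subgroup.one_mem _
      obtain ⟨t, ht⟩ := hex
      have htw : commHom hc2 t w ≠ 1 := by
        intro h1
        apply ht
        rw [commHom_swap, h1, inv_one]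
      have hrange : (commHom hc2 t).range ≤ (commHom hc2 w).range :=
        le_of_card_dvd_prime_of_mem hp _ _ (hcardR t) (commHom hc2 t w) ⟨w, rfl⟩
          (by rw [commHom_swap]; exact Subgroup.inv_mem _ ⟨t, rfl⟩) htw
      have hz : commHom hc2 t u₀ = 1 :=
        hdisj _ (hrange ⟨u₀, rfl⟩) (by rw [commHom_swap]; exact Subgroup.inv_mem _ ⟨t, rfl⟩)
      have htu : commHom hc2 u₀ t = 1 := by rw [commHom_swap, hz, inv_one]
      have : t ∈ Subgroup.centralizer ({w} : Set G) := hCle ((commHom_eq_one_iff hc2 _ _).1 htu)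
      exact ht ((commHom_eq_one_iff hc2 _ _).2 this)
  obtain ⟨R, hR, hmem⟩ := key
  have hle : commutator G ≤ R := by
    rw [commutator_eq_closure, Subgroup.closure_le]
    rintro _ ⟨a, b, rfl⟩
    rw [SetLike.mem_coe, commutatorElement_def]
    exact hmem a b
  exact (Subgroup.card_dvd_of_le hle).trans hR

end Cfsg.Agent.Lib.Helper84.Sqf
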