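import Mathlib
import Cfsg.Agent.Lib.Helper84.Suz2TInv
import Cfsg.Agent.Lib.Helper42.Suz2TShyp

/-!
# SUZ2-[T-B1] (helper84, for helper85's project SUZ2 part 2, S3797)

Under `THyp G`, if a Sylow 2-subgroup `S` centralizes every involution, then `N_G(S)` controls the fusion of
involutions (Burnside's argument: `S` and `g S g⁻¹` are Sylow subgroups of `C_G(y)`), hence
`SHyp S (conjY S N_G(S))`.
-/

set_option autoImplicit false
set_option linter.unusedSectionVars false
set_option linter.style.haveILetI false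

namespace Cfsg.Agent.Lib.Helper84.Suz2

open Cfsg Cfsg.Agent.Lib.Helper19.Suz Cfsg.Agent.Lib.Helper85.Suz2

universe u

variable {G : Type u} [Group G]

/-- Burnside's fusion argument: if the Sylow `p`-subgroup `S` centralizes `x` and `y = g x g⁻¹`, then
`y = n x n⁻¹` for some `n ∈ N_G(S)`. -/
theorem burnside_fusion_elt [Finite G] {p : ℕ} [Fact p.Prime] (S : Sylow p G) (x y g : G)
    (hx : ∀ s ∈ (S : Subgroup G), s * x = x * s) (hy : ∀ s ∈ (S : Subgroup G), s * y = y * s)
    (hg : g * x * g⁻¹ = y) :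
    ∃ n ∈ Subgroup.normalizer ((S : Subgroup G) : Set G), n * x * n⁻¹ = y := by
  set C : Subgroup G := Subgroup.centralizer {y} with hC
  have hmemC : ∀ c : G, c ∈ C ↔ c * y = y * c := by
    intro c
    rw [hC, Subgroup.mem_centralizer_iff]
    constructor
    · intro h; exact (h y rfl).symm
    · intro h z hz
      rw [Set.mem_singleton_iff] at hz
      rw [hz]; exact h.symm
  have hSC : (S : Subgroup G) ≤ C := fun s hs => (hmemC s).mpr (hy s hs)
  have hS'C : ((g • S : Sylow p G) : Subgroup G) ≤ C := by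
    intro t ht
    rw [Sylow.coe_subgroup_smul] at ht
    obtain ⟨s, hs, rfl⟩ := ht
    rw [hmemC]
    have hs' : s * x = x * s := hx s hs
    show g * s * g⁻¹ * y = y * (g * s * g⁻¹)
    rw [← hg]
    calc g * s * g⁻¹ * (g * x * g⁻¹) = g * (s * x) * g⁻¹ := by group
      _ = g * (x * s) * g⁻¹ := by rw [hs']
      _ = g * x * g⁻¹ * (g * s * g⁻¹) := by group
  obtain ⟨c, hc⟩ := MulAction.exists_smul_eq (↥C) ((g • S : Sylow p G).subtype hS'C) (S.subtype hSC)
  rw [Sylow.smul_subtype] at hc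
  have hc' : (c • (g • S : Sylow p G)) = S := Sylow.subtype_injective hc
  have hc'' : ((c : G) * g) • S = S := by
    rw [mul_smul]
    exact hc'
  refine ⟨(c : G) * g, Sylow.smul_eq_iff_mem_normalizer.mp hc'', ?_⟩
  have hcy : (c : G) * y = y * (c : G) := (hmemC c).mp c.2
  calc (c : G) * g * x * ((c : G) * g)⁻¹ = (c : G) * (g * x * g⁻¹) * (c : G)⁻¹ := by group
    _ = (c : G) * y * (c : G)⁻¹ := by rw [hg]
    _ = y := by rw [hcy]; group

/-- [T-B1] -/
theorem THyp.shyp_sylow (h : THyp G) (S : Sylow 2 G)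
    (hc : ∀ s ∈ (S : Subgroup G), ∀ x : G, x * x = 1 → s * x = x * s) :
    SHyp ↥(S : Subgroup G) (conjY (S : Subgroup G) (Subgroup.normalizer ((S : Subgroup G) : Set G))) := by
  haveI := h.fin
  haveI := h.sol
  haveI : Fact (Nat.Prime 2) := ⟨Nat.prime_two⟩
  apply Cfsg.Agent.Lib.Helper42.Suz2.shyp_conjY (S : Subgroup G)
    (Subgroup.normalizer ((S : Subgroup G) : Set G)) le_rfl inferInstance S.isPGroup'
  · intro x _ y _ hx1 hx2 hy1 hy2
    obtain ⟨g, hg⟩ := h.conj x y hx1 hx2 hy1 hy2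
    exact burnside_fusion_elt S x y g (fun s hs => hc s hs x hx2) (fun s hs => hc s hs y hy2) hg
  · obtain ⟨x, y, hxy, hx1, hx2, hy1, hy2⟩ := h.two
    have hle : pCore 2 G ≤ (S : Subgroup G) := Cfsg.Agent.Lib.Helper76.pCore_le_sylow 2 S
    exact ⟨x, hle (THyp.inv_mem h hx1 hx2).1, y, hle (THyp.inv_mem h hy1 hy2).1, hxy, hx1, hx2, hy1, hy2⟩

end Cfsg.Agent.Lib.Helper84.Suz2
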