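import Mathlib
import Cfsg.Agent.Lib.Helper84.Suz2TInv
import Cfsg.Agent.Lib.Helper70.FrattiniFaithful

/-!
# SUZ2-[T-B3] (helper84, for helper85's project SUZ2 part 2, S3797)

Under `THyp G`, an element acting trivially on `P/Φ(P)`, `P = O_2(G)`, lies in `P`: the kernel of the action
on `P/Φ(P)` is a normal `2`-subgroup because `C_G(P) ≤ P` (helper70 `trivOnFrattiniQuot_le`).
-/

set_option autoImplicit false
set_option linter.unusedSectionVars false
set_option linter.style.haveILetI false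

namespace Cfsg.Agent.Lib.Helper84.Suz2

open Cfsg Cfsg.Agent.Lib.Helper19.Suz Cfsg.Agent.Lib.Helper85.Suz2

universe u

variable {G : Type u} [Group G]

/-- [T-B3] -/
theorem THyp.mem_core_of_frattini (h : THyp G) (t : G)
    (ht : ∀ p ∈ pCore 2 G, p⁻¹ * t⁻¹ * p * t ∈ (frattini ↥(pCore 2 G)).map (pCore 2 G).subtype) :
    t ∈ pCore 2 G := by
  haveI := h.fin
  haveI : Fact (Nat.Prime 2) := ⟨Nat.prime_two⟩
  have hPn : (pCore 2 G).Normal := inferInstance
  have hle : Cfsg.Agent.Lib.Helper70.trivOnFrattiniQuot (pCore 2 G) ≤ pCore 2 G :=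
    Cfsg.Agent.Lib.Helper70.trivOnFrattiniQuot_le (p := 2) (pCore 2 G)
      (Cfsg.Agent.Lib.Helper76.pCore_isPGroup 2) (THyp.centralizer_core_le h)
      (fun N hN hN2 => Cfsg.Agent.Lib.Helper76.le_pCore 2 N hN hN2)
  have hn : (Cfsg.Agent.Lib.Helper70.frattiniIn (pCore 2 G)).Normal := inferInstance
  have hinv : t⁻¹ ∈ Cfsg.Agent.Lib.Helper70.trivOnFrattiniQuot (pCore 2 G) := by
    rw [Cfsg.Agent.Lib.Helper70.mem_trivOnFrattiniQuot]
    intro r hr
    have h1 : r⁻¹ * t⁻¹ * r * t ∈ Cfsg.Agent.Lib.Helper70.frattiniIn (pCore 2 G) := ht r hr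
    have h2 := hn.conj_mem _ h1 r
    have e : t⁻¹ * r * t⁻¹⁻¹ * r⁻¹ = r * (r⁻¹ * t⁻¹ * r * t) * r⁻¹ := by group
    rw [e]
    exact h2
  have := hle hinv
  simpa using this

end Cfsg.Agent.Lib.Helper84.Suz2
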